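/-
Nonsolvable groups all of whose proper subgroups are CA-groups, I: basic tools, and the centraliser of a nonsolvable
normal subgroup is the centre.
-/
import Cfsg.Agent.Cit.CentBase
import Cfsg.Agent.Even.Amb
import Cfsg.Agent.Grp.PGroupCyc
import Cfsg.Agent.Known.AltMisc

set_option autoImplicit false

open Subgroup Cfsg CL.Grp CL.Even
open scoped commutatorElement Pointwise

universe u

namespace CL.MinCA

variable {G : Type u} [Group G]

/-- `H` is a CA-group: an element with two noncommuting elements in its centraliser is central. -/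
def CAin (H : Subgroup G) : Prop :=
  ∀ x ∈ H, ∀ a ∈ H, ∀ b ∈ H, ∀ c ∈ H, Commute x a → Commute x b → ¬ Commute a b → Commute x c

/-- nonsolvable, with all proper subgroups CA. -/
structure Hyp (G : Type u) [Group G] : Prop where
  ns : ¬ Group.IsSolvable G
  ca : ∀ H : Subgroup G, H ≠ ⊤ → CAin H

theorem CAin.mono {H K : Subgroup G} (h : CAin K) (hHK : H ≤ K) : CAin H :=
  fun x hx a ha b hb c hc => h x (hHK hx) a (hHK ha) b (hHK hb) c (hHK hc)

theorem mem_center_iff' {x : G} : x ∈ center G ↔ ∀ g, Commute x g :=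
  ⟨fun h g => (mem_center_iff.1 h g).symm, fun h => mem_center_iff.2 fun g => (h g).symm⟩

theorem comm_of_center {x : G} (h : x ∈ center G) (g : G) : Commute x g := mem_center_iff'.1 h g

theorem mem_cent1 {x g : G} : g ∈ centralizer ({x} : Set G) ↔ Commute x g := by
  rw [mem_centralizer_singleton_iff]; exact ⟨fun h => h.symm, fun h => h.symm⟩

theorem mem_centS {H : Subgroup G} {g : G} : g ∈ 𝒞(H) ↔ ∀ x ∈ H, Commute x g := mem_centralizer_iff

theorem cent1_ne_top {x : G} (hx : x ∉ center G) : centralizer ({x} : Set G) ≠ ⊤ := fun h =>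
  hx (mem_center_iff'.2 fun g => mem_cent1.1 (h ▸ mem_top g))

theorem solv_top {H : Subgroup G} (h : Group.IsSolvable H) (e : H = ⊤) : Group.IsSolvable G := by
  subst e
  exact Group.isSolvable_of_surjective (f := (⊤ : Subgroup G).subtype) fun x => ⟨⟨x, trivial⟩, rfl⟩

theorem solv_mono {H K : Subgroup G} (h : Group.IsSolvable K) (hHK : H ≤ K) : Group.IsSolvable H :=
  Group.isSolvable_of_isSolvable_injective (inclusion_injective hHK)

theorem solv_of_comm {H : Subgroup G} (h : ∀ a ∈ H, ∀ b ∈ H, Commute a b) : Group.IsSolvable H :=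
  Group.isSolvable_of_comm fun a b => Subtype.ext (h a a.2 b b.2)

theorem solv_zpowers (x : G) : Group.IsSolvable (zpowers x) :=
  solv_of_comm fun a ha b hb => by
    obtain ⟨i, rfl⟩ := ha; obtain ⟨j, rfl⟩ := hb
    exact Commute.zpow_zpow_self x i j

theorem solv_center : Group.IsSolvable (center G) := solv_of_comm fun _ ha b _ => comm_of_center ha b

theorem solv_sup {U H : Subgroup G} (hU : Group.IsSolvable U) (hH : Group.IsSolvable H)
    (h : H ≤ 𝒩(U)) : Group.IsSolvable (U ⊔ H : Subgroup G) := by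
  haveI : (U.subgroupOf (U ⊔ H)).Normal :=
    (normal_subgroupOf_iff_le_normalizer le_sup_left).mpr (sup_le le_normalizer h)
  have h2 : Group.IsSolvable (↥(U ⊔ H) ⧸ U.subgroupOf (U ⊔ H)) := by
    refine Group.isSolvable_of_surjective
      (f := (QuotientGroup.mk' _).comp (inclusion (le_sup_right : H ≤ U ⊔ H))) fun y => ?_
    obtain ⟨⟨y, hy⟩, rfl⟩ := QuotientGroup.mk'_surjective _ y
    obtain ⟨u, hu, v, hv, rfl⟩ := (mem_sup_nl h).mp hy
    refine ⟨⟨v, hv⟩, QuotientGroup.eq.mpr ?_⟩
    show v⁻¹ * (u * v) ∈ U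
    rw [← mul_assoc]
    exact conj_mem' (h hv) hu
  refine Group.isSolvable_of_ker_le_range (inclusion (le_sup_left : U ≤ U ⊔ H))
    (QuotientGroup.mk' (U.subgroupOf (U ⊔ H))) ?_
  rw [QuotientGroup.ker_mk', inclusion_range]

theorem solv_sup_n {U H : Subgroup G} [U.Normal] (hU : Group.IsSolvable U) (hH : Group.IsSolvable H) :
    Group.IsSolvable (U ⊔ H : Subgroup G) :=
  solv_sup hU hH (by rw [normalizer_eq_top]; exact le_top)

theorem solv_of_pGroup [Finite G] {p : ℕ} [Fact p.Prime] {H : Subgroup G} (h : IsPGroup p H) :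
    Group.IsSolvable H := by
  haveI := h.isNilpotent
  infer_instance

theorem solv_of_commutator {H : Subgroup G} (h : Group.IsSolvable (⁅H, H⁆ : Subgroup G)) : Group.IsSolvable H := by
  have hle : ⁅H, H⁆ ≤ H := commutator_le_self H
  refine Group.isSolvable_of_ker_le_range (inclusion hle) (Abelianization.of (G := H)) ?_
  rw [Abelianization.ker_of, inclusion_range]
  intro x hx
  rw [mem_subgroupOf, ← map_subtype_commutator]
  exact mem_map_of_mem _ hx

theorem commutator_lt_of_solv {H : Subgroup G} (h : Group.IsSolvable H) (hH : H ≠ ⊥) : ⁅H, H⁆ < H := by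
  rw [← nontrivial_iff_ne_bot] at hH
  rw [← map_subtype_commutator]
  conv_rhs => rw [← H.range_subtype, MonoidHom.range_eq_map]
  rw [map_subtype_lt_map_subtype]
  exact Group.IsSolvable.commutator_lt_top_of_nontrivial H

theorem solv_quot_mono {N K : Subgroup G} [N.Normal] [K.Normal] (h : N ≤ K) (hs : Group.IsSolvable (G ⧸ N)) :
    Group.IsSolvable (G ⧸ K) :=
  Group.isSolvable_of_surjective (f := QuotientGroup.map N K (MonoidHom.id G) (by simpa using h)) fun y => by
    obtain ⟨y, rfl⟩ := QuotientGroup.mk'_surjective _ y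
    exact ⟨y, rfl⟩

/-- two involutions generate a solvable group -/
theorem solv_closure_pair {s t : G} (hs : s * s = 1) (ht : t * t = 1) :
    Group.IsSolvable (closure {s, t} : Subgroup G) := by
  have hs' : s⁻¹ = s := inv_eq_of_mul_eq_one_right hs
  have ht' : t⁻¹ = t := inv_eq_of_mul_eq_one_right ht
  have hn : zpowers s ≤ 𝒩(zpowers (s * t)) := by
    rw [zpowers_le]
    refine le_norm_of_cj_le (L := zpowers s) (fun g hg => ?_) (mem_zpowers s)
    have key : ∀ g ∈ zpowers s, g * (s * t) * g⁻¹ ∈ zpowers (s * t) := by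
      intro g hg
      obtain ⟨i, rfl⟩ := hg
      have h2 : s ^ (2 : ℤ) = 1 := by rw [zpow_two, hs]
      rcases Int.even_or_odd' i with ⟨k, rfl | rfl⟩
      · simp only [zpow_mul, h2, one_zpow, one_mul, inv_one, mul_one]; exact mem_zpowers _
      · simp only [zpow_add, zpow_mul, h2, one_zpow, one_mul, zpow_one]
        have : s * (s * t) * s⁻¹ = (s * t)⁻¹ := by rw [← mul_assoc, hs, one_mul, mul_inv_rev, hs', ht']
        rw [this]; exact inv_mem (mem_zpowers _)
    rw [map_le_iff_le_comap, zpowers_le]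
    exact key g hg
  refine solv_mono (solv_sup (solv_zpowers (s * t)) (solv_zpowers s) hn) ?_
  rw [closure_le]
  rintro x (rfl | rfl)
  · exact mem_sup_right (mem_zpowers _)
  · have : x = s⁻¹ * (s * x) := by group
    rw [SetLike.mem_coe, this]
    exact mul_mem (inv_mem (mem_sup_right (mem_zpowers _))) (by
      rw [← this]; exact mem_sup_left (mem_zpowers _))

variable [Finite G]

theorem exists_pow_prime_mem {N : Subgroup G} [N.Normal] {x : G} (hx : x ∉ N) :
    ∃ r k : ℕ, r.Prime ∧ x ^ k ∉ N ∧ (x ^ k) ^ r ∈ N := by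
  have h1 : orderOf (x : G ⧸ N) ≠ 1 := fun h => hx ((QuotientGroup.eq_one_iff x).1 (orderOf_eq_one_iff.1 h))
  obtain ⟨k, hk⟩ := Nat.minFac_dvd (orderOf (x : G ⧸ N))
  have hp := Nat.minFac_prime h1
  have h0 : 0 < orderOf (x : G ⧸ N) := orderOf_pos _
  refine ⟨_, k, hp, fun h => ?_, ?_⟩
  · have : (x : G ⧸ N) ^ k = 1 := by rw [← QuotientGroup.mk_pow, QuotientGroup.eq_one_iff]; exact h
    have hd := Nat.le_of_dvd (Nat.pos_of_ne_zero (by rintro rfl; omega)) (orderOf_dvd_of_pow_eq_one this)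
    have := hp.two_le
    have hk0 : 0 < k := Nat.pos_of_ne_zero (by rintro rfl; omega)
    nlinarith
  · rw [← QuotientGroup.eq_one_iff, ← pow_mul, QuotientGroup.mk_pow, mul_comm, ← hk, pow_orderOf_eq_one]

theorem exists_sq_mem {N : Subgroup G} [N.Normal] (h : ¬ Group.IsSolvable (G ⧸ N)) : ∃ x, x ∉ N ∧ x * x ∈ N := by
  have h2 : 2 ∣ Nat.card (G ⧸ N) := by
    by_contra h2
    exact h (CL.Odd.feit_thompson (Nat.odd_iff.2 (by omega)))
  obtain ⟨y, hy⟩ := exists_prime_orderOf_dvd_card' 2 h2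
  obtain ⟨x, rfl⟩ := QuotientGroup.mk_surjective y
  refine ⟨x, fun hx => ?_, ?_⟩
  · rw [(QuotientGroup.eq_one_iff x).2 hx, orderOf_one] at hy; omega
  · rw [← QuotientGroup.eq_one_iff, QuotientGroup.mk_mul, ← pow_two, ← hy, pow_orderOf_eq_one]

namespace Hyp

variable (hG : Hyp G)
include hG

omit [Finite G] in
theorem ne_top {H : Subgroup G} (h : Group.IsSolvable H) : H ≠ ⊤ := fun e => hG.ns (solv_top h e)

omit [Finite G] in
theorem ca_solv {H : Subgroup G} (h : Group.IsSolvable H) : CAin H := hG.ca H (hG.ne_top h)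

omit [Finite G] in
theorem quot_ns {N : Subgroup G} [N.Normal] (h : Group.IsSolvable N) : ¬ Group.IsSolvable (G ⧸ N) := fun h' =>
  hG.ns ((Group.isSolvable_iff_subgroup_quotient N).2 ⟨h, h'⟩)

omit hG in
/-- a nonsolvable subgroup contains two noncommuting elements normalising a Sylow 2-subgroup -/
theorem exists_not_commute_norm {D S : Subgroup G} (hD : ¬ Group.IsSolvable D) (hS : IsSylowIn 2 S D) :
    ∃ a ∈ D, ∃ b ∈ D, a ∈ 𝒩(S) ∧ b ∈ 𝒩(S) ∧ ¬ Commute a b := by
  by_contra hcon
  push Not at hcon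
  refine hD (CL.Cit.isSolvable_of_npc_two (CL.Cit.npc_of_burnside hS fun g hg hn => ?_))
  exact mem_centS.2 fun x hx => hcon x (hS.le hx) g hg (le_normalizer hx) hn

/-- (C) an element centralising a nonsolvable normal subgroup is central -/
theorem mem_center_of_cent {D : Subgroup G} [D.Normal] (hD : ¬ Group.IsSolvable D) {b : G}
    (hb : ∀ d ∈ D, Commute b d) : b ∈ center G := by
  obtain ⟨S, hS⟩ := exists_isSylowIn (p := 2) D
  obtain ⟨a₁, h1, a₂, h2, n1, n2, hna⟩ := exists_not_commute_norm hD hS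
  have hN : 𝒩(S) ≠ ⊤ := by
    intro e
    refine hD (CL.Cit.isSolvable_of_sylow_normal hS.toSylow ?_)
    rw [hS.coe_toSylow]
    exact (normal_subgroupOf_iff_le_normalizer hS.le).2 (e ▸ le_top)
  have hbN : b ∈ 𝒩(S) := cent_le_norm S (mem_centS.2 fun x hx => (hb x (hS.le hx)).symm)
  refine mem_center_iff'.2 fun g => ?_
  obtain ⟨n, hn, hng⟩ := hS.frattini (H := ⊤) (by rw [normalizer_eq_top]) (mem_top g)
  have h3 := hG.ca _ hN b hbN a₁ n1 a₂ n2 _ hng (hb _ h1) (hb _ h2) hna
  have h4 : g = n⁻¹ * (n * g) := by group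
  rw [h4]
  exact ((hb n hn).inv_right).mul_right h3

end Hyp

end CL.MinCA
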