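/-
Nonsolvable groups all of whose proper subgroups are CA-groups, II: solvable normal subgroups are central.
-/
import Cfsg.Agent.Fgs.MinCA1

set_option autoImplicit false

open Subgroup Cfsg CL.Grp CL.Even
open scoped commutatorElement Pointwise

universe u

namespace CL.MinCA

variable {G : Type u} [Group G]

/-- the image in `G/Z(G)` -/
abbrev zq (x : G) : G ⧸ center G := (x : G ⧸ center G)

theorem zq_eq_one {x : G} : zq x = 1 ↔ x ∈ center G := QuotientGroup.eq_one_iff x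

theorem zq_mul (x y : G) : zq (x * y) = zq x * zq y := rfl

theorem zq_inv (x : G) : zq x⁻¹ = (zq x)⁻¹ := rfl

theorem zq_pow (x : G) (n : ℕ) : zq (x ^ n) = zq x ^ n := QuotientGroup.mk_pow _ x n

theorem zq_commute {x y : G} : Commute (zq x) (zq y) ↔ ⁅x, y⁆ ∈ center G := by
  rw [← zq_eq_one, ← commutatorElement_eq_one_iff_commute]; rfl

theorem Commute.zq {x y : G} (h : Commute x y) : Commute (zq x) (zq y) := h.map (QuotientGroup.mk' _)

theorem conj_pow_of_comm {g m : G} (hc : Commute ⁅g, m⁆ g) (n : ℕ) : g ^ n * m * (g ^ n)⁻¹ = ⁅g, m⁆ ^ n * m := by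
  induction n with
  | zero => simp
  | succ n ih =>
    have e : g ^ (n + 1) * m * (g ^ (n + 1))⁻¹ = g * (g ^ n * m * (g ^ n)⁻¹) * g⁻¹ := by rw [pow_succ']; group
    have e2 : g * m * g⁻¹ = ⁅g, m⁆ * m := by rw [commutatorElement_def]; group
    rw [e, ih, ← mul_assoc, ← (hc.pow_left n).eq, mul_assoc, mul_assoc, ← mul_assoc g, e2, pow_succ,
      mul_assoc]

theorem conj_pow_of_zq {g m : G} (h : Commute (zq g) (zq m)) (n : ℕ) : g ^ n * m * (g ^ n)⁻¹ = ⁅g, m⁆ ^ n * m :=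
  conj_pow_of_comm (comm_of_center (zq_commute.1 h) g) n

/-- `[g,m]^n = 1` iff `g^n` commutes with `m`, when `[g,m]` is central -/
theorem commute_pow_iff {g m : G} (h : Commute (zq g) (zq m)) (n : ℕ) : Commute (g ^ n) m ↔ ⁅g, m⁆ ^ n = 1 := by
  have := conj_pow_of_zq h n
  constructor
  · intro hc
    rw [hc.eq, mul_inv_cancel_right] at this
    exact mul_eq_right.1 this.symm
  · intro hc
    rw [hc, one_mul, mul_inv_eq_iff_eq_mul] at this
    exact this

theorem commute_pow_swap {g m : G} (h : Commute (zq g) (zq m)) {n : ℕ} (hn : Commute g (m ^ n)) :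
    Commute (g ^ n) m := by
  rw [commute_pow_iff h]
  have := (commute_pow_iff h.symm n).1 hn.symm
  rw [← commutatorElement_inv, inv_pow, this, inv_one]

theorem commute_of_coprime {g m : G} (h : Commute (zq g) (zq m)) {a b : ℕ} (hab : a.Coprime b)
    (ha : Commute (g ^ a) m) (hb : Commute g (m ^ b)) : Commute g m := by
  have h1 := (commute_pow_iff h a).1 ha
  have h2 := (commute_pow_iff h b).1 (commute_pow_swap h hb)
  rw [← commutatorElement_eq_one_iff_commute]
  have := pow_gcd_eq_one.2 ⟨h1, h2⟩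
  rwa [hab, pow_one] at this

/-- the centraliser of `M` modulo the centre -/
def CV (M : Subgroup G) : Subgroup G :=
  (centralizer (M.map (QuotientGroup.mk' (center G)) : Set (G ⧸ center G))).comap (QuotientGroup.mk' _)

theorem mem_CV {M : Subgroup G} {g : G} : g ∈ CV M ↔ ∀ m ∈ M, Commute (zq g) (zq m) := by
  rw [CV, mem_comap, mem_centralizer_iff]
  constructor
  · intro h m hm
    exact (h _ (mem_map_of_mem _ hm)).symm
  · rintro h _ ⟨m, hm, rfl⟩
    exact (h m hm).symm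

instance (M : Subgroup G) [hM : M.Normal] : (CV M).Normal := by
  haveI := hM.map _ (QuotientGroup.mk'_surjective (center G))
  exact Normal.comap inferInstance _

/-- a minimal noncentral solvable normal subgroup -/
structure MinN (M : Subgroup G) (p : ℕ) : Prop where
  hp : p.Prime
  solv : Group.IsSolvable M
  nc : ¬ M ≤ center G
  min : ∀ N : Subgroup G, N.Normal → N ≤ M → ¬ N ≤ center G → N = M
  ab : M ≤ CV M
  pw : ∀ m ∈ M, m ^ p ∈ center G

variable [Finite G]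

theorem exists_minN {N : Subgroup G} (hN : N.Normal) (hs : Group.IsSolvable N) (hc : ¬ N ≤ center G) :
    ∃ (M : Subgroup G) (p : ℕ), M.Normal ∧ MinN M p := by
  obtain ⟨M, ⟨hM, hsM, hcM⟩, hmin⟩ := (wellFounded_lt (α := Subgroup G)).has_min
    {M : Subgroup G | M.Normal ∧ Group.IsSolvable M ∧ ¬ M ≤ center G} ⟨N, hN, hs, hc⟩
  have hm : ∀ N : Subgroup G, N.Normal → N ≤ M → ¬ N ≤ center G → N = M := fun K h1 h2 h3 => by
    by_contra hne
    exact hmin K ⟨h1, solv_mono hsM h2, h3⟩ (lt_of_le_of_ne h2 hne)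
  have hab : M ≤ CV M := by
    have h1 : ⁅M, M⁆ ≤ center G := by
      by_contra h
      exact (commutator_lt_of_solv hsM (by rintro rfl; exact hcM bot_le)).ne
        (hm _ inferInstance (commutator_le_self M) h)
    exact fun a ha => mem_CV.2 fun b hb => zq_commute.2 (h1 (commutator_mem_commutator ha hb))
  obtain ⟨m, hmM, hmZ⟩ := SetLike.not_le_iff_exists.1 hcM
  obtain ⟨p, k, hp, h1, h2⟩ := exists_pow_prime_mem hmZ
  let K : Subgroup G :=
    { carrier := {x | x ∈ M ∧ x ^ p ∈ center G}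
      one_mem' := ⟨one_mem _, by simp⟩
      mul_mem' := fun {a b} ha hb => ⟨mul_mem ha.1 hb.1, by
        rw [← zq_eq_one, zq_pow, zq_mul, (mem_CV.1 (hab ha.1) b hb.1).mul_pow, ← zq_pow, ← zq_pow, zq_eq_one.2 ha.2,
          zq_eq_one.2 hb.2, one_mul]⟩
      inv_mem' := fun {a} ha => ⟨inv_mem ha.1, by rw [inv_pow]; exact inv_mem ha.2⟩ }
  have hK : K.Normal := ⟨fun a ha g => ⟨hM.conj_mem a ha.1 g, by
    rw [conj_pow]; exact Normal.conj_mem inferInstance _ ha.2 g⟩⟩
  have hKM := hm K hK (fun a ha => ha.1) fun h => h1 (h ⟨pow_mem hmM k, h2⟩)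
  exact ⟨M, p, hM, hp, hsM, hcM, hm, hab, fun a ha => (hKM.symm ▸ ha : a ∈ K).2⟩

namespace MinN

variable {M : Subgroup G} [hMn : M.Normal] {p : ℕ} (hM : MinN M p) (hG : Hyp G)
include hM hG

theorem ns : ¬ Group.IsSolvable (G ⧸ CV M) := by
  intro h
  have h1 : ¬ Group.IsSolvable (⁅CV M, CV M⁆ : Subgroup G) := fun h' => hG.quot_ns (solv_of_commutator h') h
  have h2 : ⁅CV M, M⁆ ≤ center G := commutator_le.2 fun a ha b hb => zq_commute.1 (mem_CV.1 ha b hb)
  have h3 : ⁅⁅CV M, M⁆, CV M⁆ = ⊥ := by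
    rw [commutator_eq_bot_iff_le_centralizer]
    exact h2.trans (center_le_centralizer _)
  have h4 : ⁅⁅CV M, CV M⁆, M⁆ = ⊥ :=
    commutator_commutator_eq_bot_of_rotate h3 (by rw [commutator_comm M]; exact h3)
  rw [commutator_eq_bot_iff_le_centralizer] at h4
  exact hM.nc fun m hm => hG.mem_center_of_cent h1 fun d hd => (mem_centS.1 (h4 hd) m hm)

omit [Finite G] hG in
/-- if `m · x m x⁻¹` is always central and `p = 2` then `x` centralises `M` modulo the centre -/
theorem commute_of_norm (h2 : p = 2) {x m : G} (hm : m ∈ M) (h : m * (x * m * x⁻¹) ∈ center G) :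
    Commute (zq x) (zq m) := by
  have h1 : zq m * zq m = 1 := by rw [← zq_mul, zq_eq_one, ← pow_two, ← h2]; exact hM.pw m hm
  have h3 : zq m * (zq x * zq m * (zq x)⁻¹) = 1 := zq_eq_one.2 h
  have h4 : zq x * zq m * (zq x)⁻¹ = zq m := mul_left_cancel (h3.trans h1.symm)
  rw [mul_inv_eq_iff_eq_mul] at h4
  exact h4

theorem false_of_two_comm (h2 : p = 2) (hc : ∀ a ∈ M, ∀ b ∈ M, Commute a b) : False := by
  have hCV : 𝒞(M) ≤ CV M := fun g hg => mem_CV.2 fun m hm => Commute.zq (mem_centS.1 hg m hm).symm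
  have hns : ¬ Group.IsSolvable (G ⧸ 𝒞(M)) := fun h => hM.ns hG (solv_quot_mono hCV h)
  have hMC : M ≤ 𝒞(M) := fun a ha => mem_centS.2 fun b hb => hc b hb a ha
  -- fixed points of involutions are central
  have F : ∀ t, t ∉ 𝒞(M) → t * t ∈ 𝒞(M) → ∀ a ∈ M, Commute t a → a ∈ center G := by
    intro t ht htt
    obtain ⟨m0, hm0, hn0⟩ : ∃ m0 ∈ M, ¬ Commute t m0 := by
      by_contra h; push Not at h
      exact ht (mem_centS.2 fun x hx => (h x hx).symm)
    have hn : (M ⊓ centralizer {t} : Subgroup G).Normal := by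
      refine ⟨fun a ha g => ⟨hMn.conj_mem a ha.1 g, mem_cent1.2 ?_⟩⟩
      let π := QuotientGroup.mk' 𝒞(M)
      have s1 : π t * π t = 1 := (QuotientGroup.eq_one_iff _).2 htt
      have s2 : π (g⁻¹ * t * g) * π (g⁻¹ * t * g) = 1 := by
        simp only [map_mul, map_inv]
        calc _ = (π g)⁻¹ * (π t * π t) * π g := by group
          _ = 1 := by rw [s1]; group
      have hH : (closure {π t, π (g⁻¹ * t * g)}).comap π ≠ ⊤ := by
        intro e
        refine hns (solv_top (solv_closure_pair s1 s2) ?_)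
        rw [← map_comap_eq_self_of_surjective (QuotientGroup.mk'_surjective 𝒞(M)) (closure _), e,
          map_top_of_surjective _ (QuotientGroup.mk'_surjective _)]
      have hMH : ∀ m ∈ M, m ∈ (closure {π t, π (g⁻¹ * t * g)}).comap π := fun m hm => by
        rw [mem_comap, show π m = 1 from (QuotientGroup.eq_one_iff _).2 (hMC hm)]; exact one_mem _
      have h3 := hG.ca _ hH a (hMH a ha.1) t (subset_closure (by simp)) m0 (hMH _ hm0) (g⁻¹ * t * g)
        (subset_closure (by simp)) (mem_cent1.1 ha.2).symm (hc a ha.1 m0 hm0) hn0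
      calc t * (g * a * g⁻¹) = g * ((g⁻¹ * t * g) * a) * g⁻¹ := by group
        _ = g * a * g⁻¹ * t := by rw [← h3.eq]; group
    intro a ha hta
    by_contra haZ
    have := hM.min _ hn inf_le_left fun h => haZ (h ⟨ha, mem_cent1.2 hta⟩)
    exact hn0 (mem_cent1.1 (this.symm ▸ hm0 : m0 ∈ M ⊓ centralizer {t}).2)
  obtain ⟨x, hx, hxx⟩ := exists_sq_mem (hM.ns hG)
  obtain ⟨m, hm, hxm⟩ : ∃ m ∈ M, ¬ Commute (zq x) (zq m) := by
    by_contra h; push Not at h
    exact hx (mem_CV.2 h)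
  have ha : m * (x * m * x⁻¹) ∈ M := mul_mem hm (hMn.conj_mem m hm x)
  have hmm : ∀ y, Commute y (m ^ 2) := fun y => (comm_of_center (h2 ▸ hM.pw m hm) y).symm
  have e1 : x * (m * (x * m * x⁻¹)) * x⁻¹ = (x * m * x⁻¹) * ((x * x) * m * (x * x)⁻¹) := by group
  have hc1 : ⁅x * x, m⁆ ∈ center G := zq_commute.1 (mem_CV.1 hxx m hm)
  have e2 : (x * x) * m * (x * x)⁻¹ = ⁅x * x, m⁆ * m := by rw [commutatorElement_def]; group
  have e3 : x * (m * (x * m * x⁻¹)) * x⁻¹ = ⁅x * x, m⁆ * (m * (x * m * x⁻¹)) := by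
    rw [e1, e2, ← mul_assoc, ← (comm_of_center hc1 _).eq, mul_assoc, (hc _ (hMn.conj_mem m hm x) m hm).eq]
  refine hxm (hM.commute_of_norm h2 hm ?_)
  by_cases hC : x * x ∈ 𝒞(M)
  · refine F x (fun h => hx (hCV h)) hC _ ha ?_
    have : ⁅x * x, m⁆ = 1 := commutatorElement_eq_one_iff_commute.2 (mem_centS.1 hC m hm).symm
    rw [this, one_mul, mul_inv_eq_iff_eq_mul] at e3
    exact e3
  · refine F (x * x) hC (mem_centS.2 fun y hy => ?_) _ ha ?_
    · rw [← pow_two]
      exact (commute_pow_swap (mem_CV.1 hxx y hy) (comm_of_center (h2 ▸ hM.pw y hy) _).symm).symm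
    · have h5 : ⁅x * x, m⁆ ^ 2 = 1 :=
        (commute_pow_iff (mem_CV.1 hxx m hm) 2).1 (commute_pow_swap (mem_CV.1 hxx m hm) (hmm _))
      have h6 : (x * x) * (m * (x * m * x⁻¹)) * (x * x)⁻¹ = m * (x * m * x⁻¹) := by
        calc _ = x * (x * (m * (x * m * x⁻¹)) * x⁻¹) * x⁻¹ := by group
          _ = ⁅x * x, m⁆ * (x * (m * (x * m * x⁻¹)) * x⁻¹) := by
            rw [e3, ← mul_assoc x, ← (comm_of_center hc1 x).eq, ← e3]; group
          _ = _ := by rw [e3, ← mul_assoc, ← pow_two, h5, one_mul]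
      rw [mul_inv_eq_iff_eq_mul] at h6
      exact h6

theorem false_of_two_nc (h2 : p = 2) (hc : ¬ ∀ a ∈ M, ∀ b ∈ M, Commute a b) : False := by
  have ZM : ∀ a ∈ M, (∀ b ∈ M, Commute a b) → a ∈ center G := by
    intro a ha h
    by_contra hz
    have := hM.min (M ⊓ 𝒞(M)) inferInstance inf_le_left
      fun h' => hz (h' ⟨ha, mem_centS.2 fun b hb => (h b hb).symm⟩)
    exact hc fun a ha b hb => (mem_centS.1 (this.symm ▸ ha : a ∈ M ⊓ 𝒞(M)).2 b hb).symm
  have sq : ∀ m ∈ M, ∀ y, Commute y (m ^ 2) := fun m hm y => (comm_of_center (h2 ▸ hM.pw m hm) y).symm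
  have ab : ∀ a ∈ M, ∀ b ∈ M, Commute (zq a) (zq b) := fun a ha => mem_CV.1 (hM.ab ha)
  obtain ⟨x, hx, hxx⟩ := exists_sq_mem (hM.ns hG)
  obtain ⟨m0, hm0, hxm⟩ : ∃ m ∈ M, ¬ Commute (zq x) (zq m) := by
    by_contra h; push Not at h
    exact hx (mem_CV.2 h)
  obtain ⟨a, ea⟩ : ∃ a, a = m0 * (x * m0 * x⁻¹) := ⟨_, rfl⟩
  have ha : a ∈ M := ea ▸ mul_mem hm0 (hMn.conj_mem m0 hm0 x)
  have haZ : a ∉ center G := fun h => hxm (hM.commute_of_norm h2 hm0 (ea ▸ h))
  have hS := hG.ca_solv (solv_sup_n hM.solv (solv_zpowers x))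
  have hMS : ∀ m ∈ M, m ∈ M ⊔ zpowers x := fun m hm => mem_sup_left hm
  have hxS : x ∈ M ⊔ zpowers x := mem_sup_right (mem_zpowers x)
  have hSa : ∀ y ∈ M ⊔ zpowers x, Commute (zq y) (zq a) := by
    have : M ⊔ zpowers x ≤ (centralizer {zq a}).comap (QuotientGroup.mk' _) := by
      refine sup_le (fun y hy => mem_cent1.2 (ab a ha y hy)) (zpowers_le.2 (mem_cent1.2 (Commute.symm ?_)))
      have h1 : zq (x * x) * zq m0 * (zq (x * x))⁻¹ = zq m0 := by
        rw [(mem_CV.1 hxx m0 hm0).eq, mul_inv_cancel_right]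
      have h3 := (ab _ (hMn.conj_mem m0 hm0 x) m0 hm0).eq
      show zq x * zq a = zq a * zq x
      rw [← mul_inv_eq_iff_eq_mul]
      calc zq x * zq a * (zq x)⁻¹ = zq (x * m0 * x⁻¹) * (zq (x * x) * zq m0 * (zq (x * x))⁻¹) := by
            rw [ea]; simp only [zq_mul, zq_inv]; group
        _ = zq a := by rw [h1, h3, ea]; rfl
    exact fun y hy => (mem_cent1.1 (this hy)).symm
  have K1 : ∀ y ∈ M ⊔ zpowers x, ¬ Commute y a → ∀ s ∈ M ⊔ zpowers x, Commute (y * y) s := fun y hy hn s hs =>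
    hS _ (mul_mem hy hy) y hy a (hMS a ha) s hs ((Commute.refl y).mul_left (Commute.refl y))
      (by rw [← pow_two]; exact commute_pow_swap (hSa y hy) (sq a ha y)) hn
  obtain ⟨m1, hm1, hn1⟩ : ∃ m ∈ M, ¬ Commute a m := by
    by_contra h; push Not at h
    exact haZ (ZM a ha h)
  obtain ⟨e, he, hta⟩ : ∃ e ∈ M, Commute (e * x) a := by
    by_cases h : Commute x a
    · exact ⟨1, one_mem _, by rwa [one_mul]⟩
    · refine ⟨m0, hm0, by_contra fun h' => hn1 ?_⟩
      have h1 := K1 _ (mul_mem (hMS _ hm0) hxS) h' m1 (hMS _ hm1)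
      have h3 := K1 _ hxS h m1 (hMS _ hm1)
      have : a = (m0 * x * (m0 * x)) * (x * x)⁻¹ := by rw [ea]; group
      rw [this]
      exact h1.mul_left h3.inv_left
  obtain ⟨t, et⟩ : ∃ t, t = e * x := ⟨_, rfl⟩
  have htS : t ∈ M ⊔ zpowers x := et ▸ mul_mem (hMS _ he) hxS
  rw [← et] at hta
  have P1 : ∀ m ∈ M, Commute m a → zq (m * (t * m * t⁻¹)) = 1 := by
    intro m hm h
    have h1 : Commute m t := by
      by_contra h'
      exact hn1 (hS a (hMS a ha) m (hMS m hm) t htS m1 (hMS _ hm1) h.symm hta.symm h')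
    rw [← h1.eq, mul_inv_cancel_right, zq_eq_one, ← pow_two, ← h2]
    exact hM.pw m hm
  have P2 : ∀ m ∈ M, ∀ m' ∈ M, ¬ Commute m a → ¬ Commute m' a →
      zq (m * (t * m * t⁻¹)) = zq (m' * (t * m' * t⁻¹)) := by
    intro m hm m' hm' h h'
    have n1 : ∀ m ∈ M, ¬ Commute m a → ¬ Commute (m * t) a := fun m hm h h' =>
      h (by simpa using h'.mul_left hta.inv_left)
    rw [← mul_inv_eq_one, ← zq_inv, ← zq_mul, zq_eq_one]
    refine ZM _ (mul_mem (mul_mem hm (hMn.conj_mem m hm t)) (inv_mem (mul_mem hm' (hMn.conj_mem m' hm' t))))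
      fun b hb => ?_
    have : m * (t * m * t⁻¹) * (m' * (t * m' * t⁻¹))⁻¹ = (m * t * (m * t)) * (m' * t * (m' * t))⁻¹ := by group
    rw [this]
    exact (K1 _ (mul_mem (hMS _ hm) htS) (n1 m hm h) b (hMS _ hb)).mul_left
      (K1 _ (mul_mem (hMS _ hm') htS) (n1 m' hm' h') b (hMS _ hb)).inv_left
  have P3 : ∀ m ∈ M, ∀ m' ∈ M, zq (m * m' * (t * (m * m') * t⁻¹)) =
      zq (m * (t * m * t⁻¹)) * zq (m' * (t * m' * t⁻¹)) := by
    intro m hm m' hm'
    have h3 := (ab _ (hMn.conj_mem m hm t) m' hm').eq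
    calc _ = zq m * (zq m' * zq (t * m * t⁻¹)) * zq (t * m' * t⁻¹) := by simp only [zq_mul, zq_inv]; group
      _ = _ := by rw [← h3]; simp only [zq_mul, zq_inv]; group
  have P4 : zq (m0 * (t * m0 * t⁻¹)) = zq a := by
    have h3 := (ab e he _ (hMn.conj_mem m0 hm0 x)).eq
    calc _ = zq m0 * (zq e * zq (x * m0 * x⁻¹) * (zq e)⁻¹) := by rw [et]; simp only [zq_mul, zq_inv]; group
      _ = _ := by rw [h3, mul_inv_cancel_right, ea]; rfl
  have hm0a : ¬ Commute m0 a := fun h => haZ (zq_eq_one.1 (P4 ▸ P1 m0 hm0 h))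
  have K2 : ∀ m ∈ M, ∀ m' ∈ M, ¬ Commute m a → ¬ Commute m' a → Commute (m * m') a := by
    intro m hm m' hm' h h'
    by_contra h''
    have h4 := P3 m hm m' hm'
    rw [P2 _ (mul_mem hm hm') m0 hm0 h'' hm0a, P2 _ hm m0 hm0 h hm0a, P2 _ hm' m0 hm0 h' hm0a, P4] at h4
    exact haZ (zq_eq_one.1 (left_eq_mul.1 h4))
  obtain ⟨g, hg⟩ : ∃ g : G, ¬ Commute a (g * a * g⁻¹) := by
    by_contra h; push Not at h
    let N : Subgroup G := M ⊓ centralizer {y | ∃ g : G, y = g * a * g⁻¹}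
    have hN : N.Normal := ⟨fun n hn k => ⟨hMn.conj_mem n hn.1 k, mem_centralizer_iff.2 (by
      rintro _ ⟨g, rfl⟩
      have := mem_centralizer_iff.1 hn.2 _ ⟨k⁻¹ * g, rfl⟩
      calc _ = k * ((k⁻¹ * g * a * (k⁻¹ * g)⁻¹) * n) * k⁻¹ := by group
        _ = _ := by rw [this]; group)⟩⟩
    have := hM.min N hN inf_le_left fun h' => haZ (h' ⟨ha, mem_centralizer_iff.2 (by
      rintro _ ⟨g, rfl⟩; exact (h g).symm)⟩)
    exact hn1 (mem_centralizer_iff.1 (this.symm ▸ hm1 : m1 ∈ N).2 a ⟨1, by simp⟩)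
  have ha' : g * a * g⁻¹ ∈ M := hMn.conj_mem a ha g
  have K2' : ∀ m ∈ M, ∀ m' ∈ M, ¬ Commute m (g * a * g⁻¹) → ¬ Commute m' (g * a * g⁻¹) →
      Commute (m * m') (g * a * g⁻¹) := by
    have cj1 : ∀ m, Commute (g⁻¹ * m * g) a ↔ Commute m (g * a * g⁻¹) := fun m => by
      constructor
      · intro h
        simpa [mul_assoc] using h.map (MulAut.conj g)
      · intro h
        simpa [mul_assoc] using h.map (MulAut.conj g⁻¹)
    intro m hm m' hm' h h'
    rw [← cj1] at h h' ⊢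
    have := K2 _ (hMn.conj_mem' m hm g) _ (hMn.conj_mem' m' hm' g) h h'
    simpa [mul_assoc] using this
  have inter : ∀ y ∈ M, Commute y a → Commute y (g * a * g⁻¹) → zq y = 1 := fun y hy h h' =>
    zq_eq_one.2 (ZM y hy fun b hb => hS y (hMS _ hy) a (hMS _ ha) _ (hMS _ ha') b (hMS _ hb) h h' hg)
  have inv2 : ∀ m ∈ M, (zq m)⁻¹ = zq m := fun m hm => inv_eq_of_mul_eq_one_right (by
    rw [← zq_mul, zq_eq_one, ← pow_two, ← h2]; exact hM.pw m hm)
  have cA : ∀ y ∈ M, Commute y a → zq y = 1 ∨ zq y = zq a := by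
    intro y hy h
    by_cases h' : Commute y (g * a * g⁻¹)
    · exact .inl (inter y hy h h')
    · have := inter _ (mul_mem hy ha) (h.mul_left (Commute.refl a)) (K2' y hy a ha h' hg)
      rw [zq_mul, mul_eq_one_iff_eq_inv, inv2 a ha] at this
      exact .inr this
  haveI := hMn.map _ (QuotientGroup.mk'_surjective (center G))
  have hcard : Nat.card (M.map (QuotientGroup.mk' (center G))) ≤ 4 := by
    have hsub : (M.map (QuotientGroup.mk' (center G)) : Set (G ⧸ center G)) ⊆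
        {1, zq a, zq (g * a * g⁻¹), zq a * zq (g * a * g⁻¹)} := by
      rintro _ ⟨y, hy, rfl⟩
      show zq y ∈ _
      by_cases h : Commute y a
      · rcases cA y hy h with h | h <;> simp [h]
      · rcases cA _ (mul_mem hy ha') (K2 y hy _ ha' h fun h => hg h.symm) with h | h
        · rw [zq_mul, mul_eq_one_iff_eq_inv, inv2 _ ha'] at h
          simp only [h, Set.mem_insert_iff, true_or, or_true]
        · rw [zq_mul, ← eq_mul_inv_iff_mul_eq, inv2 _ ha'] at h
          simp only [h, Set.mem_insert_iff, Set.mem_singleton_iff, or_true]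
    have h1 := Set.ncard_le_ncard hsub (Set.toFinite _)
    have h3 := Set.ncard_insert_le (1 : G ⧸ center G) {zq a, zq (g * a * g⁻¹), zq a * zq (g * a * g⁻¹)}
    have h4 := Set.ncard_insert_le (zq a) {zq (g * a * g⁻¹), zq a * zq (g * a * g⁻¹)}
    have h5 := Set.ncard_insert_le (zq (g * a * g⁻¹)) {zq a * zq (g * a * g⁻¹)}
    rw [Set.ncard_singleton] at h5
    exact le_trans h1 (by omega)
  haveI := CL.Known.isSolvable_perm_of_card_le_four hcard
  let f : G →* Equiv.Perm (M.map (QuotientGroup.mk' (center G))) :=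
    (MulAut.toPerm _).comp (MulAut.conjNormal.comp (QuotientGroup.mk' (center G)))
  refine hM.ns hG (solv_quot_mono (N := f.ker) (fun y hy => mem_CV.2 fun m hm => ?_)
    (Group.isSolvable_of_isSolvable_injective (QuotientGroup.kerLift_injective f)))
  have := congrArg Subtype.val (DFunLike.congr_fun (MonoidHom.mem_ker.1 hy) ⟨zq m, mem_map_of_mem _ hm⟩)
  exact mul_inv_eq_iff_eq_mul.1 this

theorem false_of_odd (h2 : p ≠ 2) : False := by
  obtain ⟨T⟩ : Nonempty (Sylow 2 G) := inferInstance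
  have hH := hG.ca_solv (solv_sup_n hM.solv (solv_of_pGroup T.2))
  have hMH : ∀ m ∈ M, m ∈ M ⊔ (T : Subgroup G) := fun m hm => mem_sup_left hm
  have hTH : ∀ m ∈ T, m ∈ M ⊔ (T : Subgroup G) := fun m hm => mem_sup_right hm
  have cop : ∀ k, (2 ^ k).Coprime p := fun k =>
    Nat.Coprime.pow_left k ((Nat.coprime_primes Nat.prime_two hM.hp).2 (Ne.symm h2))
  have pc : ∀ m ∈ M, ∀ y, Commute y (m ^ p) := fun m hm y => (comm_of_center (hM.pw m hm) y).symm
  have ab : ∀ a ∈ M, ∀ b ∈ M, Commute (zq a) (zq b) := fun a ha => mem_CV.1 (hM.ab ha)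
  have T2 : ∀ g ∈ T, ∃ k, g ^ 2 ^ k = 1 := isPGroup_iff_forall.1 T.2
  have L0 : ∀ g ∈ T, g ∈ CV M → ∀ m ∈ M, Commute g m := fun g hg h m hm => by
    obtain ⟨k, hk⟩ := T2 g hg
    exact commute_of_coprime (mem_CV.1 h m hm) (cop k) (hk ▸ Commute.one_left m) (pc m hm g)
  have odd1 : ∀ c ∈ M, ∀ k, c ^ 2 ^ k = 1 → c ∈ center G := fun c hc k hk => by
    have h1 : zq c ^ 2 ^ k = 1 := by rw [← zq_pow, hk]; rfl
    have h3 : zq c ^ p = 1 := by rw [← zq_pow, zq_eq_one]; exact hM.pw c hc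
    have := pow_gcd_eq_one.2 ⟨h1, h3⟩
    rwa [cop k, pow_one, zq_eq_one] at this
  have nCV : ∀ u, u ∉ CV M → ∃ m ∈ M, ¬ Commute (zq u) (zq m) := fun u hu => by
    by_contra h; push Not at h
    exact hu (mem_CV.2 h)
  have Key1 : ∀ u ∈ T, u ∉ CV M → u * u ∈ CV M → ∀ a ∈ M, Commute a u → ∀ h ∈ M ⊔ (T : Subgroup G), Commute a h := by
    intro u hu hu1 hu2 a ha hau
    obtain ⟨m, hm, hn⟩ := nCV u hu1
    have hb : ⁅u, m⁆ ∈ M := commutatorElement_mem_of_normal_right u hm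
    have e1 : u * ⁅u, m⁆ * u⁻¹ = ⁅u, m⁆⁻¹ := by
      have := (L0 _ (mul_mem hu hu) hu2 m hm).eq
      calc _ = (u * u * m) * u⁻¹ * m⁻¹ * u⁻¹ := by rw [commutatorElement_def]; group
        _ = _ := by rw [this, commutatorElement_def]; group
    have hbZ : ⁅u, m⁆ ∉ center G := fun h => hn (zq_commute.2 h)
    generalize ⁅u, m⁆ = b at hb e1 hbZ
    have hub : ¬ Commute u b := fun h => hbZ (odd1 b hb 1 (by
      rw [h.eq, mul_inv_cancel_right] at e1
      rw [pow_one, pow_two]; exact mul_eq_one_iff_eq_inv.2 e1))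
    have hab : Commute b a := by
      refine commute_of_coprime (ab b hb a ha) (cop 1) ?_ (pc a ha b)
      rw [pow_one, commute_pow_iff (ab b hb a ha)]
      have hc := zq_commute.1 (ab b hb a ha)
      have e2 : b * a * b⁻¹ = ⁅b, a⁆ * a := by rw [commutatorElement_def]; group
      generalize ⁅b, a⁆ = c at hc e2
      have e3 : b⁻¹ * a * b = c * a := by
        calc _ = (u * b * u⁻¹) * (u * a * u⁻¹) * (u * b * u⁻¹)⁻¹ := by
              rw [e1, ← hau.eq, mul_inv_cancel_right, inv_inv]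
          _ = u * (c * a) * u⁻¹ := by rw [← e2]; group
          _ = c * a := by rw [← mul_assoc, ← (comm_of_center hc u).eq, mul_assoc c, ← hau.eq]; group
      have e4 : a = c ^ 2 * a := by
        calc a = b * (b⁻¹ * a * b) * b⁻¹ := by group
          _ = c * (b * a * b⁻¹) := by rw [e3, ← mul_assoc, ← (comm_of_center hc b).eq]; group
          _ = _ := by rw [e2, pow_two, mul_assoc]
      exact (right_eq_mul.1 e4)
    exact fun h hh => hH a (hMH a ha) u (hTH u hu) b (hMH b hb) h hh hau hab.symm hub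
  have Key1' : ∀ u ∈ T, u ∉ CV M → u * u ∈ CV M → ∀ m ∈ M, ∀ h ∈ M ⊔ (T : Subgroup G),
      Commute (m * (u * m * u⁻¹)) h := by
    intro u hu hu1 hu2 m hm
    have hn : m * (u * m * u⁻¹) ∈ M := mul_mem hm (hMn.conj_mem m hm u)
    refine Key1 u hu hu1 hu2 _ hn (Commute.symm ?_)
    refine commute_of_coprime ?_ (cop 1) (by rw [pow_one, pow_two]; exact L0 _ (mul_mem hu hu) hu2 _ hn) (pc _ hn u)
    have h1 := (L0 _ (mul_mem hu hu) hu2 m hm).eq
    have h3 := (ab _ (hMn.conj_mem m hm u) m hm).eq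
    show zq u * _ = _ * zq u
    rw [← mul_inv_eq_iff_eq_mul]
    calc _ = zq (u * m * u⁻¹ * ((u * u * m) * (u * u)⁻¹)) := by simp only [zq_mul, zq_inv]; group
      _ = _ := by rw [h1, mul_inv_cancel_right, zq_mul, h3]; rfl
  have Key2 : ∀ u ∈ T, u ∉ CV M → u * u ∈ CV M → ∀ v ∈ T, v ∉ CV M → v * v ∈ CV M → u * v ∈ CV M := by
    intro u hu hu1 hu2 v hv hv1 hv2
    refine mem_CV.2 fun m hm => zq_commute.2 ?_
    have h1 := Key1' u hu hu1 hu2 m hm
    have h3 := Key1' v hv hv1 hv2 m hm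
    have e : ⁅u * v, m⁆ = (m * (u * m * u⁻¹))⁻¹ * (m * (v * m * v⁻¹)) := by
      have e1 := (h3 u (hTH u hu)).eq
      have e2 := (h3 m (hMH m hm)).eq
      generalize hn : m * (v * m * v⁻¹) = n at e1 e2
      have e3 : v * m * v⁻¹ = m⁻¹ * n := by rw [← hn]; group
      calc ⁅u * v, m⁆ = u * (v * m * v⁻¹) * u⁻¹ * m⁻¹ := by rw [commutatorElement_def]; group
        _ = u * m⁻¹ * (n * u⁻¹ * m⁻¹) := by rw [e3]; group
        _ = u * m⁻¹ * (u⁻¹ * m⁻¹ * n) := by
          rw [((Commute.inv_right e1).mul_right (Commute.inv_right e2)).symm.eq, mul_assoc n]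
        _ = _ := by group
    have hc : Commute ⁅u * v, m⁆ (u * v) := by
      rw [e]
      exact (h1 _ (hTH _ (mul_mem hu hv))).inv_left.mul_left (h3 _ (hTH _ (mul_mem hu hv)))
    obtain ⟨k, hk⟩ := T2 _ (mul_mem hu hv)
    have := conj_pow_of_comm hc (2 ^ k)
    rw [hk, one_mul, inv_one, mul_one] at this
    exact odd1 _ (commutatorElement_mem_of_normal_right _ hm) k (right_eq_mul.1 this)
  -- the Sylow 2-subgroup of `G / CV M` is abelian
  have hcomm : ∀ g ∈ T, ∀ h ∈ T, ⁅g, h⁆ ∈ CV M := by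
    by_cases hT0 : (CV M).subgroupOf T ≤ center T
    · intro g hg h hh
      by_contra hn
      have hgh : ¬ Commute g h := fun e => hn (by rw [commutatorElement_eq_one_iff_commute.2 e]; exact one_mem _)
      have hg1 : g ∉ CV M := fun e => hn (commutatorElement_mem_of_normal_left e h)
      have hh1 : h ∉ CV M := fun e => hn (commutatorElement_mem_of_normal_right g e)
      obtain ⟨k, hk⟩ := T2 g hg
      obtain ⟨l, hl⟩ := T2 h hh
      obtain ⟨i, hi1, hi2⟩ := exists_pow_notMem_pow_prime_mem (N := CV M) (hk ▸ one_mem _) hg1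
      obtain ⟨j, hj1, hj2⟩ := exists_pow_notMem_pow_prime_mem (N := CV M) (hl ▸ one_mem _) hh1
      rw [pow_two] at hi2 hj2
      have hu := pow_mem hg (2 ^ i)
      have hv := pow_mem hh (2 ^ j)
      have huv := Key2 _ hu hi1 hi2 _ hv hj1 hj2
      have h1 : Commute (g ^ 2 ^ i * h ^ 2 ^ j) h :=
        congrArg Subtype.val (comm_of_center (hT0 (x := ⟨_, mul_mem hu hv⟩) huv) ⟨h, hh⟩).eq
      have h3 : Commute (g ^ 2 ^ i) h := by
        simpa using h1.mul_left ((Commute.refl h).pow_left (2 ^ j)).inv_left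
      exact hi1 (mem_CV.2 fun m hm => Commute.zq (hH _ (hTH _ hu) g (hTH _ hg) h (hTH _ hh) m (hMH m hm)
        ((Commute.refl g).pow_left _) h3 hgh))
    · haveI := T.2.isNilpotent
      obtain ⟨w, hw, hwZ, hwc⟩ := exists_mem_notMem_commutator_mem hT0
      intro g hg h hh
      have h1 : Commute (⁅(⟨g, hg⟩ : T), ⟨h, hh⟩⁆) w := by
        have e : ∀ y : T, y * w * y⁻¹ = ⁅y, w⁆ * w := fun y => by rw [commutatorElement_def]; group
        have hc : ∀ y : T, ⁅y, w⁆ ∈ center T := fun y => by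
          rw [← commutatorElement_inv]; exact inv_mem (hwc y)
        have hCV : ∀ y : T, y ∈ CV (zpowers w) := fun y => mem_CV.2 fun m hm => by
          obtain ⟨i, rfl⟩ := hm
          exact (zq_commute.2 (hc y)).zpow_right i
        have h2 : ⁅CV (zpowers w), zpowers w⁆ ≤ center T :=
          commutator_le.2 fun a ha b hb => zq_commute.1 (mem_CV.1 ha b hb)
        have h3 : ⁅⁅CV (zpowers w), zpowers w⁆, CV (zpowers w)⁆ = ⊥ := by
          rw [commutator_eq_bot_iff_le_centralizer]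
          exact h2.trans (center_le_centralizer _)
        have h4 := commutator_commutator_eq_bot_of_rotate h3 (by rw [commutator_comm (zpowers w)]; exact h3)
        rw [commutator_eq_bot_iff_le_centralizer] at h4
        exact (mem_centS.1 (h4 (commutator_mem_commutator (hCV _) (hCV _))) w (mem_zpowers w)).symm
      have h3 : Commute (w : G) ⁅g, h⁆ := congrArg Subtype.val h1.symm.eq
      by_contra hn
      obtain ⟨m, hm, hn'⟩ := nCV _ hn
      refine hwZ (mem_center_iff'.2 fun y => Subtype.ext ?_)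
      exact hH w (hTH _ w.2) _ (hTH _ (⁅(⟨g, hg⟩ : T), (⟨h, hh⟩ : T)⁆ : T).2) m (hMH m hm) y (hTH _ y.2) h3
        (L0 _ w.2 hw m hm) fun e => hn' (Commute.zq e)
  let P := T.mapSurjective (QuotientGroup.mk'_surjective (CV M))
  have hP : ∀ y ∈ (P : Subgroup (G ⧸ CV M)), ∃ g ∈ T, (g : G ⧸ CV M) = y := fun y hy => hy
  refine hM.ns hG (CL.Cit.isSolvable_of_npc_two (CL.Char.bs_hasNormalPComplement_of_isCyclic P ?_))
  by_contra hnc
  have hc : IsMulCommutative (P : Subgroup (G ⧸ CV M)) := ⟨⟨fun a b => Subtype.ext (by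
    obtain ⟨g, hg, e1⟩ := hP a a.2
    obtain ⟨h, hh, e2⟩ := hP b b.2
    show (a : G ⧸ CV M) * b = b * a
    rw [← e1, ← e2, ← commutatorElement_eq_one_iff_mul_comm]
    exact (QuotientGroup.eq_one_iff _).2 (hcomm g hg h hh))⟩⟩
  have h4 := sq_le_card_omegaOne_of_not_isCyclic P.2 hc hnc
  obtain ⟨u, hu2, hu⟩ : ∃ u : G ⧸ CV M, u ^ 2 = 1 ∧ ∀ y ∈ (P : Subgroup (G ⧸ CV M)), y ^ 2 = 1 → y ∈ zpowers u := by
    by_cases h : ∃ u ∈ (P : Subgroup (G ⧸ CV M)), u ^ 2 = 1 ∧ u ≠ 1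
    · obtain ⟨u, hu, hu2, hu1⟩ := h
      refine ⟨u, hu2, fun y hy hy2 => ?_⟩
      by_cases hy1 : y = 1
      · rw [hy1]; exact one_mem _
      obtain ⟨g, hg, rfl⟩ := hP u hu
      obtain ⟨h, hh, rfl⟩ := hP y hy
      rw [pow_two] at hu2 hy2
      have := (QuotientGroup.eq_one_iff _).2 (Key2 g hg (fun e => hu1 ((QuotientGroup.eq_one_iff _).2 e))
        ((QuotientGroup.eq_one_iff _).1 hu2) h hh (fun e => hy1 ((QuotientGroup.eq_one_iff _).2 e))
        ((QuotientGroup.eq_one_iff _).1 hy2))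
      rw [QuotientGroup.mk_mul, mul_eq_one_iff_inv_eq] at this
      rw [← this]
      exact inv_mem (mem_zpowers _)
    · push Not at h
      exact ⟨1, one_pow _, fun y hy hy2 => by rw [h y hy hy2]; exact one_mem _⟩
  have h5 : omegaOne 2 (P : Subgroup (G ⧸ CV M)) ≤ zpowers u := (closure_le _).2 fun y hy => hu y hy.1 hy.2
  have h6 := card_le_of_le h5
  rw [Nat.card_zpowers] at h6
  have := Nat.le_of_dvd two_pos (orderOf_dvd_of_pow_eq_one hu2)
  omega

end MinN

/-- (R) solvable normal subgroups are central -/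
theorem Hyp.le_center (hG : Hyp G) {N : Subgroup G} (hN : N.Normal) (hs : Group.IsSolvable N) : N ≤ center G := by
  by_contra hc
  obtain ⟨M, p, hMn, hM⟩ := exists_minN hN hs hc
  by_cases h2 : p = 2
  · by_cases hc : ∀ a ∈ M, ∀ b ∈ M, Commute a b
    · exact hM.false_of_two_comm hG h2 hc
    · exact hM.false_of_two_nc hG h2 hc
  · exact hM.false_of_odd hG h2

end CL.MinCA
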