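/-
Nonsolvable groups all of whose proper subgroups are CA-groups, III: local lemmas.
-/
import Cfsg.Agent.Fgs.MinCA2
import Cfsg.Agent.Loc.FStar

set_option autoImplicit false

open Subgroup Cfsg CL.Grp CL.Even
open scoped commutatorElement Pointwise

universe u

namespace CL.MinCA

variable {G : Type u} [Group G] [Finite G]

/-- the centraliser of `x` is abelian -/
def AbC (x : G) : Prop := ∀ a b, Commute x a → Commute x b → Commute a b

omit [Finite G] in
theorem AbC.of_comm {x y : G} (h : AbC x) (e : ∀ a, Commute y a → Commute x a) : AbC y :=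
  fun a b ha hb => h a b (e a ha) (e b hb)

omit [Finite G] in
theorem commute_mul_center {x z a : G} (hz : z ∈ center G) : Commute (x * z) a ↔ Commute x a :=
  ⟨fun h => by simpa using h.mul_left (comm_of_center hz a).inv_left, fun h => h.mul_left (comm_of_center hz a)⟩

omit [Finite G] in
theorem commute_conj {a b : G} (g : G) (h : Commute a b) : Commute (g * a * g⁻¹) (g * b * g⁻¹) := h.map (MulAut.conj g)

omit [Finite G] in
theorem commute_conj_iff {a b : G} (g : G) : Commute (g * a * g⁻¹) b ↔ Commute a (g⁻¹ * b * g) :=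
  ⟨fun h => by simpa [mul_assoc] using commute_conj g⁻¹ h, fun h => by simpa [mul_assoc] using commute_conj g h⟩

theorem exists_ppart {r : ℕ} (hr : r.Prime) {y : G} (h : y ^ r ∈ center G) :
    ∃ y1 ∈ zpowers y, (∃ k, y1 ^ r ^ k = 1) ∧ ∃ z ∈ center G, y = y1 * z := by
  obtain ⟨a, ha, b, hb, ⟨k, hk⟩, hbc, e, -⟩ := exists_pPart_mul_pPrimePart hr y
  refine ⟨a, ha, ⟨k, hk ▸ pow_orderOf_eq_one a⟩, b, mem_of_pow_mem_of_coprime hbc ?_, e⟩
  obtain ⟨i, rfl⟩ := hb
  show (y ^ i) ^ r ∈ _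
  rw [← zpow_natCast, ← zpow_mul, mul_comm, zpow_mul, zpow_natCast]
  exact zpow_mem h i

theorem mem_of_sylow_cent {r : ℕ} [Fact r.Prime] {A D : Subgroup G} (hA : IsSylowIn r A D) {u : G} (hu : u ∈ D)
    (hn : u ∈ 𝒩(A)) {k : ℕ} (hk : u ^ r ^ k = 1) : u ∈ A := by
  have := hA.eq_of_le (isPGroup_sup' hA.isPGroup (isPGroup_zpowers hk) (zpowers_le.2 hn)) le_sup_left
    (sup_le hA.le (zpowers_le.2 hu))
  exact this ▸ mem_sup_right (mem_zpowers u)

theorem exists_norm_notMem {r : ℕ} [Fact r.Prime] {A T : Subgroup G} (hT : IsPGroup r T) (hAT : A ≤ T) (hne : A ≠ T) :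
    ∃ u ∈ T, u ∈ 𝒩(A) ∧ u ∉ A ∧ u ^ r ∈ A := by
  obtain ⟨u, hu, huA⟩ := SetLike.exists_of_lt (lt_inf_normalizer_of_isPGroup hT (lt_of_le_of_ne hAT hne))
  obtain ⟨k, hk⟩ := isPGroup_iff_forall.1 hT u hu.1
  obtain ⟨j, h1, h2⟩ := exists_pow_notMem_pow_prime_mem (N := A) (hk ▸ one_mem _) huA
  exact ⟨_, pow_mem hu.1 _, pow_mem hu.2 _, h1, h2⟩

/-- Burnside: an abelian centraliser in a group without normal complements is not self-normalising -/
theorem exists_norm_of_ab {r : ℕ} [hr : Fact r.Prime] {K : Subgroup G} (hK : ¬ HasNormalPComplement r K) {y : G}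
    (hy : y ∈ K) (hyr : y ^ r ∈ center G) (hab : ∀ a ∈ K, ∀ b ∈ K, Commute y a → Commute y b → Commute a b) :
    ∃ n ∈ K, n ∈ 𝒩(K ⊓ centralizer {y}) ∧ ¬ Commute y n := by
  obtain ⟨y1, hy1, ⟨k, hk⟩, z, hz, e⟩ := exists_ppart hr.out hyr
  have hB : y ∈ K ⊓ centralizer {y} := ⟨hy, mem_cent1.2 (Commute.refl y)⟩
  obtain ⟨S, hS, hyS⟩ := exists_isSylowIn_ge (isPGroup_zpowers hk) (zpowers_le.2 (zpowers_le.2 hB hy1))
  have hKS : K ⊓ 𝒞(S) = K ⊓ centralizer {y} := by
    refine le_antisymm (fun a ha => ⟨ha.1, mem_cent1.2 ?_⟩) fun a ha => ⟨ha.1, mem_centS.2 fun s hs =>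
      hab s (hS.le hs).1 a ha.1 (mem_cent1.1 (hS.le hs).2) (mem_cent1.1 ha.2)⟩
    rw [e, commute_mul_center hz]
    exact mem_centS.1 ha.2 _ (hyS (mem_zpowers _))
  have hN : ∀ n ∈ K, n ∈ 𝒩(S) → n ∈ 𝒩(K ⊓ centralizer {y}) := fun n hn h => by
    rw [← hKS]
    exact le_norm_inf (L := zpowers n) (le_norm_of_le (zpowers_le.2 hn)) (le_norm_cent (zpowers_le.2 h))
      (mem_zpowers n)
  obtain ⟨S', hS', hSS⟩ := exists_isSylowIn_ge hS.isPGroup (hS.le.trans inf_le_left)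
  by_cases he : S = S'
  · by_contra hcon
    push Not at hcon
    refine hK (CL.Cit.npc_of_burnside (he ▸ hS') fun g hg hn => ?_)
    exact (hKS.symm ▸ (⟨hg, mem_cent1.2 (hcon g hg (hN g hg hn))⟩ : g ∈ K ⊓ centralizer {y}) : g ∈ K ⊓ 𝒞(S)).2
  · obtain ⟨u, hu, hn, huS, -⟩ := exists_norm_notMem hS'.isPGroup hSS he
    obtain ⟨j, hj⟩ := isPGroup_iff_forall.1 hS'.isPGroup u hu
    exact ⟨u, hS'.le hu, hN u (hS'.le hu) hn, fun h => huS (mem_of_sylow_cent hS ⟨hS'.le hu, mem_cent1.2 h⟩ hn hj)⟩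

/-- Burnside fusion: an element of an abelian Sylow subgroup centralising its normaliser is isolated -/
theorem isolated_of_norm {r : ℕ} [Fact r.Prime] {R : Subgroup G} (hR : IsSylowIn r R ⊤) {x : G} (hx : x ∈ R)
    (hab : ∀ a ∈ R, ∀ b ∈ R, Commute a b) (hN : ∀ n ∈ 𝒩(R), Commute x n) (g : G) (hg : Commute x (g * x * g⁻¹)) :
    g * x * g⁻¹ = x := by
  obtain ⟨k, hk⟩ := isPGroup_iff_forall.1 hR.isPGroup x hx
  have h1 : IsSylowIn r R (centralizer {x}) := hR.of_le (fun a ha => mem_cent1.2 (hab x hx a ha)) le_top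
  obtain ⟨c, hc, hcR⟩ := h1.exists_conj_le (isPGroup_zpowers (x := g * x * g⁻¹) (k := k) (by rw [conj_pow, hk]; simp))
    (zpowers_le.2 (mem_cent1.2 hg))
  have h2 : c * g * x * (c * g)⁻¹ ∈ R := by
    have := (conj_smul_le_iff _ _ _).1 hcR _ (mem_zpowers _)
    simpa [mul_assoc] using this
  have h3 : IsSylowIn r R (centralizer {c * g * x * (c * g)⁻¹}) :=
    hR.of_le (fun a ha => mem_cent1.2 (hab _ h2 a ha)) le_top
  have h4 : IsSylowIn r (MulAut.conj (c * g) • R) (centralizer {c * g * x * (c * g)⁻¹}) :=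
    (hR.conj_smul_of_mem (mem_top _)).of_le ((conj_smul_le_iff _ _ _).2 fun a ha =>
      mem_cent1.2 (commute_conj _ (hab x hx a ha))) le_top
  obtain ⟨d, hd, e⟩ := h4.exists_conj_eq h3
  rw [conj_smul_conj_smul, conj_smul_eq_self_iff] at e
  have h5 := (hN _ e).eq
  have h6 := (mem_cent1.1 hd).eq
  have h7 := (mem_cent1.1 hc).eq
  have h8 : c * g * x * (c * g)⁻¹ = x := by
    calc _ = d * (c * g * x * (c * g)⁻¹) * d⁻¹ := by rw [← h6, mul_inv_cancel_right]
      _ = (d * (c * g) * x) * (d * (c * g))⁻¹ := by group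
      _ = x := by rw [← h5, mul_inv_cancel_right]
  calc g * x * g⁻¹ = c⁻¹ * (c * g * x * (c * g)⁻¹) * c := by group
    _ = x := by rw [h8, mul_assoc, h7, inv_mul_cancel_left]

namespace Hyp

variable (hG : Hyp G)
include hG

theorem norm_ne_top {U : Subgroup G} (hs : Group.IsSolvable U) (hU : ¬ U ≤ center G) : 𝒩(U) ≠ ⊤ := fun e =>
  hU (hG.le_center (normalizer_eq_top_iff.1 e) hs)

/-- an element with nonabelian centraliser is centralised by every proper overgroup of its centraliser -/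
theorem commute_of_le {x : G} (hx : ¬ AbC x) {H : Subgroup G} (hH : H ≠ ⊤) (h : ∀ a, Commute x a → a ∈ H) {g : G}
    (hg : g ∈ H) : Commute x g := by
  obtain ⟨a, b, ha, hb, hab⟩ : ∃ a b, Commute x a ∧ Commute x b ∧ ¬ Commute a b := by
    by_contra h'; push Not at h'; exact hx h'
  exact hG.ca H hH x (h x (Commute.refl x)) a (h a ha) b (h b hb) g hg ha hb hab

theorem commute_of_norm_cent {x : G} (hZ : x ∉ center G) (hx : ¬ AbC x) {g : G}
    (hg : ∀ a, Commute x a → Commute (g * x * g⁻¹) a) : Commute x g := by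
  have hn : g⁻¹ ∈ 𝒩(centralizer ({x} : Set G)) := mem_norm_of_cj_le (by
    rintro _ ⟨a, ha, rfl⟩
    have := (commute_conj_iff g).1 (hg a (mem_cent1.1 ha))
    exact mem_cent1.2 (by simpa using this))
  have hN : 𝒩(centralizer ({x} : Set G)) ≠ ⊤ := fun e =>
    hG.norm_ne_top (U := centralizer {x} ⊓ 𝒞(centralizer ({x} : Set G)))
      (solv_of_comm fun a ha b hb => mem_centS.1 hb.2 a ha.1)
      (fun h => hZ (h ⟨mem_cent1.2 (Commute.refl x), mem_centS.2 fun a ha => (mem_cent1.1 ha).symm⟩))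
      (top_unique (e ▸ le_norm_inf le_rfl (norm_le_norm_cent _)))
  exact hG.commute_of_le hx hN (fun a ha => le_normalizer (mem_cent1.2 ha)) (inv_mem_iff.1 hn)

/-- a noncentral element in the centre of a nonabelian Sylow subgroup is isolated -/
theorem isolated_of_center {r : ℕ} [Fact r.Prime] {R : Subgroup G} (hR : IsSylowIn r R ⊤) {z : G} (hz : z ∈ R)
    (hZ : z ∉ center G) (hna : ¬ ∀ a ∈ R, ∀ b ∈ R, Commute a b) (hc : ∀ a ∈ R, Commute z a) (g : G)
    (hg : Commute z (g * z * g⁻¹)) : g * z * g⁻¹ = z := by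
  have hnz : ¬ AbC z := fun h => hna fun a ha b hb => h a b (hc a ha) (hc b hb)
  suffices Commute z g by rw [← this.eq, mul_inv_cancel_right]
  by_cases hD : ∀ a b, Commute z a → Commute (g * z * g⁻¹) a → Commute z b → Commute (g * z * g⁻¹) b → Commute a b
  swap
  · push Not at hD
    obtain ⟨a, b, h1, h2, h3, h4, h5⟩ := hD
    exact hG.commute_of_norm_cent hZ hnz fun c hc => hG.ca _ (cent1_ne_top hZ) _ (mem_cent1.2 hg) a (mem_cent1.2 h1) b
      (mem_cent1.2 h3) c (mem_cent1.2 hc) h2 h4 h5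
  exfalso
  obtain ⟨k, hk⟩ := isPGroup_iff_forall.1 hR.isPGroup z hz
  have hk' : (g * z * g⁻¹) ^ r ^ k = 1 := by rw [conj_pow, hk]; simp
  obtain ⟨A, hA, hzA⟩ := exists_isSylowIn_ge (H := centralizer {z} ⊓ centralizer {g * z * g⁻¹})
    (isPGroup_sup (isPGroup_zpowers hk) (isPGroup_zpowers hk') (zpowers_le.2 (cent_le_norm _ (mem_centS.2 (by
      rintro _ ⟨i, rfl⟩; exact hg.symm.zpow_left i)))))
    (sup_le (zpowers_le.2 ⟨mem_cent1.2 (Commute.refl _), mem_cent1.2 hg.symm⟩)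
      (zpowers_le.2 ⟨mem_cent1.2 hg, mem_cent1.2 (Commute.refl _)⟩))
  have hAab : ∀ a ∈ A, ∀ b ∈ A, Commute a b := fun a ha b hb => hD a b (mem_cent1.1 (hA.le ha).1)
    (mem_cent1.1 (hA.le ha).2) (mem_cent1.1 (hA.le hb).1) (mem_cent1.1 (hA.le hb).2)
  have key : ∀ h : G, A ≤ centralizer {h * z * h⁻¹} → ∃ u ∈ 𝒩(A), Commute (h * z * h⁻¹) u ∧
      ¬ (Commute z u ∧ Commute (g * z * g⁻¹) u) := by
    intro h hh
    obtain ⟨T, hT, hAT⟩ := exists_isSylowIn_ge hA.isPGroup hh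
    have h4 : IsSylowIn r (MulAut.conj h • R) (centralizer {h * z * h⁻¹}) :=
      (hR.conj_smul_of_mem (mem_top _)).of_le ((conj_smul_le_iff _ _ _).2 fun a ha =>
        mem_cent1.2 (commute_conj _ (hc a ha))) le_top
    obtain ⟨d, -, e⟩ := h4.exists_conj_eq hT
    rw [conj_smul_conj_smul] at e
    have hne : A ≠ T := by
      rintro rfl
      refine hna fun a ha b hb => ?_
      have := commute_conj (d * h)⁻¹ (hAab _ (e ▸ conj_mem_conj_smul (d * h) ha) _ (e ▸ conj_mem_conj_smul (d * h) hb))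
      simpa [mul_assoc] using this
    obtain ⟨u, hu, hn, huA, -⟩ := exists_norm_notMem hT.isPGroup hAT hne
    obtain ⟨j, hj⟩ := isPGroup_iff_forall.1 hT.isPGroup u hu
    exact ⟨u, hn, mem_cent1.1 (hT.le hu), fun h => huA (mem_of_sylow_cent hA ⟨mem_cent1.2 h.1, mem_cent1.2 h.2⟩ hn hj)⟩
  obtain ⟨a₁, n1, c1, d1⟩ := key 1 (by simpa using hA.le.trans inf_le_left)
  obtain ⟨a₂, n2, c2, d2⟩ := key g (hA.le.trans inf_le_right)
  have hz1 : z ∈ A := hzA (mem_sup_left (mem_zpowers _))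
  have hz2 : g * z * g⁻¹ ∈ A := hzA (mem_sup_right (mem_zpowers _))
  rw [one_mul, inv_one, mul_one] at c1
  exact d2 ⟨hG.ca _ (hG.norm_ne_top (solv_of_comm hAab) fun h => hZ (h hz1)) z (le_normalizer hz1) a₁ n1 _
    (le_normalizer hz2) a₂ n2 c1 hg fun h => d1 ⟨c1, h.symm⟩, c2⟩

/-- (A2) -/
theorem abC_of_sq {t : G} (hZ : t ∉ center G) (htt : t * t ∈ center G) {k : ℕ} (hk : t ^ 2 ^ k = 1) {A T : Subgroup G}
    (hA : IsSylowIn 2 A (centralizer {t})) (hAT : A ≤ T) (hT : IsPGroup 2 T)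
    (hZT : ∀ z ∈ T, (∀ a ∈ T, Commute z a) → z ∈ center G) : AbC t := by
  by_contra hna
  have htA : t ∈ A := mem_of_sylow_cent hA (mem_cent1.2 (Commute.refl t))
    (cent_le_norm _ (mem_centS.2 fun a ha => (mem_cent1.1 (hA.le ha)).symm)) hk
  have hne : A ≠ T := by
    rintro rfl
    exact hZ (hZT t htA fun a ha => mem_cent1.1 (hA.le ha))
  obtain ⟨u, hu, hn, huA, hu2⟩ := exists_norm_notMem hT hAT hne
  obtain ⟨j, hj⟩ := isPGroup_iff_forall.1 hT u hu
  have htu : ¬ Commute t u := fun h => huA (mem_of_sylow_cent hA (mem_cent1.2 h) hn hj)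
  have h1 : Commute t (u * t * u⁻¹) := mem_cent1.1 (hA.le (conj_mem hn htA))
  have h2 : Commute t (u * u) := by rw [← pow_two]; exact mem_cent1.1 (hA.le hu2)
  have h3 : Commute (t * (u * t * u⁻¹)) u := by
    show _ = _
    calc t * (u * t * u⁻¹) * u = t * u * t := by group
      _ = u * (u⁻¹ * t * u) * t := by group
      _ = u * (u * t * u⁻¹) * t := by
        congr 2
        calc u⁻¹ * t * u = u⁻¹ * (t * (u * u)) * u⁻¹ := by group
          _ = _ := by rw [h2.eq]; group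
      _ = _ := by rw [mul_assoc u, ← h1.eq]
  have hw : t * (u * t * u⁻¹) ∈ T := mul_mem (hAT htA) (hAT (conj_mem hn htA))
  have hwZ := hZT _ hw fun a ha => hG.ca_solv (solv_of_pGroup hT) _ hw t (hAT htA) u hu a ha
    ((Commute.refl t).mul_left h1.symm) h3 htu
  refine htu (hG.commute_of_norm_cent hZ hna fun a ha => ?_)
  have : u * t * u⁻¹ = t⁻¹ * (t * (u * t * u⁻¹)) := by group
  rw [this, commute_mul_center hwZ]
  exact ha.inv_left

/-- there is a normal component -/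
theorem exists_comp : ∃ L : Subgroup G, L.Normal ∧ IsQuasisimple L := by
  have hF : fittingSubgroup G ≤ center G := hG.le_center inferInstance (by
    haveI := CL.Grp.fittingSubgroup_isNilpotent G
    infer_instance)
  obtain ⟨L, hL⟩ : ∃ L : Subgroup G, IsComponent L := by
    by_contra h
    push Not at h
    have := (CL.Loc.centralizer_fitting_le_iff.2 (CL.Loc.layer_eq_bot_iff.2 h)).trans hF
    exact hG.ns (solv_top solv_center (top_unique fun g _ => this (mem_centS.2 fun x hx => comm_of_center (hF hx) g)))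
  refine ⟨L, ⟨fun n hn g => ?_⟩, hL.2⟩
  rcases CL.Loc.IsComponent.eq_or_commutator_eq_bot hL (CL.Loc.IsComponent.conj hL g) with e | e
  · exact e ▸ conj_mem_cj g hn
  exfalso
  have hns := CL.Loc.IsQuasisimple.not_isSolvable hL.2
  obtain ⟨S, hS⟩ := exists_isSylowIn (p := 2) L
  obtain ⟨a, ha, b, hb, na, nb, hab⟩ := exists_not_commute_norm hns hS
  have hc : ∀ x ∈ L, ∀ y ∈ L, Commute x (g * y * g⁻¹) := fun x hx y hy =>
    mem_centS.1 (commutator_eq_bot_iff'.1 e (conj_mem_cj g hy)) x hx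
  have hs : Group.IsSolvable (L ⊓ 𝒩(S) : Subgroup G) := by
    refine CL.Cit.isSolvable_of_sylow_normal (hS.of_le (le_inf hS.le le_normalizer) inf_le_left).toSylow ?_
    rw [IsSylowIn.coe_toSylow]
    exact (normal_subgroupOf_iff_le_normalizer (le_inf hS.le le_normalizer)).2 inf_le_right
  have hs' : Group.IsSolvable (cj g (L ⊓ 𝒩(S))) := CL.Grp.isSolvable_map _ _
  have h := hG.ca_solv (solv_sup hs hs' (le_trans (by
    rintro _ ⟨y, hy, rfl⟩
    exact mem_centS.2 fun x hx => hc x hx.1 y hy.1) (cent_le_norm _)))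
  refine hab (h a (mem_sup_left ⟨ha, na⟩) _ (mem_sup_right (conj_mem_cj g ⟨ha, na⟩)) _
    (mem_sup_right (conj_mem_cj g ⟨hb, nb⟩)) b (mem_sup_left ⟨hb, nb⟩) (hc a ha a ha) (hc a ha b hb) fun h' => hab ?_)
  simpa [mul_assoc] using commute_conj g⁻¹ h'

end Hyp

end CL.MinCA
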