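/-
Bridge between `Cfsg.IsFrobeniusComplement` / `Cfsg.frobeniusKernel` and the ambient `CL.Odd.Frob`.
-/
import Cfsg.Agent.Odd.Wielandt
import Cfsg.Agent.Grp.FrobKernel
import Cfsg.Agent.Grp.Frob2

set_option autoImplicit false

open scoped Pointwise
open Cfsg CL.Odd CL.Grp

namespace CL.Fgs

variable {G : Type*} [Group G]

theorem frob_top_of_isComplement' {K R : Subgroup G} [K.Normal] (hc : K.IsComplement' R) (hK : K ≠ ⊥) (hR : R ≠ ⊥)
    (h : ∀ x ∈ R, x ≠ 1 → K ⊓ Subgroup.centralizer {x} = ⊥) : Frob ⊤ K R :=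
  ⟨⟨hc.sup_eq_top, by rw [Subgroup.normalizer_eq_top]; exact le_top, hc.disjoint.eq_bot⟩, hK, hR, h⟩

theorem exists_frob_top [Finite G] {R : Subgroup G} (hR : IsFrobeniusComplement R) :
    ∃ K : Subgroup G, (K : Set G) = frobeniusKernel R ∧ Frob ⊤ K R := by
  obtain ⟨K, hK, hn, hc, hne, h1, -⟩ := exists_frobenius_kernel hR
  exact ⟨K, hK, frob_top_of_isComplement' hc hne hR.1 h1⟩

theorem frob_top_normal {K R : Subgroup G} (h : Frob ⊤ K R) : K.Normal :=
  Subgroup.normalizer_eq_top_iff.1 (top_le_iff.1 h.le_norm)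

theorem frob_top_isFrobeniusComplement [Finite G] {K R : Subgroup G} (h : Frob ⊤ K R) :
    IsFrobeniusComplement R := by
  have := frob_top_normal h
  exact frob_of_fpf h.isComplement'_top h.ker_ne h.compl_ne h.reg

theorem frob_top_kernel [Finite G] {K R : Subgroup G} (h : Frob ⊤ K R) : frobeniusKernel R = K := by
  have := frob_top_normal h
  exact (isMalnormal_of_frob (frob_top_isFrobeniusComplement h)).kernel_eq_of_isComplement' h.isComplement'_top

/-- a Frobenius complement of a subgroup `M`, seen in the ambient group. -/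
theorem exists_frob_of_subgroup [Finite G] {M : Subgroup G} {R : Subgroup M} (hR : IsFrobeniusComplement R) :
    ∃ K : Subgroup G, (K : Set G) = Subtype.val '' frobeniusKernel R ∧ Frob M K (R.map M.subtype) := by
  obtain ⟨K, hK, h⟩ := exists_frob_top hR
  refine ⟨K.map M.subtype, by rw [← hK]; rfl, ?_⟩
  have := h.map_injective M.subtype_injective
  rwa [← MonoidHom.range_eq_map, Subgroup.range_subtype] at this

end CL.Fgs
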