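/-
Coprime action on Z-groups; TI Hall subgroups of π-separable groups.
-/
import Cfsg.Agent.Fgs.TIBase
import Cfsg.Agent.Odd.BG3a

set_option autoImplicit false

open scoped Pointwise
open Cfsg CL.Odd CL.Grp

namespace CL.Fgs

variable {G : Type*} [Group G] [Finite G] {A H K L M N O Q T : Subgroup G} {π : Set ℕ}

/-- coprime action on a Z-group: `[K, A]` is cyclic and `C_K(A)` is a Hall complement to it. -/
theorem zgroup_coprime_action (hK : IsZGroup K) (hn : A ≤ N[K]) (hc : (Nat.card A).Coprime (Nat.card K)) :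
    IsCyclic ↥⁅K, A⁆ ∧ Sdp ⁅K, A⁆ (K ⊓ C[A]) K ∧ (Nat.card ↥⁅K, A⁆).Coprime (Nat.card ↥(K ⊓ C[A])) := by
  have hs := zgroup_sol hK
  have hR : ⁅K, A⁆ ≤ K := comm_le_left hn
  have hRZ := zgroup_of_le hK hR
  have hid := coprime_commGid hn hc
  have hcyc : IsCyclic ↥⁅K, A⁆ := by
    refine nil_Zgroup_cyclic hRZ (isNilpotent_of_commutator_commutator_eq_bot (comm_eq_bot_iff'.2 ?_))
    have h1 : ⁅K, A⁆ ⊔ A ≤ N[⁅⁅K, A⁆, ⁅K, A⁆⁆] :=
      (sup_le (le_norm_self _) (right_le_norm_comm K A)).trans (norm_le_norm_der _)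
    refine le_trans ?_ (der_le_cent_of_cyclic h1 (Zgroup_der1_cyclic hRZ))
    exact hid.ge.trans (comm_le_der le_sup_left le_sup_right)
  have hTI : ⁅K, A⁆ ⊓ C[A] = ⊥ := by
    have := coprime_abel_cent_TI (right_le_norm_comm K A) (coprime_of_le_right hc hR) (abelian_of_cyclic hcyc)
    rwa [hid] at this
  refine ⟨hcyc, ⟨coprime_cent_prod hn hc (Or.inr hs), inf_le_left.trans (left_le_norm_comm K A),
    eq_bot_iff.2 ((inf_le_inf_left _ inf_le_right).trans hTI.le)⟩, Nat.coprime_of_dvd fun p hp h1 h2 => ?_⟩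
  have := Fact.mk hp
  obtain ⟨P, hP, hAP⟩ := coprime_Sylow_exists hp hn hc (Or.inr hs)
  have hPc := zgroup_cyclic_of_isPGroup hp hK hP.isPGroup hP.le
  have hcP := coprime_of_le_right hc hP.le
  rcases cyclic_pgroup_cent_or_comm_eq hp hP.isPGroup hPc hAP hcP with h | h
  · refine sylow_ne_bot (hP.inf_of_normalized hR (left_le_norm_comm K A)) h1 (eq_bot_iff.2 (le_trans ?_ hTI.le))
    exact le_inf inf_le_right (inf_le_left.trans (cent_symm h))
  · have h3 := coprime_abel_cent_TI hAP hcP (abelian_of_cyclic hPc)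
    rw [h] at h3
    exact sylow_ne_bot (hall_sylow (coprime_Hall_cent hn hc hs (sylow_hall hP) hAP)) h2 h3

omit [Finite G] in
theorem sSup_coprime_eq_piCore (n : ℕ) :
    sSup {K : Subgroup G | K.Normal ∧ (Nat.card K).Coprime n} = piCore {q | q ∣ n}ᶜ G := by
  unfold piCore
  congr 1
  ext K
  refine and_congr_right fun _ => ⟨fun h q hq h1 h2 => ?_, fun h => Nat.coprime_of_dvd fun q hq h1 h2 => h q hq h1 h2⟩
  exact hq.one_lt.ne' (Nat.eq_one_of_dvd_coprimes h h1 h2)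

/-- a π-separable group that is not a `π'`-group has a normal subgroup `T > O_π'` with `T / O_π'` a `π`-group. -/
theorem exists_normal_pi_over_core {n : ℕ} (c : Fin (n + 1) → Subgroup G) (h0 : c 0 = ⊥) (h1 : c (Fin.last n) = ⊤)
    (hn : ∀ i, (c i).Normal)
    (hc : ∀ i : Fin n, IsPiNat π ((c i.castSucc).relIndex (c i.succ)) ∨
      IsPiNat πᶜ ((c i.castSucc).relIndex (c i.succ))) (hne : piCore πᶜ G ≠ ⊤) :
    ∃ T : Subgroup G, T.Normal ∧ piCore πᶜ G < T ∧ IsPiNat π ((piCore πᶜ G).relIndex T) := by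
  by_contra hcon
  refine hne (top_le_iff.1 (h1 ▸ ?_))
  refine Fin.induction (motive := fun i => c i ≤ piCore πᶜ G) (by rw [h0]; exact bot_le) (fun i hi => ?_) _
  have := hn i.succ
  have hd : (piCore πᶜ G).relIndex (piCore πᶜ G ⊔ c i.succ) ∣ (c i.castSucc).relIndex (c i.succ) := by
    rw [relIndex_sup_norm (le_norm_of_normal _ _)]
    exact Subgroup.relIndex_dvd_of_le_left _ hi
  rcases hc i with h | h
  · by_contra hle
    exact hcon ⟨_, inferInstance, left_lt_sup.2 hle, h.of_dvd hd⟩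
  · exact le_sup_right.trans (le_piCore (isPiSubgroup_of_le_of_relIndex le_sup_left (piCore_isPiSubgroup _ G)
      (h.of_dvd hd)))

/-- a TI Hall `π`-subgroup of a π-separable group: `G = O_π'(G) N_G(H)`. -/
theorem ti_core_sup_norm (h : IsTISubset (H : Set G)) (hH : IsPiHallOf π H ⊤) (hO : IsPiSubgroup πᶜ O)
    [O.Normal] [T.Normal] (hlt : O < T) (hT : IsPiNat π (O.relIndex T)) : O ⊔ N[H] = ⊤ := by
  have h0 : IsPiHallOf π (T ⊓ H) T := Hall.inf_of_normal' hH le_top (le_norm_of_normal _ _)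
  have hOT : IsPiHallOf πᶜ O T := Hall.mk' hlt.le hO fun p hp hd h => h (hT p hp hd)
  have hs : T ⊓ H ⊔ O = T := Hall.sup_eq h0 hOT
  have hne : T ⊓ H ≠ ⊥ := fun e => hlt.ne (by rwa [e, bot_sup_eq] at hs)
  refine top_le_iff.1 fun g _ => ?_
  obtain ⟨t, ht, m, hm, rfl⟩ := ti_frattini (ti_inf h (le_norm_of_normal _ _)) h0
    (le_norm_of_normal ⊤ T (Subgroup.mem_top g))
  refine mul_mem ?_ (Subgroup.mem_sup_right (ti_norm_le h inf_le_right hne hm))
  rw [← hs] at ht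
  exact sup_le (inf_le_right.trans ((le_norm_self H).trans le_sup_right)) le_sup_left ht

omit [Finite G] in
theorem normal_sup_of_sup_norm [O.Normal] (hs : O ⊔ N[H] = ⊤) (hK : N[H] ≤ N[K]) : (O ⊔ K).Normal :=
  normal_of_top_le (hs ▸ sup_le (le_norm_of_le le_sup_left) (le_norm_sup (le_norm_of_normal _ _) hK))

/-- the data of Rows 4118 and 4151. -/
theorem ti_sep (h : IsTISubset (H : Set G)) (hnn : ¬ H.Normal) (hc : (Nat.card H).Coprime (H.relIndex N[H]))
    (hsep : ∃ (n : ℕ) (M : Fin (n + 1) → Subgroup G), M 0 = ⊥ ∧ M (Fin.last n) = ⊤ ∧ Monotone M ∧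
      (∀ i, (M i).Normal) ∧
      ∀ i : Fin n, (∀ q : ℕ, q.Prime → q ∣ (M i.castSucc).relIndex (M i.succ) → q ∣ Nat.card H) ∨
        ((M i.castSucc).relIndex (M i.succ)).Coprime (Nat.card H)) :
    piCore {q | q ∣ Nat.card H}ᶜ G ⊔ N[H] = ⊤ ∧
      ∃ N R : Subgroup G, H ≤ N[N] ∧ N ⊓ H = ⊥ ∧ Frob (quo N (R ⊔ H)) (quo N R) (quo N H) := by
  obtain ⟨n, c, h0, h1, -, hn, hi⟩ := hsep
  have hH := ti_hall h le_top (by rwa [top_inf_eq])
  have hO := piCore_isPiSubgroup {q | q ∣ Nat.card H}ᶜ G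
  have hcop := coprime_card_of_pi_compl (isPiSubgroup_primes H) hO
  obtain ⟨T, hTn, hlt, hT⟩ := exists_normal_pi_over_core (π := {q | q ∣ Nat.card H}) c h0 h1 hn
    (fun i => (hi i).imp id fun h q hq h1 h2 => hq.one_lt.ne' (Nat.eq_one_of_dvd_coprimes h h1 h2))
    (fun e => hnn (by
      have := inf_eq_bot_of_coprime_card hcop
      rw [e, inf_top_eq] at this
      rw [this]; infer_instance))
  have hs := ti_core_sup_norm h hH hO hlt hT
  refine ⟨hs, ti_exists_frob_quo h (Sdp.of_coprime (le_norm_of_normal _ _) hcop.symm) hcop.symm fun hle => ?_⟩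
  exact hnn (normal_of_top_le (hs ▸ sup_le (le_norm_of_le_cent (cent_symm hle)) le_rfl))

theorem pqCyclic_of_frob_quo {R : Subgroup G} (h1 : H ≤ N[N]) (h2 : N ⊓ H = ⊥)
    (h : Frob (quo N (R ⊔ H)) (quo N R) (quo N H)) : PQCyclic H :=
  (h.reg.pqCyclic h.ker_ne h.norm).of_injective (quoEquivOfInf h1 h2).toMonoidHom (quoEquivOfInf h1 h2).injective

theorem isZGroup_of_pqCyclic {H : Type*} [Group H] [Finite H] (h : PQCyclic H)
    (h2 : ∀ P : Sylow 2 H, IsMulCommutative (P : Subgroup H)) : IsZGroup H := by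
  refine ⟨fun p hp P => ?_⟩
  have := Fact.mk hp
  by_cases e : p = 2
  · subst e
    have := h2 P
    exact h.isCyclic_subgroup_of_comm _
  · exact h.isCyclic_of_ne_two P.isPGroup' e

/-- solvability criterion for `G = O_π'(G) N_G(H)`. -/
theorem solvable_of_core_sup_norm (hH : IsPiHallOf π H N[H]) (hs : piCore πᶜ G ⊔ N[H] = ⊤)
    (h1 : Group.IsSolvable (piCore πᶜ G)) (h2 : Group.IsSolvable H)
    (h3 : ∀ Q : Subgroup G, Q ≤ N[H] → IsPiSubgroup πᶜ Q → Group.IsSolvable (quo (Q ⊓ C[H]) Q)) :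
    Group.IsSolvable G := by
  obtain ⟨Q, hQ, hQh⟩ := exists_sdp_of_hall hH le_rfl
  have hn : N[H] ≤ N[Q ⊓ C[H]] := hQ.sup_eq.ge.trans (sup_le (le_norm_of_le_cent (cent_symm inf_le_right))
    (NormalIn.inf_cent hQ.norm).norm)
  have := normal_sup_of_sup_norm hs hn
  have h4 : Q ⊓ C[H] ≤ piCore πᶜ G := le_sup_right.trans (le_piCore (isPiSubgroup_sup' (piCore_isPiSubgroup _ G)
    (isPiSubgroup_inf_left (Hall.pi hQh)) (le_norm_of_normal _ _)))
  have h5 : Group.IsSolvable Q :=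
    sol_of_quo (NormalIn.inf_cent hQ.norm).norm (sol_of_le h1 h4) (h3 Q hQ.norm (Hall.pi hQh))
  have h6 := sol_sup h1 (hQ.sol h2 h5) (le_norm_of_normal _ _)
  rw [hs] at h6
  exact Group.isSolvable_of_surjective (f := (⊤ : Subgroup G).subtype) fun g => ⟨⟨g, trivial⟩, rfl⟩

theorem der_le_cent_of_zgroup (hK : IsZGroup K) (hn : A ≤ N[K]) (hc : (Nat.card A).Coprime (Nat.card K)) :
    ⁅A, A⁆ ≤ C[K] :=
  stable_factor_cent ((der_le A).trans hn) (coprime_of_le_left hc (der_le A))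
    (Subgroup.commutator_mono le_rfl (der_le A))
    (cent_symm (der_le_cent_of_cyclic (right_le_norm_comm K A) (zgroup_coprime_action hK hn hc).1))

end CL.Fgs
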