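/-
2-Frobenius groups and solvable groups with disconnected prime graph.
-/
import Cfsg.Agent.Fgs.TISep
import Cfsg.Agent.Fgs.FrobBridge
import Cfsg.Agent.Grp.ThompsonFpf
import Cfsg.Agent.Perm.SpecThree

set_option autoImplicit false

open scoped Pointwise
open Cfsg CL.Odd CL.Grp CL.Perm

namespace CL.Fgs

variable {G : Type*} [Group G] [Finite G] {A B C H K L M N : Subgroup G} {π : Set ℕ}

/-- a Frobenius complement that admits a fixed point free automorphism of prime order is cyclic of odd order. -/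
theorem odd_cyclic_of_pqCyclic_of_fpf (h : PQCyclic K) {c : G} (hc : (orderOf c).Prime) (hn : c ∈ N[K])
    (hf : K ⊓ C1[c] = ⊥) : Odd (Nat.card K) ∧ IsCyclic K := by
  have ho : Odd (Nat.card K) := by
    refine Nat.not_even_iff_odd.1 fun he => ?_
    obtain ⟨s, hs⟩ := exists_prime_orderOf_dvd_card' 2 he.two_dvd
    have h1 := h.eq_of_orderOf_eq_two (s := ⟨c * s * c⁻¹, conj_mem_of_norm hn s.2⟩) (t := s)
      (by rw [← Subgroup.orderOf_coe, ← hs, ← Subgroup.orderOf_coe s]; exact orderOf_conj c s) hs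
    have h2 : (s : G) = 1 :=
      eq_one_of_mem_of_eq_bot hf ⟨s.2, mem_c1_comm.1 (mem_c1_iff_conj.2 (congrArg Subtype.val h1))⟩
    exact Grp.ne_one_of_orderOf_prime Nat.prime_two hs (Subtype.ext h2)
  exact ⟨ho, nil_Zgroup_cyclic (h.isZGroup_of_odd ho) (isNilpotent_of_fpf_prime hc hn hf)⟩

theorem frob_odd_cyclic (h : PQCyclic K) (hF : Frob M K C) : Odd (Nat.card K) ∧ IsCyclic K ∧ IsCyclic C := by
  obtain ⟨p, c, hp, hc, ho⟩ := exists_mem_orderOf_prime hF.compl_ne
  obtain ⟨h1, h2⟩ := odd_cyclic_of_pqCyclic_of_fpf h (ho ▸ hp) (hF.norm hc)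
    (hF.reg c hc (Grp.ne_one_of_orderOf_prime hp ho))
  have : IsMulCommutative C := abelian_iff_der.2 (eq_bot_iff.2 (le_trans (le_inf (der_le C)
    (der_le_cent_of_cyclic hF.norm h2)) hF.compl_inf_cent.le))
  exact ⟨h1, h2, (hF.reg.pqCyclic hF.ker_ne hF.norm).isCyclic_of_comm⟩

omit [Finite G] in
theorem nonempty_equiv_map_mk [H.Normal] (h : Sdp H B K) : Nonempty (B ≃* K.map (QuotientGroup.mk' H)) := by
  have e : K.map (QuotientGroup.mk' H) = B.map (QuotientGroup.mk' H) := by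
    rw [← h.sup_eq, Subgroup.map_sup, QuotientGroup.map_mk'_self, bot_sup_eq]
  rw [e]
  refine ⟨MulEquiv.ofBijective ((QuotientGroup.mk' H).subgroupMap B) ⟨?_, MonoidHom.subgroupMap_surjective _ _⟩⟩
  rw [injective_iff_map_eq_one]
  intro b hb
  exact Subtype.ext (h.eq_one ((QuotientGroup.eq_one_iff _).1 (congrArg Subtype.val hb)) b.2)

theorem pqCyclic_map_mk [H.Normal] (h : Frob K H B) : PQCyclic (K.map (QuotientGroup.mk' H)) := by
  obtain ⟨e⟩ := nonempty_equiv_map_mk h.sdp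
  exact (h.reg.pqCyclic h.ker_ne h.norm).of_injective e.symm.toMonoidHom e.symm.injective

theorem mul_mem_spec_of_nil (hH : Group.IsNilpotent H) {p q : ℕ} (hp : p.Prime) (hq : q.Prime) (hne : p ≠ q)
    (h1 : p ∣ Nat.card H) (h2 : q ∣ Nat.card H) : p * q ∈ Spec G := by
  have := Fact.mk hp
  have := Fact.mk hq
  obtain ⟨x, hx⟩ := exists_prime_orderOf_dvd_card' p h1
  obtain ⟨y, hy⟩ := exists_prime_orderOf_dvd_card' q h2
  rw [← Subgroup.orderOf_coe] at hx hy
  have hc : (orderOf (x : G)).Coprime (orderOf (y : G)) := by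
    rw [hx, hy]; exact (Nat.coprime_primes hp hq).2 hne
  rw [← hx, ← hy]
  exact mul_mem_spec_of_commute (commute_of_mem_isNilpotent hH x.2 y.2 hc) hc

/-- in a 2-Frobenius group the primes of the middle layer are not adjacent to the other primes. -/
theorem two_frob_not_adj [H.Normal] {C : Subgroup (G ⧸ H)} (h1 : Frob K H B)
    (h2 : Frob ⊤ (K.map (QuotientGroup.mk' H)) C) {p q : ℕ} (hp : p.Prime) (hq : q.Prime)
    (hpB : p ∣ H.relIndex K) (hqB : ¬ q ∣ H.relIndex K) : p * q ∉ Spec G := by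
  intro h
  have hne : p ≠ q := fun e => hqB (e ▸ hpB)
  obtain ⟨x, y, hx, hy, hc⟩ := (exists_orderOf_mul_iff ((Nat.coprime_primes hp hq).2 hne)).1 h
  have hcard : Nat.card (K.map (QuotientGroup.mk' H)) = H.relIndex K := card_map_mk' H K
  have hxH : x ∉ H := fun hxH => hp.one_lt.ne' (Nat.eq_one_of_dvd_coprimes h1.coprime
    (hx ▸ H.orderOf_dvd_natCard hxH) (h1.relIndex_ker ▸ hpB))
  have hxK : QuotientGroup.mk' H x ∈ K.map (QuotientGroup.mk' H) := by
    refine (Hall.mem_iff_of_normal h2.ker_hall h2.le_norm trivial).2 fun r hr hd => ?_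
    have := hd.trans (orderOf_map_dvd _ x)
    rw [hx, Nat.prime_dvd_prime_iff_eq hr hp] at this
    change r ∣ _
    rwa [this, hcard]
  have hyK : QuotientGroup.mk' H y ∈ K.map (QuotientGroup.mk' H) :=
    h2.cent1_ker hxK (fun e => hxH ((QuotientGroup.eq_one_iff x).1 e))
      ⟨trivial, mem_c1_iff_commute.2 (hc.symm.map _)⟩
  have hyH : y ∈ H := by
    refine (QuotientGroup.eq_one_iff y).1 (orderOf_eq_one_iff.1 ?_)
    have h3 := orderOf_map_dvd (QuotientGroup.mk' H) y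
    rw [hy] at h3
    refine ((Nat.dvd_prime hq).1 h3).resolve_right fun e => hqB ?_
    rw [← hcard, ← e]
    exact Subgroup.orderOf_dvd_natCard _ hyK
  have hxK' : x ∈ K := by
    have : x ∈ (K.map (QuotientGroup.mk' H)).comap (QuotientGroup.mk' H) := hxK
    rwa [Subgroup.comap_map_eq, QuotientGroup.ker_mk', sup_eq_left.2 h1.ker_le] at this
  exact hxH (h1.cent1_ker hyH (Grp.ne_one_of_orderOf_prime hq hy) ⟨hxK', mem_c1_iff_commute.2 hc⟩)

omit [Finite G] in
theorem index_map_mk [H.Normal] (h : H ≤ K) : (K.map (QuotientGroup.mk' H)).index = K.index := by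
  rw [← Subgroup.index_comap_of_surjective _ (QuotientGroup.mk'_surjective H), Subgroup.comap_map_eq,
    QuotientGroup.ker_mk', sup_eq_left.2 h]

/-- the structure of a 2-Frobenius group. -/
theorem two_frob_structure [H.Normal] [K.Normal] {C : Subgroup (G ⧸ H)} (h1 : Frob K H B)
    (h2 : Frob ⊤ (K.map (QuotientGroup.mk' H)) C) :
    Group.IsSolvable G ∧ Odd (H.relIndex K) ∧ (H.relIndex K).Coprime (Nat.card H * K.index) ∧ IsCyclic (G ⧸ K) ∧
      ∀ p q : ℕ, p.Prime → q.Prime → p ≠ q → p ∣ Nat.card G → q ∣ Nat.card G →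
        (p * q ∈ Spec G ↔ (p ∣ H.relIndex K ↔ q ∣ H.relIndex K)) := by
  obtain ⟨ho, hK, hC⟩ := frob_odd_cyclic (pqCyclic_map_mk h1) h2
  have hcard : Nat.card (K.map (QuotientGroup.mk' H)) = H.relIndex K := card_map_mk' H K
  have hHn : Group.IsNilpotent H := isNilpotent_of_fpf_subgroup h1.compl_ne h1.norm h1.reg
  have hCi : Nat.card C = K.index := by
    rw [← h2.relIndex_ker, Subgroup.relIndex_top_right, index_map_mk h1.ker_le]
  have hGK : IsCyclic (G ⧸ K) := by
    have := frob_top_normal h2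
    have e := (QuotientGroup.quotientQuotientEquivQuotient H K h1.ker_le).symm.trans
      (isComplement'_of_sdp_top h2.sdp).symm.QuotientMulEquiv
    exact (MulEquiv.isCyclic e).2 hC
  have hcyc : ∀ {X : Subgroup (G ⧸ H)}, IsCyclic X → ∀ p q : ℕ, p.Prime → q.Prime → p ≠ q → p ∣ Nat.card X →
      q ∣ Nat.card X → p * q ∈ Spec G := fun hX p q hp hq hne a b =>
    spec_quotient_subset H (mul_mem_spec_of_nil (nil_of_cyclic hX) hp hq hne a b)
  have hmix : ∀ p q : ℕ, p.Prime → q.Prime → p ≠ q → p ∣ Nat.card H → q ∣ K.index → ¬ p ∣ H.relIndex K →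
      ¬ q ∣ H.relIndex K → p * q ∈ Spec G := fun p q hp hq hne a b hpB hqB => by
    obtain ⟨r, hr, hrB⟩ := exists_prime_dvd_card_of_ne_bot h2.ker_ne
    rw [hcard] at hrB
    rcases three_primes_series H K h1.ker_le hp hr hq (fun e => hpB (e ▸ hrB)) hne (fun e => hqB (e ▸ hrB))
      a hrB b with h | h | h
    · exact absurd (mul_comm p r ▸ h) (two_frob_not_adj h1 h2 hr hp hrB hpB)
    · exact h
    · exact absurd h (two_frob_not_adj h1 h2 hr hq hrB hqB)
  refine ⟨?_, hcard ▸ ho, Nat.Coprime.mul_right ?_ ?_, hGK, fun p q hp hq hne hpG hqG => ⟨fun h => ?_, fun h => ?_⟩⟩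
  · have h3 := h2.sdp.sol (sol_of_abelian (abelian_of_cyclic hK)) (sol_of_abelian (abelian_of_cyclic hC))
    have h4 : Group.IsSolvable (G ⧸ H) :=
      Group.isSolvable_of_surjective (f := (⊤ : Subgroup (G ⧸ H)).subtype) fun g => ⟨⟨g, trivial⟩, rfl⟩
    have h5 := sol_of_nil hHn
    exact Group.isSolvable_of_ker_le_range H.subtype (QuotientGroup.mk' H) (by simp)
  · rw [h1.relIndex_ker]; exact h1.coprime.symm
  · rw [← hcard, ← hCi]; exact h2.coprime
  · refine ⟨fun a => ?_, fun a => ?_⟩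
    · by_contra b
      exact two_frob_not_adj h1 h2 hp hq a b h
    · by_contra b
      exact two_frob_not_adj h1 h2 hq hp a b (mul_comm p q ▸ h)
  · by_cases hpB : p ∣ H.relIndex K
    · exact hcyc hK p q hp hq hne (hcard ▸ hpB) (hcard ▸ h.1 hpB)
    have hqB : ¬ q ∣ H.relIndex K := fun a => hpB (h.2 a)
    have hd : ∀ r : ℕ, r.Prime → r ∣ Nat.card G → ¬ r ∣ H.relIndex K → r ∣ Nat.card H ∨ r ∣ K.index :=
      fun r hr a b => by
        rw [← K.card_mul_index, ← card_mul_relIndex h1.ker_le, hr.dvd_mul, hr.dvd_mul] at a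
        tauto
    rcases hd p hp hpG hpB with a | a <;> rcases hd q hq hqG hqB with b | b
    · exact mul_mem_spec_of_nil hHn hp hq hne a b
    · exact hmix p q hp hq hne a b hpB hqB
    · exact mul_comm q p ▸ hmix q p hq hp hne.symm b a hqB hpB
    · exact hcyc hC p q hp hq hne (hCi ▸ a) (hCi ▸ b)

/-- no non-trivial `π`-element commutes with a non-trivial `π'`-element. -/
def PiSep (π : Set ℕ) (G : Type*) [Group G] : Prop :=
  ∀ a b : ℕ, a.Prime → b.Prime → a ∈ π → b ∉ π → a * b ∉ Spec G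

theorem PiSep.quotient (h : PiSep π G) (H : Subgroup G) [H.Normal] : PiSep π (G ⧸ H) :=
  fun a b ha hb h1 h2 h3 => h a b ha hb h1 h2 (spec_quotient_subset H h3)

theorem PiSep.eq_one (h : PiSep π G) {x y : G} (hx : CL.Odd.IsPiElt π x) (hy : CL.Odd.IsPiElt πᶜ y)
    (hc : Commute x y) (hy1 : y ≠ 1) : x = 1 := by
  by_contra hx1
  obtain ⟨a, ha, h1, h2⟩ := hx.exists_prime hx1
  obtain ⟨b, hb, h3, h4⟩ := hy.exists_prime hy1
  exact h a b ha hb h2 h4 (mem_spec_of_dvd (mul_mem_spec_of_commute hc (hx.coprime hy)) (mul_dvd_mul h1 h3))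

omit [Finite G] in
theorem PiSep.compl (h : PiSep π G) : PiSep πᶜ G := fun a b ha hb h1 h2 h3 =>
  h b a hb ha (not_not.1 h2) h1 (mul_comm a b ▸ h3)

theorem PiSep.semiregular (h : PiSep π G) (hH : IsPiSubgroup π H) (hB : IsPiSubgroup πᶜ B) : Semiregular H B :=
  Semiregular.of_eq_one fun _ hx h1 _ hg e =>
    h.eq_one (CL.Odd.isPiElt_of_mem hH hg) (CL.Odd.isPiElt_of_mem hB hx) e h1

/-- the upper Frobenius section. -/
theorem PiSep.frobKer_core (h : PiSep π G) (hs : Group.IsSolvable G) (h0 : piCore π G = ⊥)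
    (hK : PQCyclic (piCore πᶜ G)) (hne : piCore πᶜ G ≠ ⊥) (hne' : piCore πᶜ G ≠ ⊤) : FrobKer ⊤ (piCore πᶜ G) := by
  have hs' : Group.IsSolvable (⊤ : Subgroup G) := inferInstance
  have hKp := piCore_isPiSubgroup πᶜ G
  obtain ⟨a, c, ha, haπ, hc⟩ : ∃ (a : ℕ) (c : G), a.Prime ∧ a ∈ π ∧ orderOf c = a := by
    by_contra hcon
    refine hne' (top_le_iff.1 (le_piCore fun a ha hd haπ => hcon ?_))
    have := Fact.mk ha
    obtain ⟨c, hc⟩ := exists_prime_orderOf_dvd_card' a hd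
    exact ⟨a, c, ha, haπ, by rw [Subgroup.orderOf_coe, hc]⟩
  obtain ⟨-, hcyc⟩ := odd_cyclic_of_pqCyclic_of_fpf hK (c := c) (hc ▸ ha) (le_norm_of_normal ⊤ _ trivial)
    ((h.semiregular (isPiElt_of_orderOf_eq ha hc haπ).zpowers hKp).symm c (Subgroup.mem_zpowers c)
      (Grp.ne_one_of_orderOf_prime ha hc))
  have hF : fittingSubgroup G ≤ piCore πᶜ G := by
    have := fittingSubgroup_le_piCore_sup_piCore (G := G) π
    rwa [h0, bot_sup_eq] at this
  have hder : ⁅(⊤ : Subgroup G), ⊤⁆ ≤ piCore πᶜ G :=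
    (der_le_cent_of_cyclic (le_norm_of_normal _ _) hcyc).trans ((cent_anti hF).trans
      ((centralizer_fittingSubgroup_le G).trans hF))
  obtain ⟨D, hD, hle⟩ := Hall.exists_ge hs' hKp le_top
  have hDn := normal_of_top_le (le_norm_of_der_le (hder.trans hle) le_top)
  have hH : IsPiHallOf πᶜ (piCore πᶜ G) ⊤ := (le_antisymm (le_piCore (Hall.pi hD)) hle) ▸ hD
  refine FrobKer.iff.2 ⟨hne, lt_top_iff_ne_top.2 hne', NormalIn.top_iff.2 inferInstance, fun x hx h1 y hy => ?_⟩
  have h3 := h.eq_one (isPiElt_constt π y) (CL.Odd.isPiElt_of_mem hKp hx)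
    (commute_constt (mem_c1_iff_commute.1 hy.2).symm).symm h1
  exact (constt_eq_one_iff.1 h3).mem_hall hH (le_norm_of_normal _ _) trivial

/-- Gruenberg-Kegel for solvable groups. -/
theorem PiSep.frob_or_two_frob (h : PiSep π G) (hs : Group.IsSolvable G) (h1 : piCore π G ≠ ⊥)
    (h2 : piCore π G ≠ ⊤) :
    (∃ B, Frob ⊤ (piCore π G) B) ∨ ∃ K B : Subgroup G, K.Normal ∧ Frob K (piCore π G) B ∧
      ∃ C, Frob ⊤ (K.map (QuotientGroup.mk' (piCore π G))) C := by
  have hsur := QuotientGroup.mk'_surjective (piCore π G)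
  have hHp := piCore_isPiSubgroup π G
  have hne : piCore πᶜ (G ⧸ piCore π G) ≠ ⊥ := fun e => by
    have h3 := fittingSubgroup_le_piCore_sup_piCore (G := G ⧸ piCore π G) π
    rw [e, piCore_quotient_piCore, bot_sup_eq, le_bot_iff] at h3
    have h4 := centralizer_fittingSubgroup_le (G ⧸ piCore π G)
    rw [h3, cent_bot] at h4
    refine h2 (top_le_iff.1 fun g _ => (QuotientGroup.eq_one_iff g).1 ?_)
    exact h4 trivial
  obtain ⟨K, hK⟩ : ∃ K, K = (piCore πᶜ (G ⧸ piCore π G)).comap (QuotientGroup.mk' (piCore π G)) := ⟨_, rfl⟩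
  have hKn : K.Normal := hK ▸ inferInstance
  have hmap : K.map (QuotientGroup.mk' (piCore π G)) = piCore πᶜ (G ⧸ piCore π G) :=
    hK ▸ Subgroup.map_comap_eq_self_of_surjective hsur _
  have hle : piCore π G ≤ K := hK ▸ QuotientGroup.le_comap_mk' _ _
  have hH : IsPiHallOf π (piCore π G) K := Hall.mk' hle hHp fun p hp hd => by
    rw [← card_map_mk', hmap] at hd
    exact piCore_isPiSubgroup πᶜ _ p hp hd
  obtain ⟨B, hB, hBh⟩ := exists_sdp_of_hall hH (le_norm_of_normal _ _)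
  have hF : Frob K (piCore π G) B := ⟨hB, h1, fun e => hne (by
    rw [← hmap, ← hB.right_eq_bot_iff.1 e, QuotientGroup.map_mk'_self]), h.semiregular hHp (Hall.pi hBh)⟩
  by_cases ht : piCore πᶜ (G ⧸ piCore π G) = ⊤
  · rw [ht, Subgroup.comap_top] at hK
    exact Or.inl ⟨B, hK ▸ hF⟩
  · refine Or.inr ⟨K, B, hKn, hF, ?_⟩
    have h3 := pqCyclic_map_mk hF
    rw [hmap] at h3 ⊢
    exact (h.quotient _).frobKer_core inferInstance (piCore_quotient_piCore π G) h3 hne ht

end CL.Fgs
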