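/-
Consequences of the odd order theorem, taken as the hypothesis `hFT` (helper94):
S4167, S4159, S3915, S4310.
-/
import Cfsg.Agent.Fgs.ClassBasic
import Cfsg.Agent.Grp.MinNormal
import Cfsg.Agent.Grp.Hall2
import Cfsg.Agent.Grp.SZConj
import Cfsg.Agent.Transfer.Control
import Cfsg.Agent.Loc.Components
import Cfsg.Agent.S0200

set_option autoImplicit false
open Cfsg Subgroup CL.Grp
open scoped Pointwise commutatorElement

namespace CL.Fgs

universe u

/-- a class closed under normal subgroups and quotients whose simple members are solvable consists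
of solvable groups -/
theorem isSolvable_of_closed {P : ∀ (X : Type u) [Group X] [Finite X], Prop}
    (hN : ∀ (X : Type u) [Group X] [Finite X] (N : Subgroup X) [N.Normal], P X → P N)
    (hQ : ∀ (X : Type u) [Group X] [Finite X] (N : Subgroup X) [N.Normal], P X → P (X ⧸ N))
    (hS : ∀ (X : Type u) [Group X] [Finite X] [IsSimpleGroup X], P X → Group.IsSolvable X)
    (G : Type u) [Group G] [Finite G] (h : P G) : Group.IsSolvable G := by
  revert h
  refine induction_on_card (P := fun X _ _ => P X → Group.IsSolvable X) ?_ G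
  intro X _ _ ih h
  rcases subsingleton_or_nontrivial X with hX | hX
  · infer_instance
  by_cases hs : ∀ N : Subgroup X, N.Normal → N = ⊥ ∨ N = ⊤
  · haveI : IsSimpleGroup X := ⟨hs⟩
    exact hS X h
  push Not at hs
  obtain ⟨N, hn, h1, h2⟩ := hs
  haveI := ih N (card_subgroup_lt h2) (hN X N h)
  haveI := ih (X ⧸ N) (card_quotient_lt h1) (hQ X N h)
  exact Group.isSolvable_of_ker_le_range N.subtype (QuotientGroup.mk' N) (by simp)

theorem isSolvable_of_isSimpleGroup_of_mem_center {G : Type*} [Group G] [IsSimpleGroup G] {t : G}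
    (h1 : t ≠ 1) (ht : t ∈ center G) : Group.IsSolvable G := by
  rcases IsSimpleGroup.eq_bot_or_eq_top_of_normal (center G) inferInstance with h | h
  · exact absurd (mem_bot.1 (h ▸ ht)) h1
  · exact Group.isSolvable_of_comm fun a b => mem_center_iff.1 (h ▸ mem_top b) a

section
variable (hFT : ∀ (X : Type u) [Group X] [Finite X], Odd (Nat.card X) → Group.IsSolvable X)
include hFT

theorem exists_involution_of_not_isSolvable {G : Type u} [Group G] [Finite G]
    (h : ¬ Group.IsSolvable G) : ∃ t : G, orderOf t = 2 :=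
  exists_prime_orderOf_dvd_card' 2 (by
    by_contra h2
    exact h (hFT G (Nat.odd_iff.2 (by omega))))

theorem s4167_of {G : Type u} [Group G] [Finite G] (h : ∀ x : G, ¬ 4 ∣ cs(x)) :
    Group.IsSolvable G := by
  refine isSolvable_of_closed (P := fun X _ _ => ∀ x : X, ¬ 4 ∣ cs(x))
    (fun X _ _ N _ hX x hx => hX _ (hx.trans (cs_coe_dvd x))) (fun X _ _ N _ hX x hx => ?_)
    (fun X _ _ _ hX => ?_) G h
  · obtain ⟨y, rfl⟩ := QuotientGroup.mk_surjective x
    exact hX _ (hx.trans (cs_mk_dvd N y))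
  by_contra hns
  obtain ⟨t, ht⟩ := exists_involution_of_not_isSolvable hFT hns
  have ht1 : t ≠ 1 := by rintro rfl; simp at ht
  have ht2 : t ^ 2 = 1 := ht ▸ pow_orderOf_eq_one t
  apply hns
  refine isSolvable_of_isSimpleGroup_of_mem_center ht1 (cent_eq_top_iff.1 ?_)
  refine eq_top_of_forall_exists_conj_mem fun x => ?_
  suffices H : ∃ g : X, g * t * g⁻¹ ∈ cent(x) by
    obtain ⟨g, hg⟩ := H
    refine ⟨g⁻¹, mem_cent.2 ?_⟩
    have := (mem_cent.1 hg).eq
    change g⁻¹ * x * g⁻¹⁻¹ * t = t * (g⁻¹ * x * g⁻¹⁻¹)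
    calc g⁻¹ * x * g⁻¹⁻¹ * t = g⁻¹ * (x * (g * t * g⁻¹)) * g := by group
      _ = g⁻¹ * (g * t * g⁻¹ * x) * g := by rw [this]
      _ = t * (g⁻¹ * x * g⁻¹⁻¹) := by group
  obtain ⟨T₀, hT₀⟩ := exists_isSylowIn 2 cent(x)
  obtain ⟨T, hT⟩ := hT₀.isPGroup.exists_le_sylow
  have hodd : Odd (T : Subgroup X).index := by
    have := T.not_dvd_index
    exact Nat.odd_iff.2 (by omega)
  have hi : T₀.relIndex T * (T : Subgroup X).index = T₀.relIndex cent(x) * cs(x) := by
    rw [relIndex_mul_index hT, relIndex_mul_index hT₀.le]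
  obtain ⟨k, hk⟩ : ∃ k, T₀.relIndex T = 2 ^ k := (T.isPGroup'.index (T₀.subgroupOf T))
  have hk2 : k < 2 := by
    by_contra hk2
    have h4 : 4 ∣ T₀.relIndex cent(x) * cs(x) := by
      rw [← hi, hk]
      exact Dvd.dvd.mul_right (pow_dvd_pow 2 (not_lt.1 hk2) : 2 ^ 2 ∣ 2 ^ k) _
    have hc : Nat.Coprime (2 ^ 2) (T₀.relIndex cent(x)) :=
      Nat.Coprime.pow_left 2 ((Nat.Prime.coprime_iff_not_dvd Nat.prime_two).2 hT₀.not_dvd)
    exact hX x (hc.dvd_of_dvd_mul_left h4)
  by_contra hno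
  push Not at hno
  have hk' : k = 0 ∨ k = 1 := by omega
  rcases hk' with rfl | rfl
  · have hle : (T : Subgroup X) ≤ T₀ := relIndex_eq_one.1 hk
    have hp : IsPGroup 2 (zpowers t) :=
      IsPGroup.of_card (n := 1) (by rw [Nat.card_zpowers, ht, pow_one])
    obtain ⟨g, hg⟩ := exists_conj_le_sylow T hp
    exact hno g (hT₀.le (hle (hg (conj_mem_conj_smul g (mem_zpowers t)))))
  · obtain ⟨N, hN, hNi, htN⟩ := CL.Transfer.thompson_transfer (T : Subgroup X) T₀ hodd hk t ht2
      fun g hg => hno g (hT₀.le hg)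
    rcases hN.eq_bot_or_eq_top with rfl | rfl
    · rw [index_bot] at hNi
      haveI : IsCyclic X := isCyclic_of_prime_card hNi
      exact hns (Group.isSolvable_of_comm fun a b => IsCyclic.commGroup.mul_comm a b)
    · exact htN (mem_top t)

end

theorem exists_odd_pow_two_element {G : Type*} [Group G] [Finite G] (s : G) :
    ∃ m k : ℕ, Odd m ∧ (s ^ m) ^ 2 ^ k = 1 := by
  obtain ⟨k, m, hm, e⟩ := Nat.exists_eq_two_pow_mul_odd (orderOf_pos s).ne'
  exact ⟨m, k, hm, by rw [← pow_mul, mul_comm, ← e, pow_orderOf_eq_one]⟩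

theorem odd_pow_inverts {G : Type*} [Group G] {s h : G} (e : s * h * s⁻¹ = h⁻¹) {m : ℕ}
    (hm : Odd m) : s ^ m * h * (s ^ m)⁻¹ = h⁻¹ := by
  obtain ⟨j, rfl⟩ := hm
  have e' : s * h⁻¹ * s⁻¹ = h := by
    rw [← inv_inj]
    calc (s * h⁻¹ * s⁻¹)⁻¹ = s * h * s⁻¹ := by group
      _ = h⁻¹ := e
  induction j with
  | zero => simpa using e
  | succ j ih =>
    calc s ^ (2 * (j + 1) + 1) * h * (s ^ (2 * (j + 1) + 1))⁻¹
        = s * (s * (s ^ (2 * j + 1) * h * (s ^ (2 * j + 1))⁻¹) * s⁻¹) * s⁻¹ := by group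
      _ = h⁻¹ := by rw [ih, e', e]

/-- nontrivial real elements of odd order lift from quotients -/
theorem exists_real_odd_of_surjective {G G' : Type*} [Group G] [Group G'] [Finite G] {f : G →* G'}
    (hf : Function.Surjective f) {s' h' : G'} (h1 : h' ≠ 1) (ho : Odd (orderOf h'))
    (e : s' * h' * s'⁻¹ = h'⁻¹) :
    ∃ s h : G, h ≠ 1 ∧ Odd (orderOf h) ∧ s * h * s⁻¹ = h⁻¹ := by
  classical
  haveI : Finite G' := Finite.of_surjective f hf
  obtain ⟨r, hr, hrd⟩ := Nat.exists_prime_and_dvd (mt orderOf_eq_one_iff.1 h1)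
  haveI := Fact.mk hr
  have hro : Odd r := Odd.of_dvd_nat ho hrd
  obtain ⟨y, hy, ey⟩ : ∃ y : G', orderOf y = r ∧ s' * y * s'⁻¹ = y⁻¹ :=
    ⟨h' ^ (orderOf h' / r), orderOf_pow_orderOf_div (orderOf_pos h').ne' hrd, by
      rw [← conj_pow, e, inv_pow]⟩
  let K := (zpowers y).comap f
  obtain ⟨R, hR⟩ := exists_isSylowIn r K
  obtain ⟨s₀, rfl⟩ := hf s'
  have hs₀ : s₀ ∈ normalizer (K : Set G) := by
    have key : ∀ a : G', a * y * a⁻¹ = y⁻¹ → ∀ w ∈ zpowers y, a * w * a⁻¹ ∈ zpowers y := by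
      rintro a ha _ ⟨i, rfl⟩
      simp only
      rw [← conj_zpow, ha]
      exact zpow_mem (inv_mem (mem_zpowers y)) i
    rw [mem_normalizer_iff]
    intro w
    simp only [K, mem_comap, map_mul, map_inv]
    refine ⟨key _ ey _, fun hw => ?_⟩
    have := key (f s₀)⁻¹ (by
      rw [inv_inv, ← inv_inj, inv_inv]
      calc ((f s₀)⁻¹ * y * f s₀)⁻¹ = (f s₀)⁻¹ * y⁻¹ * f s₀ := by group
        _ = y := by rw [← ey]; group) _ hw
    simpa [mul_assoc] using this
  obtain ⟨n, hn, hns⟩ := hR.frattini le_rfl hs₀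
  have e1 : f (n * s₀) * y * (f (n * s₀))⁻¹ = y⁻¹ := by
    obtain ⟨i, hi⟩ : f n ∈ zpowers y := hn
    simp only at hi
    calc f (n * s₀) * y * (f (n * s₀))⁻¹ = f n * (f s₀ * y * (f s₀)⁻¹) * (f n)⁻¹ := by
          rw [map_mul]; group
      _ = y⁻¹ := by rw [ey, ← hi]; group
  obtain ⟨m, k, hm, hk⟩ := exists_odd_pow_two_element (n * s₀)
  set s := (n * s₀) ^ m with hsdef
  have hsN : s ∈ normalizer (R : Set G) := pow_mem hns m
  have e2 : f s * y * (f s)⁻¹ = y⁻¹ := by rw [hsdef, map_pow]; exact odd_pow_inverts e1 hm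
  obtain ⟨h₀, hh₀, fh₀⟩ : ∃ h₀ ∈ R, f h₀ = y := by
    obtain ⟨a, ha⟩ := hf y
    have hi : f.ker.relIndex K = r ^ 1 := by
      rw [relIndex_ker, map_comap_eq_self_of_surjective hf, Nat.card_zpowers, hy, pow_one]
    obtain ⟨b, hb, c, hc, e3⟩ := hR.exists_mul_eq_of_relIndex_pow hi
      (show a ∈ K by simp [K, ha])
    refine ⟨c, hc, ?_⟩
    rw [← ha, e3, map_mul, MonoidHom.mem_ker.1 hb, one_mul]
  let α := {w : G // w ∈ R ∧ f w = y}
  haveI : Fintype α := Fintype.ofFinite α
  have hcard : ¬ 2 ∣ Fintype.card α := by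
    let E : α ≃ ↥(R ⊓ f.ker) :=
      { toFun := fun w => ⟨h₀⁻¹ * w, R.mul_mem (R.inv_mem hh₀) w.2.1, by
          simp [fh₀, w.2.2]⟩
        invFun := fun w => ⟨h₀ * w, R.mul_mem hh₀ w.2.1, by
          rw [map_mul, MonoidHom.mem_ker.1 w.2.2, fh₀, mul_one]⟩
        left_inv := fun w => by simp
        right_inv := fun w => by simp }
    rw [← Nat.card_eq_fintype_card, Nat.card_congr E]
    obtain ⟨j, hj⟩ := IsPGroup.iff_card.1 (hR.isPGroup.to_inf_left (K := f.ker))
    rw [hj]
    intro h2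
    have := Nat.prime_two.dvd_of_dvd_pow h2
    exact (Nat.not_even_iff_odd.2 hro) (even_iff_two_dvd.2 this)
  have hmem : ∀ w : G, w ∈ R ↔ s * w * s⁻¹ ∈ R := mem_normalizer_iff.1 hsN
  have e2' : f s * y⁻¹ * (f s)⁻¹ = y := by
    rw [← inv_inj]
    calc (f s * y⁻¹ * (f s)⁻¹)⁻¹ = f s * y * (f s)⁻¹ := by group
      _ = y⁻¹ := e2
  let φ : α → α := fun w => ⟨s * (w : G)⁻¹ * s⁻¹, (hmem _).1 (R.inv_mem w.2.1), by
    rw [map_mul, map_mul, map_inv, map_inv, w.2.2, e2']⟩
  have hφ : ∀ (j : ℕ) (w : α), ((φ^[2 * j] w : α) : G) = s ^ (2 * j) * w * (s ^ (2 * j))⁻¹ := by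
    intro j w
    induction j with
    | zero => simp
    | succ j ih =>
      rw [show 2 * (j + 1) = 2 * j + 1 + 1 by ring, Function.iterate_succ_apply',
        Function.iterate_succ_apply']
      simp only [φ]
      rw [ih]; group
  have hφinj : Function.Injective φ := by
    intro a b hab
    have := congrArg Subtype.val hab
    simp only [φ] at this
    exact Subtype.ext (by simpa using this)
  let σ : Equiv.Perm α := Equiv.ofBijective φ (Finite.injective_iff_bijective.1 hφinj)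
  have hσ : σ ^ 2 ^ (k + 1) = 1 := by
    ext w
    rw [Equiv.Perm.coe_pow, pow_succ', show (σ : α → α) = φ from rfl, hφ, mul_comm 2, pow_mul, hk]
    simp
  obtain ⟨w, hw⟩ := Equiv.Perm.exists_fixed_point_of_prime hcard hσ
  have hw' : s * (w : G)⁻¹ * s⁻¹ = w := congrArg Subtype.val hw
  refine ⟨s, w, ?_, ?_, ?_⟩
  · intro e0
    have := w.2.2
    rw [e0, map_one] at this
    rw [← this, orderOf_one] at hy
    exact hr.ne_one hy.symm
  · obtain ⟨j, hj⟩ := IsPGroup.iff_orderOf.1 hR.isPGroup ⟨w, w.2.1⟩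
    rw [← orderOf_coe] at hj
    rw [hj]; exact hro.pow
  · rw [← inv_inj, inv_inv]
    calc (s * w * s⁻¹)⁻¹ = s * (w : G)⁻¹ * s⁻¹ := by group
      _ = w := hw'

section
variable (hFT : ∀ (X : Type u) [Group X] [Finite X], Odd (Nat.card X) → Group.IsSolvable X)
include hFT

/-- a non-solvable group has a nontrivial real element of odd order -/
theorem exists_real_odd_of_not_isSolvable {G : Type u} [Group G] [Finite G]
    (hns : ¬ Group.IsSolvable G) : ∃ s h : G, h ≠ 1 ∧ Odd (orderOf h) ∧ s * h * s⁻¹ = h⁻¹ := by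
  by_contra hno
  refine hns (isSolvable_of_closed
    (P := fun X _ _ => ¬ ∃ s h : X, h ≠ 1 ∧ Odd (orderOf h) ∧ s * h * s⁻¹ = h⁻¹) ?_ ?_ ?_ G hno)
  · rintro X _ _ N _ hX ⟨s, h, h1, ho, e⟩
    exact hX ⟨s, h, fun e0 => h1 (Subtype.ext e0), by rwa [orderOf_coe], congrArg Subtype.val e⟩
  · rintro X _ _ N _ hX ⟨s, h, h1, ho, e⟩
    exact hX (exists_real_odd_of_surjective (QuotientGroup.mk'_surjective N) h1 ho e)
  · intro X _ _ _ hX
    by_contra hs
    obtain ⟨t, ht⟩ := exists_involution_of_not_isSolvable hFT hs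
    obtain ⟨h, hh⟩ := Cfsg.Agent.S0200.result t ht fun N hN hp htN => by
      rcases hN.eq_bot_or_eq_top with rfl | rfl
      · rw [mem_bot.1 htN] at ht; simp at ht
      · haveI := (hp.of_equiv topEquiv).isNilpotent
        exact hs inferInstance
    exact hX ⟨t, h, hh⟩

theorem s4159_of {G : Type u} [Group G] [Finite G]
    (hG : ∀ (H : Subgroup G) (x y : H), 1 < cs(x) → 1 < cs(y) → ¬ (cs(x)).Coprime cs(y)) :
    Group.IsSolvable G := by
  by_contra hns
  obtain ⟨s₀, h, h1, ho, e₀⟩ := exists_real_odd_of_not_isSolvable hFT hns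
  obtain ⟨m, k, hm, hk⟩ := exists_odd_pow_two_element s₀
  have e := odd_pow_inverts e₀ hm
  set s := s₀ ^ m
  have hnc : ¬ Commute s h := by
    intro hc
    rw [hc.eq, mul_inv_cancel_right, eq_inv_iff_mul_eq_one, ← pow_two] at e
    have hd := orderOf_dvd_of_pow_eq_one e
    rcases (Nat.dvd_prime Nat.prime_two).1 hd with h2 | h2
    · exact h1 (orderOf_eq_one_iff.1 h2)
    · rw [h2] at ho; exact absurd ho (by decide)
  have hsN : zpowers s ≤ normalizer (zpowers h : Set G) := by
    rw [zpowers_le, mem_normalizer_iff_map_conj_eq, MonoidHom.map_zpowers]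
    simp only [MonoidHom.coe_coe, MulAut.conj_apply, e, zpowers_inv]
  let H := zpowers s ⊔ zpowers h
  have hsH : s ∈ H := mem_sup_left (mem_zpowers s)
  have hhH : h ∈ H := mem_sup_right (mem_zpowers h)
  have hc : (Nat.card (zpowers h)).Coprime (Nat.card (zpowers s)) := by
    rw [Nat.card_zpowers, Nat.card_zpowers]
    exact ((Nat.coprime_two_right.2 ho).pow_right k).coprime_dvd_right
      (orderOf_dvd_of_pow_eq_one hk)
  have hH : Nat.card H = orderOf h * orderOf s := by
    rw [show H = zpowers h ⊔ zpowers s from sup_comm _ _, card_sup_of_coprime hsN hc,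
      Nat.card_zpowers, Nat.card_zpowers]
  have key : ∀ x : H, cs(x) * orderOf (x : G) ∣ Nat.card H := by
    intro x
    rw [← cs_mul_card_cent x, orderOf_coe, ← Nat.card_zpowers]
    exact Nat.mul_dvd_mul_left _ (card_dvd_of_le (zpowers_le_cent x))
  have d1 : cs((⟨s, hsH⟩ : H)) ∣ orderOf h := by
    have := key ⟨s, hsH⟩
    rw [hH] at this
    exact Nat.dvd_of_mul_dvd_mul_right (orderOf_pos s) this
  have d2 : cs((⟨h, hhH⟩ : H)) ∣ orderOf s := by
    have := key ⟨h, hhH⟩
    rw [hH, mul_comm (orderOf h)] at this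
    exact Nat.dvd_of_mul_dvd_mul_right (orderOf_pos h) this
  refine hG H ⟨s, hsH⟩ ⟨h, hhH⟩ (one_lt_cs fun hz => hnc ?_) (one_lt_cs fun hz => hnc ?_) ?_
  · exact (congrArg Subtype.val (mem_center_iff.1 hz ⟨h, hhH⟩)).symm
  · exact congrArg Subtype.val (mem_center_iff.1 hz ⟨s, hsH⟩)
  · rw [Nat.card_zpowers, Nat.card_zpowers] at hc
    exact (hc.coprime_dvd_left d1).coprime_dvd_right d2

theorem exists_two_element_not_mem_centralizer {G : Type u} [Group G] [Finite G] {K : Subgroup G}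
    (hK : IsQuasisimple K) :
    ∃ x ∈ K, (∃ a : ℕ, orderOf x = 2 ^ a) ∧ x ∉ centralizer (K : Set G) := by
  by_contra hno
  push Not at hno
  obtain ⟨P⟩ : Nonempty (Sylow 2 K) := inferInstance
  have hP : (P : Subgroup K) ≤ center K := by
    intro x hx
    obtain ⟨a, ha⟩ := IsPGroup.iff_orderOf.1 P.isPGroup' ⟨x, hx⟩
    have := hno x x.2 ⟨a, by rw [orderOf_coe, ← ha]; exact (orderOf_coe (⟨x, hx⟩ : P))⟩
    exact mem_center_iff.2 fun g => Subtype.ext (mem_centralizer_iff.1 this g g.2)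
  haveI : Group.IsSolvable (K ⧸ center K) := by
    refine hFT _ (Nat.odd_iff.2 ?_)
    have h2 : ¬ 2 ∣ (center K).index := fun h => P.not_dvd_index (h.trans (index_dvd_of_le hP))
    change (center K).index % 2 = 1
    omega
  haveI : Group.IsSolvable (center K) := Group.isSolvable_of_comm fun a b =>
    Subtype.ext (mem_center_iff.1 b.2 a)
  exact CL.Loc.IsQuasisimple.not_isSolvable hK
    (Group.isSolvable_of_ker_le_range (center K).subtype (QuotientGroup.mk' (center K)) (by simp))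

theorem s3915_of {G : Type u} [Group G] [Finite G]
    (hP : ∀ (p : ℕ), p.Prime → ∀ A B : Subgroup G, IsCyclic ↥A → IsCyclic ↥B → IsPGroup p ↥A →
      Nat.card ↥A = Nat.card ↥B → ∃ g : G, B = A.map (MulAut.conj g).toMonoidHom)
    (hE : Cfsg.layer G ≠ ⊥) :
    IsSimpleGroup (↥(Cfsg.layer G) ⧸ Subgroup.center ↥(Cfsg.layer G)) ∧
      ¬ IsMulCommutative (↥(Cfsg.layer G) ⧸ Subgroup.center ↥(Cfsg.layer G)) := by
  have key : ∀ K L : Subgroup G, IsComponent K → IsComponent L → K ≠ L → ∀ x ∈ K, ∀ y ∈ L,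
      x ∉ centralizer (K : Set G) → y ∉ centralizer (L : Set G) → ∀ a : ℕ, orderOf x = 2 ^ a →
      ¬ orderOf y ∣ orderOf x := by
    intro K L hK hL hne x hx y hy hxc hyc a ha hd
    have hKL := CL.Loc.IsComponent.commutator_eq_bot_of_ne hK hL hne
    have hxy : Commute x y := CL.Loc.commute_of_commutator_eq_bot hKL hx hy
    have ho : orderOf (x * y) ∣ orderOf x := by
      apply orderOf_dvd_of_pow_eq_one
      rw [hxy.mul_pow, pow_orderOf_eq_one, one_mul]
      exact orderOf_dvd_iff_pow_eq_one.1 hd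
    set w := x ^ (orderOf x / orderOf (x * y))
    have hw : orderOf w = orderOf (x * y) := orderOf_pow_orderOf_div (orderOf_pos x).ne' ho
    have hwK : w ∈ K := pow_mem hx _
    obtain ⟨b, -, hb⟩ := (Nat.dvd_prime_pow Nat.prime_two).1 (ha ▸ ho)
    obtain ⟨g, hg⟩ := hP 2 Nat.prime_two (zpowers w) (zpowers (x * y)) inferInstance inferInstance
      (IsPGroup.of_card (n := b) (by rw [Nat.card_zpowers, hw, hb]))
      (by rw [Nat.card_zpowers, Nat.card_zpowers, hw])
    obtain ⟨v, hv, ev⟩ : x * y ∈ (zpowers w).map (MulAut.conj g).toMonoidHom :=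
      hg ▸ mem_zpowers _
    have hvK : v ∈ K := zpowers_le.2 hwK hv
    have hxyK : x * y ∈ K.map (MulAut.conj g).toMonoidHom := ⟨v, hvK, ev⟩
    have hKg := CL.Loc.IsComponent.conj hK g
    by_cases e : K.map (MulAut.conj g).toMonoidHom = K
    · have h1 := CL.Loc.IsComponent.commutator_eq_bot_of_ne hKg hL (e.symm ▸ hne)
      refine hyc (mem_centralizer_iff.2 fun l hl => ?_)
      have c1 := (CL.Loc.commute_of_commutator_eq_bot h1 hxyK hl).eq
      have c2 := (CL.Loc.commute_of_commutator_eq_bot hKL hx hl).eq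
      calc l * y = x⁻¹ * ((x * l) * y) := by group
        _ = x⁻¹ * (l * (x * y)) := by rw [c2]; group
        _ = y * l := by rw [← c1]; group
    · have h1 := CL.Loc.IsComponent.commutator_eq_bot_of_ne hKg hK e
      refine hxc (mem_centralizer_iff.2 fun l hl => ?_)
      have c1 := (CL.Loc.commute_of_commutator_eq_bot h1 hxyK hl).eq
      have c2 := (CL.Loc.commute_of_commutator_eq_bot hKL hl hy).eq
      calc l * x = (l * (x * y)) * y⁻¹ := by group
        _ = x * (y * l) * y⁻¹ := by rw [← c1]; group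
        _ = x * l := by rw [← c2]; group
  obtain ⟨K, hK⟩ : ∃ K : Subgroup G, IsComponent K := by
    by_contra h
    push Not at h
    exact hE (CL.Loc.layer_eq_bot_iff.2 h)
  have huniq : ∀ L : Subgroup G, IsComponent L → L = K := by
    intro L hL
    by_contra hne
    obtain ⟨x, hx, ⟨a, ha⟩, hxc⟩ := exists_two_element_not_mem_centralizer hFT hK.2
    obtain ⟨y, hy, ⟨b, hb⟩, hyc⟩ := exists_two_element_not_mem_centralizer hFT hL.2
    rcases le_total a b with h | h
    · exact key L K hL hK hne y hy x hx hyc hxc b hb (by rw [ha, hb]; exact pow_dvd_pow 2 h)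
    · exact key K L hK hL (Ne.symm hne) x hx y hy hxc hyc a ha
        (by rw [ha, hb]; exact pow_dvd_pow 2 h)
  have hEK : layer G = K :=
    le_antisymm (CL.Loc.layer_le_iff.2 fun L hL => (huniq L hL).le) (CL.Loc.IsComponent.le_layer hK)
  have hq : IsQuasisimple (layer G) := hEK ▸ hK.2
  exact ⟨hq.2, CL.Loc.IsQuasisimple.not_isMulCommutative_quotient hq⟩

theorem isSolvable_or_of_coprime {A B : Type u} [Group A] [Group B] [Finite A] [Finite B]
    (h : (Nat.card A).Coprime (Nat.card B)) : Group.IsSolvable A ∨ Group.IsSolvable B := by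
  by_cases hA : Odd (Nat.card A)
  · exact Or.inl (hFT A hA)
  · refine Or.inr (hFT B ?_)
    by_contra hB
    rw [Nat.not_odd_iff_even, even_iff_two_dvd] at hA hB
    exact absurd (Nat.eq_one_of_dvd_coprimes h hA hB) (by decide)

omit hFT in
theorem hallD_of_forall_mem {π : Set ℕ} {X : Type u} [Group X]
    (h : ∀ p : ℕ, p.Prime → p ∣ Nat.card X → p ∈ π) : HallD π X :=
  ⟨⊤, ⟨fun p hp hd => h p hp (by rwa [card_top] at hd), fun p hp _ hd => by
    rw [index_top, Nat.dvd_one] at hd; exact hp.ne_one hd⟩, fun K _ => ⟨1, by simp⟩⟩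

/-- `π`-by-`π'`-by-`π` groups satisfy `D_π` -/
theorem hallD_of_three_steps {π : Set ℕ} {X : Type u} [Group X] [Finite X] (B A : Subgroup X)
    [B.Normal] [A.Normal] (hBA : B ≤ A) (hB : IsPiSubgroup π B)
    (hA : ∀ p : ℕ, p.Prime → p ∣ B.relIndex A → p ∉ π)
    (hX : ∀ p : ℕ, p.Prime → p ∣ A.index → p ∈ π) : HallD π X := by
  refine hallD_of_quotient_pi B hB ?_
  have hc : Nat.card (A.map (QuotientGroup.mk' B)) = B.relIndex A := by
    rw [← relIndex_ker, QuotientGroup.ker_mk']
  have hN : ∀ p : ℕ, p.Prime → p ∣ Nat.card (A.map (QuotientGroup.mk' B)) → p ∉ π := by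
    rw [hc]; exact hA
  refine hallD_of_quotient_pi' (A.map (QuotientGroup.mk' B)) hN (fun H K hH hK e => ?_)
    (hallD_of_forall_mem fun p hp hd => hX p hp ?_)
  · have cop : ∀ H : Subgroup (X ⧸ B), IsPiSubgroup π H →
        (Nat.card (A.map (QuotientGroup.mk' B))).Coprime (Nat.card H) := fun H hH =>
      Nat.coprime_of_dvd fun p hp h1 h2 => hN p hp h1 (hH p hp h2)
    obtain ⟨n, -, hn⟩ := schurZassenhaus_conj_of_sup_eq (N := A.map (QuotientGroup.mk' B))
      (H := H) (K := K) le_normalizer_of_normal (cop H hH) (cop K hK)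
      (by rw [sup_comm, e, sup_comm]) (isSolvable_or_of_coprime hFT (cop H hH))
    exact ⟨n, hn⟩
  · change p ∣ (A.map (QuotientGroup.mk' B)).index at hd
    rwa [index_map_eq _ (QuotientGroup.mk'_surjective B) (by simpa using hBA)] at hd

theorem s4310_of {G : Type u} [Group G] [Finite G] (π : Set ℕ) (A : Subgroup G) [A.Normal]
    (hA : Cfsg.IsCPiGroup π ↥A) (hQ : Cfsg.IsCPiGroup π (G ⧸ A)) : Cfsg.IsCPiGroup π G := by
  -- conjugacy of Hall subgroups of `A` in ambient form
  have hAc : ∀ B B' : Subgroup G, B ≤ A → B' ≤ A → IsPiHall π (B.subgroupOf A) →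
      IsPiHall π (B'.subgroupOf A) → ∃ a ∈ A, MulAut.conj a • B = B' := by
    intro B B' h1 h2 h3 h4
    obtain ⟨a, ha⟩ := hA.2 _ _ h3 h4
    exact ⟨a, a.2, conj_smul_eq_of_subgroupOf h1 h2 a (by rw [ha, hall_conj_eq_map])⟩
  -- the local group `L = K ⊓ N(B)`
  have main : ∀ (B : Subgroup G) (K : Subgroup (G ⧸ A)), B ≤ A → IsPiHall π (B.subgroupOf A) →
      IsPiHall π K → HallD π ↥(K.comap (QuotientGroup.mk' A) ⊓ normalizer (B : Set G)) ∧
        ∀ p : ℕ, p.Prime → p ∈ π →
          ¬ p ∣ (K.comap (QuotientGroup.mk' A) ⊓ normalizer (B : Set G)).index := by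
    intro B K hBA hB hK
    set K' := K.comap (QuotientGroup.mk' A) with hK'
    have hAK : A ≤ K' := fun a ha => by
      simp only [hK', mem_comap, QuotientGroup.mk'_apply, (QuotientGroup.eq_one_iff a).2 ha]
      exact K.one_mem
    set L := K' ⊓ normalizer (B : Set G) with hL
    have hBL : B ≤ L := le_inf (hBA.trans hAK) le_normalizer
    have hBi : ∀ p : ℕ, p.Prime → p ∈ π → ¬ p ∣ B.relIndex A := hB.2
    constructor
    · haveI : (B.subgroupOf L).Normal := (normal_subgroupOf_iff_le_normalizer hBL).2 inf_le_right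
      refine hallD_of_three_steps hFT (B.subgroupOf L) (A.subgroupOf L)
        (subgroupOf_mono L hBA) (fun p hp hd => hB.1 p hp ?_) (fun p hp hd hπ => hBi p hp hπ ?_)
        (fun p hp hd => hK.1 p hp ?_)
      · rwa [hall_card_subgroupOf hBL, ← hall_card_subgroupOf hBA] at hd
      · have e1 : (B.subgroupOf L).relIndex (A.subgroupOf L) = B.relIndex (A ⊓ L) := by
          rw [← inf_subgroupOf_right A L, relIndex_subgroupOf inf_le_right]
        rw [e1] at hd
        exact hd.trans (Dvd.intro _ (relIndex_mul_relIndex _ _ _ (le_inf hBA hBL) inf_le_left))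
      · change p ∣ A.relIndex L at hd
        rw [← QuotientGroup.ker_mk' A, relIndex_ker] at hd
        exact hd.trans (card_dvd_of_le (map_le_iff_le_comap.2 inf_le_left))
    · intro p hp hπ hd
      have hsup : L ⊔ A = K' := by
        refine le_antisymm (sup_le inf_le_left hAK) fun k hk => ?_
        have hBk : IsPiHall π ((MulAut.conj k • B).subgroupOf A) := by
          refine isPiHall_of_card_eq hB ?_
          rw [hall_card_subgroupOf hBA, hall_card_subgroupOf, hall_card_conj]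
          exact (conj_smul_le_iff _ _ _).2 fun x hx => ‹A.Normal›.conj_mem x (hBA hx) k
        obtain ⟨a, ha, e⟩ := hAc _ B ((conj_smul_le_iff _ _ _).2
          fun x hx => ‹A.Normal›.conj_mem x (hBA hx) k) hBA hBk hB
        rw [conj_smul_conj_smul, conj_smul_eq_self_iff] at e
        have : k = a⁻¹ * (a * k) := by group
        rw [this]
        exact mul_mem (mem_sup_right (A.inv_mem ha)) (mem_sup_left ⟨K'.mul_mem (hAK ha) hk, e⟩)
      have e3 : L.relIndex K' = L.relIndex A := by rw [← relIndex_sup_normal_left L A, hsup]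
      have e4 : L.relIndex K' * K'.index = L.index := relIndex_mul_index inf_le_left
      rw [← e4, e3, hp.dvd_mul] at hd
      rcases hd with hd | hd
      · apply hBi p hp hπ
        rw [← inf_relIndex_right] at hd
        exact hd.trans (Dvd.intro_left _
          (relIndex_mul_relIndex _ _ _ (le_inf hBL hBA) inf_le_right))
      · rw [hK', index_comap_of_surjective _ (QuotientGroup.mk'_surjective A)] at hd
        exact hK.2 p hp hπ hd
  refine ⟨?_, fun H H' hH hH' => ?_⟩
  · obtain ⟨B, hB⟩ := hA.1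
    obtain ⟨K, hK⟩ := hQ.1
    obtain ⟨⟨H, hH, -⟩, hi⟩ := main (B.map A.subtype) K (map_subtype_le B)
      (by rwa [subgroupOf, comap_map_eq_self_of_injective A.subtype_injective]) hK
    refine ⟨H.map (Subgroup.subtype _), fun p hp hd => hH.1 p hp ?_, fun p hp hπ hd => ?_⟩
    · rwa [hall_card_map_subtype] at hd
    · rw [index_map_subtype, hp.dvd_mul] at hd
      exact hd.elim (hH.2 p hp hπ) (hi p hp hπ)
  · obtain ⟨q, hq⟩ := hQ.2 _ _ (isPiHall_map hH (QuotientGroup.mk'_surjective A))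
      (isPiHall_map hH' (QuotientGroup.mk'_surjective A))
    obtain ⟨g, rfl⟩ := QuotientGroup.mk'_surjective A q
    rw [← hall_conj_eq_map, ← hall_map_conj] at hq
    have h1 := isPiHall_conj hH g
    obtain ⟨a, ha, e⟩ := hAc (MulAut.conj g • H ⊓ A) (H' ⊓ A) inf_le_right inf_le_right
      (by rw [inf_subgroupOf_right]; exact isPiHall_subgroupOf_normal h1 A)
      (by rw [inf_subgroupOf_right]; exact isPiHall_subgroupOf_normal hH' A)
    have h2 := isPiHall_conj h1 a
    have eA : MulAut.conj a • A = A := (conj_smul_eq_self_iff _ _).2 (le_normalizer ha)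
    rw [smul_inf, eA] at e
    set H₂ := MulAut.conj a • MulAut.conj g • H with hH₂
    obtain ⟨hD, -⟩ := main (H' ⊓ A) (H'.map (QuotientGroup.mk' A)) inf_le_right
      (by rw [inf_subgroupOf_right]; exact isPiHall_subgroupOf_normal hH' A)
      (isPiHall_map hH' (QuotientGroup.mk'_surjective A))
    have l1 : H' ≤ (H'.map (QuotientGroup.mk' A)).comap (QuotientGroup.mk' A) ⊓
        normalizer ((H' ⊓ A : Subgroup G) : Set G) :=
      le_inf (le_comap_map _ _) (le_normalizer_inf le_normalizer le_normalizer_of_normal)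
    have l2 : H₂ ≤ (H'.map (QuotientGroup.mk' A)).comap (QuotientGroup.mk' A) ⊓
        normalizer ((H' ⊓ A : Subgroup G) : Set G) := by
      refine le_inf ?_ ?_
      · rw [← map_le_iff_le_comap, hH₂, hall_map_conj, ← hq,
          show QuotientGroup.mk' A a = 1 from (QuotientGroup.eq_one_iff a).2 ha]
        simp
      · rw [← e]; exact le_normalizer_inf le_normalizer le_normalizer_of_normal
    obtain ⟨c, hc⟩ := hD.conj (isPiHall_subgroupOf_of_le h2 l2) (isPiHall_subgroupOf_of_le hH' l1)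
    have := conj_smul_eq_of_subgroupOf l2 l1 c hc
    rw [hH₂, conj_smul_conj_smul, conj_smul_conj_smul] at this
    exact ⟨_, by rw [← this, hall_conj_eq_map]⟩

end

end CL.Fgs
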