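/-
Groups in which abelian `p`-subgroups of equal order are conjugate: first consequences for Sylow subgroups.
-/
import Cfsg.Agent.Grp.PGroupCyc
import Cfsg.Agent.Grp.PNilp
import Cfsg.Agent.Grp.NilpSub

set_option autoImplicit false

open Subgroup Cfsg
open scoped commutatorElement

namespace CL.Fgs

variable {G : Type*} [Group G]

/-- Abelian `p`-subgroups of equal order are conjugate. -/
def AbPConj (p : ℕ) (G : Type*) [Group G] : Prop :=
  ∀ A B : Subgroup G, IsMulCommutative A → IsMulCommutative B → IsPGroup p A → IsPGroup p B →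
    Nat.card A = Nat.card B → ∃ g : G, B = A.map (MulAut.conj g).toMonoidHom

theorem exists_pow_orderOf_eq_sq {p : ℕ} (hp : p.Prime) {x : G} {k : ℕ} (hx : orderOf x = p ^ k)
    (h1 : x ^ p ≠ 1) : ∃ j : ℕ, orderOf (x ^ j) = p ^ 2 := by
  have hk : 2 ≤ k := by
    by_contra h
    apply h1
    apply orderOf_dvd_iff_pow_eq_one.1
    rw [hx]
    interval_cases k <;> simp_all
  refine ⟨p ^ (k - 2), ?_⟩
  rw [CL.Grp.orderOf_pow_prime_pow hp.ne_zero hx (Nat.sub_le _ _)]
  congr 1; omega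

theorem mem_map_conj_iff {A : Subgroup G} {g x : G} :
    x ∈ A.map (MulAut.conj g).toMonoidHom ↔ g⁻¹ * x * g ∈ A := by
  constructor
  · rintro ⟨y, hy, rfl⟩
    simpa [mul_assoc] using hy
  · intro h
    exact ⟨_, h, by simp [mul_assoc]⟩

theorem exists_conj_mem_of_orderOf_eq [Finite G] {p : ℕ} (h : AbPConj p G) {x y : G} {k : ℕ}
    (hx : orderOf x = p ^ k) (hy : orderOf y = p ^ k) : ∃ g : G, g⁻¹ * x * g ∈ zpowers y := by
  obtain ⟨g, hg⟩ := h (zpowers y) (zpowers x) inferInstance inferInstance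
    (IsPGroup.of_card (by rw [Nat.card_zpowers, hy])) (IsPGroup.of_card (by rw [Nat.card_zpowers, hx]))
    (by rw [Nat.card_zpowers, Nat.card_zpowers, hx, hy])
  exact ⟨g, mem_map_conj_iff.1 (hg ▸ mem_zpowers x)⟩

/-- If there is an elementary abelian subgroup of order `p ^ 2`, all `p`-elements have order dividing `p`. -/
theorem AbPConj.pow_eq_one [Finite G] {p : ℕ} (hp : p.Prime) (h : AbPConj p G) {E : Subgroup G}
    (hE : IsElementaryAbelian p E) (hc : Nat.card E = p ^ 2) {x : G} {k : ℕ} (hx : orderOf x = p ^ k) :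
    x ^ p = 1 := by
  by_contra h1
  obtain ⟨j, hj⟩ := exists_pow_orderOf_eq_sq hp hx h1
  obtain ⟨g, hg⟩ := h E (zpowers (x ^ j)) hE.1 inferInstance (IsPGroup.of_card hc)
    (IsPGroup.of_card (by rw [Nat.card_zpowers, hj])) (by rw [Nat.card_zpowers, hj, hc])
  have h2 := hE.2 _ (mem_map_conj_iff.1 (hg ▸ mem_zpowers (x ^ j)))
  have h3 : (x ^ j) ^ p = 1 := by
    have : (g⁻¹ * x ^ j * g) ^ p = g⁻¹ * (x ^ j) ^ p * g := by
      simpa using conj_pow (a := g⁻¹) (b := x ^ j) (i := p)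
    rw [this] at h2
    have h4 : (x ^ j) ^ p = g * (g⁻¹ * (x ^ j) ^ p * g) * g⁻¹ := by group
    rw [h4, h2]; simp
  have := Nat.le_of_dvd hp.pos (hj ▸ orderOf_dvd_of_pow_eq_one h3)
  have := hp.two_le
  nlinarith

theorem isElementaryAbelian_map_subtype {p : ℕ} {P : Subgroup G} {E : Subgroup P}
    (hE : IsElementaryAbelian p E) : IsElementaryAbelian p (E.map P.subtype) := by
  haveI := hE.1
  refine ⟨inferInstance, ?_⟩
  rintro _ ⟨y, hy, rfl⟩
  rw [← map_pow, hE.2 y hy, map_one]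

/-- A `p`-subgroup is cyclic, generalized quaternion or of exponent `p`. -/
theorem AbPConj.cases [Finite G] {p : ℕ} [hp : Fact p.Prime] (h : AbPConj p G) {P : Subgroup G}
    (hP : IsPGroup p P) :
    IsCyclic P ∨ (p = 2 ∧ ∃ (n : ℕ) (a b : P), CL.Grp.DQSGen n a b ∧ b ^ 2 = a ^ 2 ^ (n - 1) ∧
      b * a * b⁻¹ = a⁻¹) ∨ ∀ x ∈ P, x ^ p = 1 := by
  by_cases hE : ∀ E : Subgroup P, IsElementaryAbelian p E → Nat.card E ≠ p ^ 2
  · rcases CL.Grp.isCyclic_or_quaternion_of_forall_ea hP hE with h1 | h1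
    · exact Or.inl h1
    · exact Or.inr (Or.inl h1)
  · push Not at hE
    obtain ⟨E, hE, hc⟩ := hE
    refine Or.inr (Or.inr fun x hx => ?_)
    obtain ⟨k, hk⟩ := (IsPGroup.iff_orderOf.1 hP) ⟨x, hx⟩
    refine h.pow_eq_one hp.out (isElementaryAbelian_map_subtype hE) ?_ (k := k) ?_
    · rw [card_map_of_injective P.subtype_injective, hc]
    · rw [← hk, Subgroup.orderOf_mk]

theorem isMulCommutative_of_sq_eq_one {P : Subgroup G} (h : ∀ x ∈ P, x ^ 2 = 1) : IsMulCommutative P := by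
  refine ⟨⟨fun a b => Subtype.ext ?_⟩⟩
  have h1 : ∀ x ∈ P, x⁻¹ = x := fun x hx => by
    rw [inv_eq_iff_mul_eq_one, ← sq, h x hx]
  have := h1 _ (P.mul_mem a.2 b.2)
  rw [mul_inv_rev, h1 _ a.2, h1 _ b.2] at this
  exact this.symm

/-- In a finite nilpotent group every element is a product of an element of a Sylow `p`-subgroup and an element
centralizing it. -/
theorem exists_sylow_mul_centralizer [Finite G] [hG : Group.IsNilpotent G] {p : ℕ} [hp : Fact p.Prime]
    (P : Sylow p G) (g : G) :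
    ∃ y ∈ (P : Subgroup G), ∃ c ∈ centralizer ((P : Subgroup G) : Set G), (orderOf c).Coprime p ∧ g = y * c := by
  obtain ⟨a, -, b, -, ⟨k, hk⟩, hb, rfl, -⟩ := CL.Grp.exists_pPart_mul_pPrimePart hp.out g
  haveI : (P : Subgroup G).Normal := inferInstance
  have ha : a ∈ (P : Subgroup G) := by
    have h1 : IsPGroup p (zpowers a) := IsPGroup.of_card (by rw [Nat.card_zpowers, hk])
    obtain ⟨Q, hQ⟩ := h1.exists_le_sylow
    haveI := Sylow.unique_of_normal P this
    rw [Subsingleton.elim P Q]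
    exact hQ (mem_zpowers a)
  refine ⟨a, ha, b, fun y hy => ?_, hb, rfl⟩
  have hT : Group.IsNilpotent (⊤ : Subgroup G) := inferInstance
  exact CL.Grp.commute_of_mem_isNilpotent hT (mem_top y) (mem_top b)
    (CL.Grp.orderOf_coprime_of_mem_isPGroup P.2 hy hb.symm)

end CL.Fgs
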