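/-
Subgroups of order `p ^ 3` of `p`-groups; Sylow subgroups when `p`-subgroups of equal order are conjugate.
-/
import Cfsg.Agent.Fgs.EqConj
import Cfsg.Agent.Grp.PGroupSCN
import Cfsg.Agent.Grp.PGroupMaxClass
import Cfsg.Agent.Grp.Cores

set_option autoImplicit false

open Subgroup Cfsg CL.Grp
open scoped commutatorElement

namespace CL.Fgs

variable {G : Type*} [Group G] [Finite G] {p : ℕ} [hp : Fact p.Prime]

theorem exists_nonabelian_card_cube (hG : IsPGroup p G) (hna : ¬ IsMulCommutative G) (he : ∀ x : G, x ^ p = 1) :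
    ∃ H : Subgroup G, ¬ IsMulCommutative H ∧ Nat.card H = p ^ 3 := by
  obtain ⟨x, -, hx, -, hxc⟩ := exists_central_mod_of_not_le hG (N := center G) (M := ⊤)
    fun h => hna ⟨⟨fun a b => mem_center_iff.1 (h (mem_top b)) a⟩⟩
  obtain ⟨y, hy⟩ := not_forall.1 (mt mem_center_iff.2 hx)
  have hc : zpowers ⁅x, y⁆ ≤ center G := zpowers_le_of_mem (hxc y)
  haveI : (zpowers ⁅x, y⁆).Normal := normal_of_commutator_mem fun a ha g => by
    rw [commutatorElement_eq_one_iff_mul_comm.2 (mem_center_iff.1 (hc ha) g).symm]; exact one_mem _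
  have hd : ∀ a : G, Nat.card (zpowers a) ∣ p := fun a => Nat.card_zpowers a ▸ orderOf_dvd_of_pow_eq_one (he a)
  have h1 : zpowers y ≤ normalizer ((zpowers x ⊔ zpowers ⁅x, y⁆ : Subgroup G) : Set G) := by
    refine le_normalizer_iff_commutator_le_left.2 ((commutator_sup_left_le ?_ (commutator_le_left _ _)).trans le_sup_right)
    rw [zpowers_eq_closure x, zpowers_eq_closure y, commutator_closure_le_iff]
    rintro _ rfl _ rfl
    exact mem_zpowers _
  have h2 := (card_sup_dvd h1).trans (mul_dvd_mul (hd y)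
    ((card_sup_dvd_of_normal _ _).trans (mul_dvd_mul (hd x) (hd _))))
  have h3 : ¬ IsMulCommutative ↥(zpowers y ⊔ (zpowers x ⊔ zpowers ⁅x, y⁆)) := fun h =>
    hy (setLike_mul_comm (s := zpowers y ⊔ (zpowers x ⊔ zpowers ⁅x, y⁆)) (mem_sup_left (mem_zpowers y)) (mem_sup_right (mem_sup_left (mem_zpowers x))))
  refine ⟨_, h3, ?_⟩
  rw [← sq, ← pow_succ'] at h2
  obtain ⟨k, hk, hk'⟩ := (Nat.dvd_prime_pow hp.out).1 h2
  by_cases h : k = 3
  · rw [hk', h]
  · exact (h3 (isMulCommutative_of_card_dvd_prime_sq (p := p) (hk' ▸ pow_dvd_pow p (by omega)))).elim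

theorem exists_abelian_card_cube (hG : IsPGroup p G) (h4 : p ^ 4 ≤ Nat.card G) :
    ∃ A : Subgroup G, A.Normal ∧ IsMulCommutative A ∧ Nat.card A = p ^ 3 := by
  have hpos := hp.out.pos
  obtain ⟨N, hNn, -, hN⟩ := exists_normal_card_eq_pow_le hG ⊤ (b := 2)
    (card_top (G := G) ▸ (Nat.pow_le_pow_right hpos (by omega)).trans h4)
  have hA : IsMulCommutative N := isMulCommutative_of_card_dvd_prime_sq (p := p) hN.dvd
  have h1 := index_centralizer_le_pow_choose hG N hN
  have h2 : p ^ 3 ≤ Nat.card (centralizer (N : Set G)) := by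
    rw [← (centralizer (N : Set G)).index_mul_card] at h4
    refine Nat.le_of_mul_le_mul_left (?_ : p * _ ≤ _) hpos
    rw [← pow_succ']
    exact h4.trans (Nat.mul_le_mul_right _ (by simpa using h1))
  obtain ⟨K, hKn, hNK, hKC, hK⟩ := exists_normal_card_eq_pow_between hG (le_centralizer N) (b := 3)
    (hN ▸ Nat.pow_le_pow_right hpos (by omega)) h2
  have hi : N.relIndex K = p := by
    have := card_eq_relIndex_mul_card hNK
    rw [hK, hN, pow_succ'] at this
    exact (Nat.eq_of_mul_eq_mul_right (pow_pos hpos _) this).symm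
  obtain ⟨x, hxK, hxN⟩ := SetLike.not_le_iff_exists.1 fun h : K ≤ N => hp.out.one_lt.ne' (hi ▸ relIndex_eq_one.2 h)
  have hs : N ⊔ zpowers x = K :=
    (eq_or_eq_of_relIndex_prime le_sup_left (sup_le hNK (zpowers_le_of_mem hxK)) (hi ▸ hp.out)).resolve_left
      fun e => hxN (e ▸ mem_sup_right (mem_zpowers x))
  exact ⟨K, hKn, hs ▸ isMulCommutative_sup hA inferInstance (le_centralizer_iff.1 (zpowers_le_of_mem (hKC hxK))), hK⟩

/-- `p`-subgroups of equal order are conjugate. -/
def PConj (p : ℕ) (G : Type*) [Group G] : Prop :=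
  ∀ H K : Subgroup G, IsPGroup p H → IsPGroup p K → Nat.card H = Nat.card K →
    ∃ g : G, K = H.map (MulAut.conj g).toMonoidHom

omit [Finite G] hp in
theorem PConj.ab (h : PConj p G) : AbPConj p G := fun A B _ _ => h A B

omit [Finite G] hp in
theorem PConj.isMulCommutative (h : PConj p G) {P : Subgroup G} (hP : IsPGroup p P) {A B : Subgroup P}
    (hA : IsMulCommutative A) (hc : Nat.card A = Nat.card B) : IsMulCommutative B := by
  obtain ⟨g, hg⟩ := h (A.map P.subtype) (B.map P.subtype) ((hP.to_subgroup A).map _) ((hP.to_subgroup B).map _)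
    (by rw [card_map_of_injective P.subtype_injective, card_map_of_injective P.subtype_injective, hc])
  haveI : IsMulCommutative (B.map P.subtype) := hg ▸ inferInstance
  exact ⟨⟨fun a b => Subtype.ext (Subtype.ext
    (setLike_mul_comm (s := B.map P.subtype) (mem_map_of_mem _ a.2) (mem_map_of_mem _ b.2)))⟩⟩

theorem PConj.cases (h : PConj p G) {P : Subgroup G} (hP : IsPGroup p P) :
    IsCyclic P ∨ IsElementaryAbelian p P ∨ (p = 2 ∧ Nonempty (P ≃* QuaternionGroup 2)) ∨
      (p ≠ 2 ∧ ¬ IsMulCommutative P ∧ Nat.card P = p ^ 3 ∧ Monoid.exponent P = p) := by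
  rcases h.ab.cases hP with h1 | ⟨rfl, n, a, b, h1, h2, h3⟩ | h1
  · exact Or.inl h1
  · by_cases hn : n = 2
    · subst hn
      exact Or.inr (Or.inr (Or.inl ⟨rfl, h1.nonempty_quaternion h2 h3⟩))
    exfalso
    have hn2 := h1.two_le
    haveI := h1.normal
    haveI := normal_zpowers_of_mem (pow_mem (mem_zpowers a) (2 ^ (n - 2)))
    have h4 : Nat.card ↥(zpowers (a ^ 2 ^ (n - 2)) ⊔ zpowers b) = 2 ^ 3 := by
      rw [card_sup_zpowers_eq_prime_mul (p := 2) _
        (fun hb => h1.notMem (zpowers_le_of_mem (pow_mem (mem_zpowers a) _) hb)), Nat.card_zpowers,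
        h1.orderOf_pow_two_pow (by omega), show n - (n - 2) = 2 by omega]
      · rfl
      rw [h2, show n - 1 = n - 2 + 1 by omega, pow_succ, pow_mul]
      exact pow_mem (mem_zpowers _) 2
    haveI := h.isMulCommutative hP (A := zpowers (a ^ 2 ^ (n - 3))) inferInstance (by
      rw [h4, Nat.card_zpowers, h1.orderOf_pow_two_pow (by omega), show n - (n - 3) = 3 by omega])
    have h5 : Commute (a ^ ((2 ^ (n - 2) : ℕ) : ℤ)) b := zpow_natCast a _ ▸
      setLike_mul_comm (s := zpowers (a ^ 2 ^ (n - 2)) ⊔ zpowers b) (mem_sup_left (mem_zpowers _))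
        (mem_sup_right (mem_zpowers b))
    have h6 := (h1.zpow_commute_iff _).1 h5
    have h7 : 2 ^ (n - 1) ∣ 2 ^ (n - 2) := by exact_mod_cast h6
    have := (Nat.pow_dvd_pow_iff_le_right one_lt_two).1 h7
    omega
  · by_cases hc : IsMulCommutative P
    · exact Or.inr (Or.inl ⟨hc, h1⟩)
    have he : ∀ x : P, x ^ p = 1 := fun x => Subtype.ext (h1 x x.2)
    obtain ⟨H, hH, hH3⟩ := exists_nonabelian_card_cube hP hc he
    refine Or.inr (Or.inr (Or.inr ⟨?_, hc, ?_, ?_⟩))
    · rintro rfl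
      exact hc (isMulCommutative_of_sq_eq_one h1)
    · obtain ⟨m, hm⟩ := IsPGroup.iff_card.1 hP
      have h2 := (Nat.pow_le_pow_iff_right hp.out.one_lt).1 (hm ▸ hH3 ▸ card_le_card_group H)
      by_contra h3
      obtain ⟨A, -, hA, hA3⟩ := exists_abelian_card_cube hP (hm ▸ Nat.pow_le_pow_right hp.out.pos
        (lt_of_le_of_ne h2 fun e => h3 (by rw [hm, e])))
      exact hH (h.isMulCommutative hP hA (hA3.trans hH3.symm))
    · haveI : Nontrivial P := not_subsingleton_iff_nontrivial.1 fun _ => hc ⟨⟨fun a b => Subsingleton.elim _ _⟩⟩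
      exact (Monoid.exponent_eq_prime_iff hp.out).2 fun g hg => orderOf_eq_prime (he g) hg

end CL.Fgs
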