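/-
Groups in which all subgroups of order `p` are conjugate and the Sylow `p`-subgroup has exponent `p`.
-/
import Cfsg.Agent.Fgs.EqConj2
import Cfsg.Agent.Grp.ZJ2
import Cfsg.Agent.Loc.QuadStab2
import Cfsg.Agent.Loc.PSolv
import Cfsg.Agent.Loc.Thompson1
import Cfsg.Agent.C2Low.Basic
import Cfsg.Agent.Inv.ZStar
import Cfsg.Agent.Even.Amb2
import Cfsg.Agent.Odd.FT

set_option autoImplicit false
set_option linter.unusedSectionVars false

open Cfsg Subgroup CL.Even CL.Grp CL.Loc

namespace CL.Fgs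

universe u

variable {G : Type*} [Group G]

/-- every element of `P` is conjugate into the cyclic group generated by any non-trivial element of `P`. -/
def OneCls (P : Subgroup G) : Prop := ∀ x ∈ P, ∀ y ∈ P, y ≠ 1 → ∃ g : G, g⁻¹ * x * g ∈ zpowers y

theorem OneCls.map {G' : Type*} [Group G'] {P : Subgroup G} (h : OneCls P) (f : G →* G') : OneCls (P.map f) := by
  rintro _ ⟨x, hx, rfl⟩ _ ⟨y, hy, rfl⟩ h1
  obtain ⟨g, hg⟩ := h x hx y hy fun e => h1 (by rw [e, map_one])
  refine ⟨f g, ?_⟩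
  rw [← map_inv, ← map_mul, ← map_mul, ← MonoidHom.map_zpowers]
  exact mem_map_of_mem f hg

theorem OneCls.le_normal {P N : Subgroup G} (h : OneCls P) [hN : N.Normal] (h1 : P ⊓ N ≠ ⊥) : P ≤ N := by
  obtain ⟨y, hy, hy1⟩ := (bot_or_exists_ne_one _).resolve_left h1
  intro x hx
  obtain ⟨g, hg⟩ := h x hx y hy.1 hy1
  simpa [mul_assoc] using hN.conj_mem _ (zpowers_le.2 hy.2 hg) g

theorem comm_of_map {G' : Type*} [Group G'] {P : Subgroup G} {f : G →* G'} (hf : P ⊓ f.ker = ⊥)
    (h : IsMulCommutative (P.map f)) : IsMulCommutative P := by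
  refine ⟨⟨fun x y => Subtype.ext ?_⟩⟩
  have e : f x * f y = f y * f x :=
    congrArg Subtype.val (h.1.1 ⟨f x, mem_map_of_mem f x.2⟩ ⟨f y, mem_map_of_mem f y.2⟩)
  have : (x : G) * y * ((y : G) * x)⁻¹ ∈ P ⊓ f.ker :=
    ⟨P.mul_mem (P.mul_mem x.2 y.2) (P.inv_mem (P.mul_mem y.2 x.2)),
      MonoidHom.mem_ker.2 (by rw [map_mul, map_inv, map_mul, map_mul, e, mul_inv_cancel])⟩
  rw [hf, mem_bot, mul_inv_eq_one] at this
  exact this

variable [Finite G] {p : ℕ} [hp : Fact p.Prime]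

theorem oneCls_of_abPConj (h : AbPConj p G) {P : Subgroup G} (he : ∀ x ∈ P, x ^ p = 1) : OneCls P := by
  intro x hx y hy h1
  by_cases hx1 : x = 1
  · exact ⟨1, by simp [hx1]⟩
  exact exists_conj_mem_of_orderOf_eq h (k := 1) (by rw [pow_one]; exact orderOf_eq_prime (he x hx) hx1)
    (by rw [pow_one]; exact orderOf_eq_prime (he y hy) h1)

theorem sylIn_inf_ne_bot {P N : Subgroup G} (hP : IsSylowIn p P ⊤) [N.Normal] (h : p ∣ Nat.card N) :
    P ⊓ N ≠ ⊥ := fun e => by
  have h1 := (hP.inf_of_normalized (N := N) le_top (by rw [normalizer_eq_top])).not_dvd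
  rw [e, relIndex_bot_left] at h1
  exact h1 h

theorem inf_ker_mk_eq_bot {P N : Subgroup G} [N.Normal] (hP : IsPGroup p P) (h : (Nat.card N).Coprime p) :
    P ⊓ (QuotientGroup.mk' N).ker = ⊥ := by
  rw [QuotientGroup.ker_mk']
  exact eq_bot_iff.2 fun x hx => eq_one_of_coprime_of_mem hP
    (Nat.Coprime.coprime_dvd_left (orderOf_dvd_natCard N hx.2) h) hx.1

theorem sylIn_map_mk {P : Subgroup G} (hP : IsSylowIn p P ⊤) (N : Subgroup G) [N.Normal] :
    IsSylowIn p (P.map (QuotientGroup.mk' N)) ⊤ := by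
  have := syl_map (QuotientGroup.mk' N) hP
  rwa [← MonoidHom.range_eq_map, MonoidHom.range_eq_top.2 (QuotientGroup.mk'_surjective N)] at this

theorem OneCls.comm_of_core {P : Subgroup G} (h : OneCls P) (hP : IsSylowIn p P ⊤) {N : Subgroup G} [N.Normal]
    (hN : IsPGroup p N) (h1 : N ≠ ⊥) : IsMulCommutative P := by
  have hZ : (N ⊓ 𝒞(N)).Normal := inferInstance
  have hle : P ≤ N ⊓ 𝒞(N) := h.le_normal fun e => inf_cent_ne_bot hN hN le_normalizer h1 (by
    rw [← e, inf_eq_right.2 (inf_le_left.trans (hP.le_of_normalized hN le_top (by rw [normalizer_eq_top])))])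
  exact ⟨⟨fun x y => Subtype.ext (comm_of_mem (hle y.2).2 (hle x.2).1)⟩⟩

theorem OneCls.comm_of_psolv (n : ℕ) : ∀ (G : Type u) [Group G] [Finite G], Nat.card G = n →
    ∀ (P H : Subgroup G) [H.Normal], OneCls P → IsSylowIn p P ⊤ → IsPSolvable p H → p ∣ Nat.card H →
      IsMulCommutative P := by
  induction n using Nat.strong_induction_on with
  | _ n ih =>
  intro G _ _ hn P H hH h hP hs hd
  have hnt : Nontrivial H := Finite.one_lt_card_iff_nontrivial.1
    (hp.out.one_lt.trans_le (Nat.le_of_dvd Nat.card_pos hd))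
  have hH' : (⊤ : Subgroup G) ≤ 𝒩(H) := by rw [normalizer_eq_top]
  rcases pCore_ne_bot_or_pPrimeCore_ne_bot hs with h1 | h1
  · have : (pCoreOf p H).Normal := normalizer_eq_top_iff.1 (top_le_iff.1 (le_norm_core hH'))
    exact h.comm_of_core hP (core_isP H) fun e => h1 (core_eq_bot_iff.1 e)
  · set O := pPrimeCoreOf p H with hO
    have : O.Normal := normalizer_eq_top_iff.1 (top_le_iff.1 (hH'.trans (normalizer_le_normalizer_pPrimeCoreOf p H)))
    have hc : (Nat.card O).Coprime p := pPrimeCoreOf_coprime p H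
    have hne : O ≠ ⊥ := fun e => h1 (by rw [← pPrimeCoreOf_subgroupOf, ← hO, e, bot_subgroupOf])
    have : (H.map (QuotientGroup.mk' O)).Normal := hH.map _ (QuotientGroup.mk'_surjective O)
    refine comm_of_map (inf_ker_mk_eq_bot hP.isPGroup hc) (ih _ ?_ (G ⧸ O) rfl _ (H.map (QuotientGroup.mk' O))
      (h.map _) (sylIn_map_mk hP O) (isPSolvable_map hs _) ?_)
    · rw [← hn, card_eq_card_quotient_mul_card_subgroup O]
      exact lt_mul_of_one_lt_right Nat.card_pos ((one_lt_card_iff_ne_bot O).2 hne)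
    · obtain ⟨y, hy, hy1⟩ := (bot_or_exists_ne_one _).resolve_left (sylIn_inf_ne_bot hP hd)
      obtain ⟨k, hk⟩ := isPGroup_iff_forall.1 hP.isPGroup y hy.1
      by_contra hnd
      have h2 : QuotientGroup.mk' O y = 1 := eq_one_of_coprime_of_pow (p := p) (k := k)
        (Nat.Coprime.coprime_dvd_left (orderOf_dvd_natCard _ (mem_map_of_mem _ hy.2))
          ((hp.out.coprime_iff_not_dvd.2 hnd).symm)) (by rw [← map_pow, hk, map_one])
      exact hy1 (mem_bot.1 ((inf_ker_mk_eq_bot hP.isPGroup hc).le ⟨hy.1, h2⟩))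

theorem OneCls.comm_of_not_involves (hp2 : p ≠ 2) {P : Subgroup G} (h : OneCls P) (hP : IsSylowIn p P ⊤)
    (hq : ¬ Involves (qd p) G) : IsMulCommutative P := by
  by_cases h1 : P = ⊥
  · subst h1; infer_instance
  have hc := zj_ctlFus_of_not_involves_qd hp2 (Or.inl rfl) hq hP (isStronglyClosed_self P)
  obtain ⟨y, hy, hy1⟩ := (bot_or_exists_ne_one _).resolve_left
    (centerThompsonOf_ne_bot' (Or.inl rfl) hP.isPGroup h1)
  have hW := centerThompsonOf_le (p := p) P
  have hle : P ≤ centerThompsonOf p P := fun x hx => by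
    obtain ⟨g, hg⟩ := h x hx y (hW hy) hy1
    have h2 := zpowers_le.2 hy hg
    obtain ⟨n, hn, e⟩ := hc (zpowers (g⁻¹ * x * g)) (zpowers_le.2 (hW h2)) g trivial (by
      rw [conj_smul_le_iff]
      intro z hz
      obtain ⟨i, rfl⟩ := mem_zpowers_iff.1 hz
      rw [← conj_zpow]
      exact P.zpow_mem (by simpa [mul_assoc] using hx) i)
    have h3 := Even.conj_mem hn h2
    rw [← e _ (mem_zpowers _)] at h3
    simpa [mul_assoc] using h3
  exact ⟨⟨fun x y => Subtype.ext (comm_of_mem (centerThompsonOf_le_centralizer P (hle y.2)) (hle x.2))⟩⟩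

theorem q8_facts : (∀ a b : QuaternionGroup 2, a * b = b * a ∨ a * b = b * a * QuaternionGroup.a 2) ∧
    (∀ a : QuaternionGroup 2, a * a = 1 → a = 1 ∨ a = QuaternionGroup.a 2) ∧
    (∀ a : QuaternionGroup 2, a * QuaternionGroup.a 2 = QuaternionGroup.a 2 * a) ∧
    (QuaternionGroup.a 2 : QuaternionGroup 2) * QuaternionGroup.a 2 = 1 ∧
    (QuaternionGroup.a 2 : QuaternionGroup 2) ≠ 1 := by decide

theorem OneCls.comm_of_q8 (hp2 : p ≠ 2) {P : Subgroup G} (h : OneCls P) (hP : IsSylowIn p P ⊤) (S : Sylow 2 G)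
    (e : (S : Subgroup G) ≃* QuaternionGroup 2) : IsMulCommutative P := by
  by_cases hd : p ∣ Nat.card (oddCore G)
  · exact OneCls.comm_of_psolv _ G rfl P (oddCore G) h hP
      (isPSolvable_of_isSolvable (CL.Odd.feit_thompson CL.Inv.odd_card_oddCore)) hd
  obtain ⟨q1, q2, q3, q4, q5⟩ := q8_facts
  set z : G := ((e.symm (QuaternionGroup.a 2) : (S : Subgroup G)) : G) with hz
  have hz2 : orderOf z = 2 := by
    rw [hz, orderOf_coe, MulEquiv.orderOf_eq]
    exact orderOf_eq_prime (by rw [pow_two, q4]) q5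
  have hiso : IsIsolatedInvolution z := CL.C2Low.isolated_of_sylow S hz2
    (fun s hs => congrArg Subtype.val (e.injective (by
      rw [map_mul, map_mul, MulEquiv.apply_symm_apply, q3]) : (⟨s, hs⟩ : S) * e.symm _ = e.symm _ * ⟨s, hs⟩))
    fun g hg => by
      have h2 : orderOf (g * z * g⁻¹) = 2 := CL.Inv.SE.inv_conj hz2 g
      rcases q2 (e ⟨_, hg⟩) (by
        rw [← map_mul, ← map_one e]; exact congrArg e (Subtype.ext (CL.Inv.SE.mul_self_of_inv h2))) with e' | e'
      · exact absurd (congrArg Subtype.val (e.map_eq_one_iff.1 e')) (CL.Inv.SE.ne_one_of_inv h2)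
      · exact congrArg Subtype.val (e.eq_symm_apply.2 e')
  set K := zpowers z ⊔ oddCore G with hK
  have hKn : K.Normal := normalizer_eq_top_iff.1 (top_le_iff.1 (le_norm_of_cj_le fun g _ => by
    rw [hK, cj_sup]
    refine sup_le ?_ (le_sup_of_le_right (cj_le_of_le le_rfl (by rw [normalizer_eq_top]; trivial)))
    rw [MonoidHom.map_zpowers, zpowers_le]
    have := K.mul_mem (K.inv_mem (mem_sup_right (CL.Inv.zstar_mem_oddCore hiso g))) (mem_sup_left (mem_zpowers z))
    simpa [mul_assoc] using this))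
  have hc : (Nat.card K).Coprime p := by
    refine Nat.Coprime.coprime_dvd_left (card_sup_dvd_of_normal _ _) (Nat.Coprime.mul_left ?_ ?_)
    · rw [Nat.card_zpowers, hz2]
      exact (Nat.coprime_primes Nat.prime_two hp.out).2 hp2.symm
    · exact (hp.out.coprime_iff_not_dvd.2 hd).symm
  refine comm_of_map (inf_ker_mk_eq_bot hP.isPGroup hc) ((h.map _).comm_of_not_involves hp2 (sylIn_map_mk hP K)
    (not_involves_qd_of_abelian_sylow_two hp2 (S.mapSurjective (QuotientGroup.mk'_surjective K)) ?_))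
  refine ⟨⟨?_⟩⟩
  rintro ⟨_, x, hx, rfl⟩ ⟨_, y, hy, rfl⟩
  refine Subtype.ext ?_
  show QuotientGroup.mk' K x * QuotientGroup.mk' K y = QuotientGroup.mk' K y * QuotientGroup.mk' K x
  rw [← map_mul, ← map_mul]
  rcases q1 (e ⟨x, hx⟩) (e ⟨y, hy⟩) with e' | e'
  · rw [← map_mul, ← map_mul] at e'
    exact congrArg _ (congrArg Subtype.val (e.injective e'))
  · rw [← e.apply_symm_apply (QuaternionGroup.a 2), ← map_mul, ← map_mul, ← map_mul] at e'
    have e2 : x * y = y * x * z := congrArg Subtype.val (e.injective e')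
    have e3 : QuotientGroup.mk' K z = 1 := (QuotientGroup.eq_one_iff z).2 (mem_sup_left (mem_zpowers z))
    rw [e2, map_mul, e3, mul_one]

end CL.Fgs
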