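/-
Kazarin's theorem: an element whose class has prime power size has solvable normal closure;
Camina-Camina: the normal closure is abelian modulo `O_p(G)` (helper97).
-/
import Cfsg.Agent.Fgs.ClassHall
import Cfsg.Agent.S0907
import Cfsg.Agent.Blk.Residue
import Cfsg.Agent.Char.Kernel
import Cfsg.Agent.Grp.SZConj

namespace CL.Fgs

open Subgroup Cfsg Module
open scoped ComplexConjugate commutatorElement

universe u

variable {G : Type*} [Group G]

theorem exists_isPModular {p : ℕ} (hp : p.Prime) : ∃ M : Ideal AlgInt, IsPModular p M := by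
  obtain ⟨M, hM, hle⟩ := Ideal.exists_le_maximal (Ideal.span {(p : AlgInt)}) (by
    rw [Ne, Ideal.span_singleton_eq_top]
    rintro ⟨u, hu⟩
    have h1 : ((u⁻¹ : AlgIntˣ) : AlgInt) * p = 1 := by rw [← hu]; simp
    have h2 : (((u⁻¹ : AlgIntˣ) : AlgInt) : ℂ) * p = 1 := by exact_mod_cast congrArg Subtype.val h1
    have h3 : IsIntegral ℤ (((1 : ℕ) : ℂ) / (p : ℂ)) := by
      rw [Nat.cast_one, ← eq_div_of_mul_eq (by exact_mod_cast hp.ne_zero) h2]
      exact ((u⁻¹ : AlgIntˣ) : AlgInt).2
    exact hp.one_lt.ne' (Nat.dvd_one.1 (CL.Char.dvd_of_isIntegral_div hp.ne_zero h3)))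
  exact ⟨M, hp, hM, hle (Ideal.mem_span_singleton_self _)⟩

/-- a character of the principal `r`-block whose degree is prime to the class size of an
`r'`-element `x` of `r`-defect maximal has `x` in its kernel -/
theorem mem_charKer_of_principalBlock [Finite G] {r : ℕ} {M : Ideal AlgInt} (hM : IsPModular r M)
    {x : G} (hx : ¬ r ∣ orderOf x) (hr : ¬ r ∣ cs(x)) {χ : IrrCharacter G}
    (hχ : χ ∈ principalBlock M G) {n : ℕ} (hn : (χ : G → ℂ) 1 = n) (hc : n.Coprime cs(x)) :
    x ∈ CL.Char.charKer (χ : G → ℂ) := by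
  obtain ⟨χ, m, ρ, hρ, rfl⟩ := χ
  have h1 := CL.Blk.val_lt_one_of_memLocalIdeal hM.2.1 (hχ x)
  simp only [centralChar, mul_one, div_one] at h1
  have h2 := (CL.Blk.val_natCast_eq_one_iff hM cs(x)).2 hr
  have hmn : finrank ℂ (Fin m → ℂ) = n := by
    simp only [ρ.char_one] at hn; exact_mod_cast hn
  rcases CL.Char.char_eq_zero_or_norm_eq_of_coprime ρ x (hmn ▸ hc) with h0 | h0
  · rw [h0, mul_zero, zero_div, sub_zero, h2] at h1
    exact absurd h1 (lt_irrefl _)
  obtain ⟨ω, hω⟩ := (CL.Char.norm_char_eq_iff ρ x).1 h0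
  have h3 := CL.Char.char_mul_of_scalar ρ hω 1
  have h4 : ρ.character 1 ≠ 0 := by rw [ρ.char_one]; exact CL.Char.finrank_cast_ne_zero_of_irr ρ
  rw [mul_one] at h3
  rw [h3, mul_div_assoc, mul_div_assoc, div_self h4, mul_one, ← mul_one_sub, map_mul, h2,
    one_mul] at h1
  obtain ⟨μ, h5, -, h6⟩ := CL.Char.exists_eigenvalues ρ x
  have h7 : ω ^ orderOf x = 1 := by
    rw [← (h6 ω).1 hω ⟨0, CL.Char.finrank_pos_of_irr ρ⟩]; exact h5 _
  have h8 : ω = 1 := CL.Blk.eq_one_of_red_eq_one hM hx h7 (by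
    rw [← CL.Blk.red_one, eq_comm]
    exact (CL.Blk.red_eq_iff (one_mem _)
      (CL.Blk.mem_valRing_of_pow_eq_one (orderOf_pos x).ne' h7)).2 h1)
  refine (IsIrrCharacter.mem_charKer ⟨m, ρ, hρ, rfl⟩).2 ?_
  show ρ.character x = ρ.character 1
  rw [h3, h8, one_mul]

/-- if `G` is the normal closure of `x` and the class of `x` has `p`-power size then the primes
dividing `|G|` are `p` and the primes dividing the order of `x` -/
theorem eq_or_dvd_orderOf_of_normalClosure_eq_top [Finite G] {p k : ℕ} (hp : p.Prime) {x : G}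
    (hx : cs(x) = p ^ k) (hG : normalClosure ({x} : Set G) = ⊤) {r : ℕ} (hr : r.Prime)
    (hd : r ∣ Nat.card G) : r = p ∨ r ∣ orderOf x := by
  classical
  by_contra hc
  push Not at hc
  have := Fact.mk hr
  obtain ⟨M, hM⟩ := exists_isPModular hr
  obtain ⟨y, hy⟩ := exists_prime_orderOf_dvd_card' r hd
  have h := Cfsg.Agent.S0907.result r M hM (principalBlock M G) ⟨CL.Char.irrOne G, rfl⟩ 1 y
    (by simpa using hr.one_lt.ne') (hy ▸ dvd_rfl)
  rw [CL.Blk.finsum_mem_irr_eq_sum, ← Finset.add_sum_erase _ _ (a := CL.Char.irrOne G)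
    (Finset.mem_filter.2 ⟨Finset.mem_univ _, CL.Blk.sameBlock_refl hM _⟩)] at h
  have hp0 : (p : ℂ) ≠ 0 := by exact_mod_cast hp.ne_zero
  set s := (Finset.univ.filter fun χ : IrrCharacter G => χ ∈ principalBlock M G).erase
    (CL.Char.irrOne G)
  have hint : IsIntegral ℤ ((∑ ψ ∈ s, (ψ : G → ℂ) 1 * conj ((ψ : G → ℂ) y)) / p) := by
    rw [Finset.sum_div]
    refine IsIntegral.sum _ fun ψ hψ => ?_
    obtain ⟨n, -, hn⟩ := CL.Char.isIrr_exists_degree ψ.2
    have hpn : p ∣ n := by
      by_contra hpn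
      have h1 := mem_charKer_of_principalBlock hM hc.2
        (fun h => hc.1 ((Nat.prime_dvd_prime_iff_eq hr hp).1 (hr.dvd_of_dvd_pow (hx ▸ h))))
        (Finset.mem_filter.1 (Finset.mem_erase.1 hψ).2).2 hn
        (hx ▸ Nat.Coprime.pow_right k ((Nat.Prime.coprime_iff_not_dvd hp).2 hpn).symm)
      have := ψ.2.charKer_normal
      have h2 := normalClosure_le_normal (Set.singleton_subset_iff.2 h1)
      rw [hG, top_le_iff, ψ.2.charKer_eq_top_iff] at h2
      exact (Finset.mem_erase.1 hψ).1 (Subtype.ext h2)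
    obtain ⟨j, hj⟩ := hpn
    have : (ψ : G → ℂ) 1 * conj ((ψ : G → ℂ) y) / p = j * (ψ : G → ℂ) y⁻¹ := by
      rw [hn, hj, ψ.2.conj_apply]; push_cast; field_simp
    rw [this]
    exact (isIntegral_algebraMap (x := (j : ℤ))).mul (CL.Char.isChar_isIntegral ψ.2.isCharacter _)
  have h2 : (∑ ψ ∈ s, (ψ : G → ℂ) 1 * conj ((ψ : G → ℂ) y)) = -1 := by
    simp only [CL.Char.irrOne_apply, map_one, mul_one] at h
    linear_combination h
  rw [h2, neg_div] at hint
  have h3 : p ∣ 1 := CL.Char.dvd_of_isIntegral_div hp.ne_zero (by simpa using hint.neg)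
  exact hp.one_lt.ne' (Nat.dvd_one.mp h3)

theorem isSolvable_of_map_mk {N H : Subgroup G} [N.Normal] (hN : Group.IsSolvable N)
    (h : Group.IsSolvable (H.map (QuotientGroup.mk' N))) : Group.IsSolvable H := by
  have := CL.Grp.isSolvable_subgroupOf N H
  refine Group.isSolvable_of_ker_le_range (N.subgroupOf H).subtype
    ((QuotientGroup.mk' N).subgroupMap H) fun x hx => ?_
  rw [range_subtype, mem_subgroupOf, ← QuotientGroup.eq_one_iff]
  exact congrArg Subtype.val hx

theorem map_normalClosure_singleton {G' : Type*} [Group G'] {f : G →* G'}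
    (hf : Function.Surjective f) (x : G) :
    (normalClosure ({x} : Set G)).map f = normalClosure ({f x} : Set G') := by
  rw [map_normalClosure _ _ hf, Set.image_singleton]

/-- **Kazarin's theorem** -/
theorem kazarin_aux (X : Type u) [Group X] [Finite X] :
    ∀ x : X, IsPP cs(x) → Group.IsSolvable (normalClosure ({x} : Set X)) := by
  refine CL.Grp.induction_on_card
    (P := fun X _ _ => ∀ x : X, IsPP cs(x) → Group.IsSolvable (normalClosure ({x} : Set X))) ?_ X
  intro X _ _ ih x hx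
  have key : ∀ S : Subgroup X, S.Normal → S ≠ ⊥ → Group.IsSolvable S →
      Group.IsSolvable (normalClosure ({x} : Set X)) := fun S _ h1 h2 => by
    refine isSolvable_of_map_mk h2 ?_
    rw [map_normalClosure_singleton (QuotientGroup.mk'_surjective S)]
    exact ih _ (CL.Grp.card_quotient_lt h1) _ (IsPP.of_dvd _ _ (cs_mk_dvd S x) hx)
  rcases eq_or_ne x 1 with rfl | h1
  · rw [show normalClosure ({1} : Set X) = ⊥ from normalClosure_eq_bot_iff.2 subset_rfl]
    infer_instance
  obtain ⟨q, hq, hqd⟩ := Nat.exists_prime_and_dvd (fun h => h1 (orderOf_eq_one_iff.1 h))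
  set y := x ^ (orderOf x / q) with hy
  have hyq : orderOf y = q := orderOf_pow_orderOf_div (orderOf_pos x).ne' hqd
  have hy1 : y ≠ 1 := fun h => hq.one_lt.ne' (by rw [← hyq, h, orderOf_one])
  have hyp : IsPP cs(y) := IsPP.of_dvd _ _ (cs_dvd_of_mem_zpowers (npow_mem_zpowers x _)) hx
  by_cases hN : normalClosure ({y} : Set X) = ⊤
  · obtain ⟨p, k, hp, hk⟩ := hyp
    have : Group.IsSolvable X := CL.Char.isSolvable_of_two_primes hp hq fun r hr hd =>
      (eq_or_dvd_orderOf_of_normalClosure_eq_top hp hk hN hr hd).imp_right fun h =>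
        (Nat.prime_dvd_prime_iff_eq hr hq).1 (hyq ▸ h)
    infer_instance
  · set N := normalClosure ({y} : Set X)
    let y' : N := ⟨y, subset_normalClosure rfl⟩
    have h2 := ih N (CL.Grp.card_subgroup_lt hN) y' (IsPP.of_dvd _ _ (cs_coe_dvd y') hyp)
    obtain ⟨p, M, hp, _, -, h3, -, h4⟩ := CL.Grp.exists_abelian_normal_pgroup_le_of_isSolvable
      (normalClosure ({y'} : Set N)) (fun h => hy1 (congrArg Subtype.val
        (normalClosure_eq_bot_iff.1 h (Set.mem_singleton y'))))
    have := Fact.mk hp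
    refine key (pCoreOf p N) inferInstance (fun h => h3 ?_) ?_
    · rw [CL.Grp.pCoreOf_def, map_eq_bot_iff_of_injective _ N.subtype_injective] at h
      exact le_bot_iff.1 (h ▸ CL.Grp.le_pCore h4)
    · have := (CL.Grp.pCoreOf_isPGroup p N).isNilpotent
      infer_instance

theorem kazarin [Finite G] {x : G} {p k : ℕ} (hp : p.Prime) (hx : cs(x) = p ^ k) :
    Group.IsSolvable (normalClosure ({x} : Set G)) := kazarin_aux G x ⟨p, k, hp, hx⟩

/-- if `O_p(G) = 1` and the class of `x` has `p`-power size, the normal closure of `x` is an abelian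
subgroup of `F(G)` centralizing `F(G)` -/
theorem normalClosure_le_of_pCore_eq_bot [Finite G] {x : G} {p k : ℕ} [hp : Fact p.Prime]
    (h0 : pCore p G = ⊥) (hx : cs(x) = p ^ k) :
    normalClosure ({x} : Set G) ≤ fittingSubgroup G ⊓ centralizer (fittingSubgroup G : Set G) := by
  have h1 : fittingSubgroup G ≤ cent(x) := by
    refine le_of_normal_of_coprime_index ?_
    rw [hx]
    exact Nat.Coprime.pow_right _
      ((Nat.Prime.coprime_iff_not_dvd hp.out).2 (not_dvd_card_fittingSubgroup h0)).symm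
  have h2 : normalClosure ({x} : Set G) ≤ centralizer (fittingSubgroup G : Set G) :=
    normalClosure_le_normal (Set.singleton_subset_iff.2 fun f hf => (mem_cent.1 (h1 hf)).eq)
  exact le_inf (CL.Grp.le_fittingSubgroup_of_isSolvable_of_le_centralizer (kazarin hp.out hx) h2) h2

/-- **Camina-Camina**: the normal closure of an element of `p`-power class size is abelian modulo
`O_p(G)` -/
theorem commutator_normalClosure_le_pCore [Finite G] {x : G} {p k : ℕ} [hp : Fact p.Prime]
    (hx : cs(x) = p ^ k) :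
    ⁅normalClosure ({x} : Set G), normalClosure ({x} : Set G)⁆ ≤ pCore p G := by
  obtain ⟨j, -, hj⟩ := (Nat.dvd_prime_pow hp.out).1 (hx ▸ cs_mk_dvd (pCore p G) x)
  have h := normalClosure_le_of_pCore_eq_bot (CL.Grp.pCore_quotient_pCore p G) hj
  rw [← QuotientGroup.ker_mk' (pCore p G), ← Subgroup.map_eq_bot_iff, map_commutator,
    map_normalClosure_singleton (QuotientGroup.mk'_surjective _),
    commutator_eq_bot_iff_le_centralizer]
  exact (h.trans inf_le_right).trans (centralizer_le (h.trans inf_le_left))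

end CL.Fgs
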