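/-
Abelian subgroups all of whose non-central elements have the same centralizer, and groups with two
`p`-regular class sizes (helper97).
-/
import Cfsg.Agent.Fgs.ClassTwo
import Cfsg.Agent.Fgs.ClassHall
import Cfsg.Agent.Fgs.Kazarin
import Cfsg.Agent.Grp.Coprime2
import Cfsg.Agent.Grp.Primitive
import Cfsg.Agent.Perm.FCGroup
import Cfsg.Agent.Perm.FCCrit
import Cfsg.Agent.S0205

namespace CL.Fgs

open Subgroup Cfsg CL.Grp
open scoped Pointwise commutatorElement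

variable {G : Type*} [Group G]

/-- the `π`-elements of an abelian subgroup -/
def piIn (π : Set ℕ) (A : Subgroup G) (h : ∀ a ∈ A, ∀ b ∈ A, Commute a b) : Subgroup G where
  carrier := {u | u ∈ A ∧ IsPiElt π u}
  one_mem' := ⟨one_mem A, isPiElt_one π⟩
  mul_mem' := fun ha hb => ⟨mul_mem ha.1 hb.1, ha.2.mul hb.2 (h _ ha.1 _ hb.1)⟩
  inv_mem' := fun ha => ⟨inv_mem ha.1, ha.2.inv⟩

theorem mem_piIn {π : Set ℕ} {A : Subgroup G} {h : ∀ a ∈ A, ∀ b ∈ A, Commute a b} {u : G} :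
    u ∈ piIn π A h ↔ u ∈ A ∧ IsPiElt π u := Iff.rfl

theorem exists_relIndex_eq_pow_of_pow_mem [Finite G] {p : ℕ} [Fact p.Prime] {U V : Subgroup G}
    (hn : U ≤ normalizer (V : Set G)) (h : ∀ x ∈ U, ∃ k : ℕ, x ^ p ^ k ∈ V) :
    ∃ n, V.relIndex U = p ^ n := by
  haveI := normal_subgroupOf_of_le_normalizer hn
  have hq : IsPGroup p (U ⧸ V.subgroupOf U) := by
    intro q
    obtain ⟨x, rfl⟩ := QuotientGroup.mk_surjective q
    obtain ⟨k, hk⟩ := h x x.2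
    exact ⟨k, by rw [← QuotientGroup.mk_pow, QuotientGroup.eq_one_iff]; exact hk⟩
  exact hq.exists_card_eq

theorem exists_noncentral_of_dvd [Finite G] {q : ℕ} [Fact q.Prime] (h : q ∣ (center G).index) :
    ∃ w : G, IsPiElt {q} w ∧ w ∉ center G := by
  obtain ⟨Q⟩ : Nonempty (Sylow q G) := inferInstance
  obtain ⟨w, hw, hwZ⟩ := SetLike.not_le_iff_exists.1 fun e => not_dvd_index_of_sylow_le Q e h
  exact ⟨w, isPiElt_singleton_of_mem Q.isPGroup' hw, hwZ⟩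

/-- an element of the second center of a non-central `p`-subgroup -/
theorem exists_second_center [Finite G] {p : ℕ} [hp : Fact p.Prime] {U P : Subgroup G}
    (hP : IsPGroup p P) (hU : U ≤ P) (hn : P ≤ normalizer (U : Set G)) (h : ¬ U ≤ center G) :
    ∃ x ∈ U, x ∉ center G ∧ x ^ p ∈ center G ∧ ∀ g ∈ P, ⁅x, g⁆ ∈ center G := by
  set f := QuotientGroup.mk' (center G) with hf
  have hk : ∀ g, f g = 1 ↔ g ∈ center G := fun g => QuotientGroup.eq_one_iff g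
  obtain ⟨z, hz, hz1, hc⟩ := exists_central_of_isNilpotent (hP.map f).isNilpotent (map_mono hU)
    ((map_mono hn).trans (le_normalizer_map f)) fun e =>
      h (by rwa [Subgroup.map_eq_bot_iff, QuotientGroup.ker_mk'] at e)
  obtain ⟨q, k, hq, hk'⟩ := exists_pow_orderOf_prime hz1
  have hqp : q = p := (isPiElt_singleton_of_mem (hP.map f) (map_mono hU hz)).pow k q hq
    (hk' ▸ dvd_rfl)
  subst hqp
  obtain ⟨x, hx, rfl⟩ := hz
  refine ⟨x ^ k, pow_mem hx k, fun e => ?_, ?_, fun g hg => ?_⟩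
  · rw [← map_pow, (hk _).2 e, orderOf_one] at hk'
    exact hq.one_lt.ne hk'
  · rw [← hk, map_pow, map_pow, ← hk', pow_orderOf_eq_one]
  · rw [← hk, map_commutatorElement, commutatorElement_eq_one_iff_commute, map_pow]
    exact (mem_cent'.1 (hc (mem_map_of_mem f hg))).pow_left k

/-- `C` is the centralizer of each non-central element of `A ≤ Z(C)`. -/
structure SemiReg (A C : Subgroup G) : Prop where
  le : A ≤ C
  comm : ∀ a ∈ A, C ≤ cent(a)
  cent_le : ∀ a ∈ A, a ∉ center G → cent(a) ≤ C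
  norm : normalizer (C : Set G) ≤ normalizer (A : Set G)

namespace SemiReg

variable {A C : Subgroup G}

theorem commute (h : SemiReg A C) : ∀ a ∈ A, ∀ b ∈ A, Commute a b :=
  fun _ ha b hb => mem_cent.1 (h.comm b hb (h.le ha))

theorem le_centralizer (h : SemiReg A C) : C ≤ centralizer (A : Set G) :=
  fun _ hc a ha => (mem_cent'.1 (h.comm a ha hc)).eq

theorem conj_mem (h : SemiReg A C) {g a : G} (hg : g ∈ normalizer (C : Set G)) (ha : a ∈ A) :
    g * a * g⁻¹ ∈ A := (mem_normalizer_iff.1 (h.norm hg) a).1 ha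

theorem piIn [Finite G] (h : SemiReg A C) (π : Set ℕ) : SemiReg (piIn π A h.commute) C :=
  ⟨fun _ ha => h.le ha.1, fun a ha => h.comm a ha.1, fun a ha => h.cent_le a ha.1,
    fun g hg => mem_normalizer_fintype fun _ ha => ⟨h.conj_mem hg ha.1, ha.2.conj g⟩⟩

theorem centralizer_eq (h : SemiReg A C) (hA : ¬ A ≤ center G) : centralizer (A : Set G) = C := by
  obtain ⟨a, ha, haZ⟩ := SetLike.not_le_iff_exists.1 hA
  exact le_antisymm (fun g hg => h.cent_le a ha haZ (mem_cent'.2 (hg a ha))) h.le_centralizer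

theorem norm' (h : SemiReg A C) (hA : ¬ A ≤ center G) :
    normalizer (A : Set G) ≤ normalizer (C : Set G) :=
  h.centralizer_eq hA ▸ le_normalizer_centralizer' le_rfl

theorem mem_center (h : SemiReg A C) {a g : G} (ha : a ∈ A) (hg : g ∉ C) (hc : Commute g a) :
    a ∈ center G := by
  by_contra e
  exact hg (h.cent_le a ha e (mem_cent.2 hc))

variable [Finite G]

theorem le_of_pow {q s : ℕ} [hq : Fact q.Prime] [hs : Fact s.Prime] (hqs : q ≠ s)
    (h : SemiReg A C) (hA : IsPGroup q A) (hAZ : ¬ A ≤ center G) {D : Subgroup G}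
    (hD : D ≤ normalizer (C : Set G)) (hpow : ∀ d ∈ D, ∃ k, d ^ s ^ k ∈ C) {g : G}
    (hg : IsPiElt {q} g) (hgC : g ∈ normalizer (C : Set G)) (hgD : g ∈ normalizer (D : Set G))
    (hg' : g ∉ C) : D ≤ C := by
  haveI := isMulCommutative_of_forall h.commute
  obtain ⟨S, hS⟩ := exists_isSylowIn s D
  obtain ⟨n, hn⟩ := exists_relIndex_eq_pow_of_pow_mem hD hpow
  have h1 : ⁅D, A⁆ ≤ ⁅S, A⁆ := commutator_le_commutator_of_mul_centralizer fun d hd => by
    obtain ⟨c, hc, x, hx, e⟩ := hS.exists_mul_eq_of_relIndex_pow hn (inv_mem hd)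
    exact ⟨x⁻¹, inv_mem hx, c⁻¹, h.le_centralizer (inv_mem hc), by
      rw [← mul_inv_rev, ← e, inv_inv]⟩
  have h2 := inf_centralizer_inf_commutator_eq_bot (V := A) (hS.le.trans (hD.trans h.norm))
    (IsPGroup.coprime_card_of_ne s q hqs.symm _ _ hS.isPGroup hA)
  have hBA : ⁅D, A⁆ ≤ A := commutator_le.2 fun d hd a ha => by
    rw [commutatorElement_def]; exact mul_mem (h.conj_mem (hD hd) ha) (inv_mem ha)
  have h3 : ⁅D, A⁆ = ⊥ := by
    by_contra e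
    refine CL.Grp.inf_centralizer_ne_bot_of_isPGroup hg.isPGroup_zpowers
      (le_normalizer_commutator' (zpowers_le.2 hgD) (zpowers_le.2 (h.norm hgC)))
      ((hA.to_le hBA).card_eq_or_dvd.resolve_left fun e' => e (card_eq_one.1 e'))
      ((eq_bot_iff_forall _).2 fun b hb => mem_bot.1 (h2 ▸ ⟨⟨hBA hb.1, fun x _ => ?_⟩, ?_⟩))
    · exact mem_center_iff.1 (h.mem_center (hBA hb.1) hg' (hb.2 g (mem_zpowers g))) x
    · rw [commutator_comm]; exact h1 hb.1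
  rw [← h.centralizer_eq hAZ]
  exact commutator_eq_bot_iff_le_centralizer.1 h3

omit [Finite G] in
theorem conj_eq_inv_mul (h : SemiReg A C) {i a : G} (hi : i ∈ normalizer (C : Set G)) (hiC : i ∉ C)
    (hi2 : i ^ 2 ∈ C) (ha : a ∈ A) : ∃ z ∈ center G, i * a * i⁻¹ = a⁻¹ * z := by
  refine ⟨a * (i * a * i⁻¹), h.mem_center (mul_mem ha (h.conj_mem hi ha)) hiC ?_, by group⟩
  have h1 := mem_cent_iff_conj.1 (h.comm a ha hi2)
  refine mem_cent.1 (mem_cent_iff_conj.2 ?_)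
  calc i * (a * (i * a * i⁻¹)) * i⁻¹ = i * a * i⁻¹ * (i ^ 2 * a * (i ^ 2)⁻¹) := by group
    _ = _ := by rw [h1, (h.commute _ (h.conj_mem hi ha) _ ha).eq]

theorem eq_of_two (h : SemiReg A C) {q₁ q₂ : ℕ} (hq₁ : q₁.Prime) (hq₂ : q₂.Prime) {a₁ a₂ g₁ g₂ : G}
    (ha₁ : a₁ ∈ A) (ha₁' : IsPiElt {q₁} a₁) (hz₁ : a₁ ∉ center G)
    (ha₂ : a₂ ∈ A) (ha₂' : IsPiElt {q₂} a₂) (hz₂ : a₂ ∉ center G)
    (hg₁ : g₁ ∈ normalizer (C : Set G)) (hg₁' : IsPiElt {q₁} g₁) (hc₁ : g₁ ∉ C)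
    (hg₂ : g₂ ∈ normalizer (C : Set G)) (hg₂' : IsPiElt {q₂} g₂) (hc₂ : g₂ ∉ C) : q₁ = q₂ := by
  by_contra hne
  set N := normalizer (C : Set G) with hN
  set f := QuotientGroup.mk' (C.subgroupOf N) with hf
  have hk : ∀ g : N, f g = 1 ↔ (g : G) ∈ C := fun g => QuotientGroup.eq_one_iff g
  have key : ∀ s : ℕ, s.Prime → ∀ E : Subgroup (N ⧸ C.subgroupOf N), E.Normal → IsPGroup s E →
      E = ⊥ := fun s hs E hE hEs => by
    haveI := Fact.mk hs
    have h1 : ∀ (q : ℕ) (a g : G), q.Prime → q ≠ s → a ∈ A → IsPiElt {q} a → a ∉ center G →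
        g ∈ N → IsPiElt {q} g → g ∉ C → (E.comap f).map N.subtype ≤ C :=
      fun q a g hq hqs ha ha' hz hg hg' hc => by
      haveI := Fact.mk hq
      refine (h.piIn {q}).le_of_pow hqs (isPGroup_of_forall_isPiElt fun u hu => hu.2)
        (fun e => hz (e ⟨ha, ha'⟩)) (map_subtype_le _) ?_ hg' hg
        (le_normalizer_map_subtype _ hg) hc
      rintro _ ⟨d, hd, rfl⟩
      obtain ⟨k, hk'⟩ := hEs ⟨f d, hd⟩
      exact ⟨k, (hk (d ^ s ^ k)).1 (by rw [map_pow]; exact congrArg Subtype.val hk')⟩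
    have h2 : (E.comap f).map N.subtype ≤ C := by
      by_cases e : q₁ = s
      · exact h1 q₂ a₂ g₂ hq₂ (fun e' => hne (e.trans e'.symm)) ha₂ ha₂' hz₂ hg₂ hg₂' hc₂
      · exact h1 q₁ a₁ g₁ hq₁ e ha₁ ha₁' hz₁ hg₁ hg₁' hc₁
    refine (eq_bot_iff_forall _).2 fun u hu => ?_
    obtain ⟨u, rfl⟩ := QuotientGroup.mk'_surjective _ u
    exact (hk u).2 (h2 (mem_map_of_mem _ hu))
  by_cases h2 : 2 ∣ Nat.card (N ⧸ C.subgroupOf N)
  · obtain ⟨i, hi⟩ := exists_prime_orderOf_dvd_card' 2 h2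
    have hi1 := ne_one_of_orderOf_prime Nat.prime_two hi
    have hZ : i ∈ center _ := by
      obtain ⟨i, rfl⟩ := QuotientGroup.mk'_surjective _ i
      have hiC : (i : G) ∉ C := fun e => hi1 ((hk i).2 e)
      have hi2 : (i : G) ^ 2 ∈ C := (hk (i ^ 2)).1 (by rw [map_pow, ← hi, pow_orderOf_eq_one])
      refine mem_center_iff.2 fun g => ?_
      obtain ⟨g, rfl⟩ := QuotientGroup.mk'_surjective _ g
      have hx := mul_mem ha₁ ha₂
      have hc := h.commute _ ha₁ _ ha₂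
      have ha₂'' : IsPiElt {q₁}ᶜ a₂ := ha₂'.mono (Set.singleton_subset_iff.2 (Ne.symm hne))
      have hxZ : a₁ * a₂ ∉ center G := fun e =>
        hz₁ (piPart_mul_eq hc ha₁' ha₂'' ▸ piPart_mem e)
      obtain ⟨z, hz, e⟩ := h.conj_eq_inv_mul i.2 hiC hi2 hx
      obtain ⟨z', hz', e'⟩ := h.conj_eq_inv_mul i.2 hiC hi2 (h.conj_mem g.2 hx)
      have h3 : ((i * g)⁻¹ * (g * i) : N) ∈ C.subgroupOf N := by
        refine h.cent_le _ hx hxZ (mem_cent_of_conj_eq_mul (π := {q₁})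
          (mul_mem hz (inv_mem hz')) ?_ ?_ ?_)
        · rw [piPart_mul_eq hc ha₁' ha₂'']
          exact (h.cent_le _ ha₁ hz₁).trans (h.comm _ hx)
        · rw [piPart_mul_eq' hc ha₁' ha₂'']
          exact (h.cent_le _ ha₂ hz₂).trans (h.comm _ hx)
        set x := a₁ * a₂
        have c1 := fun y => mem_center_iff.1 hz y
        have c2 := fun y => mem_center_iff.1 (inv_mem hz') y
        have e2 : (g : G) * x⁻¹ * (g : G)⁻¹ = i * (g * x * (g : G)⁻¹) * (i : G)⁻¹ * z'⁻¹ := by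
          rw [e']; group
        simp only [coe_subtype, coe_mul, coe_inv]
        calc ((i : G) * g)⁻¹ * (g * i) * x * (((i : G) * g)⁻¹ * (g * i))⁻¹
            = ((i : G) * g)⁻¹ * (g * (i * x * (i : G)⁻¹) * (g : G)⁻¹) * (i * g) := by group
          _ = ((i : G) * g)⁻¹ * (g * x⁻¹ * (g : G)⁻¹) * (g * z * (g : G)⁻¹ * (i * g)) := by
            rw [e]; group
          _ = x * ((i : G) * g)⁻¹ * (z'⁻¹ * (z * (i * g))) := by
            rw [e2, c1 g]; group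
          _ = _ := by rw [← c2, ← c1]; group
      have := (QuotientGroup.eq (s := C.subgroupOf N)).2 h3
      rw [← map_mul, ← map_mul]
      exact this.symm
    exact hi1 (mem_bot.1 (key 2 Nat.prime_two (zpowers i)
      (normal_of_le_center' (zpowers_le.2 hZ)) (isPGroup_zpowers_of_orderOf_eq hi) ▸ mem_zpowers i))
  · haveI := Cfsg.Agent.S0205.result (G := N ⧸ C.subgroupOf N)
      (Nat.odd_iff.2 (Nat.two_dvd_ne_zero.1 h2))
    haveI : Nontrivial (N ⧸ C.subgroupOf N) := ⟨⟨f ⟨g₁, hg₁⟩, 1, fun e => hc₁ ((hk _).1 e)⟩⟩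
    obtain ⟨s, hs, h3⟩ := exists_pCore_ne_bot (N ⧸ C.subgroupOf N)
    haveI := Fact.mk hs
    exact h3 (key s hs _ inferInstance (pCore_isPGroup s _))

theorem exists_mem_normalizer (h : SemiReg A C) {q : ℕ} [Fact q.Prime]
    (hA : ∀ u ∈ C, IsPiElt {q} u → u ∈ A) {a : G} (ha : a ∈ A) (ha' : IsPiElt {q} a)
    (hz : a ∉ center G) (hd : q ∣ C.index) :
    ∃ g ∈ normalizer (C : Set G), IsPiElt {q} g ∧ g ∉ C := by
  have h1 := h.piIn {q}
  obtain ⟨Q, hQ⟩ := (isPGroup_of_forall_isPiElt (H := CL.Fgs.piIn {q} A h.commute)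
    fun u hu => hu.2).exists_le_sylow
  obtain ⟨g, hg, hg'⟩ := SetLike.exists_of_lt (lt_inf_normalizer_of_isPGroup Q.isPGroup'
    (lt_of_le_of_ne hQ fun e => not_dvd_index_of_sylow_le Q (e ▸ h1.le) hd))
  have h2 := isPiElt_singleton_of_mem Q.isPGroup' hg.1
  exact ⟨g, h1.norm' (fun e => hz (e ⟨ha, ha'⟩)) hg.2, h2, fun e => hg' ⟨hA g e h2, h2⟩⟩

/-- if `A` contains all `q`-elements of `C` and a non-central one for each prime `q ∈ π` dividing
`|G : C|`, there is at most one such prime -/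
theorem eq_of_dvd_index (h : SemiReg A C) {q₁ q₂ : ℕ} (hq₁ : q₁.Prime) (hq₂ : q₂.Prime)
    (h₁ : ∀ u ∈ C, IsPiElt {q₁} u → u ∈ A) (h₂ : ∀ u ∈ C, IsPiElt {q₂} u → u ∈ A)
    (e₁ : ∃ a ∈ C, IsPiElt {q₁} a ∧ a ∉ center G) (e₂ : ∃ a ∈ C, IsPiElt {q₂} a ∧ a ∉ center G)
    (d₁ : q₁ ∣ C.index) (d₂ : q₂ ∣ C.index) : q₁ = q₂ := by
  haveI := Fact.mk hq₁
  haveI := Fact.mk hq₂
  obtain ⟨a₁, ha₁, ha₁', hz₁⟩ := e₁
  obtain ⟨a₂, ha₂, ha₂', hz₂⟩ := e₂
  obtain ⟨g₁, k₁, k₂, k₃⟩ := h.exists_mem_normalizer h₁ (h₁ _ ha₁ ha₁') ha₁' hz₁ d₁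
  obtain ⟨g₂, l₁, l₂, l₃⟩ := h.exists_mem_normalizer h₂ (h₂ _ ha₂ ha₂') ha₂' hz₂ d₂
  exact h.eq_of_two hq₁ hq₂ (h₁ _ ha₁ ha₁') ha₁' hz₁ (h₂ _ ha₂ ha₂') ha₂' hz₂ k₁ k₂ k₃ l₁ l₂ l₃

end SemiReg

theorem pow_mem_cent_of_commutator {w g : G} {p : ℕ} (hwp : w ^ p ∈ center G)
    (hw : ⁅w, g⁆ ∈ center G) : g ^ p ∈ cent(w) := by
  have hz := inv_mem hw
  have e : g * w * g⁻¹ = w * ⁅w, g⁆⁻¹ := by
    rw [mem_center_iff.1 hz w, commutatorElement_def]; group
  have h1 : ⁅w, g⁆⁻¹ ^ p = 1 := by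
    have h2 := congrArg (· ^ p) e
    simp only [conj_pow] at h2
    rw [Commute.mul_pow (mem_center_iff.1 hz w), mem_center_iff.1 hwp g, mul_inv_cancel_right,
      left_eq_mul] at h2
    exact h2
  rw [mem_cent_iff_conj, pow_conj_eq_of_conj_eq_mul (mem_center_iff.1 hz g) e, h1, mul_one]

/-- `P / C_P(w)` is elementary abelian and acts without non-central fixed points. -/
theorem relIndex_cent_dvd_prime [Finite G] {p : ℕ} [hp : Fact p.Prime] {P S : Subgroup G}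
    (hP : IsPGroup p P) {w : G} (hwp : w ^ p ∈ center G) (hw : ∀ g ∈ P, ⁅w, g⁆ ∈ center G)
    (hS : ∀ a ∈ S, ∀ b ∈ S, Commute a b) (hSp : (Nat.card S).Coprime p)
    (hn : P ≤ normalizer (S : Set G)) (hB : P ⊓ cent(w) ≤ centralizer (S : Set G))
    (hfix : ∀ g ∈ P, g ∉ cent(w) → ∀ y ∈ S, Commute g y → y ∈ center G)
    (hSZ : ¬ S ≤ center G) : (cent(w)).relIndex P ∣ p := by
  haveI := isMulCommutative_of_forall hS
  obtain ⟨k, hk⟩ := hP.exists_card_eq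
  have h1 := inf_centralizer_inf_commutator_eq_bot (V := S) hn (hk ▸ hSp.symm.pow_left k)
  have hKS : ⁅S, P⁆ ≤ S := commutator_le.2 fun s hs g hg => by
    rw [commutatorElement_def, mul_assoc, mul_assoc, ← mul_assoc g]
    exact mul_mem hs ((mem_normalizer_iff.1 (hn hg) _).1 (inv_mem hs))
  have h2 : ∀ g ∈ P, g ∉ cent(w) → ∀ y ∈ ⁅S, P⁆, Commute g y → y = 1 := fun g hg hg' y hy hc =>
    mem_bot.1 (h1 ▸ ⟨⟨hKS hy, fun x _ => mem_center_iff.1 (hfix g hg hg' y (hKS hy) hc) x⟩, hy⟩)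
  by_cases h0 : ⁅S, P⁆ = ⊥
  · rw [relIndex_eq_one.2 fun g hg => by_contra fun e => hSZ fun y hy => hfix g hg e y hy
      (commutator_eq_bot_iff_le_centralizer.1 h0 hy g hg)]
    exact one_dvd p
  haveI := (nontrivial_iff_ne_bot _).2 h0
  haveI : IsMulCommutative (⁅S, P⁆ : Subgroup G) :=
    isMulCommutative_of_forall fun a ha b hb => hS a (hKS ha) b (hKS hb)
  set ρ := (normalizerMonoidHom ⁅S, P⁆).comp
    (inclusion (le_normalizer_commutator' hn le_normalizer)) with hρ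
  have hρ' : ∀ (g : P) (y : (⁅S, P⁆ : Subgroup G)), ρ g y = y ↔ Commute (g : G) y := fun g y => by
    rw [← Subtype.coe_inj, ← mem_cent, mem_cent_iff_conj]; rfl
  have hker : ρ.ker = (cent(w)).subgroupOf P := by
    ext g
    rw [MonoidHom.mem_ker, mem_subgroupOf]
    refine ⟨fun e => by_contra fun e' => h0 ((eq_bot_iff_forall _).2 fun y hy =>
      h2 g g.2 e' y hy ((hρ' g ⟨y, hy⟩).1 (by rw [e]; rfl))), fun e => MulEquiv.ext fun y =>
      (hρ' g y).2 (hB ⟨g.2, e⟩ y (hKS y.2)).symm⟩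
  have hf : CL.Perm.IsFpf ρ.range := CL.Perm.isFpf_of_mulAut_comm ρ.range.subtype (by
    rintro ⟨_, g, rfl⟩ hg y hy
    exact Subtype.ext (h2 g g.2 (fun e => hg (Subtype.ext
      (MonoidHom.mem_ker.1 (hker ▸ e)))) y y.2 ((hρ' g y).1 hy)))
  have hexp : ∀ e : ρ.range, e ^ p = 1 := by
    rintro ⟨_, g, rfl⟩
    refine Subtype.ext ?_
    change ρ g ^ p = 1
    rw [← map_pow]
    exact MonoidHom.mem_ker.1 (hker ▸ pow_mem_cent_of_commutator hwp (hw g g.2))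
  haveI := hf.isCyclic_of_forall_prime fun e he => by
    rw [orderOf_eq_prime (hexp e) he]; exact hp.out
  rw [relIndex, ← hker, index_ker, ← IsCyclic.exponent_eq_card]
  exact Monoid.exponent_dvd_of_forall_pow_eq_one hexp

section two

variable [Finite G] {p m : ℕ}

theorem cent_eq_of_two (h : ∀ x : G, IsPiElt {p}ᶜ x → cs(x) = 1 ∨ cs(x) = m) {x y : G}
    (hx : IsPiElt {p}ᶜ x) (hxZ : x ∉ center G) (hy : IsPiElt {p}ᶜ y) (hyZ : y ∉ center G)
    (hle : cent(x) ≤ cent(y)) : cent(x) = cent(y) :=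
  cent_eq_of_le_of_cs_le hle (by
    rw [(h x hx).resolve_left (mt cs_eq_one_iff.1 hxZ), (h y hy).resolve_left (mt cs_eq_one_iff.1 hyZ)])

/-- two non-central primes: centralizers of `p`-regular elements are `P × A` with `A` abelian -/
theorem cent_le_of_two (h : ∀ x : G, IsPiElt {p}ᶜ x → cs(x) = 1 ∨ cs(x) = m)
    (hr : ∀ s : ℕ, ∃ r : ℕ, r.Prime ∧ r ≠ p ∧ r ≠ s ∧ ∃ w : G, IsPiElt {r} w ∧ w ∉ center G) {x u : G}
    (hx : IsPiElt {p}ᶜ x) (hxZ : x ∉ center G) (hu : IsPiElt {p}ᶜ u) (hux : u ∈ cent(x)) :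
    cent(x) ≤ cent(u) := by
  have hm : ∀ x : G, IsPiElt {p}ᶜ x → x ∉ center G → cs(x) = m := fun x hx hxZ =>
    (h x hx).resolve_left (mt cs_eq_one_iff.1 hxZ)
  have h1 : ∀ (π : Set ℕ) (a b : G), IsPiElt {p}ᶜ a → a ∉ center G → IsPiElt {p}ᶜ b → IsPiElt π a →
      IsPiElt πᶜ b → b ∈ cent(a) → cent(a) ≤ cent(b) := fun π a b ha haZ hb ha' hb' hc => by
    have hc' := mem_cent'.1 hc
    have e := cent_mul_of_coprime hc' (ha'.coprime hb')
    rw [← cent_eq_of_two h (ha.mul hb hc') (fun e' => haZ (piPart_mul_eq hc' ha' hb' ▸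
      piPart_mem e')) ha haZ (e ▸ inf_le_left), e]
    exact inf_le_right
  obtain ⟨s, hs, -, hsZ⟩ : ∃ s : ℕ, s.Prime ∧ s ∣ orderOf x ∧ piPart {s} x ∉ center G := by
    by_contra e
    push Not at e
    exact hxZ (mem_of_forall_piPart_mem e)
  have hx' := hx.of_mem_zpowers (piPart_mem_zpowers {s} x)
  rw [cent_eq_of_two h hx hxZ hx' hsZ (cent_le_piPart _ _)] at hux ⊢
  obtain ⟨r, hr, hrp, hrs, w, hw, hwZ⟩ := hr s
  haveI := Fact.mk hr
  have hrp' : ({r} : Set ℕ) ⊆ {p}ᶜ := Set.singleton_subset_iff.2 hrp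
  obtain ⟨y, hy, hyr, hyZ⟩ := exists_noncentral_mem_cent hw hwZ
    ((hm w (hw.mono hrp') hwZ).trans (hm _ hx' hsZ).symm)
  have hys : IsPiElt {s}ᶜ y := hyr.mono (Set.singleton_subset_iff.2 hrs)
  have e := cent_eq_of_two h hx' hsZ (hyr.mono hrp') hyZ
    (h1 {s} _ y hx' hsZ (hyr.mono hrp') (isPiElt_piPart _ _) hys hy)
  refine le_cent_of_piPart (π := {s}) ?_ (h1 {s} _ _ hx' hsZ
    (hu.of_mem_zpowers (piPart_mem_zpowers _ _)) (isPiElt_piPart _ _) (isPiElt_piPart _ _)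
    (piPart_mem hux))
  rw [e] at hux ⊢
  exact h1 {s}ᶜ _ _ (hyr.mono hrp') hyZ (hu.of_mem_zpowers (piPart_mem_zpowers _ _)) hys
    (by rw [compl_compl]; exact isPiElt_piPart _ _) (piPart_mem hux)

theorem exists_semiReg (h : ∀ x : G, IsPiElt {p}ᶜ x → cs(x) = 1 ∨ cs(x) = m)
    (hr : ∀ s : ℕ, ∃ r : ℕ, r.Prime ∧ r ≠ p ∧ r ≠ s ∧ ∃ w : G, IsPiElt {r} w ∧ w ∉ center G) {x : G}
    (hx : IsPiElt {p}ᶜ x) (hxZ : x ∉ center G) :
    ∃ A : Subgroup G, SemiReg A cent(x) ∧ ∀ u, u ∈ A ↔ u ∈ cent(x) ∧ IsPiElt {p}ᶜ u := by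
  let A : Subgroup G :=
    { carrier := {u | u ∈ cent(x) ∧ IsPiElt {p}ᶜ u}
      one_mem' := ⟨one_mem _, isPiElt_one _⟩
      mul_mem' := fun ha hb => ⟨mul_mem ha.1 hb.1,
        ha.2.mul hb.2 (mem_cent.1 (cent_le_of_two h hr hx hxZ hb.2 hb.1 ha.1))⟩
      inv_mem' := fun ha => ⟨inv_mem ha.1, ha.2.inv⟩ }
  exact ⟨A, ⟨fun _ ha => ha.1, fun a ha => cent_le_of_two h hr hx hxZ ha.2 ha.1,
    fun a ha haZ => (cent_eq_of_two h hx hxZ ha.2 haZ (cent_le_of_two h hr hx hxZ ha.2 ha.1)).ge,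
    fun g hg => mem_normalizer_fintype fun _ ha =>
      ⟨(mem_normalizer_iff.1 hg _).1 ha.1, ha.2.conj g⟩⟩, fun _ => Iff.rfl⟩

/-- **Two `p`-regular class sizes**: if two primes `≠ p` divide `|G : Z(G)|`, then the non-trivial
class size is a power of `p`. -/
theorem exists_eq_pow_of_two [hp : Fact p.Prime]
    (h : ∀ x : G, IsPiElt {p}ᶜ x → cs(x) = 1 ∨ cs(x) = m)
    (hr : ∀ s : ℕ, ∃ r : ℕ, r.Prime ∧ r ≠ p ∧ r ≠ s ∧ ∃ w : G, IsPiElt {r} w ∧ w ∉ center G) :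
    ∃ k, m = p ^ k := by
  have hm : ∀ x : G, IsPiElt {p}ᶜ x → x ∉ center G → cs(x) = m := fun x hx hxZ =>
    (h x hx).resolve_left (mt cs_eq_one_iff.1 hxZ)
  have sub : ∀ {r : ℕ}, r ≠ p → ({r} : Set ℕ) ⊆ {p}ᶜ := fun e => Set.singleton_subset_iff.2 e
  obtain ⟨r₀, -, hp₀, -, w₀, hw₀, hw₀Z⟩ := hr p
  have hm₀ := hm w₀ (hw₀.mono (sub hp₀)) hw₀Z
  refine (isPiNum_singleton_iff hp.out (hm₀ ▸ cs_ne_zero w₀)).1 fun l hl hlm => ?_
  by_contra hlp
  replace hlp : l ≠ p := hlp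
  haveI := Fact.mk hl
  have hZ : m ∣ (center G).index := hm₀ ▸ cs_dvd_index_center w₀
  obtain ⟨Q⟩ : Nonempty (Sylow l G) := inferInstance
  obtain ⟨x, hx, hxZ, -, hxQ⟩ := exists_second_center Q.isPGroup' le_rfl le_normalizer
    fun e => not_dvd_index_of_sylow_le Q e (hlm.trans hZ)
  have hxl := isPiElt_singleton_of_mem Q.isPGroup' hx
  have hxp := hxl.mono (sub hlp)
  have hxm := hm x hxp hxZ
  obtain ⟨A, hA, hA'⟩ := exists_semiReg h hr hxp hxZ
  have hex : ∀ s : ℕ, s.Prime → s ≠ p → ∀ y : G, IsPiElt {p}ᶜ y → y ∉ center G →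
      (∃ w : G, IsPiElt {s} w ∧ w ∉ center G) → ∃ a ∈ cent(y), IsPiElt {s} a ∧ a ∉ center G :=
    fun s hs hsp y hy hyZ ⟨w, hw, hwZ⟩ => by
    haveI := Fact.mk hs
    exact exists_noncentral_mem_cent hw hwZ ((hm w (hw.mono (sub hsp)) hwZ).trans (hm y hy hyZ).symm)
  have huniq : ∀ s : ℕ, s.Prime → s ≠ p → s ∣ m → s = l := fun s hs hsp hsm => by
    haveI := Fact.mk hs
    exact hA.eq_of_dvd_index hs hl (fun u hu hu' => (hA' u).2 ⟨hu, hu'.mono (sub hsp)⟩)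
      (fun u hu hu' => (hA' u).2 ⟨hu, hu'.mono (sub hlp)⟩)
      (hex s hs hsp x hxp hxZ (exists_noncentral_of_dvd (hsm.trans hZ)))
      ⟨x, self_mem_cent x, hxl, hxZ⟩ (hxm ▸ hsm) (hxm ▸ hlm)
  have hcent : ∀ u ∈ cent(x), IsPiElt {p}ᶜ u → u ∉ center G → cent(u) = cent(x) :=
    fun u hu hu' huZ => le_antisymm (hA.cent_le u ((hA' u).2 ⟨hu, hu'⟩) huZ)
      (hA.comm u ((hA' u).2 ⟨hu, hu'⟩))
  have hQN : (Q : Subgroup G) ≤ normalizer ((cent(x) : Subgroup G) : Set G) :=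
    fun g hg => mem_normalizer_cent_of_commutator_mem (hxQ g hg)
  -- the quotient `(G / Z) / O_p`
  set f₁ := QuotientGroup.mk' (center G) with hf₁
  set f₂ := QuotientGroup.mk' (pCore p (G ⧸ center G)) with hf₂
  set f := f₂.comp f₁ with hf
  have hs₁ : Function.Surjective f₁ := QuotientGroup.mk'_surjective _
  have hs₂ : Function.Surjective f₂ := QuotientGroup.mk'_surjective _
  have hs : Function.Surjective f := hs₂.comp hs₁
  have hker : ∀ z : G, f z = 1 → ∃ k, z ^ p ^ k ∈ center G := fun z hz => by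
    obtain ⟨k, hk⟩ := pCore_isPGroup p _ ⟨f₁ z, (QuotientGroup.eq_one_iff _).1 hz⟩
    exact ⟨k, (QuotientGroup.eq_one_iff _).1 (congrArg Subtype.val hk)⟩
  have hcs : ∃ k, cs(f x) = p ^ k := by
    refine (isPiNum_singleton_iff hp.out (cs_ne_zero _)).1 fun s hs' hd => ?_
    by_contra hsp
    have h1 : cs(f x) ∣ cs(f₁ x) := cs_map_dvd hs₂ _
    obtain rfl := huniq s hs' hsp (hd.trans (h1.trans (hxm ▸ cs_map_dvd hs₁ x)))
    refine not_dvd_index_of_sylow_le (Q.mapSurjective hs₁) ?_ (hd.trans h1)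
    rintro _ ⟨g, hg, rfl⟩
    rw [mem_cent', ← commutatorElement_eq_one_iff_commute, ← map_commutatorElement]
    exact (QuotientGroup.eq_one_iff _).2 (hxQ g hg)
  obtain ⟨k, hk⟩ := hcs
  set V := (pCore l _).comap f with hV
  have hxV : x ∈ V := le_pCore_of_le_fittingSubgroup (hxl.map f).isPGroup_zpowers
    (zpowers_le.2 (normalClosure_le_of_pCore_eq_bot (pCore_quotient_pCore p _) hk
      (subset_normalClosure rfl)).1) (mem_zpowers _)
  obtain ⟨r, hr', hrp, hrl, hw⟩ := hr l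
  haveI := Fact.mk hr'
  obtain ⟨a, ha, har, haZ⟩ := hex r hr' hrp x hxp hxZ hw
  have hac := hcent a ha (har.mono (sub hrp)) haZ
  have hVQ : V ⊓ Q ≤ cent(x) := fun v hv => by
    have h1 : v * a * v⁻¹ ∈ cent(x) := (mem_normalizer_iff.1 (hQN hv.2) a).1 ha
    have h2 : IsPiElt {r} (a⁻¹ * (v * a * v⁻¹)) :=
      har.inv.mul (har.conj v) (mem_cent'.1 (hac ▸ h1)).inv_left
    have h3 : a⁻¹ * (v * a * v⁻¹) ∈ V := by
      have := mul_mem ((inferInstance : V.Normal).conj_mem v hv.1 a⁻¹) (inv_mem hv.1)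
      simpa [mul_assoc] using this
    obtain ⟨j, hj⟩ := hker _ ((isPiElt_singleton_of_mem (pCore_isPGroup l _) h3).eq_one
      ((h2.map f).mono (Set.singleton_subset_iff.2 hrl)))
    have h4 := mem_of_pow_mem_coprime ((isPiNum_singleton_pow hp.out j).coprime
      (h2.mono (sub hrp))) hj (by rw [pow_orderOf_eq_one]; exact one_mem _)
    rw [← hac]
    exact mem_of_pow_mem_coprime (h2.coprime ((isPiElt_singleton_of_mem Q.isPGroup' hv.2).mono
      (Set.singleton_subset_iff.2 hrl.symm)))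
      (pow_orderOf_mem_cent (mem_center_iff.1 h4 v) (by group))
      (by rw [pow_orderOf_eq_one]; exact one_mem _)
  set L := cent(x) ⊔ f.ker with hL
  have hVL : V ≤ L := fun v hv => by
    obtain ⟨y, hy, e⟩ := pCore_le_sylow (Q.mapSurjective hs) hv
    have h1 : y ∈ V := by rw [hV, mem_comap, e]; exact hv
    rw [← mul_inv_cancel_left y v]
    exact mul_mem (mem_sup_left (hVQ ⟨h1, hy⟩)) (mem_sup_right (by
      rw [MonoidHom.mem_ker, map_mul, map_inv, e, inv_mul_cancel]))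
  have hNL : normalizer ((cent(x) : Subgroup G) : Set G) ≤ normalizer (L : Set G) :=
    le_normalizer_sup' le_rfl (le_top.trans (normalizer_eq_top f.ker).ge)
  haveI : L.Normal := normalizer_eq_top_iff.1 (eq_top_iff.2 fun g _ => by
    obtain ⟨v, hv, hv'⟩ := (isSylowIn_inf_normal Q V).exists_conj_le
      (hxl.conj g).isPGroup_zpowers (zpowers_le.2 ((inferInstance : V.Normal).conj_mem x hxV g))
    have h1 := (conj_smul_le_iff _ _ _).1 hv' _ (mem_zpowers _)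
    have h2 : v * (g * x * g⁻¹) * v⁻¹ = (v * g) * x * (v * g)⁻¹ := by group
    rw [h2] at h1
    have h3 := hcent _ (hVQ ⟨h1.2, h1.1⟩) (hxp.conj _) fun e => hxZ (by
      have := (inferInstance : (center G).Normal).conj_mem _ e (v * g)⁻¹
      simpa [mul_assoc] using this)
    rw [cent_conj, conj_smul_eq_self_iff] at h3
    have := mul_mem (inv_mem (le_normalizer (hVL hv))) (hNL h3)
    simpa using this)
  obtain ⟨y, hy, hyC⟩ := SetLike.not_le_iff_exists.1 fun e =>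
    not_dvd_index_of_sylow_le Q e (hxm ▸ hlm)
  have hyl := isPiElt_singleton_of_mem Q.isPGroup' hy
  have hyL : y ∈ L := by
    obtain ⟨d, hd, hdr, hdZ⟩ := hex r hr' hrp y (hyl.mono (sub hlp))
      (fun e => hyC (center_le_cent x e)) hw
    obtain ⟨g, hg⟩ := hdr.exists_conj_mem_of_not_dvd_index (H := cent(x))
      fun e => hrl (huniq r hr' hrp (hxm ▸ e))
    have h1 := hcent _ hg ((hdr.conj g).mono (sub hrp)) fun e => hdZ (by
      have := (inferInstance : (center G).Normal).conj_mem _ e g⁻¹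
      simpa [mul_assoc] using this)
    have h2 : g * y * g⁻¹ ∈ L := mem_sup_left (h1 ▸ conj_mem_cent_conj.2 (mem_cent_comm.1 hd))
    have := (inferInstance : L.Normal).conj_mem _ h2 g⁻¹
    simpa [mul_assoc] using this
  obtain ⟨c, hc, z, hz, rfl⟩ := mem_sup_of_normal_right.1 hyL
  obtain ⟨j, hj⟩ := hker z hz
  have hzN : z ∈ normalizer ((cent(x) : Subgroup G) : Set G) :=
    (Subgroup.mul_mem_cancel_left _ (le_normalizer hc)).1 (hQN hy)
  set π := QuotientGroup.mk' ((cent(x)).subgroupOf (normalizer ((cent(x) : Subgroup G) : Set G)))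
  have h1 : π ⟨c * z, hQN hy⟩ = π ⟨z, hzN⟩ := by
    have : π ⟨c, le_normalizer hc⟩ = 1 := (QuotientGroup.eq_one_iff _).2 hc
    rw [← one_mul (π ⟨z, hzN⟩), ← this, ← map_mul]; rfl
  have h2 : (c * z) ^ p ^ j ∈ cent(x) := by
    have : π (⟨c * z, hQN hy⟩ ^ p ^ j) = 1 := by
      rw [map_pow, h1, ← map_pow]
      exact (QuotientGroup.eq_one_iff _).2 (center_le_cent x hj)
    exact (QuotientGroup.eq_one_iff (N := (cent(x)).subgroupOf _) _).1 this
  exact hyC (mem_of_pow_mem_coprime ((isPiNum_singleton_pow hp.out j).coprime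
    (hyl.mono (sub hlp))) h2 (by rw [pow_orderOf_eq_one]; exact one_mem _))

end two

end CL.Fgs
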