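/-
Groups with class sizes `1, m, m n` (helper97): common lemmas.
-/
import Cfsg.Agent.Fgs.PReg
import Cfsg.Agent.Grp.PGroupMaxClass

namespace CL.Fgs

open Subgroup Cfsg CL.Grp
open scoped Pointwise commutatorElement

variable {G : Type*} [Group G]

theorem conj_mem_center_iff {g x : G} : g * x * g⁻¹ ∈ center G ↔ x ∈ center G :=
  ⟨fun h => by simpa [mul_assoc] using (inferInstance : (center G).Normal).conj_mem _ h g⁻¹,
    fun h => (inferInstance : (center G).Normal).conj_mem _ h g⟩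

theorem sub_compl {r s : ℕ} (h : r ≠ s) : ({r} : Set ℕ) ⊆ {s}ᶜ := Set.singleton_subset_iff.2 h

variable [Finite G]

theorem exists_noncentral_mem_cent' {r : ℕ} [hr : Fact r.Prime] {a b w : G} (hwa : w ∈ cent(a))
    (hw : IsPiElt {r} w) (hwZ : w ∉ center G) {c : ℕ} (hc : ¬ r ∣ c) (h : cs(b) ∣ cs(a) * c) :
    ∃ x ∈ cent(b), IsPiElt {r} x ∧ x ∉ center G := by
  by_contra hn
  push Not at hn
  obtain ⟨S, hS⟩ := exists_isSylowIn r cent(b)
  have hSZ : S ≤ center G := fun s hs => hn s (hS.le hs) (isPiElt_singleton_of_mem hS.isPGroup hs)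
  obtain ⟨T, hT⟩ := exists_isSylowIn r cent(a)
  obtain ⟨k, hk⟩ := hT.isPGroup.exists_card_eq
  have h1 : Nat.card T ∣ Nat.card S := by
    have h2 : Nat.card T * cs(a) ∣ Nat.card S * (S.relIndex cent(b) * c) * cs(a) :=
      calc Nat.card T * cs(a) ∣ Nat.card cent(a) * cs(a) :=
            Nat.mul_dvd_mul_right (card_dvd_of_le hT.le) _
        _ = Nat.card cent(b) * cs(b) := by rw [card_cent_mul_cs, card_cent_mul_cs]
        _ ∣ Nat.card cent(b) * (cs(a) * c) := Nat.mul_dvd_mul_left _ h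
        _ = _ := by rw [← card_mul_relIndex hS.le]; ring
    refine Nat.Coprime.dvd_of_dvd_mul_right ?_ (Nat.dvd_of_mul_dvd_mul_right (cs_pos a) h2)
    rw [hk]
    exact Nat.Coprime.pow_left _ ((Nat.Prime.coprime_iff_not_dvd hr.out).2 fun e =>
      ((Nat.Prime.dvd_mul hr.out).1 e).elim hS.not_dvd hc)
  obtain ⟨g, -, hg⟩ := (hT.of_card_le hS.isPGroup (hSZ.trans (center_le_cent a))
    (Nat.le_of_dvd Nat.card_pos h1)).exists_conj_le hw.isPGroup_zpowers (zpowers_le.2 hwa)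
  exact hwZ (conj_mem_center_iff.1 (hSZ ((conj_smul_le_iff _ _ _).1 hg w (mem_zpowers w))))

theorem not_dvd_relIndex_of_forall {s : ℕ} [Fact s.Prime] {K H : Subgroup G}
    (h : ∀ u ∈ H, IsPiElt {s} u → u ∈ K) : ¬ s ∣ K.relIndex H := by
  obtain ⟨S, hS⟩ := exists_isSylowIn s H
  rw [← inf_relIndex_right]
  exact hS.not_dvd_relIndex_of_le (fun u hu => ⟨h u (hS.le hu)
    (isPiElt_singleton_of_mem hS.isPGroup hu), hS.le hu⟩) inf_le_right

theorem not_dvd_index_of_forall {s : ℕ} [Fact s.Prime] {K : Subgroup G}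
    (h : ∀ u, IsPiElt {s} u → u ∈ K) : ¬ s ∣ K.index := by
  rw [← relIndex_top_right]
  exact not_dvd_relIndex_of_forall fun u _ => h u

theorem exists_relIndex_eq_pow_of_forall {p : ℕ} (hp : p.Prime) {K H : Subgroup G}
    (h : ∀ u ∈ H, IsPiElt {p}ᶜ u → u ∈ K) : ∃ k, K.relIndex H = p ^ k := by
  refine (isPiNum_singleton_iff hp index_ne_zero_of_finite).1 fun s hs hd => ?_
  by_contra e
  haveI := Fact.mk hs
  exact not_dvd_relIndex_of_forall (fun u hu hu' => h u hu (hu'.mono (sub_compl e))) hd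

theorem isSylowIn_of_forall {p : ℕ} [Fact p.Prime] {K H : Subgroup G}
    (h : ∀ u, u ∈ K ↔ u ∈ H ∧ IsPiElt {p} u) : IsSylowIn p K H :=
  ⟨fun u hu => ((h u).1 hu).1, isPGroup_of_forall_isPiElt fun u hu => ((h u).1 hu).2,
    not_dvd_relIndex_of_forall fun u hu hu' => (h u).2 ⟨hu, hu'⟩⟩

/-- `p`-regular class sizes `1, n` inside a subgroup -/
theorem two_cases_in {r n : ℕ} [Fact r.Prime] {H : Subgroup G}
    (h : ∀ y ∈ H, IsPiElt {r}ᶜ y → (cent(y)).relIndex H = 1 ∨ (cent(y)).relIndex H = n) :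
    (∃ k, n = r ^ k) ∨
      ∃ q, ∀ s : ℕ, s.Prime → s ≠ r → s ≠ q → ∀ w ∈ H, IsPiElt {s} w → H ≤ cent(w) := by
  by_cases hr : ∀ s : ℕ, ∃ t : ℕ, t.Prime ∧ t ≠ r ∧ t ≠ s ∧ ∃ w : H, IsPiElt {t} w ∧ w ∉ center H
  · exact Or.inl (exists_eq_pow_of_two (G := H) (fun y hy => by
      rw [cs_coe]; exact h y y.2 (isPiElt_coe_iff.2 hy)) hr)
  push Not at hr
  obtain ⟨q, hq⟩ := hr
  exact Or.inr ⟨q, fun s hs h1 h2 w hw hw' g hg => mem_cent.2 (congrArg Subtype.val
    (mem_center_iff.1 (hq s hs h1 h2 ⟨w, hw⟩ (isPiElt_coe_iff.1 hw')) ⟨g, hg⟩))⟩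

/-- if all `l'`-elements have class size prime to `l`, the `l`-elements have `l`-power class size -/
theorem exists_cs_eq_pow_of_forall_not_dvd {l : ℕ} [hl : Fact l.Prime]
    (h : ∀ y : G, IsPiElt {l}ᶜ y → ¬ l ∣ cs(y)) {v : G} (hv : IsPiElt {l} v) :
    ∃ k, cs(v) = l ^ k := by
  rw [← relIndex_top_right]
  exact exists_relIndex_eq_pow_of_forall hl.out fun u _ hu => mem_cent'.2
    (commute_of_forall_not_dvd (C := ⊤) (fun y _ hy => by rw [relIndex_top_right]; exact h y hy)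
      trivial trivial hv hu)

/-- `H` is nilpotent if its `r'`-elements have class sizes `1, n` with `n > 1` prime to `r`. -/
theorem commute_of_two_in {r n : ℕ} [hr : Fact r.Prime] {H : Subgroup G} (hn : 1 < n) (hrn : ¬ r ∣ n)
    (h : ∀ y ∈ H, IsPiElt {r}ᶜ y → (cent(y)).relIndex H = 1 ∨ (cent(y)).relIndex H = n)
    {s : ℕ} (hs : s.Prime) {v g : G} (hv : v ∈ H) (hg : g ∈ H) (hvs : IsPiElt {s} v)
    (hgs : IsPiElt {s}ᶜ g) : Commute v g := by
  have h1 : ∀ x ∈ H, ∀ y ∈ H, IsPiElt {r} x → IsPiElt {r}ᶜ y → Commute x y :=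
    fun x hx y hy h1 h2 => commute_of_forall_not_dvd (fun y hy hy' => by
      rcases h y hy hy' with e | e <;> rw [e]
      exacts [hr.out.not_dvd_one, hrn]) hx hy h1 h2
  obtain ⟨q, hq⟩ := (two_cases_in h).resolve_left (by
    rintro ⟨k, rfl⟩
    exact hrn (dvd_pow_self r (by rintro rfl; simp at hn)))
  refine mem_cent'.1 (hgs.mem_of_forall_primePow_mem fun t u ht hts hu hug => ?_)
  have huH : u ∈ H := zpowers_le.2 hg hug
  by_cases e1 : s = r
  · subst e1; exact mem_cent'.2 (h1 v hv u huH hvs (hu.mono (sub_compl hts)))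
  by_cases e2 : t = r
  · subst e2; exact mem_cent.2 (h1 u huH v hv hu (hvs.mono (sub_compl e1)))
  by_cases e3 : s = q
  · subst e3; exact mem_cent_comm.1 (hq t ht e2 hts u huH hu hv)
  · exact hq s hs e1 e3 v hv hvs huH

/-- Class sizes `1, m, m n` with `m, n > 1` coprime. -/
structure Three (G : Type*) [Group G] (m n : ℕ) : Prop where
  one_lt_m : 1 < m
  one_lt_n : 1 < n
  cop : m.Coprime n
  cs_mem : ∀ x : G, cs(x) = 1 ∨ cs(x) = m ∨ cs(x) = m * n
  ex_m : ∃ x : G, cs(x) = m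
  ex_mn : ∃ x : G, cs(x) = m * n

namespace Three

variable {m n : ℕ}

omit [Finite G] in
theorem cs_of (h : Three G m n) {x : G} (hx : x ∉ center G) : cs(x) = m ∨ cs(x) = m * n :=
  (h.cs_mem x).resolve_left (mt cs_eq_one_iff.1 hx)

omit [Finite G] in
theorem dvd_cs (h : Three G m n) {x : G} (hx : x ∉ center G) : m ∣ cs(x) := by
  rcases h.cs_of hx with e | e <;> rw [e]
  exact dvd_mul_right _ _

omit [Finite G] in
theorem cs_dvd (h : Three G m n) (x : G) : cs(x) ∣ m * n := by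
  rcases h.cs_mem x with e | e | e <;> rw [e]
  exacts [one_dvd _, dvd_mul_right _ _]

omit [Finite G] in
theorem lt (h : Three G m n) : m < m * n := by have := h.one_lt_m; have := h.one_lt_n; nlinarith

omit [Finite G] in
theorem not_mem_center (h : Three G m n) {x : G} (hx : m ∣ cs(x)) : x ∉ center G := fun e => by
  rw [cs_eq_one_iff.2 e] at hx
  exact h.one_lt_m.ne' (Nat.dvd_one.1 hx)

omit [Finite G] in
theorem not_dvd_n (h : Three G m n) {r : ℕ} (hr : r.Prime) (hd : r ∣ m) : ¬ r ∣ n :=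
  fun e => hr.one_lt.ne' (Nat.eq_one_of_dvd_coprimes h.cop hd e)

omit [Finite G] in
theorem dvd_index (h : Three G m n) : m * n ∣ (center G).index := by
  obtain ⟨y, hy⟩ := h.ex_mn
  exact hy ▸ cs_dvd_index_center y

theorem cent_eq (h : Three G m n) {x y : G} (hx : cs(x) = m) (hy : y ∉ center G)
    (hle : cent(x) ≤ cent(y)) : cent(x) = cent(y) :=
  cent_eq_of_le_of_cs_le hle (hx ▸ Nat.le_of_dvd (cs_pos y) (h.dvd_cs hy))

theorem cent_eq' (h : Three G m n) {x y : G} (hy : cs(y) = m * n)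
    (hle : cent(x) ≤ cent(y)) : cent(x) = cent(y) :=
  cent_eq_of_le_of_cs_le hle (hy ▸ Nat.le_of_dvd (hy ▸ cs_pos y) (h.cs_dvd x))

theorem cent_le (h : Three G m n) {u y : G} (hu : cs(u) = m * n) (hc : y ∈ cent(u))
    (ho : (orderOf u).Coprime (orderOf y)) : cent(u) ≤ cent(y) := by
  have e := cent_mul_of_coprime (mem_cent'.1 hc) ho
  rw [← h.cent_eq' hu (e ▸ inf_le_left), e]
  exact inf_le_right

theorem exists_mem_cent (h : Three G m n) {r : ℕ} [hr : Fact r.Prime] (hd : r ∣ m) {g : G} :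
    ∃ x ∈ cent(g), IsPiElt {r} x ∧ x ∉ center G := by
  obtain ⟨w, hw, hwZ⟩ := exists_noncentral_of_dvd ((hd.mul_right n).trans h.dvd_index)
  exact exists_noncentral_mem_cent' (self_mem_cent w) hw hwZ (h.not_dvd_n hr.out hd)
    ((h.cs_dvd g).trans (Nat.mul_dvd_mul_right (h.dvd_cs hwZ) n))

theorem relIndex (h : Three G m n) {π : Set ℕ} {x : G} (hx : IsPiElt π x) (hm : cs(x) = m) :
    ∀ y ∈ cent(x), IsPiElt πᶜ y →
      (cent(y)).relIndex cent(x) = 1 ∨ (cent(y)).relIndex cent(x) = n := fun y hy hy' => by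
  have e := cs_mul_of_coprime' (mem_cent'.1 hy) (hx.coprime hy')
  have h0 : 0 < m := h.one_lt_m.le
  rw [hm] at e
  rcases h.cs_of (h.not_mem_center (e ▸ dvd_mul_left _ _)) with e' | e' <;> rw [e'] at e
  · exact Or.inl (Nat.eq_of_mul_eq_mul_right h0 (by rw [← e, one_mul]))
  · exact Or.inr (Nat.eq_of_mul_eq_mul_right h0 (by rw [← e, mul_comm]))

theorem mem_center_of_forall (h : Three G m n) {l : ℕ} [hl : Fact l.Prime] (hlm : ¬ l ∣ m)
    (h1 : ∀ y : G, IsPiElt {l}ᶜ y → ¬ l ∣ cs(y)) {v : G} (hv : IsPiElt {l} v) : v ∈ center G := by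
  by_contra e
  obtain ⟨k, hk⟩ := exists_cs_eq_pow_of_forall_not_dvd h1 hv
  obtain ⟨j, -, hj⟩ := (Nat.dvd_prime_pow hl.out).1 (hk ▸ h.dvd_cs e)
  exact hlm (hj ▸ dvd_pow_self l (by rintro rfl; exact h.one_lt_m.ne' hj))

theorem mem_center (h : Three G m n) {l : ℕ} [hl : Fact l.Prime] (hlm : ¬ l ∣ m) (hln : ¬ l ∣ n)
    {v : G} (hv : IsPiElt {l} v) : v ∈ center G :=
  h.mem_center_of_forall hlm (fun y _ e =>
    ((Nat.Prime.dvd_mul hl.out).1 (e.trans (h.cs_dvd y))).elim hlm hln) hv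

theorem commute (h : Three G m n) {r : ℕ} [hr : Fact r.Prime] (hd : r ∣ m) {x : G}
    (hx : IsPiElt {r} x) (hm : cs(x) = m) {s : ℕ} (hs : s.Prime) {v g : G} (hv : v ∈ cent(x))
    (hg : g ∈ cent(x)) (hvs : IsPiElt {s} v) (hgs : IsPiElt {s}ᶜ g) : Commute v g :=
  commute_of_two_in h.one_lt_n (h.not_dvd_n hr.out hd) (h.relIndex hx hm) hs hv hg hvs hgs

theorem not_dvd_cs (h : Three G m n) {r : ℕ} [hr : Fact r.Prime] (hd : r ∣ m) {x : G}
    (hx : IsPiElt {r} x) (hm : cs(x) = m) {s : ℕ} [hs : Fact s.Prime] (hsm : ¬ s ∣ m) {g : G}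
    (hg : g ∈ cent(x)) (hgs : IsPiElt {s}ᶜ g) : ¬ s ∣ cs(g) := by
  obtain ⟨S, hS⟩ := exists_sylow_le_of_not_dvd_index (H := cent(x)) (hm ▸ hsm)
  exact not_dvd_index_of_sylow_le S fun v hv => mem_cent.2
    (h.commute hd hx hm hs.out (hS hv) hg (isPiElt_singleton_of_mem S.isPGroup' hv) hgs)

theorem exists_mn (h : Three G m n) :
    ∃ (p : ℕ) (u : G), p.Prime ∧ p ∣ m ∧ IsPiElt {p} u ∧ cs(u) = m * n := by
  by_contra hn
  push Not at hn
  obtain ⟨s, hs, hsn⟩ := Nat.exists_prime_and_dvd h.one_lt_n.ne'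
  obtain ⟨r, hr, hrm⟩ := Nat.exists_prime_and_dvd h.one_lt_m.ne'
  haveI := Fact.mk hs
  haveI := Fact.mk hr
  have hsm : ¬ s ∣ m := fun e => h.not_dvd_n hs e hsn
  refine not_dvd_index_of_forall (fun u hu => h.mem_center_of_forall hsm (fun g hg => ?_) hu)
    ((hsn.mul_left m).trans h.dvd_index)
  obtain ⟨x, hx, hxr, hxZ⟩ := h.exists_mem_cent hrm (g := g)
  exact h.not_dvd_cs hrm hxr ((h.cs_of hxZ).resolve_right (hn r x hr hrm hxr)) hsm
    (mem_cent_comm.1 hx) hg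

/-- Main case: the centralizer of an `r`-element of class size `m`, `r ∣ m`, is abelian. -/
theorem abelian (h : Three G m n) {r : ℕ} [hr : Fact r.Prime] (hd : r ∣ m) {x : G}
    (hx : IsPiElt {r} x) (hm : cs(x) = m) : ∀ a ∈ cent(x), cent(x) ≤ cent(a) := by
  obtain ⟨p, u, hp, hpm, hup, hu⟩ := h.exists_mn
  haveI := Fact.mk hp
  obtain ⟨s, hs, hsn⟩ := Nat.exists_prime_and_dvd h.one_lt_n.ne'
  haveI := Fact.mk hs
  have hsm : ¬ s ∣ m := fun e => h.not_dvd_n hs e hsn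
  have hb : ∀ t : ℕ, t.Prime → ¬ t ∣ m → ∀ y ∈ cent(u), IsPiElt {t} y → y ∈ center G :=
    fun t ht htm y hy hyt => by
    haveI := Fact.mk ht
    by_contra hyZ
    obtain ⟨g, hg⟩ := hyt.exists_conj_mem_of_not_dvd_index (H := cent(x)) (hm ▸ htm)
    obtain ⟨S, hS⟩ := exists_isSylowIn p cent(x)
    have hST : S ≤ cent(g * y * g⁻¹) := fun v hv => mem_cent.2 (h.commute hd hx hm hp (hS.le hv) hg
      (isPiElt_singleton_of_mem hS.isPGroup hv)
      ((hyt.conj g).mono (sub_compl fun e => htm (e ▸ hpm))))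
    have hS' : IsSylowIn p S cent(g * y * g⁻¹) := ⟨hST, hS.isPGroup, fun e => hS.not_dvd
      (e.trans (Nat.dvd_of_mul_dvd_mul_right (cs_pos x) (by
        rw [relIndex_mul_index hS.le, ← relIndex_mul_index hST, hm]
        exact Nat.mul_dvd_mul_left _ (h.dvd_cs (mt conj_mem_center_iff.1 hyZ)))))⟩
    obtain ⟨k, -, hk⟩ := hS'.exists_conj_le (hup.conj g).isPGroup_zpowers
      (zpowers_le.2 (conj_mem_cent_conj.2 (mem_cent_comm.1 hy)))
    refine h.not_dvd_cs hd hx hm hsm (hS.le ((conj_smul_le_iff _ _ _).1 hk _ (mem_zpowers _)))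
      (((hup.conj g).conj k).mono (sub_compl fun e => hsm (e ▸ hpm))) ?_
    rw [cs_conj, cs_conj, hu]
    exact hsn.mul_left m
  have hc : ∀ y ∈ cent(x), IsPiElt {r}ᶜ y → cent(x) ≤ cent(y) := fun y hy hyr g hg => by
    refine mem_cent_comm.1 (hyr.mem_of_forall_primePow_mem fun t v ht htr hv hvy => ?_)
    haveI := Fact.mk ht
    have hvx : v ∈ cent(x) := zpowers_le.2 hy hvy
    have hvr := hv.mono (sub_compl htr)
    rcases h.relIndex hx hm v hvx hvr with e | e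
    · exact mem_cent_comm.1 (relIndex_eq_one.1 e hg)
    exfalso
    by_cases htn : t ∣ n
    · have h1 : v ∉ center G := fun e' => h.one_lt_n.ne (by
        rw [← e, cent_eq_top_iff.2 e', relIndex_top_left])
      have hc' := mem_cent'.1 hvx
      obtain ⟨w, k1, k2, k3⟩ := exists_noncentral_mem_cent' (a := x * v) (b := u)
        (mem_cent.2 (hc'.symm.mul_right (Commute.refl v))) hv h1 ht.not_dvd_one
        (by rw [cs_mul_of_coprime' hc' (hx.coprime hvr), e, hm, hu, mul_one, mul_comm])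
      exact k3 (hb t ht (fun e' => h.not_dvd_n ht e' htn) w k1 k2)
    · exact not_dvd_relIndex_of_forall (fun w hw hw' => mem_cent.2 (h.commute hd hx hm hs hw hvx hw'
        (hv.mono (sub_compl fun e' => htn (e' ▸ hsn))))) (e ▸ hsn)
  have hsr : s ≠ r := fun e => hsm (e ▸ hd)
  obtain ⟨S, hS⟩ := exists_sylow_le_of_not_dvd_index (H := cent(x)) (hm ▸ hsm)
  obtain ⟨y, hy, hyZ⟩ := SetLike.not_le_iff_exists.1 fun e =>
    not_dvd_index_of_sylow_le S e ((hsn.mul_left m).trans h.dvd_index)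
  have hys := isPiElt_singleton_of_mem S.isPGroup' hy
  have e := h.cent_eq hm hyZ (hc y (hS hy) (hys.mono (sub_compl hsr)))
  refine fun a ha => le_cent_of_piPart (π := {r}) ?_ (hc _ (piPart_mem ha) (isPiElt_piPart _ _))
  have hv := isPiElt_piPart {r} a
  rcases h.relIndex hys (e ▸ hm) _ (e ▸ piPart_mem ha) (hv.mono (sub_compl hsr.symm)) with e' | e'
  · exact e ▸ relIndex_eq_one.1 e'
  · exact (not_dvd_relIndex_of_forall (fun w hw hw' => mem_cent'.2 (h.commute hd hx hm hr.out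
      (piPart_mem ha) (e ▸ hw) hv (hw'.mono (sub_compl hsr)))) (e' ▸ hsn)).elim

theorem semiReg (h : Three G m n) {x : G} (hm : cs(x) = m)
    (hab : ∀ a ∈ cent(x), cent(x) ≤ cent(a)) : SemiReg cent(x) cent(x) :=
  ⟨le_rfl, hab, fun a ha haZ => (h.cent_eq hm haZ (hab a ha)).ge, le_rfl⟩

theorem normal_of_abelian (h : Three G m n) {r : ℕ} [hr : Fact r.Prime] (hd : r ∣ m) {x : G}
    (hm : cs(x) = m) (hab : ∀ a ∈ cent(x), cent(x) ≤ cent(a)) :
    (∃ k, m = r ^ k) ∧ (cent(x)).Normal := by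
  have hS := h.semiReg hm hab
  obtain ⟨k, hk⟩ : ∃ k, m = r ^ k := (isPiNum_singleton_iff hr.out (hm ▸ cs_ne_zero x)).1
    fun q hq hqm => by
      haveI := Fact.mk hq
      exact hS.eq_of_dvd_index hq hr.out (fun _ hu _ => hu) (fun _ hu _ => hu)
        (h.exists_mem_cent hqm) (h.exists_mem_cent hd) (hm ▸ hqm) (hm ▸ hd)
  refine ⟨⟨k, hk⟩, ?_⟩
  have hB := hS.piIn {r}
  have hL := hS.piIn {r}ᶜ
  set B := piIn {r} cent(x) hS.commute
  set L := piIn {r}ᶜ cent(x) hS.commute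
  have hBZ : ¬ B ≤ center G := by
    obtain ⟨w, h1, h2, h3⟩ := h.exists_mem_cent hd (g := x)
    exact fun e => h3 (e ⟨h1, h2⟩)
  have hBV : B ≤ pCore r G := fun b hb => by
    by_cases e : b ∈ center G
    · exact mem_pCore_of_cs_eq_pow (k := 0) hb.2 (cs_eq_one_iff.2 e)
    · exact mem_pCore_of_cs_eq_pow hb.2 (by rw [← h.cent_eq hm e (hab b hb.1), hm, hk])
  obtain ⟨s, hs, hsn⟩ := Nat.exists_prime_and_dvd h.one_lt_n.ne'
  haveI := Fact.mk hs
  have hsm : ¬ s ∣ m := fun e => h.not_dvd_n hs e hsn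
  obtain ⟨S, hS'⟩ := exists_sylow_le_of_not_dvd_index (H := cent(x)) (hm ▸ hsm)
  obtain ⟨y, hy, hyZ⟩ := SetLike.not_le_iff_exists.1 fun e =>
    not_dvd_index_of_sylow_le S e ((hsn.mul_left m).trans h.dvd_index)
  have hyL : y ∈ L := ⟨hS' hy,
    (isPiElt_singleton_of_mem S.isPGroup' hy).mono (sub_compl fun e => hsm (e ▸ hd))⟩
  have e : B = pCore r G := by
    by_contra e
    obtain ⟨g, hg, hgB⟩ := SetLike.exists_of_lt (lt_inf_normalizer_of_isPGroup (pCore_isPGroup r G)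
      (lt_of_le_of_ne hBV e))
    have h1 : g * y * g⁻¹ * y⁻¹ ∈ L := mul_mem (hL.conj_mem (hB.norm' hBZ hg.2) hyL) (inv_mem hyL)
    have h2 : g * y * g⁻¹ * y⁻¹ ∈ pCore r G := by
      have := mul_mem hg.1 ((inferInstance : (pCore r G).Normal).conj_mem _ (inv_mem hg.1) y)
      simpa [mul_assoc] using this
    have h3 := (isPiElt_singleton_of_mem (pCore_isPGroup r G) h2).eq_one h1.2
    exact hgB ⟨hL.cent_le y hyL hyZ (mem_cent_iff_conj.2 (mul_inv_eq_one.1 h3)),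
      isPiElt_singleton_of_mem (pCore_isPGroup r G) hg.1⟩
  rw [← hB.centralizer_eq hBZ, e]
  infer_instance

/-- The structure in the main case. -/
theorem main (h : Three G m n) {r : ℕ} [hr : Fact r.Prime] (hd : r ∣ m) {x : G}
    (hx : IsPiElt {r} x) (hm : cs(x) = m) :
    m = r ∧ r ∣ n - 1 ∧ (cent(x)).Normal ∧ (∀ w, w ∈ cent(x) ↔ cs(w) = 1 ∨ cs(w) = m) ∧
      (∀ a ∈ cent(x), cent(x) ≤ cent(a)) ∧ HasNormalPComplement r G ∧
      (center G).index = r ^ 2 * n := by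
  have hab := h.abelian hd hx hm
  obtain ⟨⟨k, hk⟩, hN⟩ := h.normal_of_abelian hd hm hab
  have hS := h.semiReg hm hab
  have hB := hS.piIn {r}
  have hL := hS.piIn {r}ᶜ
  set B := piIn {r} cent(x) hS.commute
  set L := piIn {r}ᶜ cent(x) hS.commute
  have hnorm : ∀ g, g ∈ normalizer ((cent(x) : Subgroup G) : Set G) := fun g => by
    rw [normalizer_eq_top]; trivial
  obtain ⟨s, hs, hsn⟩ := Nat.exists_prime_and_dvd h.one_lt_n.ne'
  haveI := Fact.mk hs
  have hsm : ¬ s ∣ m := fun e => h.not_dvd_n hs e hsn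
  have hmem : ∀ y : G, IsPiElt {r}ᶜ y → y ∈ cent(x) := fun y hy => hy.mem_of_index (by
    rw [compl_compl, hm, hk]; exact isPiNum_singleton_pow hr.out k)
  have hsyl : ∀ S : Sylow s G, ∃ y ∈ (S : Subgroup G), y ∈ L ∧ y ∉ center G := fun S => by
    obtain ⟨y, hy, hyZ⟩ := SetLike.not_le_iff_exists.1 fun e =>
      not_dvd_index_of_sylow_le S e ((hsn.mul_left m).trans h.dvd_index)
    have := (isPiElt_singleton_of_mem S.isPGroup' hy).mono (sub_compl fun e => hsm (e ▸ hd))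
    exact ⟨y, hy, ⟨hmem y this, this⟩, hyZ⟩
  have hM : ∀ w, w ∈ cent(x) ↔ cs(w) = 1 ∨ cs(w) = m := fun w => by
    refine ⟨fun hw => ?_, fun hw => ?_⟩
    · by_cases e : w ∈ center G
      · exact Or.inl (cs_eq_one_iff.2 e)
      · exact Or.inr (by rw [← h.cent_eq hm e (hab w hw), hm])
    · obtain ⟨S, hS'⟩ := exists_sylow_le_of_not_dvd_index (p := s) (H := cent(w)) (by
        rcases hw with e | e <;> rw [e]
        exacts [hs.not_dvd_one, hsm])
      obtain ⟨y, h1, h2, h3⟩ := hsyl S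
      exact hL.cent_le y h2 h3 (mem_cent_comm.1 (hS' h1))
  obtain ⟨P⟩ : Nonempty (Sylow r G) := inferInstance
  have hBn : B.Normal := normalizer_eq_top_iff.1 (eq_top_iff.2 fun g _ => hB.norm (hnorm g))
  have hLn : L.Normal := normalizer_eq_top_iff.1 (eq_top_iff.2 fun g _ => hL.norm (hnorm g))
  have hLr : (Nat.card L).Coprime r := coprime_card_of_forall_isPiElt fun u hu => hu.2
  obtain ⟨S⟩ : Nonempty (Sylow s G) := inferInstance
  obtain ⟨y, -, hyL, hyZ⟩ := hsyl S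
  have hBP : B ≤ P := (le_pCore (isPGroup_of_forall_isPiElt (H := B) fun u hu => hu.2)).trans
    (pCore_le_sylow P)
  obtain ⟨w, hw, hwZ, hwp, hwP⟩ := exists_second_center P.isPGroup' hBP
    (fun g _ => hB.norm (hnorm g)) fun e => h.not_mem_center (hm ▸ dvd_rfl) (e ⟨self_mem_cent x, hx⟩)
  have e := h.cent_eq hm hwZ (hab w hw.1)
  have h1 := relIndex_cent_dvd_prime P.isPGroup' hwp hwP hL.commute hLr
    (fun g _ => hL.norm (hnorm g)) (e ▸ inf_le_right.trans hL.le_centralizer)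
    (fun g _ hg y hy hc => hL.mem_center hy (e ▸ hg) hc) fun e => hyZ (e hyL)
  rw [← e, relIndex_eq_index_of_coprime (by
    rw [hm, hk]; exact (coprime_sylow_index_pow P k).symm), hm] at h1
  obtain rfl : m = r := ((Nat.dvd_prime hr.out).1 h1).resolve_left h.one_lt_m.ne'
  obtain ⟨u, hu⟩ := h.ex_mn
  have hux : u ∉ cent(x) := fun e => by
    rcases (hM u).1 e with e' | e' <;> have := h.lt <;> have := h.one_lt_m <;> omega
  have h2 : cent(x) ⊓ cent(u) = center G := le_antisymm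
    (fun a ha => hS.mem_center ha.1 hux (mem_cent'.1 ha.2)) (le_inf (center_le_cent _) (center_le_cent _))
  have h3 : (cent(x)).relIndex cent(u) = m :=
    ((Nat.dvd_prime hr.out).1 (hm ▸ Subgroup.relIndex_dvd_index_of_normal _ _)).resolve_left
      fun e => hux (relIndex_eq_one.1 e (self_mem_cent u))
  have hZ : (center G).index = m ^ 2 * n := by
    rw [← h2, ← relIndex_mul_index inf_le_right, inf_relIndex_right, h3, hu]; ring
  have hLi : ∃ j, ((center G) ⊔ L).relIndex cent(x) = m ^ j :=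
    exists_relIndex_eq_pow_of_forall hr.out fun u hu hu' => mem_sup_right ⟨hu, hu'⟩
  obtain ⟨j, hj⟩ := hLi
  have h4 : (center G).relIndex L * m ^ j = n * m := by
    refine Nat.eq_of_mul_eq_mul_right h.one_lt_m.le ?_
    rw [← hj, ← relIndex_sup_left L, relIndex_mul_relIndex _ _ _ le_sup_left
      (sup_le (center_le_cent x) hL.le), ← hm, relIndex_mul_index (center_le_cent x), hZ, hm]
    ring
  have c1 : ((center G).relIndex L).Coprime m := hLr.coprime_dvd_left (relIndex_dvd_card _ _)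
  have h5 : (center G).relIndex L = n := Nat.dvd_antisymm
    (c1.dvd_of_dvd_mul_right (h4 ▸ dvd_mul_right _ _))
    ((h.cop.symm.pow_right j).dvd_of_dvd_mul_right (h4 ▸ dvd_mul_right _ _))
  have h6 := dvd_ncard_of_forall_dvd_relIndex ⊤ m ((L : Set G) \ (center G ⊓ L : Subgroup G))
    (fun g _ y hy => ⟨hLn.conj_mem y hy.1 g, fun e => hy.2 ⟨conj_mem_center_iff.1 e.1, hy.1⟩⟩)
    fun y hy => by
      rw [relIndex_top_right]; exact h.dvd_cs fun e => hy.2 ⟨e, hy.1⟩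
  rw [Set.ncard_sdiff (fun _ hy => hy.2), ← Nat.card_coe_set_eq, ← Nat.card_coe_set_eq,
    SetLike.coe_sort_coe, SetLike.coe_sort_coe, ← card_mul_relIndex (H := center G ⊓ L) inf_le_right,
    inf_relIndex_right, h5, ← Nat.mul_sub_one] at h6
  refine ⟨rfl, (hLr.coprime_dvd_left (card_dvd_of_le inf_le_right)).symm.dvd_of_dvd_mul_left h6,
    hN, hM, hab, hasNormalPComplement_iff_exists_normal.2 ⟨L, hLn, hLr, ?_⟩, hZ⟩
  rw [← relIndex_top_right]
  exact exists_relIndex_eq_pow_of_forall hr.out fun u _ hu => ⟨hmem u hu, hu⟩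

end Three

end CL.Fgs
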