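/-
Dietzmann's lemma (quantitative) and an index bound for coprime actions of abelian groups
(helper97).
-/
import Cfsg.Agent.Fgs.ClassBasic
import Cfsg.Agent.Grp.Coprime2
import Cfsg.Agent.Grp.Fitting

namespace CL.Fgs

open Subgroup Cfsg
open scoped Pointwise commutatorElement

variable {G : Type*} [Group G]

theorem exists_list_collect [DecidableEq G] {Y : Set G}
    (hY : ∀ x ∈ Y, ∀ y ∈ Y, x⁻¹ * y * x ∈ Y) {y : G} (hy : y ∈ Y) (l : List G) (hl : ∀ x ∈ l, x ∈ Y) :
    ∃ l' : List G, (∀ x ∈ l', x ∈ Y) ∧ l'.length + l.count y = l.length ∧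
      l.prod = y ^ l.count y * l'.prod := by
  induction l with
  | nil => exact ⟨[], by simp, by simp, by simp⟩
  | cons a l ih =>
    obtain ⟨l', h1, h2, h3⟩ := ih fun x hx => hl x (List.mem_cons_of_mem _ hx)
    by_cases e : a = y
    · subst e
      refine ⟨l', h1, by simp; omega, ?_⟩
      rw [List.prod_cons, h3, List.count_cons_self, pow_succ', mul_assoc]
    · have key : ∀ k : ℕ, ∀ b ∈ Y, (y ^ k)⁻¹ * b * y ^ k ∈ Y := by
        intro k
        induction k with
        | zero => simp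
        | succ k ihk =>
          intro b hb
          have := hY y hy _ (ihk b hb)
          rwa [show y⁻¹ * ((y ^ k)⁻¹ * b * y ^ k) * y = (y ^ (k + 1))⁻¹ * b * y ^ (k + 1) by
            group] at this
      refine ⟨((y ^ l.count y)⁻¹ * a * y ^ l.count y) :: l', ?_, ?_, ?_⟩
      · intro x hx
        rcases List.mem_cons.1 hx with rfl | hx
        · exact key _ a (hl a List.mem_cons_self)
        · exact h1 x hx
      · rw [List.count_cons_of_ne e]; simp; omega
      · rw [List.count_cons_of_ne e, List.prod_cons, List.prod_cons, h3]; group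

theorem exists_short_list [DecidableEq G] {Y : Finset G} {e : ℕ} (he : 0 < e)
    (hY : ∀ x ∈ Y, ∀ y ∈ Y, x⁻¹ * y * x ∈ Y) (hYe : ∀ y ∈ Y, y ^ e = 1) (l : List G)
    (hl : ∀ x ∈ l, x ∈ Y) :
    ∃ l' : List G, (∀ x ∈ l', x ∈ Y) ∧ l'.length ≤ Y.card * e ∧ l'.prod = l.prod := by
  induction h : l.length using Nat.strong_induction_on generalizing l with
  | h n ih =>
    by_cases hc : ∃ y ∈ Y, e ≤ l.count y
    · obtain ⟨y, hy, hey⟩ := hc
      obtain ⟨l', h1, h2, h3⟩ := exists_list_collect (Y := (Y : Set G)) hY hy l hl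
      obtain ⟨l'', h4, h5, h6⟩ := ih _ (by simp; omega) (List.replicate (l.count y - e) y ++ l')
        (by
          intro x hx
          rcases List.mem_append.1 hx with hx | hx
          · rw [List.eq_of_mem_replicate hx]; exact hy
          · exact h1 x hx) rfl
      refine ⟨l'', h4, h5, ?_⟩
      rw [h6, h3, List.prod_append, List.prod_replicate]
      conv_rhs => rw [← Nat.sub_add_cancel hey, pow_add, hYe y hy, mul_one]
    · push Not at hc
      refine ⟨l, hl, ?_, rfl⟩
      rw [← List.sum_toFinset_count_eq_length]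
      refine (Finset.sum_le_card_nsmul _ _ e fun x hx =>
        (hc x (hl x (List.mem_toFinset.1 hx))).le).trans ?_
      exact Nat.mul_le_mul_right _ (Finset.card_le_card fun x hx => hl x (List.mem_toFinset.1 hx))

/-- **Dietzmann's lemma**, quantitative form -/
theorem card_closure_le_of_conj_closed [Finite G] {Y : Set G} {e : ℕ} (he : 0 < e)
    (hY : ∀ x ∈ Y, ∀ y ∈ Y, x⁻¹ * y * x ∈ Y) (hi : ∀ y ∈ Y, y⁻¹ ∈ Y) (hYe : ∀ y ∈ Y, y ^ e = 1) :
    Nat.card (closure Y) ≤ (Y.ncard + 1) ^ (Y.ncard * e) := by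
  classical
  obtain ⟨Y, rfl⟩ := (Set.toFinite Y).exists_finset_coe
  have h1 : ∀ l : List G, (∀ x ∈ l, x ∈ Y) → l.prod ∈ (insert 1 Y) ^ l.length := by
    intro l hl
    induction l with
    | nil => simp
    | cons a l ih =>
      rw [List.length_cons, pow_succ', List.prod_cons]
      exact Finset.mul_mem_mul (Finset.mem_insert_of_mem (hl a List.mem_cons_self))
        (ih fun x hx => hl x (List.mem_cons_of_mem _ hx))
  have h2 : (closure (Y : Set G) : Set G) ⊆ ((insert 1 Y) ^ (Y.card * e) : Finset G) := by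
    intro x hx
    have hx' : x ∈ (closure (Y : Set G)).toSubmonoid := hx
    rw [closure_toSubmonoid] at hx'
    obtain ⟨l, hl, rfl⟩ := Submonoid.exists_list_of_mem_closure hx'
    obtain ⟨l', h3, h4, h5⟩ := exists_short_list he hY hYe l fun x hx => by
      rcases hl x hx with h | h
      · exact h
      · simpa using hi _ h
    rw [← h5]
    exact Finset.pow_subset_pow_right (Finset.mem_insert_self _ _) h4 (h1 l' h3)
  have h3 := Set.ncard_le_ncard h2 (Set.toFinite _)
  rw [Set.ncard_coe_finset] at h3 ⊢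
  refine (Nat.card_coe_set_eq (closure (Y : Set G) : Set G)).le.trans ?_
  exact h3.trans (Finset.card_pow_le.trans (Nat.pow_le_pow_left (Finset.card_insert_le _ _) _))

/-- `B` is a subgroup of `A` with cyclic quotient -/
def IsCocyclic (B A : Subgroup G) : Prop := B ≤ A ∧ ∃ a ∈ A, B ⊔ zpowers a = A

/-- index bound: `|P : H| ≤ ∏_B |C_P(B) : C_H(B)|` over the cocyclic subgroups `B` of `A` -/
theorem relIndex_le_prod_cocyclic [Finite G] {A : Subgroup G} [IsMulCommutative A]
    (𝓑 : Finset (Subgroup G)) (h𝓑 : ∀ B, IsCocyclic B A → B ∈ 𝓑) (H : Subgroup G)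
    (hH : A ≤ normalizer (H : Set G)) (P : Subgroup G) :
    Group.IsNilpotent P → A ≤ normalizer (P : Set G) → (Nat.card A).Coprime (Nat.card P) → H ≤ P →
      H.relIndex P ≤ ∏ B ∈ 𝓑, H.relIndex (P ⊓ centralizer (B : Set G)) := by
  classical
  induction P using WellFoundedLT.induction with
  | ind P ih =>
    intro hP hAP hcop hHP
    have hpos : ∀ X Y : Subgroup G, 0 < X.relIndex Y := fun X Y =>
      Nat.pos_of_ne_zero index_ne_zero_of_finite
    rcases eq_or_lt_of_le hHP with rfl | hlt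
    · rw [relIndex_self]; exact Finset.prod_pos fun B _ => hpos _ _
    obtain ⟨M, ⟨hHM, hMP, hAM⟩, hmax⟩ := (wellFounded_gt (α := Subgroup G)).has_min
      {M | H ≤ M ∧ M < P ∧ A ≤ normalizer (M : Set G)} ⟨H, le_rfl, hlt, hH⟩
    have hirr : ∀ W : Subgroup G, M ≤ W → W ≤ P → A ≤ normalizer (W : Set G) → W = M ∨ W = P := by
      intro W h1 h2 h3
      rcases eq_or_lt_of_le h2 with e | h2
      · exact Or.inr e
      · exact Or.inl (eq_of_le_of_not_lt h1 (hmax W ⟨hHM.trans h1, h2, h3⟩)).symm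
    have hPP : ⁅P, P⁆ ≤ M := by
      have h1 := CL.Grp.commutator_sup_lt_of_isNilpotent hMP
      rcases hirr (⁅P, P⁆ ⊔ M) le_sup_right h1.le
        (CL.Grp.le_normalizer_sup' (CL.Grp.le_normalizer_commutator' hAP hAP) hAM) with e | e
      · exact le_sup_left.trans e.le
      · exact absurd e h1.ne
    obtain ⟨B₀, hB₀A, hB₀, hPB⟩ := CL.Grp.exists_cocyclic_commutator_le hMP hPP hAP hAM hirr
    have hMn : Group.IsNilpotent M := CL.Grp.isNilpotent_of_le hP hMP.le
    have hcM : (Nat.card A).Coprime (Nat.card M) := hcop.coprime_dvd_right (card_dvd_of_le hMP.le)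
    have h1 := ih M hMP hMn hAM hcM hHM
    have h2 : M.relIndex P ≤ M.relIndex (P ⊓ centralizer (B₀ : Set G)) := by
      refine Nat.card_le_card_of_surjective
        (quotientSubgroupOfEmbeddingOfLE M (inf_le_left : P ⊓ centralizer (B₀ : Set G) ≤ P)) ?_
      intro z
      obtain ⟨⟨k, hk⟩, rfl⟩ := QuotientGroup.mk_surjective z
      obtain ⟨c, hc, hkc⟩ := CL.Grp.exists_centralizer_mem_leftCoset' (hB₀A.trans hAP) hMP.le
        (hB₀A.trans hAM) (hcM.coprime_dvd_left (card_dvd_of_le hB₀A)) (Or.inr inferInstance) hk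
        (fun b hb => by
          have := hPB (commutator_mem_commutator (P.inv_mem hk) hb)
          rwa [commutatorElement_def, inv_inv, mul_assoc, mul_assoc, ← mul_assoc b] at this)
      refine ⟨QuotientGroup.mk ⟨c, hc⟩, ?_⟩
      rw [quotientSubgroupOfEmbeddingOfLE_apply_mk, eq_comm, QuotientGroup.eq]
      exact hkc
    have h3 : ∀ B : Subgroup G, H.relIndex (P ⊓ centralizer (B : Set G)) =
        H.relIndex (M ⊓ centralizer (B : Set G)) * M.relIndex (P ⊓ centralizer (B : Set G)) := by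
      intro B
      have e : M ⊓ (P ⊓ centralizer (B : Set G)) = M ⊓ centralizer (B : Set G) := by
        rw [← inf_assoc, inf_eq_left.2 hMP.le]
      rw [← e, relIndex_inf_mul_relIndex, inf_eq_left.2 hHM]
    rw [Finset.prod_congr rfl fun B _ => h3 B, Finset.prod_mul_distrib,
      ← relIndex_mul_relIndex H M P hHM hMP.le]
    refine Nat.mul_le_mul h1 (h2.trans ?_)
    exact Finset.single_le_prod' (f := fun B : Subgroup G => M.relIndex (P ⊓ centralizer (B : Set G)))
      (fun B _ => hpos _ _) (h𝓑 B₀ ⟨hB₀A, hB₀⟩)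

/-- a number all of whose prime power divisors are at most `M` divides `M!` -/
theorem dvd_factorial_of_forall_prime_pow_le {n M : ℕ}
    (h : ∀ p k : ℕ, p.Prime → p ^ k ∣ n → p ^ k ≤ M) : n ∣ M.factorial :=
  (Nat.dvd_iff_prime_pow_dvd_dvd _ _).2 fun p k hp hd =>
    Nat.dvd_factorial (pow_pos hp.pos k) (h p k hp hd)

theorem pow_dvd_relIndex_of_isSylowIn [Finite G] {p k : ℕ} [hp : Fact p.Prime] {P K C : Subgroup G}
    (hP : CL.Grp.IsSylowIn p P K) (h : p ^ k ∣ C.relIndex K) : p ^ k ∣ C.relIndex P := by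
  have h1 := relIndex_mul_relIndex (C ⊓ P) P K inf_le_right hP.le
  have h2 := relIndex_inf_mul_relIndex P C K
  rw [inf_comm P C, ← h1, inf_relIndex_right] at h2
  have h3 : p ^ k ∣ C.relIndex P * P.relIndex K := h2 ▸ h.mul_left _
  exact Nat.Coprime.dvd_of_dvd_mul_right
    (Nat.Coprime.pow_left _ ((Nat.Prime.coprime_iff_not_dvd hp.out).2 hP.not_dvd)) h3

end CL.Fgs
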