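/-
Camina pairs (helper97): Camina's theorem.
-/
import Cfsg.Agent.Fgs.ClassGraph
import Cfsg.Agent.Fgs.Dietzmann
import Cfsg.Agent.Grp.FrobCompl
import Cfsg.Agent.Grp.ThompsonFpf

namespace CL.Fgs

open Subgroup Cfsg CL.Grp
open scoped Pointwise commutatorElement

variable {G : Type*} [Group G]

/-- `(G, N)` satisfies Camina's condition -/
def IsCamina (N : Subgroup G) : Prop := ∀ g : G, g ∉ N → ∀ n ∈ N, ∃ x : G, x * g * x⁻¹ = g * n

theorem isSylowIn_map' {G' : Type*} [Group G'] {p : ℕ} {S H : Subgroup G} (h : IsSylowIn p S H)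
    (f : G →* G') : IsSylowIn p (S.map f) (H.map f) := by
  refine ⟨Subgroup.map_mono h.1, h.2.1.map f, fun hd => h.2.2 (hd.trans ?_)⟩
  rw [← Subgroup.relIndex_comap]
  exact Subgroup.relIndex_dvd_of_le_left H (Subgroup.le_comap_map f S)

theorem map_mk'_eq_top_of_forall {N T : Subgroup G} [N.Normal] (h : ∀ g : G, ∃ n ∈ N, n * g ∈ T) :
    T.map (QuotientGroup.mk' N) = ⊤ := eq_top_iff.2 fun q _ => by
  obtain ⟨g, rfl⟩ := QuotientGroup.mk_surjective q
  obtain ⟨n, hn, e⟩ := h g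
  exact ⟨n * g, e, by simp [(QuotientGroup.eq_one_iff n).2 hn]⟩

namespace IsCamina

variable [Finite G] {N : Subgroup G}

theorem isPiElt_of_commute (h : IsCamina N) {π : Set ℕ} {g x : G} (hg : g ∉ N) (hgπ : IsPiElt π g)
    (hx : x ∈ N) (hc : Commute g x) : IsPiElt π x := by
  obtain ⟨y, hy⟩ := h g hg _ (piPart_mem (π := πᶜ) hx)
  have h1 : IsPiElt π (g * piPart πᶜ x) := hy ▸ hgπ.conj y
  have h2 := piPart_eq_one (π := πᶜ) (x := g * piPart πᶜ x) (by rwa [compl_compl])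
  rw [piPart_mul_eq' (commute_piPart hc) hgπ (isPiElt_piPart _ _), piPart_eq_one_iff,
    compl_compl] at h2
  exact h2

theorem card_dvd_relIndex [N.Normal] (h : IsCamina N) {g : G} (hg : g ∉ N) :
    (cent(g)).relIndex ((cent((g : G ⧸ N))).comap (QuotientGroup.mk' N)) = Nat.card N := by
  set D := (cent((g : G ⧸ N))).comap (QuotientGroup.mk' N) with hD
  have h2 : ∀ x : G, x ∈ D ↔ g⁻¹ * (x * g * x⁻¹) ∈ N := fun x => by
    rw [hD, mem_comap, mem_cent_iff_conj, ← QuotientGroup.eq, eq_comm]; rfl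
  rw [← ncard_conj_subgroup, ← ncard_coe_subgroup,
    ← Set.ncard_image_of_injective (N : Set G) (mul_right_injective g)]
  congr 1
  refine Set.Subset.antisymm ?_ ?_
  · rintro _ ⟨x, hx, rfl⟩
    exact ⟨_, (h2 x).1 hx, by simp⟩
  · rintro _ ⟨n, hn, rfl⟩
    obtain ⟨x, hx⟩ := h g hg n hn
    exact ⟨x, (h2 x).2 (by rw [hx]; simpa using hn), hx⟩

/-- a `p`-subgroup covering a Sylow subgroup of `G/N` cannot act on a `p'`-subgroup of `N`
with `N` acting trivially -/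
theorem false_of_action [N.Normal] (h : IsCamina N) {p : ℕ} [hp : Fact p.Prime]
    (hpN : p ∣ Nat.card N) (hpI : p ∣ N.index) {P₁ Y : Subgroup G} (hP₁ : IsPGroup p P₁)
    (hS : IsSylowIn p (P₁.map (QuotientGroup.mk' N)) ⊤) (hYN : Y ≤ N) (hY : Y ≠ ⊥)
    (hYp : ¬ p ∣ Nat.card Y) (hn : P₁ ≤ normalizer (Y : Set G))
    (hc : P₁ ⊓ N ≤ centralizer (Y : Set G)) : False := by
  -- the quotient `P₁ / (P₁ ∩ N)` acts fixed-point-freely on `Y`
  let ψ : P₁ ⧸ N.subgroupOf P₁ →* MulAut Y := QuotientGroup.lift _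
    (Y.normalizerMonoidHom.comp (inclusion hn)) fun a ha => by
      have : inclusion hn a ∈ Y.normalizerMonoidHom.ker := by
        rw [normalizerMonoidHom_ker]; exact hc ⟨a.2, ha⟩
      exact this
  letI := MulDistribMulAction.compHom Y ψ
  haveI : Nontrivial Y := (nontrivial_iff_ne_bot Y).2 hY
  have hPQ : PQCyclic (P₁ ⧸ N.subgroupOf P₁) := pqCyclic_of_fpf_action (K := Y) fun a ha v hv => by
    obtain ⟨a, rfl⟩ := QuotientGroup.mk_surjective a
    have h1 : (a : G) * v * (a : G)⁻¹ = v := congrArg Subtype.val hv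
    exact Subtype.ext ((h.isPiElt_of_commute (fun e => ha ((QuotientGroup.eq_one_iff a).2 e))
      (isPiElt_singleton_of_mem hP₁ a.2) (hYN v.2) (mem_cent.1 (mem_cent_iff_conj.2 h1))).eq_one
      (isPiElt_compl_of_mem hYp v.2))
  have hQp : IsPGroup p (P₁ ⧸ N.subgroupOf P₁) := hP₁.to_quotient _
  have hd : p ∣ Nat.card (P₁ ⧸ N.subgroupOf P₁) := by
    have h1 := card_map_mk' N P₁
    have h2 := card_mul_relIndex hS.le
    rw [card_top, h1] at h2
    exact ((Nat.Prime.dvd_mul hp.out).1 (h2 ▸ hpI)).resolve_right hS.not_dvd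
  obtain ⟨g, hg⟩ := exists_prime_orderOf_dvd_card' p hd
  obtain ⟨g, rfl⟩ := QuotientGroup.mk_surjective g
  have hgN : (g : G) ∉ N := fun e => hp.out.ne_one (by
    rw [← hg, (QuotientGroup.eq_one_iff g).2 e, orderOf_one])
  have hU : ∀ a : P₁, (a : G) ∉ N → ∃ i : ℤ, ((a : G) ^ i)⁻¹ * g ∈ N := fun a ha => by
    obtain ⟨k, hk⟩ := (IsPGroup.iff_orderOf.1 hQp) a
    obtain ⟨u, hu, hu'⟩ := exists_orderOf_eq_prime_mem_zpowers hp.out
      (g := (a : P₁ ⧸ N.subgroupOf P₁)) (by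
        rw [hk]; exact dvd_pow_self _ fun e => ha ((QuotientGroup.eq_one_iff a).1
          (by rwa [e, pow_zero, orderOf_eq_one_iff] at hk)))
    have e := hPQ.eq_of_card_eq_prime hQp (zpowers u) (zpowers (g : P₁ ⧸ N.subgroupOf P₁))
      (by rw [Nat.card_zpowers, hu']) (by rw [Nat.card_zpowers, hg])
    obtain ⟨i, hi⟩ := zpowers_le.2 hu (e.ge (mem_zpowers _))
    exact ⟨i, by simpa [mem_subgroupOf] using (QuotientGroup.eq.1
      (show ((a ^ i : P₁) : P₁ ⧸ N.subgroupOf P₁) = g from hi))⟩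
  obtain ⟨P, hP⟩ := hP₁.exists_le_sylow
  have hPm : (P : Subgroup G).map (QuotientGroup.mk' N) = P₁.map (QuotientGroup.mk' N) :=
    hS.eq_of_le (P.isPGroup'.map _) (map_mono hP) le_top
  have hU' : ∀ a ∈ (P : Subgroup G), a ∉ N → ∃ i : ℤ, (a ^ i)⁻¹ * g ∈ N := fun a ha haN => by
    obtain ⟨b, hb, e⟩ : (a : G ⧸ N) ∈ P₁.map (QuotientGroup.mk' N) := hPm ▸ ⟨a, ha, rfl⟩
    have e' : (b : G ⧸ N) = a := e
    obtain ⟨i, hi⟩ := hU ⟨b, hb⟩ fun e2 => haN (by
      rw [← QuotientGroup.eq_one_iff, ← e', QuotientGroup.eq_one_iff]; exact e2)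
    refine ⟨i, ?_⟩
    rw [← QuotientGroup.eq] at hi ⊢
    rw [← hi, QuotientGroup.mk_zpow, QuotientGroup.mk_zpow, e']
  set D := ⁅(P : Subgroup G) ⊓ N, (P : Subgroup G)⁆ with hD
  have hgP : (g : G) ∈ (P : Subgroup G) := hP g.2
  have hDn : (P : Subgroup G) ≤ normalizer (D : Set G) := normalizer_commutator_ge_right _ _
  have hcomm : ∀ a ∈ (P : Subgroup G), a * g * a⁻¹ * (g : G)⁻¹ ∈ D := fun a ha => by
    by_cases haN : a ∈ N
    · exact commutator_mem_commutator (mem_inf.2 ⟨ha, haN⟩) hgP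
    obtain ⟨i, hi⟩ := hU' a ha haN
    have h1 := commutator_mem_commutator (mem_inf.2 ⟨mul_mem (inv_mem (zpow_mem ha i)) hgP, hi⟩) ha
    have h2 := (mem_normalizer_iff.1 (hDn (zpow_mem ha i)) _).1 (inv_mem h1)
    convert h2 using 1
    rw [commutatorElement_def]; group
  have hDle : D ≤ (P : Subgroup G) ⊓ N := by
    rw [hD, commutator_le]
    intro a ha b hb
    exact mem_inf.2 ⟨mul_mem (mul_mem (mul_mem (mem_inf.1 ha).1 hb) (inv_mem (mem_inf.1 ha).1))
      (inv_mem hb), comm_mem_of_normal ha.2 b⟩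
  have hPD : (P : Subgroup G) ≤ (cent(((g : G) : G ⧸ N))).comap (QuotientGroup.mk' N) :=
    fun a ha => by
      rw [mem_comap, mem_cent_iff_conj, ← mul_inv_eq_one]
      exact (QuotientGroup.eq_one_iff _).2 (hDle (hcomm a ha)).2
  have hSN := isSylowIn_inf_normal P N
  have h3 : Nat.card ↥((P : Subgroup G) ⊓ N) ∣ (cent((g : G))).relIndex P := by
    rw [hSN.card_eq_pow]
    refine pow_dvd_relIndex_of_isSylowIn (isSylowIn_of_le P hPD) ?_
    rw [h.card_dvd_relIndex hgN]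
    exact Nat.ordProj_dvd _ _
  have h4 : (cent((g : G))).relIndex P ≤ Nat.card D := by
    rw [← ncard_conj_subgroup, ← ncard_coe_subgroup]
    refine Set.ncard_le_ncard_of_injOn (fun y => y * (g : G)⁻¹) ?_ fun a _ b _ e => mul_right_cancel e
    rintro _ ⟨a, ha, rfl⟩
    exact hcomm a ha
  have h5 : D = (P : Subgroup G) ⊓ N := eq_of_le_of_card_ge hDle
    ((Nat.le_of_dvd (Nat.pos_of_ne_zero index_ne_zero_of_finite) h3).trans h4)
  have h6 := eq_bot_of_le_commutator P.isPGroup'.isNilpotent inf_le_left h5.ge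
  have h7 := hSN.not_dvd
  rw [h6, relIndex_bot_left] at h7
  exact h7 hpN

end IsCamina

theorem exists_prime_ne_of_not_isPrimePow {n p : ℕ} (hp : p.Prime) (hn : n ≠ 0) (hd : p ∣ n)
    (h : ¬ IsPrimePow n) : ∃ q : ℕ, q.Prime ∧ q ∣ n ∧ q ≠ p := by
  by_contra hc
  push Not at hc
  obtain ⟨k, hk⟩ := (isPiNum_singleton_iff hp hn).1 fun r hr hd => hc r hr hd
  refine h ((isPrimePow_nat_iff _).2 ⟨p, k, hp, Nat.pos_of_ne_zero fun e => ?_, hk.symm⟩)
  rw [hk, e, pow_zero] at hd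
  exact hp.ne_one (Nat.dvd_one.1 hd)

/-- Camina's theorem -/
theorem IsCamina.cases [Finite G] {N : Subgroup G} [hN : N.Normal] (h : IsCamina N) :
    (∀ x ∈ N, x ≠ 1 → cent(x) ≤ N) ∨ IsPrimePow (Nat.card N) ∨ IsPrimePow N.index := by
  by_contra hc
  push Not at hc
  obtain ⟨⟨x, hx, hx1, hxN⟩, h1, h2⟩ := hc
  obtain ⟨g, hg, hgN⟩ := SetLike.not_le_iff_exists.1 hxN
  obtain ⟨p, hp, -, hgp⟩ := exists_piPart_not_mem hgN
  haveI := Fact.mk hp
  have hxp := h.isPiElt_of_commute hgp (isPiElt_piPart _ _) hx (mem_cent.1 (piPart_mem hg))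
  have hpN : p ∣ Nat.card N := by
    by_contra e
    exact hx1 (hxp.eq_one (isPiElt_compl_of_mem e hx))
  have hpI : p ∣ N.index := by
    by_contra e
    exact hgp ((isPiElt_piPart _ _).mem_of_index ((isPiNum_compl_singleton_iff hp).2 e))
  obtain ⟨q, hq, hqI, hqp⟩ := exists_prime_ne_of_not_isPrimePow hp index_ne_zero_of_finite hpI h2
  haveI := Fact.mk hq
  have hne : ∀ {s : ℕ} [Fact s.Prime] {S : Subgroup G}, IsSylowIn s S N → s ∣ Nat.card N → S ≠ ⊥ :=
    fun hS hd e => hS.not_dvd (by rwa [e, relIndex_bot_left])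
  have hnd : ∀ {s t : ℕ} [Fact s.Prime] [Fact t.Prime] {S : Subgroup G}, IsPGroup s S → s ≠ t →
      ¬ t ∣ Nat.card S := fun {s t} hs ht S hS hst hd => by
    obtain ⟨k, hk⟩ := hS.exists_card_eq
    exact hst ((Nat.prime_dvd_prime_iff_eq ht.out hs.out).1 (ht.out.dvd_of_dvd_pow (hk ▸ hd))).symm
  by_cases hqN : q ∣ Nat.card N
  · obtain ⟨B, hB⟩ := exists_isSylowIn q N
    set T := normalizer (B : Set G) with hT
    have hT1 : ∀ g : G, ∃ n ∈ N, n * g ∈ T := fun g =>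
      hB.frattini (H := ⊤) le_normalizer_of_normal (mem_top g)
    obtain ⟨P₁, hP₁⟩ := exists_isSylowIn p T
    by_cases hA : P₁ ⊓ N = ⊥
    · exact h.false_of_action hpN hpI hP₁.isPGroup
        (map_mk'_eq_top_of_forall hT1 ▸ isSylowIn_map' hP₁ _) hB.le (hne hB hqN)
        (hnd hB.isPGroup hqp) hP₁.le (hA ▸ bot_le)
    have hTn : T ≤ normalizer ((T ⊓ N : Subgroup G) : Set G) :=
      (le_inf le_normalizer le_normalizer_of_normal).trans inf_normalizer_le_normalizer_inf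
    have hA1 : IsSylowIn p (P₁ ⊓ N) (T ⊓ N) := by
      have := hP₁.inf_of_normalized inf_le_left hTn
      rwa [← inf_assoc, inf_eq_left.2 hP₁.le] at this
    set A := P₁ ⊓ N with hAdef
    have hT2 : ∀ g : G, ∃ n ∈ N, n * g ∈ T ⊓ normalizer (A : Set G) := fun g => by
      obtain ⟨n, hn, e⟩ := hT1 g
      obtain ⟨m, hm, e'⟩ := hA1.frattini hTn e
      exact ⟨m * n, mul_mem hm.2 hn, by rw [mul_assoc]; exact ⟨mul_mem hm.1 e, e'⟩⟩
    obtain ⟨Q₁, hQ₁⟩ := exists_isSylowIn q (T ⊓ normalizer (A : Set G))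
    refine h.false_of_action hqN hqI hQ₁.isPGroup
      (map_mk'_eq_top_of_forall hT2 ▸ isSylowIn_map' hQ₁ _) inf_le_right hA
      (hnd hA1.isPGroup hqp.symm) (hQ₁.le.trans inf_le_right) fun b hb a ha => ?_
    have hbB : b ∈ B := by
      have h3 : IsSylowIn q B (T ⊓ N) := hB.of_le (le_inf le_normalizer hB.le) inf_le_right
      obtain ⟨c, hc, e⟩ := h3.exists_conj_le (hQ₁.isPGroup.to_le inf_le_left : IsPGroup q ↥(Q₁ ⊓ N))
        (inf_le_inf_right _ (hQ₁.le.trans inf_le_left))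
      exact (mem_normalizer_iff.1 hc.1 b).2 ((conj_smul_le_iff _ _ _).1 e b hb)
    have h4 : a * b * a⁻¹ * b⁻¹ ∈ A ⊓ B := by
      refine mem_inf.2 ⟨?_, mul_mem ((mem_normalizer_iff.1 (hA1.le ha).1 b).1 hbB) (inv_mem hbB)⟩
      have : a * b * a⁻¹ * b⁻¹ = a * (b * a⁻¹ * b⁻¹) := by group
      rw [this]
      exact mul_mem ha ((mem_normalizer_iff.1 (hQ₁.le hb.1).2 _).1 (inv_mem ha))
    rw [(IsPGroup.disjoint_of_ne p q hqp.symm A B hA1.isPGroup hB.isPGroup).eq_bot, mem_bot] at h4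
    calc a * b = (a * b * a⁻¹ * b⁻¹) * (b * a) := by group
      _ = _ := by rw [h4, one_mul]
  · obtain ⟨y, hy⟩ := exists_prime_orderOf_dvd_card' q (hqI.trans N.index_dvd_card)
    have hyq : IsPiElt {q} y := (isPiElt_singleton_iff hq).2 ⟨1, by rw [hy, pow_one]⟩
    have hyN : y ∉ N := fun e => hqN (hy ▸ orderOf_dvd_natCard N e)
    have hnil : Group.IsNilpotent N := isNilpotent_of_fpf_prime (hy ▸ hq)
      (le_normalizer_of_normal (mem_top y)) (eq_bot_iff.2 fun a ha =>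
        (h.isPiElt_of_commute hyN hyq ha.1 (mem_cent'.1 ha.2)).eq_one (isPiElt_compl_of_mem hqN ha.1))
    obtain ⟨r, hr, hrN, hrp⟩ := exists_prime_ne_of_not_isPrimePow hp Nat.card_pos.ne' hpN h1
    haveI := Fact.mk hr
    obtain ⟨P⟩ : Nonempty (Sylow p G) := inferInstance
    refine h.false_of_action hpN hpI P.isPGroup' (Y := pCoreOf r N) ?_ (pCoreOf_le r N)
      (hne ⟨pCoreOf_le r N, pCoreOf_isPGroup r N, not_dvd_relIndex_pCoreOf_of_isNilpotent hnil r⟩ hrN)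
      (hnd (pCoreOf_isPGroup r N) hrp) le_normalizer_of_normal fun b hb a ha => ?_
    · have := isSylowIn_map' (isSylowIn_top P) (QuotientGroup.mk' N)
      rwa [map_top_of_surjective _ (QuotientGroup.mk'_surjective N)] at this
    · have := commute_of_coprime_orderOf_of_isNilpotent (G := N) (x := ⟨a, pCoreOf_le r N ha⟩)
        (y := ⟨b, hb.2⟩) (by
          rw [orderOf_mk, orderOf_mk]
          exact (isPiElt_singleton_of_mem (pCoreOf_isPGroup r N) ha).coprime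
            ((isPiElt_singleton_of_mem P.isPGroup' hb.1).mono (Set.singleton_subset_iff.2 hrp.symm)))
      exact congrArg Subtype.val this

end CL.Fgs
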