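/-
The prime graph on class sizes: two non-adjacent vertices without a common neighbour.
-/
import Cfsg.Agent.S4160
import Cfsg.Agent.Fgs.ClassIto
import Cfsg.Agent.Grp.Schmidt

set_option autoImplicit false

open Cfsg CL.Grp Subgroup

namespace CL.Fgs.Diam

variable {G : Type*} [Group G] [Finite G]

section One

variable {p : ℕ} [hp : Fact p.Prime]

theorem coprime_of_mem (P : Sylow p G) {u : G} (hu : u ∈ P) {n : ℕ} (hn : n.Coprime p) :
    (orderOf u).Coprime n := by
  obtain ⟨k, hk⟩ := (IsPGroup.iff_orderOf.1 P.isPGroup') ⟨u, hu⟩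
  rw [← orderOf_coe] at hk
  rw [show orderOf u = p ^ k from hk]
  exact hn.symm.pow_left k

theorem sylow_le_res (P : Sylow p G) {r : ℕ} (hr : r.Coprime p) : (P : Subgroup G) ≤ pResidual r G :=
  fun _ hu => mem_pResidual_of_coprime (coprime_of_mem P hu hr)

theorem sylow_le_of_normal {N : Subgroup G} [hN : N.Normal] {P : Sylow p G} (h : (P : Subgroup G) ≤ N)
    (P' : Sylow p G) : (P' : Subgroup G) ≤ N := by
  obtain ⟨g, rfl⟩ := MulAction.exists_smul_eq G P P'
  rintro _ ⟨u, hu, rfl⟩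
  exact hN.conj_mem u (h hu) g

theorem le_cent_of_good {N : Subgroup G} [N.Normal] {P : Sylow p G} (h : (P : Subgroup G) ≤ N)
    (hg : ∀ x ∈ N, ¬ p ∣ cs(x)) : N ≤ centralizer ((P : Subgroup G) : Set G) := by
  have h1 := eq_top_of_forall_exists_conj_mem fun x : N =>
    exists_conj_mem_centralizer_of_not_dvd_cs (fun e => hg x x.2 (e.trans (cs_coe_dvd x))) (P.subtype h)
  intro x hx
  refine mem_centralizer_iff.2 fun u hu => ?_
  exact congrArg Subtype.val (mem_centralizer_iff.1 (h1.ge (mem_top (⟨x, hx⟩ : N))) ⟨u, h hu⟩ hu)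

/-- In a `p`-nilpotent group, a normal subgroup containing a Sylow subgroup contains a bad element. -/
theorem exists_bad (hn : HasNormalPComplement p G) (hv : ∃ x : G, p ∣ cs(x)) {N : Subgroup G} [N.Normal]
    {P : Sylow p G} (h : (P : Subgroup G) ≤ N) : ∃ x ∈ N, p ∣ cs(x) := by
  by_contra hc
  push Not at hc
  have h1 := le_cent_of_good h hc
  have h2 : normalizer ((P : Subgroup G) : Set G) = ⊤ :=
    (sup_eq_left.2 (h1.trans (centralizer_le_normalizer _))).symm.trans (P.normalizer_sup_eq_top' h)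
  have h3 : pResidual p G ≤ centralizer ((P : Subgroup G) : Set G) := pResidual_le_iff.2 fun g hg =>
    HasNormalPComplement.mem_centralizer hn P.isPGroup' (h2.ge (mem_top g)) hg
  have h4 := (pResidual_sup_sylow P).ge.trans (sup_le h3 (h.trans h1))
  obtain ⟨x, hx⟩ := hv
  exact not_dvd_cs_iff.2 ⟨P, fun u hu => mem_cent.2 (mem_centralizer_iff.1 (h4 (mem_top x)) u hu)⟩ hx

theorem bad_mul {x y : G} (hx : p ∣ cs(x)) (hy : ∀ P : Sylow p G, (P : Subgroup G) ≤ cent(y)) :
    p ∣ cs(x * y) := by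
  by_contra h
  obtain ⟨P, hP⟩ := not_dvd_cs_iff.1 h
  refine not_dvd_cs_iff.2 ⟨P, fun u hu => ?_⟩ hx
  have := inf_le_cent_mul (x * y) y⁻¹ ⟨hP hu, (cent_inv y).ge (hy P hu)⟩
  rwa [mul_inv_cancel_right] at this

end One

/-- `p` and `q` are neither adjacent nor have a common neighbour. -/
structure Far (G : Type*) [Group G] (p q : ℕ) : Prop where
  ne : p ≠ q
  vp : ∃ x : G, p ∣ cs(x)
  vq : ∃ x : G, q ∣ cs(x)
  cop : ∀ x y : G, p ∣ cs(x) → q ∣ cs(y) → (cs(x)).Coprime cs(y)

omit [Finite G] in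
theorem Far.symm {p q : ℕ} (h : Far G p q) : Far G q p :=
  ⟨h.ne.symm, h.vq, h.vp, fun x y hx hy => (h.cop y x hy hx).symm⟩

variable {p q : ℕ} [hp : Fact p.Prime] [hq : Fact q.Prime]

omit [Finite G] hq in
theorem Far.not_both (h : Far G p q) {x : G} (h1 : p ∣ cs(x)) (h2 : q ∣ cs(x)) : False :=
  hp.out.one_lt.ne' (Nat.eq_one_of_dvd_coprimes (h.cop x x h1 h2) h1 h1)

theorem Far.exists_mul (h : Far G p q) (np : HasNormalPComplement p G) (nq : HasNormalPComplement q G)
    (P : Sylow p G) {u : G} (hu : u ∈ P) : ∃ y : G, q ∣ cs(y) ∧ cs(u) ∣ cs(y) := by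
  obtain ⟨Q⟩ : Nonempty (Sylow q G) := inferInstance
  obtain ⟨y, hy, hy'⟩ := exists_bad nq h.vq (sylow_le_res Q ((Nat.coprime_primes hp.out hq.out).2 h.ne))
  obtain ⟨g, hg⟩ := exists_conj_mem_centralizer_of_not_dvd_cs (fun e => h.not_both e hy') P
  have h1 : Commute u (g * y * g⁻¹) := mem_centralizer_iff.1 hg u hu
  have h2 : (orderOf u).Coprime (orderOf (g * y * g⁻¹)) := coprime_of_mem P hu
    (hasNormalPComplement_iff_forall_mem.1 np _ ((pResidual_normal p G).conj_mem y hy g))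
  exact ⟨_, (cs_conj g y ▸ hy').trans (cs_dvd_cs_mul_of_coprime' h1 h2), cs_dvd_cs_mul_of_coprime h1 h2⟩

theorem Far.both (h : Far G p q) (np : HasNormalPComplement p G) (nq : HasNormalPComplement q G) : False := by
  obtain ⟨Q⟩ : Nonempty (Sylow q G) := inferInstance
  have hpq := (Nat.coprime_primes hp.out hq.out).2 h.ne
  have h1 := Q.normalizer_sup_eq_top' (sylow_le_res Q hpq)
  rw [sup_comm] at h1
  obtain ⟨P, hP⟩ := exists_sylow_le_of_not_dvd_index fun e =>
    hasNormalPComplement_iff_not_dvd_pResidual.1 np (e.trans (index_dvd_card_of_sup_eq_top' h1))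
  have h2 : ∀ u ∈ P, ∀ v ∈ Q, normalClosure ({u} : Set G) ≤ cent(v) := fun u hu v hv => by
    obtain ⟨y, hy, hy'⟩ := h.exists_mul np nq P hu
    obtain ⟨x, hx, hx'⟩ := h.symm.exists_mul nq np Q hv
    refine normalClosure_le_of_coprime (mem_cent'.2 (mem_centralizer_iff.1
      (HasNormalPComplement.mem_centralizer nq Q.isPGroup' (hP hu) (coprime_of_mem P hu hpq.symm)) v hv)) ?_
    exact ((h.cop x y hx hy).coprime_dvd_left hx').coprime_dvd_right hy'
  have h3 : (Q : Subgroup G) ≤ centralizer (normalClosure ((P : Subgroup G) : Set G) : Set G) := fun v hv => by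
    refine mem_centralizer_iff.2 fun w hw => mem_cent.1 ?_
    refine (closure_le (cent(v))).2 (fun z hz => ?_) hw
    obtain ⟨u, hu, hz⟩ := Group.mem_conjugatesOfSet_iff.1 hz
    exact h2 u hu v hv (subset_closure (Group.mem_conjugatesOfSet_iff.2 ⟨u, rfl, hz⟩))
  have h4 : (P : Subgroup G) ≤ normalClosure ((P : Subgroup G) : Set G) := le_normalClosure
  obtain ⟨x, hx, hx'⟩ := exists_bad np h.vp h4
  obtain ⟨y, hy, hy'⟩ := exists_bad nq h.vq h3
  refine h.not_both (bad_mul (y := y) hx' fun P' u hu => ?_) ?_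
  · exact mem_cent.2 (mem_centralizer_iff.1 hy u (sylow_le_of_normal h4 P' hu))
  · rw [show x * y = y * x from mem_centralizer_iff.1 hy x hx]
    exact bad_mul hy' fun Q' v hv => mem_cent'.2 (mem_centralizer_iff.1 (sylow_le_of_normal h3 Q' hv) x hx)

/-- The intersection of the normal complements. -/
def core (G : Type*) [Group G] : Subgroup G :=
  ⨅ r : {r : ℕ // r.Prime ∧ HasNormalPComplement r G}, pResidual r.1 G

instance : (core G).Normal := normal_iInf_normal fun _ => inferInstance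

omit [Finite G] in
theorem mem_core {g : G} : g ∈ core G ↔ ∀ r : ℕ, r.Prime → HasNormalPComplement r G → g ∈ pResidual r G :=
  mem_iInf.trans ⟨fun h r h1 h2 => h ⟨r, h1, h2⟩, fun h r => h r.1 r.2.1 r.2.2⟩

theorem nilp_quot : Group.IsNilpotent (G ⧸ core G) := isNilpotent_iff_forall_hasNormalPComplement.2 fun r hr => by
  have := Fact.mk hr
  by_cases h : HasNormalPComplement r G
  · exact HasNormalPComplement.quotient h _
  · obtain ⟨R⟩ : Nonempty (Sylow r G) := inferInstance
    refine hasNormalPComplement_of_not_dvd (not_dvd_index_of_sylow_le R fun u hu => mem_core.2 fun s hs hs' => ?_)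
    exact sylow_le_res R ((Nat.coprime_primes hs hr).2 fun e => h (e ▸ hs')) hu

theorem sylow_le_of_core {L : Subgroup G} (hL : core G ≤ L) {P : Sylow p G} (h : (P : Subgroup G) ≤ L)
    (P' : Sylow p G) : (P' : Subgroup G) ≤ L := fun g hg => by
  obtain ⟨a, ha, b, hb, e⟩ := exists_pResidual_mul_sylow P g
  rw [e]
  refine mul_mem (hL (mem_core.2 fun r hr hr' => ?_)) (h hb)
  by_cases e' : r = p
  · exact e' ▸ ha
  · have h1 := (Nat.coprime_primes hr hp.out).2 e'
    rw [eq_mul_inv_of_mul_eq e.symm]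
    exact mul_mem (sylow_le_res P' h1 hg) (inv_mem (sylow_le_res P h1 hb))

theorem exists_primary (hc : ∀ x : G, p ∣ cs(x) → core G ≤ cent(x)) (n : ℕ) :
    ∀ x : G, orderOf x = n → p ∣ cs(x) → ∃ (z : G) (t k : ℕ), t.Prime ∧ orderOf z = t ^ k ∧ p ∣ cs(z) := by
  induction n using Nat.strong_induction_on with
  | _ n ih =>
    intro x hn hx
    by_cases h1 : n = 1
    · exact ⟨x, 2, 0, Nat.prime_two, hn.trans h1, hx⟩
    have ht := Nat.minFac_prime h1
    obtain ⟨a, ha, b, hb, ⟨k, hk⟩, h2, e, -⟩ := exists_pPart_mul_pPrimePart ht x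
    by_cases h3 : p ∣ cs(a)
    · exact ⟨a, _, k, ht, hk, h3⟩
    refine ih (orderOf b) ?_ b rfl (by_contra fun h4 => ?_)
    · refine lt_of_le_of_ne (hn ▸ Nat.le_of_dvd (orderOf_pos x) (orderOf_dvd_of_mem_zpowers hb)) fun e' => ?_
      exact ht.one_lt.ne' (Nat.eq_one_of_dvd_coprimes h2 (e' ▸ Nat.minFac_dvd n) dvd_rfl)
    · obtain ⟨P, hP⟩ := not_dvd_cs_iff.1 h3
      obtain ⟨P', hP'⟩ := not_dvd_cs_iff.1 h4
      refine not_dvd_cs_iff.2 ⟨P, ?_⟩ hx
      rw [e]
      exact (le_inf hP (sylow_le_of_core ((hc x hx).trans (cent_le_of_mem_zpowers hb)) hP' P)).trans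
        (inf_le_cent_mul a b)

theorem solvable_of_core (hv : ∃ x : G, p ∣ cs(x)) (hc : ∀ x : G, p ∣ cs(x) → core G ≤ cent(x)) :
    Group.IsSolvable G := by
  obtain ⟨x, hx⟩ := hv
  obtain ⟨z, t, k, ht, hk, hz⟩ := exists_primary hc _ x rfl hx
  have := Fact.mk ht
  have h1 : pResidual t (core G) ≤ center (core G) := pResidual_le_iff.2 fun g hg => by
    have h2 : Commute z (g : G) := mem_cent'.1 (hc z hz g.2)
    have h3 : (orderOf z).Coprime (orderOf (g : G)) := by
      rw [hk, orderOf_coe]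
      exact hg.symm.pow_left k
    have h4 := hc _ (hz.trans (cs_dvd_cs_mul_of_coprime h2 h3))
    rw [cent_mul_of_coprime h2 h3] at h4
    exact mem_center_iff.2 fun w => Subtype.ext (mem_cent.1 (h4 w.2).2)
  have h2 : Group.IsNilpotent (core G) :=
    Group.of_quotient_center_nilpotent (isPGroup_quotient_of_pResidual_le h1).isNilpotent
  have h3 := nilp_quot (G := G)
  exact Group.isSolvable_of_ker_le_range (core G).subtype (QuotientGroup.mk' (core G)) (by simp)

theorem Far.solvable_of (h : Far G p q) (np : HasNormalPComplement p G) : Group.IsSolvable G := by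
  by_cases nq : HasNormalPComplement q G
  · exact (h.both np nq).elim
  refine solvable_of_core h.vp fun x hx => le_of_normal_of_coprime_index (by_contra fun hc => ?_)
  obtain ⟨r, hr, h1, h2⟩ := exists_prime_dvd_of_not_coprime hc
  have := Fact.mk hr
  by_cases nr : HasNormalPComplement r G
  · exact hasNormalPComplement_iff_not_dvd_pResidual.1 nr
      (h1.trans (card_dvd_of_le fun g hg => mem_core.1 hg r hr nr))
  by_cases e : r = q
  · exact h.not_both hx (e ▸ h2)
  refine (Cfsg.Agent.S4160.result r q hr hq.out e ⟨x, h2⟩ h.vq fun y hy => ?_).elim nr nq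
  exact hr.one_lt.ne' (Nat.eq_one_of_dvd_coprimes (h.cop x y hx ((Dvd.intro_left _ rfl).trans hy)) h2
    ((Dvd.intro _ rfl).trans hy))

theorem Far.solvable (h : Far G p q) : Group.IsSolvable G :=
  (Cfsg.Agent.S4160.result p q hp.out hq.out h.ne h.vp h.vq fun _ hy =>
    h.not_both ((Dvd.intro _ rfl).trans hy) ((Dvd.intro_left _ rfl).trans hy)).elim h.solvable_of
    h.symm.solvable_of

end CL.Fgs.Diam
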