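/-
Groups with class sizes `1, n, m, n m` (helper94): such a group is nilpotent and `n`, `m` are prime
powers.
-/
import Cfsg.Agent.Cit.Ito4
import Cfsg.Agent.S4127

namespace CL.Fgs.Cs4

open Subgroup Cfsg CL.Grp CL.Cit
open scoped Pointwise commutatorElement

variable {G : Type*} [Group G] [Finite G]

theorem sylow_transfer {p c : ℕ} [hp : Fact p.Prime] {R A B : Subgroup G} (hR : IsSylowIn p R A)
    (hRB : R ≤ B) (hc : ¬ p ∣ c) (h : A.index ∣ B.index * c) : IsSylowIn p R B := by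
  refine ⟨hRB, hR.isPGroup, fun e => ?_⟩
  have h1 : R.relIndex B * B.index ∣ R.relIndex A * c * B.index := by
    rw [relIndex_mul_index hRB, ← relIndex_mul_index hR.le, mul_assoc, mul_comm c]
    exact Nat.mul_dvd_mul_left _ h
  have h2 := Nat.dvd_of_mul_dvd_mul_right (Nat.pos_of_ne_zero index_ne_zero_of_finite) h1
  exact ((Nat.Prime.dvd_mul hp.out).1 (e.trans h2)).elim hR.not_dvd hc

theorem mem_of_sylow {p : ℕ} [Fact p.Prime] {R : Subgroup G} {u : G}
    (hR : IsSylowIn p R cent(u)) (hu : IsPiElt {p} u) : u ∈ R :=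
  hR.le_of_normalized hu.isPGroup_zpowers (zpowers_le_cent u) (cent_le_normalizer_zpowers u)
    (mem_zpowers u)

/-- a normal `p`-subgroup of `A` lies in every subgroup of index prime to `p` -/
theorem inf_le_of_not_dvd {p : ℕ} [Fact p.Prime] {V A B : Subgroup G} [V.Normal]
    (hV : IsPGroup p V) (h : ¬ p ∣ B.relIndex A) : V ⊓ A ≤ B := by
  obtain ⟨S, hS⟩ := exists_isSylowIn p (B ⊓ A)
  have h1 : IsSylowIn p S A := ⟨hS.le.trans inf_le_right, hS.isPGroup, by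
    rw [← relIndex_mul_relIndex _ _ _ hS.le inf_le_right, inf_relIndex_right]
    exact fun e => ((Nat.Prime.dvd_mul Fact.out).1 e).elim hS.not_dvd h⟩
  refine (h1.le_of_normalized (hV.to_le inf_le_left) inf_le_right fun g hg => ?_).trans
    (hS.le.trans inf_le_left)
  exact mem_normalizer_fintype fun v hv =>
    ⟨(inferInstance : V.Normal).conj_mem v hv.1 g, A.mul_mem (A.mul_mem hg hv.2) (A.inv_mem hg)⟩

theorem le_of_not_dvd {p : ℕ} [Fact p.Prime] {V B : Subgroup G} [V.Normal]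
    (hV : IsPGroup p V) (h : ¬ p ∣ B.index) : V ≤ B := fun _ hv =>
  inf_le_of_not_dvd (A := ⊤) hV (by rwa [relIndex_top_right]) ⟨hv, trivial⟩

theorem mem_pCore_of_mem_fitting {p : ℕ} [Fact p.Prime] {u : G} (hu : IsPiElt {p} u)
    (h : u ∈ fittingSubgroup G) : u ∈ pCore p G :=
  le_pCore_of_le_fittingSubgroup hu.isPGroup_zpowers (zpowers_le.2 h) (mem_zpowers u)

theorem mem_fitting_of_compl {s t : ℕ} [hs : Fact s.Prime] [ht : Fact t.Prime] (hts : t ≠ s)
    (hK : HasNormalPComplement s G)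
    (h : ∀ l : ℕ, l.Prime → l ≠ s → l ≠ t → ∀ w : G, IsPiElt {l} w → w ∈ center G) {g : G}
    (hg : IsPiElt {t} g) : g ∈ fittingSubgroup G := by
  obtain ⟨K, hKn, hKc, k, hk⟩ := hasNormalPComplement_iff_exists_normal.1 hK
  have h1 : Group.IsNilpotent K := isNilpotent_of_forall_pow_mem_center (r := t) fun x => by
    refine exists_pow_mem_of_piPart_compl_mem ?_
    refine (isPiElt_piPart {t}ᶜ x).mem_of_forall_primePow_mem fun l y hl hlt hy _ => ?_
    by_cases e : l = s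
    · subst e
      rw [hy.eq_one (isPiElt_coe_iff.1 (isPiElt_compl_of_mem
        ((Nat.Prime.coprime_iff_not_dvd hl).1 hKc.symm) y.2))]
      exact one_mem _
    · exact mem_center_iff.2 fun z => Subtype.ext
        (mem_center_iff.1 (h l hl e hlt y (isPiElt_coe_iff.2 hy)) z)
  refine le_fittingSubgroup h1 ((hg.mono (sub_compl hts)).mem_of_index ?_)
  rw [compl_compl, hk]
  exact isPiNum_singleton_pow hs.out k

/-- the `P × Q` lemma for an element -/
theorem le_cent_of_pq {p : ℕ} [hp : Fact p.Prime] {V P : Subgroup G} [V.Normal] (hV : IsPGroup p V)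
    (hP : IsPGroup p P) {x : G} (hx : IsPiElt {p}ᶜ x) (hPx : P ≤ cent(x))
    (h : V ⊓ centralizer (P : Set G) ≤ cent(x)) : V ≤ cent(x) := by
  have h1 := Cfsg.Agent.S0028.result p P (zpowers x) V hP
    (by rw [Nat.card_zpowers]; exact (isPiElt_compl_singleton_iff_coprime hp.out).1 hx) hV
    (by rwa [centralizer_zpowers]) le_normalizer_of_normal le_normalizer_of_normal
    (by rwa [centralizer_zpowers]) (mem_zpowers x)
  exact fun v hv => mem_cent.2 (h1 v hv)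

/-- Class sizes `1, n, m, n m` with `n, m > 1` coprime. -/
structure Quad (G : Type*) [Group G] (n m : ℕ) : Prop where
  one_lt_n : 1 < n
  one_lt_m : 1 < m
  cop : n.Coprime m
  cs_mem : ∀ x : G, cs(x) = 1 ∨ cs(x) = n ∨ cs(x) = m ∨ cs(x) = n * m
  ex_n : ∃ x : G, cs(x) = n
  ex_m : ∃ x : G, cs(x) = m
  ex_nm : ∃ x : G, cs(x) = n * m

namespace Quad

variable {n m : ℕ}

omit [Finite G] in
theorem swap (h : Quad G n m) : Quad G m n :=
  ⟨h.one_lt_m, h.one_lt_n, h.cop.symm, fun x => by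
    rw [mul_comm]; rcases h.cs_mem x with e | e | e | e <;> simp [e], h.ex_m, h.ex_n,
    mul_comm n m ▸ h.ex_nm⟩

omit [Finite G] in
theorem cs_dvd (h : Quad G n m) (x : G) : cs(x) ∣ n * m := by
  rcases h.cs_mem x with e | e | e | e <;> rw [e]
  exacts [one_dvd _, dvd_mul_right _ _, dvd_mul_left _ _]

omit [Finite G] in
theorem not_dvd (h : Quad G n m) : ¬ m ∣ n :=
  fun e => h.one_lt_m.ne' (Nat.eq_one_of_dvd_coprimes h.cop e dvd_rfl)

omit [Finite G] in
theorem not_dvd_m (h : Quad G n m) {r : ℕ} (hr : r.Prime) (hd : r ∣ n) : ¬ r ∣ m :=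
  fun e => hr.one_lt.ne' (Nat.eq_one_of_dvd_coprimes h.cop hd e)

omit [Finite G] in
theorem not_mem_center (h : Quad G n m) {x : G} (hx : n ∣ cs(x)) : x ∉ center G := fun e => by
  rw [cs_eq_one_iff.2 e] at hx
  exact h.one_lt_n.ne' (Nat.dvd_one.1 hx)

omit [Finite G] in
theorem nc (h : Quad G n m) {x : G} (hx : cs(x) = n) : x ∉ center G :=
  h.not_mem_center (hx.symm ▸ dvd_refl n)

omit [Finite G] in
theorem eq_n (h : Quad G n m) {x : G} (hx : x ∉ center G) (hd : cs(x) ∣ n) : cs(x) = n := by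
  rcases h.cs_mem x with e | e | e | e
  · exact (hx (cs_eq_one_iff.1 e)).elim
  · exact e
  · exact (h.not_dvd (e ▸ hd)).elim
  · exact (h.not_dvd ((dvd_mul_left m n).trans (e ▸ hd))).elim

omit [Finite G] in
theorem of_dvd (h : Quad G n m) {x : G} (hd : n ∣ cs(x)) : cs(x) = n ∨ cs(x) = n * m := by
  rcases h.cs_mem x with e | e | e | e
  · exact (h.not_mem_center hd (cs_eq_one_iff.1 e)).elim
  · exact Or.inl e
  · exact (h.swap.not_dvd (e ▸ hd)).elim
  · exact Or.inr e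

omit [Finite G] in
theorem dvd_of_ne (h : Quad G n m) {x : G} (hx : x ∉ center G) (hd : cs(x) ≠ m) : n ∣ cs(x) := by
  rcases h.cs_mem x with e | e | e | e
  · exact (hx (cs_eq_one_iff.1 e)).elim
  · exact e ▸ dvd_rfl
  · exact (hd e).elim
  · exact e ▸ dvd_mul_right _ _

theorem mem_center (h : Quad G n m) {l : ℕ} [hl : Fact l.Prime] (hln : ¬ l ∣ n) (hlm : ¬ l ∣ m)
    {v : G} (hv : IsPiElt {l} v) : v ∈ center G := by
  have h1 : ∀ y : G, ¬ l ∣ cs(y) := fun y e =>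
    ((Nat.Prime.dvd_mul hl.out).1 (e.trans (h.cs_dvd y))).elim hln hlm
  obtain ⟨k, hk⟩ := exists_cs_eq_pow_of_forall_not_dvd (fun y _ => h1 y) hv
  rcases k with _ | k
  · exact cs_eq_one_iff.1 hk
  · exact (h1 v (hk ▸ dvd_pow_self l k.succ_ne_zero)).elim

theorem exists_primary (h : Quad G n m) :
    ∃ (r : ℕ) (x : G), r.Prime ∧ IsPiElt {r} x ∧ cs(x) = n := by
  obtain ⟨x, hx⟩ := h.ex_n
  obtain ⟨q, hq, -, hZ⟩ := ito_exists_primary (h.nc hx)
  exact ⟨q, piPart {q} x, hq, isPiElt_piPart _ _, h.eq_n hZ (by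
    rw [← hx]; exact cs_piPart_dvd {q} x)⟩

omit [Finite G] in
theorem relIndex (h : Quad G n m) {π : Set ℕ} {x : G} (hx : IsPiElt π x) (hn : cs(x) = n) :
    ∀ y ∈ cent(x), IsPiElt πᶜ y →
      (cent(y)).relIndex cent(x) = 1 ∨ (cent(y)).relIndex cent(x) = m := fun y hy hy' => by
  have e := cs_mul_of_coprime' (mem_cent'.1 hy) (hx.coprime hy')
  have h0 : 0 < n := h.one_lt_n.le
  rw [hn] at e
  rcases h.of_dvd (e ▸ dvd_mul_left _ _) with e' | e' <;> rw [e'] at e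
  · exact Or.inl (Nat.eq_of_mul_eq_mul_right h0 (by rw [← e, one_mul]))
  · exact Or.inr (Nat.eq_of_mul_eq_mul_right h0 (by rw [← e, mul_comm]))

omit [Finite G] in
theorem not_dvd_relIndex (h : Quad G n m) {π : Set ℕ} {x y : G} (hx : IsPiElt π x) (hn : cs(x) = n)
    (hy : y ∈ cent(x)) (hy' : IsPiElt πᶜ y) {p : ℕ} (hp : p.Prime) (hpm : ¬ p ∣ m) :
    ¬ p ∣ (cent(y)).relIndex cent(x) := by
  rcases h.relIndex hx hn y hy hy' with e | e <;> rw [e]
  exacts [hp.not_dvd_one, hpm]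

theorem cent_le (h : Quad G n m) {u y : G} (hu : cs(u) = n * m) (hc : y ∈ cent(u))
    (ho : (orderOf u).Coprime (orderOf y)) : cent(u) ≤ cent(y) := by
  have e := cent_mul_of_coprime (mem_cent'.1 hc) ho
  rw [← cent_eq_of_le_of_cs_le (e ▸ inf_le_left : cent(u * y) ≤ cent(u))
    (hu ▸ Nat.le_of_dvd (hu ▸ cs_pos u) (h.cs_dvd _)), e]
  exact inf_le_right

theorem mem_cent (h : Quad G n m) {r : ℕ} (hr : r.Prime) {x y : G} (hx : IsPiElt {r} x)
    (hn : cs(x) = n) (hrm : ¬ r ∣ m) (hm : cs(y) = m) : y ∈ cent(x) := by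
  obtain ⟨k, hk⟩ := (isPiElt_singleton_iff hr).1 hx
  refine mem_cent'.2 (commute_of_coprime_cs (by rw [hn, hm]; exact h.cop) ?_)
  rw [hk, hm]
  exact Nat.Coprime.pow_left _ ((Nat.Prime.coprime_iff_not_dvd hr).2 hrm)

theorem stepA (h : Quad G n m) {r : ℕ} (hr : r.Prime) {x : G} (hx : IsPiElt {r} x)
    (hn : cs(x) = n) (hrm : ¬ r ∣ m) : ∃ q b : ℕ, q.Prime ∧ m = q ^ b ∧ q ∣ m ∧
      (∀ s : ℕ, s.Prime → s ≠ r → s ≠ q → ∀ w ∈ cent(x), IsPiElt {s} w → cent(x) ≤ cent(w)) ∧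
      ∃ u ∈ cent(x), IsPiElt {q} u ∧ (cent(u)).relIndex cent(x) = m := by
  haveI := Fact.mk hr
  obtain ⟨y, hy⟩ := h.ex_m
  have hyx := h.mem_cent hr hx hn hrm hy
  obtain ⟨q, hq⟩ := (two_cases_in (h.relIndex hx hn)).resolve_left (by
    rintro ⟨k, rfl⟩
    exact hrm (dvd_pow_self r (by rintro rfl; exact h.one_lt_m.ne rfl)))
  have key : ∀ s : ℕ, s.Prime → s ∣ m → ∃ u ∈ cent(x), IsPiElt {s} u ∧ ¬ cent(x) ≤ cent(u) :=
    fun s hs hsm => by
      haveI := Fact.mk hs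
      obtain ⟨S, hS⟩ := exists_sylow_le_of_not_dvd_index (H := cent(x))
        (hn ▸ h.swap.not_dvd_m hs hsm)
      obtain ⟨u, hu, hu'⟩ := SetLike.not_le_iff_exists.1 fun e =>
        not_dvd_index_of_sylow_le (H := cent(y)) S e (hy ▸ hsm)
      exact ⟨u, hS hu, isPiElt_singleton_of_mem S.isPGroup' hu,
        fun e => hu' (mem_cent_comm.1 (e hyx))⟩
  have key2 : ∀ s : ℕ, s.Prime → s ∣ m → s = q := fun s hs hsm => by
    obtain ⟨u, h1, h2, h3⟩ := key s hs hsm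
    by_contra e
    exact h3 (hq s hs (fun e => hrm (e ▸ hsm)) e u h1 h2)
  obtain ⟨s, hs, hsm⟩ := Nat.exists_prime_and_dvd h.one_lt_m.ne'
  obtain rfl := key2 s hs hsm
  obtain ⟨b, hb⟩ := (isPiNum_singleton_iff hs (by have := h.one_lt_m; omega)).1 key2
  obtain ⟨u, h1, h2, h3⟩ := key s hs hsm
  exact ⟨s, b, hs, hb, hsm, hq, u, h1, h2, (h.relIndex hx hn u h1
    (h2.mono (sub_compl fun e => hrm (e ▸ hsm)))).resolve_left (mt relIndex_eq_one.1 h3)⟩

theorem compl (h : Quad G n m) {p a : ℕ} [hp : Fact p.Prime] (ha : n = p ^ a) {x : G}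
    (hx : IsPiElt {p} x) (hn : cs(x) = n) : HasNormalPComplement p G := by
  have hpn : p ∣ n := ha ▸ dvd_pow_self p (by rintro rfl; exact h.one_lt_n.ne' ha)
  refine Cfsg.Agent.S4127.result p a (fun y e => h.not_dvd_m hp.out hpn ?_)
    ⟨x, (isPiElt_singleton_iff hp.out).1 hx, hn.trans ha⟩
  have h1 := e.trans (h.cs_dvd y)
  rw [ha, pow_succ] at h1
  exact Nat.dvd_of_mul_dvd_mul_left (pow_pos hp.out.pos a) h1

theorem eq_of_dvd_pow {p q a : ℕ} (hp : p.Prime) (hq : q.Prime) (h : q ∣ p ^ a) : q = p :=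
  (Nat.prime_dvd_prime_iff_eq hq hp).1 (hq.dvd_of_dvd_pow h)

theorem mem_center' (h : Quad G n m) {p q a b : ℕ} (hp : p.Prime) (hq : q.Prime) (ha : n = p ^ a)
    (hb : m = q ^ b) (l : ℕ) (hl : l.Prime) (h1 : l ≠ p) (h2 : l ≠ q) (w : G)
    (hw : IsPiElt {l} w) : w ∈ center G :=
  haveI := Fact.mk hl
  h.mem_center (fun e => h1 (eq_of_dvd_pow hp hl (ha ▸ e)))
    (fun e => h2 (eq_of_dvd_pow hq hl (hb ▸ e))) hw

/-- the good case -/
theorem good (h : Quad G n m) {r s : ℕ} (hr : r.Prime) (hs : s.Prime) {x y : G}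
    (hx : IsPiElt {r} x) (hn : cs(x) = n) (hrm : ¬ r ∣ m)
    (hy : IsPiElt {s} y) (hm : cs(y) = m) (hsn : ¬ s ∣ n) :
    Group.IsNilpotent G ∧ IsPrimePow n ∧ IsPrimePow m := by
  haveI := Fact.mk hr
  haveI := Fact.mk hs
  obtain ⟨q, b, hq, hb, -⟩ := h.stepA hr hx hn hrm
  obtain ⟨p, a, hp, ha, -⟩ := h.swap.stepA hs hy hm hsn
  have h1 : r ∣ n := by
    by_contra e
    exact h.nc hn (h.mem_center e hrm hx)
  have h2 : s ∣ m := by
    by_contra e
    exact h.swap.nc hm (h.mem_center hsn e hy)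
  obtain rfl := eq_of_dvd_pow hp hr (ha ▸ h1)
  obtain rfl := eq_of_dvd_pow hq hs (hb ▸ h2)
  have hrs : r ≠ s := fun e => hrm (e ▸ h2)
  have h3 := h.mem_center' hr hs ha hb
  refine ⟨fittingSubgroup_eq_top_iff.1 (eq_top_of_forall_primePow_mem fun l w hl hw => ?_),
    ha ▸ hr.isPrimePow.pow (by rintro rfl; exact h.one_lt_n.ne' ha),
    hb ▸ hs.isPrimePow.pow (by rintro rfl; exact h.one_lt_m.ne' hb)⟩
  by_cases e1 : l = r
  · subst e1
    exact mem_fitting_of_compl hrs (h.swap.compl hb hy hm) (fun t ht h1 h2 => h3 t ht h2 h1) hw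
  by_cases e2 : l = s
  · subst e2
    exact mem_fitting_of_compl e1 (h.compl ha hx hn) h3 hw
  · exact center_le_fittingSubgroup (h3 l hl e1 e2 w hw)

/-- no primary element of class size `n` has order prime to `m` -/
def Bad (G : Type*) [Group G] (n m : ℕ) : Prop :=
  ∀ (r : ℕ) (x : G), r.Prime → IsPiElt {r} x → cs(x) = n → r ∣ m

theorem stepC1 (h : Quad G n m) (hB : Bad G n m) {s : ℕ} (hs : s.Prime) {y : G}
    (hy : IsPiElt {s} y) (hm : cs(y) = m) (hsn : ¬ s ∣ n) {r : ℕ} (hr : r.Prime) {x : G}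
    (hx : IsPiElt {r} x) (hn : cs(x) = n) : r = s := by
  obtain ⟨p, a, hp, -, hpn, h1, -⟩ := h.swap.stepA hs hy hm hsn
  by_contra e
  have h2 := h1 r hr e (fun e' => h.not_dvd_m hp hpn (e' ▸ hB r x hr hx hn)) x
    (h.swap.mem_cent hs hy hm hsn hn) hx
  exact h.swap.not_dvd (by rw [← hn, ← hm]; exact cs_dvd_of_le h2)

theorem stepC (h : Quad G n m) (hB : Bad G n m) {s : ℕ} (hs : s.Prime) {y : G}
    (hy : IsPiElt {s} y) (hm : cs(y) = m) (hsn : ¬ s ∣ n) : False := by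
  haveI := Fact.mk hs
  obtain ⟨p, a, hp, ha, hpn, h1, u, huy, hup, hu⟩ := h.swap.stepA hs hy hm hsn
  haveI := Fact.mk hp
  obtain ⟨r, x, hr, hx, hn⟩ := h.exists_primary
  obtain rfl := h.stepC1 hB hs hy hm hsn hr hx hn
  have hpm := h.not_dvd_m hp hpn
  have hpr : p ≠ r := fun e => hsn (e ▸ hpn)
  obtain ⟨b, hb⟩ : ∃ b, m = r ^ b := by
    refine (isPiNum_singleton_iff hs (by have := h.one_lt_m; omega)).1 fun q hq hqm => ?_
    by_contra e
    haveI := Fact.mk hq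
    obtain ⟨w, hw, hwZ⟩ := exists_noncentral_of_dvd (hqm.trans (hm ▸ cs_dvd_index_center y))
    obtain ⟨v, hvy, hv, hvZ⟩ := exists_noncentral_mem_cent' (b := y) (self_mem_cent w) hw hwZ
      hq.not_dvd_one (by
        rw [hm, mul_one]
        exact h.swap.dvd_of_ne hwZ fun e' => e (h.stepC1 hB hs hy hm hsn hq hw e'))
    have h2 := h.swap.eq_n hvZ (by
      rw [← hm]; exact cs_dvd_of_le (h1 q hq e (fun e' => hpm (e' ▸ hqm)) v hvy hv))
    exact e (h.stepC1 hB hq hv h2 (h.swap.not_dvd_m hq hqm) hr hx hn).symm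
  have hP : ∀ v : G, IsPiElt {p} v → v ∈ pCore p G := fun v hv => mem_pCore_of_mem_fitting hv
    (mem_fitting_of_compl hpr (h.swap.compl hb hy hm)
      (fun t ht h1 h2 => h.mem_center' hp hs ha hb t ht h2 h1) hv)
  have hV := pCore_isPGroup p G
  set V := pCore p G
  have h2 : ∀ v ∈ V ⊓ cent(x), V ⊓ cent(x) ≤ cent(v) := fun v hv => inf_le_of_not_dvd hV
    (h.not_dvd_relIndex hx hn hv.2 ((isPiElt_singleton_of_mem hV hv.1).mono (sub_compl hpr)) hp hpm)
  have h3 : ∀ v ∈ V ⊓ cent(x), cs(v) ≠ n * m := fun v hv e => by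
    have h4 : V ≤ cent(x) := le_cent_of_pq hV (hV.to_le inf_le_left)
      (hx.mono (sub_compl hpr.symm)) inf_le_right fun g hg =>
        h.cent_le e (mem_cent_comm.1 hv.2) (ito_coprime hpr (isPiElt_singleton_of_mem hV hv.1) hx)
          (mem_cent'.2 (hg.2 v hv))
    exact not_dvd_index_of_forall (fun g hg => h4 (hP g hg)) (hn ▸ hpn)
  have h4 : ∀ v : G, IsPiElt {p} v → cs(v) ≠ n * m → V ≤ cent(v) := fun v hv e => by
    refine le_of_not_dvd hV ?_
    rcases h.cs_mem v with e' | e' | e' | e'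
    · exact e' ▸ hp.not_dvd_one
    · exact (hpr (h.stepC1 hB hs hy hm hsn hp hv e')).elim
    · exact e' ▸ hpm
    · exact (e e').elim
  have h5 : cs(u) = n * m := by
    by_contra e
    exact not_dvd_relIndex_of_forall (fun g _ hg => h4 u hup e (hP g hg)) (hu ▸ hpn)
  have h6 : IsSylowIn p (V ⊓ cent(x)) cent(x) := isSylowIn_of_forall fun g =>
    ⟨fun hg => ⟨hg.2, isPiElt_singleton_of_mem hV hg.1⟩, fun hg => ⟨hP g hg.2, hg.1⟩⟩
  refine h3 u (mem_of_sylow (sylow_transfer h6 (fun v hv => mem_cent_comm.1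
    (h4 v (isPiElt_singleton_of_mem hV hv.1) (h3 v hv) (hP u hup))) hp.not_dvd_one ?_) hup) h5
  rw [hn, h5, mul_one]
  exact dvd_mul_right _ _

theorem stepD0 (h : Quad G n m) (hB : Bad G n m) {r : ℕ} (hr : r.Prime) {x : G}
    (hx : IsPiElt {r} x) (hn : cs(x) = n) {p : ℕ} (hp : p.Prime) (hpm : ¬ p ∣ m) {u : G}
    (hux : u ∈ cent(x)) (hu : IsPiElt {p} u) (huZ : u ∉ center G) : ∃ b, m = r ^ b := by
  haveI := Fact.mk hr
  have hpr : p ≠ r := fun e => hpm (e ▸ hB r x hr hx hn)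
  refine (two_cases_in (h.relIndex hx hn)).elim id fun ⟨q, hq⟩ => ?_
  have h1 : ¬ cent(x) ≤ cent(u) := fun e =>
    hpm (hB p u hp hu (h.eq_n huZ (by rw [← hn]; exact cs_dvd_of_le e)))
  obtain rfl : p = q := by
    by_contra e
    exact h1 (hq p hp hpr e u hux hu)
  have h2 := (h.relIndex hx hn u hux (hu.mono (sub_compl hpr))).resolve_left
    (mt relIndex_eq_one.1 h1)
  refine (isPiNum_singleton_iff hr (by have := h.one_lt_m; omega)).1 fun t ht htm => ?_
  by_contra e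
  haveI := Fact.mk ht
  exact not_dvd_relIndex_of_forall (fun g hg hg' => mem_cent_comm.1
    (hq t ht e (fun e' => hpm (e' ▸ htm)) g hg hg' hux)) (h2 ▸ htm)

end Quad

/-- the configuration of the last case -/
structure Hard (G : Type*) [Group G] (n m p r : ℕ) : Prop where
  quad : Quad G n m
  hp : p.Prime
  hr : r.Prime
  pow_n : ∃ a, n = p ^ a
  pow_m : ∃ b, m = r ^ b
  bad_n : Quad.Bad G n m
  bad_m : Quad.Bad G m n
  ex : ∃ u w : G, IsPiElt {p} u ∧ IsPiElt {r} w ∧ u ∉ center G ∧ w ∉ center G ∧ w ∈ cent(u)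

theorem Quad.hard' {n m : ℕ} (h : Quad G n m) (hB : Quad.Bad G n m) (hB' : Quad.Bad G m n) {p : ℕ}
    (hp : p.Prime) (hpm : ¬ p ∣ m) {z w : G} (hz : cs(z) = n * m) (hwz : w ∈ cent(z))
    (hw : IsPiElt {p} w) (hwZ : w ∉ center G) : ∃ r, Hard G n m p r := by
  haveI := Fact.mk hp
  obtain ⟨r, x, hr, hx, hn⟩ := h.exists_primary
  obtain ⟨s, y, hs, hy, hm⟩ := h.swap.exists_primary
  haveI := Fact.mk hr
  obtain ⟨u, hux, hu, huZ⟩ := exists_noncentral_mem_cent' (b := x) hwz hw hwZ hp.not_dvd_one (by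
    rw [hn, hz, mul_one]; exact dvd_mul_right _ _)
  have hrn := h.swap.not_dvd_m hr (hB r x hr hx hn)
  obtain ⟨v, hvy, hv, hvZ⟩ := exists_noncentral_mem_cent' (b := y) (mem_cent_comm.1 hux) hx
    (h.nc hn) hr.not_dvd_one (by
      rw [hm, mul_one]; exact h.swap.dvd_of_ne huZ fun e => hpm (hB p u hp hu e))
  obtain ⟨a, ha⟩ := h.swap.stepD0 hB' hs hy hm hr hrn hvy hv hvZ
  have hpn : p ∣ n := by
    by_contra e
    exact huZ (h.mem_center e hpm hu)
  obtain rfl := Quad.eq_of_dvd_pow hs hp (ha ▸ hpn)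
  exact ⟨r, h, hp, hr, ⟨a, ha⟩, h.stepD0 hB hr hx hn hp hpm hux hu huZ, hB, hB',
    u, x, hu, hx, huZ, h.nc hn, mem_cent_comm.1 hux⟩

theorem Quad.hard {n m : ℕ} (h : Quad G n m) (hB : Quad.Bad G n m) (hB' : Quad.Bad G m n) :
    ∃ p r, Hard G n m p r ∨ Hard G m n p r := by
  obtain ⟨z, hz⟩ := h.ex_nm
  obtain ⟨l, hl, -, hZ⟩ := ito_exists_primary
    (h.not_mem_center (x := z) (hz ▸ dvd_mul_right n m))
  have h1 : piPart {l} z ∈ cent(z) := piPart_mem (self_mem_cent z)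
  by_cases e : l ∣ m
  · obtain ⟨r, hr⟩ := h.swap.hard' hB' hB hl (h.swap.not_dvd_m hl e) (hz.trans (mul_comm _ _)) h1
      (isPiElt_piPart _ _) hZ
    exact ⟨l, r, Or.inr hr⟩
  · obtain ⟨r, hr⟩ := h.hard' hB hB' hl e hz h1 (isPiElt_piPart _ _) hZ
    exact ⟨l, r, Or.inl hr⟩

namespace Hard

variable {n m p r : ℕ}

omit [Finite G] in
theorem swap (h : Hard G n m p r) : Hard G m n r p :=
  ⟨h.quad.swap, h.hr, h.hp, h.pow_m, h.pow_n, h.bad_m, h.bad_n, by
    obtain ⟨u, w, h1, h2, h3, h4, h5⟩ := h.ex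
    exact ⟨w, u, h2, h1, h4, h3, mem_cent_comm.1 h5⟩⟩

omit [Finite G] in
theorem dvd_n (h : Hard G n m p r) : p ∣ n := by
  obtain ⟨a, ha⟩ := h.pow_n
  exact ha ▸ dvd_pow_self p (by rintro rfl; exact h.quad.one_lt_n.ne' ha)

omit [Finite G] in
theorem not_dvd_m (h : Hard G n m p r) : ¬ p ∣ m := h.quad.not_dvd_m h.hp h.dvd_n

omit [Finite G] in
theorem ne (h : Hard G n m p r) : p ≠ r := fun e => h.not_dvd_m (e ▸ h.swap.dvd_n)

theorem central (h : Hard G n m p r) (l : ℕ) (w : G) (hl : l.Prime) (h1 : l ≠ p) (h2 : l ≠ r)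
    (hw : IsPiElt {l} w) : w ∈ center G := by
  obtain ⟨a, ha⟩ := h.pow_n
  obtain ⟨b, hb⟩ := h.pow_m
  exact h.quad.mem_center' h.hp h.hr ha hb l hl h1 h2 w hw

omit [Finite G] in
theorem cs_of (h : Hard G n m p r) {w : G} (hw : IsPiElt {r} w) (hwZ : w ∉ center G) :
    cs(w) = n ∨ cs(w) = n * m :=
  h.quad.of_dvd (h.quad.dvd_of_ne hwZ fun e => h.swap.not_dvd_m (h.bad_m r w h.hr hw e))

theorem exists_x (h : Hard G n m p r) : ∃ x : G, IsPiElt {r} x ∧ cs(x) = n := by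
  obtain ⟨s, x, hs, hx, hn⟩ := h.quad.exists_primary
  obtain ⟨b, hb⟩ := h.pow_m
  obtain rfl := Quad.eq_of_dvd_pow h.hr hs (hb ▸ h.bad_n s x hs hx hn)
  exact ⟨x, hx, hn⟩

theorem exists_nc (h : Hard G n m p r) (y : G) : ∃ w ∈ cent(y), IsPiElt {r} w ∧ w ∉ center G := by
  haveI := Fact.mk h.hr
  obtain ⟨u, w, h1, h2, h3, h4, h5⟩ := h.ex
  refine exists_noncentral_mem_cent' h5 h2 h4 h.swap.not_dvd_m ((h.quad.swap.cs_dvd y).trans ?_)
  rcases h.swap.cs_of h1 h3 with e | e <;> rw [e]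
  exact dvd_mul_right _ _

theorem mem_core (h : Hard G n m p r) {g : G} (hg : IsPiElt {r} g) (h1 : pCore p G ≤ cent(g))
    (h2 : pCore r G ≤ cent(g)) : g ∈ pCore r G := by
  haveI := Fact.mk h.hr
  haveI := ito_isSolvable_of_center h.hp h.hr h.central
  have h3 : fittingSubgroup G ≤ cent(g) := fittingSubgroup_le_of_forall_pCore_le fun l hl => by
    by_cases e1 : l = p
    · exact e1 ▸ h1
    by_cases e2 : l = r
    · exact e2 ▸ h2
    exact fun v hv => center_le_cent g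
      (h.central l v hl.out e1 e2 (isPiElt_singleton_of_mem (pCore_isPGroup l G) hv))
  exact mem_pCore_of_mem_fitting hg
    (centralizer_fittingSubgroup_le G fun v hv => (mem_cent.1 (h3 hv)).eq)

theorem core_le (h : Hard G n m p r) {x : G} (hx : cs(x) = 1 ∨ cs(x) = n) :
    pCore r G ≤ cent(x) := by
  haveI := Fact.mk h.hr
  refine le_of_not_dvd (pCore_isPGroup r G) ?_
  rcases hx with e | e <;> rw [e]
  exacts [h.hr.not_dvd_one, h.swap.not_dvd_m]

theorem core_le' (h : Hard G n m p r) {y : G} (hy : IsPiElt {p} y) (hm : cs(y) = m) :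
    pCore r G ≤ cent(y) := by
  haveI := Fact.mk h.hr
  haveI := Fact.mk h.hp
  have hW := pCore_isPGroup r G
  by_contra hc
  have h1 : ∀ w ∈ cent(y), IsPiElt {r} w → w ∉ center G → cs(w) = n := fun w hw hw' hwZ =>
    (h.cs_of hw' hwZ).resolve_right fun e => hc (le_cent_of_pq hW hw'.isPGroup_zpowers
      (hy.mono (sub_compl h.ne)) (zpowers_le.2 hw) fun g hg => h.quad.cent_le e
        (mem_cent_comm.1 hw) (ito_coprime h.ne.symm hw' hy) (mem_cent'.2 (hg.2 w (mem_zpowers w))))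
  have h2 : ∀ w ∈ cent(y), IsPiElt {r} w → pCore r G ≤ cent(w) := fun w hw hw' => h.core_le (by
    by_cases e : w ∈ center G
    exacts [Or.inl (cs_eq_one_iff.2 e), Or.inr (h1 w hw hw' e)])
  obtain ⟨x, hxy, hx, hxZ⟩ := h.exists_nc y
  have hn := h1 x hxy hx hxZ
  obtain ⟨R, hR⟩ := exists_isSylowIn r (cent(x) ⊓ cent(y))
  have hR' : IsSylowIn r R cent(y) :=
    sylow_transfer hR (hR.le.trans inf_le_right) h.swap.not_dvd_m (by
      rw [← cent_mul_of_coprime (mem_cent.1 hxy) (ito_coprime h.ne.symm hx hy), hm]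
      exact h.quad.swap.cs_dvd _)
  obtain ⟨v, hv, hvy⟩ := SetLike.not_le_iff_exists.1 hc
  have hw : v * (y * v⁻¹ * y⁻¹) ∈ pCore r G :=
    mul_mem hv ((inferInstance : (pCore r G).Normal).conj_mem _ (inv_mem hv) y)
  set w := v * (y * v⁻¹ * y⁻¹) with hwd
  have hwr := isPiElt_singleton_of_mem hW hw
  have hwy : w ∉ cent(y) := fun e => by
    have h3 : w = (w * y) * y⁻¹ := by group
    have h4 : w * y = v * y * v⁻¹ := by rw [hwd]; group
    have h5 : IsPiElt {p} w := h3 ▸ IsPiElt.mul (h4 ▸ hy.conj v) hy.inv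
      ((mem_cent.1 e).mul_left (Commute.refl y)).inv_right
    have h6 := h5.eq_one (hwr.mono (sub_compl h.ne.symm))
    rw [h6, one_mul] at h4
    exact hvy (mem_cent_comm.1 (mem_cent.2 (by
      show y * v = v * y
      conv_lhs => rw [h4]
      group)))
  have hwx : Commute w x := mem_cent.1 (h2 x hxy hx hw)
  have hg : IsPiElt {r} (w * x) := hwr.mul hx hwx
  have hgy : w * x ∉ cent(y) := fun e => hwy (by simpa using mul_mem e (inv_mem hxy))
  have hRg : R ≤ cent(w * x) := fun a ha => inf_le_cent_mul w x ⟨mem_cent_comm.1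
    (h2 a (hR'.le ha) (isPiElt_singleton_of_mem hR.isPGroup ha) hw), (hR.le ha).1⟩
  have hgn : cs(w * x) = n := (h.cs_of hg fun e => hgy (center_le_cent y e)).resolve_right
    fun e => hgy (hR'.le (mem_of_sylow (sylow_transfer hR' hRg h.hr.not_dvd_one (by
      rw [hm, e, mul_one]; exact dvd_mul_left _ _)) hg))
  obtain ⟨P, hP⟩ := exists_sylow_le_of_not_dvd_index (p := p) (H := cent(y)) (hm ▸ h.not_dvd_m)
  obtain ⟨a, ha⟩ := h.pow_n
  have hvx : Commute v x := mem_cent.1 (h2 x hxy hx hv)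
  have hyx : Commute y x := mem_cent'.1 hxy
  have h3 : (P : Subgroup G) ⊓ cent(w * x) ≤ (P : Subgroup G) ⊓ cent(x) := fun g hg => by
    refine ⟨hg.1, ?_⟩
    have h4 : g ∈ cent(w * x * y) := inf_le_cent_mul _ _ ⟨hg.2, hP hg.1⟩
    have h5 : w * x * y = v * y * v⁻¹ * x := by
      rw [mul_assoc w, ← hyx.eq, hwd]; group
    rw [h5, cent_mul_of_coprime ((hvx.mul_left hyx).mul_left hvx.inv_left)
      (ito_coprime h.ne (hy.conj v) hx)] at h4
    exact h4.2
  have h4 := eq_of_le_of_index_le h3 (by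
    rw [index_inf_of_coprime (by rw [hgn, ha]; exact coprime_sylow_index_pow P a),
      index_inf_of_coprime (by rw [hn, ha]; exact coprime_sylow_index_pow P a), hgn, hn])
  have h5 : y ∈ (P : Subgroup G) ⊓ cent(x) :=
    ⟨mem_of_sylow (isSylowIn_of_le P hP) hy, mem_cent_comm.1 hxy⟩
  rw [← h4] at h5
  exact hgy (mem_cent_comm.1 h5.2)

theorem mem_of_n (h : Hard G n m p r) {x : G} (hx : IsPiElt {r} x) (hn : cs(x) ≠ n * m) :
    x ∈ pCore r G := by
  by_cases e : x ∈ center G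
  · exact h.mem_core hx (cent_eq_top_iff.2 e ▸ le_top) (cent_eq_top_iff.2 e ▸ le_top)
  have h1 := (h.cs_of hx e).resolve_right hn
  exact h.mem_core hx (h.swap.core_le' hx h1) (h.core_le (Or.inr h1))

theorem core_le_of_mem (h : Hard G n m p r) {y w : G} (hy : IsPiElt {p} y) (hm : cs(y) = m)
    (hwy : w ∈ cent(y)) (hw : IsPiElt {r} w) : pCore r G ≤ cent(w) := by
  haveI := Fact.mk h.hr
  exact (le_inf le_rfl (h.core_le' hy hm)).trans (inf_le_of_not_dvd (pCore_isPGroup r G)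
    (h.quad.swap.not_dvd_relIndex hy hm hwy (hw.mono (sub_compl h.ne.symm)) h.hr h.swap.not_dvd_m))

theorem mem_of_mem (h : Hard G n m p r) {y w : G} (hy : IsPiElt {p} y) (hm : cs(y) = m)
    (hwy : w ∈ cent(y)) (hw : IsPiElt {r} w) : w ∈ pCore r G := by
  haveI := Fact.mk h.hp
  by_cases e : cs(w) = n * m
  swap
  · exact h.mem_of_n hw e
  have h1 := h.core_le_of_mem hy hm hwy hw
  refine h.mem_core hw ?_ h1
  obtain ⟨x, hx, hn⟩ := h.exists_x
  have hxW := h.mem_of_n hx (by have := h.quad.one_lt_n; have := h.quad.one_lt_m; nlinarith)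
  obtain ⟨S, hS⟩ := exists_isSylowIn p cent(w)
  have h2 : IsSylowIn p S cent(x) := sylow_transfer hS (fun a ha => mem_cent_comm.1
    (h.quad.cent_le e (hS.le ha)
      (ito_coprime h.ne.symm hw (isPiElt_singleton_of_mem hS.isPGroup ha)) (h1 hxW)))
    h.not_dvd_m (by rw [e, hn])
  exact (h2.le_of_normalized (pCore_isPGroup p G) (h.swap.core_le' hx hn)
    le_normalizer_of_normal).trans hS.le

theorem false (h : Hard G n m p r) : False := by
  haveI := Fact.mk h.hp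
  haveI := Fact.mk h.hr
  obtain ⟨x, hx, hn⟩ := h.exists_x
  obtain ⟨y, hy, hm⟩ := h.swap.exists_x
  obtain ⟨R, hR⟩ := exists_sylow_le_of_not_dvd_index (p := r) (H := cent(x))
    (hn ▸ h.swap.not_dvd_m)
  obtain ⟨w, hwR, hwy⟩ := SetLike.not_le_iff_exists.1 fun e =>
    not_dvd_index_of_sylow_le (H := cent(y)) R e (hm ▸ h.swap.dvd_n)
  have hw := isPiElt_singleton_of_mem R.isPGroup' hwR
  refine hwy (h.core_le' hy hm ?_)
  by_cases e : cs(w) = n * m
  swap
  · exact h.mem_of_n hw e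
  obtain ⟨u, huw, hu, huZ⟩ := h.swap.exists_nc w
  have h1 := h.quad.cent_le e huw (ito_coprime h.ne.symm hw hu)
  have hux : u ∈ cent(x) := mem_cent_comm.1 (h1 (mem_cent_comm.1 (hR hwR)))
  rcases h.swap.cs_of hu huZ with e' | e'
  · exact h.mem_of_mem hu e' (mem_cent_comm.1 huw) hw
  have h2 := h.quad.swap.cent_le e' (mem_cent_comm.1 huw) (ito_coprime h.ne hu hw)
  refine h.mem_core hw ((h.swap.core_le_of_mem hx hn hux hu).trans h2) (le_trans ?_ h2)
  exact fun v hv => mem_cent.2 (commute_of_normal_of_disjoint _ _ inferInstance inferInstance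
    (IsPGroup.disjoint_of_ne r p h.ne.symm _ _ (pCore_isPGroup r G) (pCore_isPGroup p G)) v u hv
    (h.swap.mem_of_mem hx hn hux hu))

end Hard

theorem Quad.main {n m : ℕ} (h : Quad G n m) :
    Group.IsNilpotent G ∧ IsPrimePow n ∧ IsPrimePow m := by
  by_cases h1 : Quad.Bad G n m <;> by_cases h2 : Quad.Bad G m n
  · obtain ⟨p, r, e | e⟩ := h.hard h1 h2 <;> exact e.false.elim
  · simp only [Quad.Bad, not_forall] at h2
    obtain ⟨s, y, hs, hy, hm, hsn⟩ := h2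
    exact (h.stepC h1 hs hy hm hsn).elim
  · simp only [Quad.Bad, not_forall] at h1
    obtain ⟨s, y, hs, hy, hm, hsn⟩ := h1
    exact (h.swap.stepC h2 hs hy hm hsn).elim
  · simp only [Quad.Bad, not_forall] at h1 h2
    obtain ⟨r, x, hr, hx, hn, hrm⟩ := h1
    obtain ⟨s, y, hs, hy, hm, hsn⟩ := h2
    exact h.good hr hs hx hn hrm hy hm hsn

end CL.Fgs.Cs4
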