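/-
More than `|P|/2` classes of `2`-elements force a normal `2`-complement (helper97).
-/
import Cfsg.Agent.Fgs.ClassFusion
import Cfsg.Agent.Fgs.ClassReal
import Cfsg.Agent.Grp.Coprime

namespace CL.Fgs

open Subgroup Cfsg
open scoped Pointwise

variable {G : Type*} [Group G]

/-- a group without normal `p`-complement has a `p`-centric subgroup `D` with a `p'`-element
acting nontrivially -/
theorem exists_centric_of_not_hasNormalPComplement [Finite G] {p : ℕ} [hp : Fact p.Prime]
    (h : ¬ HasNormalPComplement p G) : ∃ (P : Sylow p G) (D : Subgroup G) (a : G), D ≤ P ∧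
      (P : Subgroup G) ⊓ centralizer (D : Set G) ≤ D ∧ IsPiElt {p}ᶜ a ∧
      a ∈ normalizer (D : Set G) ∧ a ∉ centralizer (D : Set G) := by
  obtain ⟨P₀⟩ : Nonempty (Sylow p G) := inferInstance
  obtain ⟨D, ⟨hD, a, ha, haN, haC⟩, hmax⟩ := (wellFounded_gt (α := Subgroup G)).has_min
    {D | IsPGroup p D ∧ ∃ a : G, IsPiElt {p}ᶜ a ∧ a ∈ normalizer (D : Set G) ∧
      a ∉ centralizer (D : Set G)} (by
    obtain ⟨Q, hQ, q, k, g, hq, hqp, hg, h1, h2⟩ := CL.Grp.exists_primePow_not_mem_centralizer P₀ h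
    exact ⟨Q, P₀.isPGroup'.to_le hQ, g,
      ((isPiElt_singleton_iff hq).2 ⟨k, hg⟩).mono (by simpa using hqp.symm), h1, h2⟩)
  obtain ⟨S, hS, hDS⟩ := CL.Grp.exists_isSylowIn_ge hD le_normalizer
  obtain ⟨P, hP⟩ := hS.exists_sylow_inf_eq
  have hNC : normalizer (D : Set G) ≤ normalizer ((centralizer (D : Set G) : Subgroup G) : Set G) :=
    CL.Grp.le_normalizer_centralizer' le_rfl
  have hT := hS.inf_of_normalized (centralizer_le_normalizer _) hNC
  obtain ⟨c, hc, hn⟩ := hT.frattini hNC haN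
  have hcN := centralizer_le_normalizer _ hc
  have h1 : piPart {p}ᶜ (c * a) ∉ centralizer (D : Set G) := by
    intro h1
    have e1 : ∀ x : normalizer (D : Set G), D.normalizerMonoidHom x = 1 ↔
        (x : G) ∈ centralizer (D : Set G) := fun x => by
      rw [← MonoidHom.mem_ker, normalizerMonoidHom_ker, mem_subgroupOf]
    have h2 := (e1 (piPart {p}ᶜ (⟨c, hcN⟩ * ⟨a, haN⟩))).2 (by rw [coe_piPart]; exact h1)
    rw [map_piPart, map_mul, (e1 ⟨c, hcN⟩).2 hc, one_mul,
      piPart_eq_self ((isPiElt_coe_iff.1 ha).map _)] at h2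
    exact haC ((e1 _).1 h2)
  have h2 : D ⊔ S ⊓ centralizer (D : Set G) = D := by
    refine (eq_of_le_of_not_lt le_sup_left (hmax _ ⟨hS.isPGroup.to_le (sup_le hDS inf_le_left),
      _, isPiElt_piPart _ (c * a), piPart_mem ?_,
      fun h => h1 (centralizer_le (SetLike.coe_subset_coe.2 le_sup_left) h)⟩)).symm
    exact CL.Grp.le_normalizer_sup' (zpowers_le.2 (mul_mem hcN haN)) (zpowers_le.2 hn)
      (mem_zpowers _)
  refine ⟨P, D, a, hDS.trans (hP ▸ inf_le_left), fun x hx => h2 ▸ mem_sup_right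
    ⟨hP ▸ ⟨hx.1, centralizer_le_normalizer _ hx.2⟩, hx.2⟩, ha, haN, haC⟩

theorem hasNormalPComplement_two_of_kPi [Finite G] (P : Sylow 2 G)
    (h : Nat.card (P : Subgroup G) < 2 * kPi {2} G) : HasNormalPComplement 2 G := by
  by_contra hc
  obtain ⟨Q, D, a, hD, hC, ha, haN, haC⟩ := exists_centric_of_not_hasNormalPComplement hc
  rw [kPi_singleton_eq_cl Q, Sylow.card_eq_multiplicity, ← Sylow.card_eq_multiplicity Q] at h
  obtain ⟨k, hk⟩ := (Q.isPGroup'.to_le hD).exists_card_eq
  have h1 := two_mul_cl_le_of_odd haN (isPiElt_compl_two_iff.1 ha)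
    (by rw [hk]; exact ((isPiNum_singleton_pow Nat.prime_two k).coprime ha).symm) haC
  have h2 : 2 * cl (((Q : Subgroup G) : Set G) \ D) ≤ (((Q : Subgroup G) : Set G) \ D).ncard := by
    refine two_mul_cl_le fun x hx => ?_
    have : x ∉ centralizer (D : Set G) := fun h => hx.2 (hC ⟨hx.1, h⟩)
    rw [mem_centralizer_iff] at this
    push Not at this
    obtain ⟨d, hd, hne⟩ := this
    refine ⟨d * x * d⁻¹, ⟨mul_mem (mul_mem (hD hd) hx.1) (inv_mem (hD hd)), fun h => hx.2 ?_⟩,
      fun e => hne (mul_inv_eq_iff_eq_mul.1 e), isConj_iff.2 ⟨d, rfl⟩⟩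
    exact (D.mul_mem_cancel_left hd).1 ((D.mul_mem_cancel_right (inv_mem hd)).1 h)
  have h3 := cl_le_add_diff ((Q : Subgroup G) : Set G) D
  have h4 := ncard_diff_add_card_inf (Q : Subgroup G) D
  rw [← coe_inf, inf_eq_right.2 hD] at h3
  rw [inf_eq_right.2 hD] at h4
  omega

/-- in a group of odd order, `2 k_p > |P|` forces `N(P) = C(P)` -/
theorem normalizer_le_centralizer_of_odd [Finite G] (hG : Odd (Nat.card G)) {p : ℕ}
    [hp : Fact p.Prime] (P : Sylow p G) (h : Nat.card (P : Subgroup G) < 2 * kPi {p} G) :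
    normalizer ((P : Subgroup G) : Set G) ≤ centralizer ((P : Subgroup G) : Set G) := by
  rw [kPi_singleton_eq_cl P] at h
  have hodd : ∀ x : G, Odd (orderOf x) := fun x => hG.of_dvd_nat (orderOf_dvd_natCard x)
  have h1 : (P : Subgroup G) ≤ centralizer ((P : Subgroup G) : Set G) := by
    by_contra hc
    set Z := (P : Subgroup G) ⊓ centralizer ((P : Subgroup G) : Set G) with hZ
    have h2 : 3 * cl (((P : Subgroup G) : Set G) \ Z) ≤ (((P : Subgroup G) : Set G) \ Z).ncard := by
      refine three_mul_cl_le fun x hx => ?_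
      have : x ∉ centralizer ((P : Subgroup G) : Set G) := fun h => hx.2 ⟨hx.1, h⟩
      rw [mem_centralizer_iff] at this
      push Not at this
      obtain ⟨d, hd, hne⟩ := this
      have hx' : x ∈ ((P : Subgroup G) : Set G) \ cent(d) := ⟨hx.1, fun h => hne (mem_cent'.1 h)⟩
      have key : ∀ y ∈ ((P : Subgroup G) : Set G) \ cent(d), y ∈ ((P : Subgroup G) : Set G) \ Z :=
        fun y hy => ⟨hy.1, fun h => hy.2 (mem_cent'.2 (h.2 d hd))⟩
      have h3 := conj_mem_diff_cent (le_normalizer hd) hx'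
      refine ⟨_, key _ h3, _, key _ (conj_mem_diff_cent (le_normalizer hd) h3), ?_, ?_, ?_,
        isConj_iff.2 ⟨d, rfl⟩, isConj_iff.2 ⟨d * d, by group⟩⟩
      · exact fun e => hx'.2 (mem_cent_comm.1 (mem_cent_iff_conj.2 e.symm))
      · intro e
        refine hx'.2 (cent_le_of_mem_zpowers (mem_zpowers_sq_of_odd (hodd d))
          (mem_cent_comm.1 (mem_cent_iff_conj.2 ?_)))
        rw [e]; conv_lhs => rw [← e]
        group
      · exact fun e => h3.2 (mem_cent_comm.1 (mem_cent_iff_conj.2 e.symm))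
    have h3 := cl_le_add_diff ((P : Subgroup G) : Set G) Z
    have h4 := ncard_diff_add_card_inf (P : Subgroup G) Z
    have h5 := cl_le_ncard (Z : Set G)
    have hZP : Z ≤ P := inf_le_left
    rw [← coe_inf, inf_eq_right.2 hZP] at h3
    rw [inf_eq_right.2 hZP] at h4
    rw [ncard_coe_subgroup] at h5
    have h6 : 4 * Nat.card Z ≤ Nat.card (P : Subgroup G) := by
      obtain ⟨x, hx, hxZ⟩ := SetLike.not_le_iff_exists.1 hc
      have h7 : Z < (P : Subgroup G) ⊓ cent(x) := lt_of_le_of_ne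
        (inf_le_inf_left _ fun y hy => mem_cent'.2 (hy x hx))
        fun e => hxZ ((e ▸ ⟨hx, self_mem_cent x⟩ : x ∈ Z).2)
      have h8 : (P : Subgroup G) ⊓ cent(x) < P := lt_of_le_of_ne inf_le_left fun e =>
        hxZ (le_cent_iff.1 (inf_eq_left.1 e))
      have key : ∀ A B : Subgroup G, A < B → 2 * Nat.card A ≤ Nat.card B := fun A B hAB => by
        rw [← CL.Grp.card_mul_relIndex hAB.le, mul_comm]
        refine Nat.mul_le_mul_left _ ?_
        have h1 : A.relIndex B ≠ 0 := index_ne_zero_of_finite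
        have h2 : A.relIndex B ≠ 1 := fun e => hAB.not_ge (relIndex_eq_one.1 e)
        omega
      have := key _ _ h7
      have := key _ _ h8
      omega
    omega
  intro a ha
  rw [← piPart_mul_piPart_compl {p} a]
  refine mul_mem (h1 (((isPiElt_piPart {p} a).isPGroup_zpowers.inf_normalizer_sylow P).le
    ⟨mem_zpowers _, piPart_mem ha⟩).2) ?_
  by_contra hc
  obtain ⟨k, hk⟩ := P.isPGroup'.exists_card_eq
  have := two_mul_cl_le_of_odd (piPart_mem ha) (hodd _) (by
    rw [hk]; exact ((isPiNum_singleton_pow hp.out k).coprime (isPiElt_piPart _ a)).symm) hc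
  omega

end CL.Fgs
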