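/-
Linear groups all of whose orbits have 2-power size (helper97): the irreducible case.
-/
import Cfsg.Agent.Fgs.ClassGraph
import Cfsg.Agent.Grp.KegelWielandt
import Cfsg.Agent.Grp.PGroupCyc
import Cfsg.Agent.Transfer.Control

namespace CL.Fgs

open Subgroup Cfsg CL.Grp Polynomial

section
variable {R : Type*} [Ring R] {H V : Type*} [Group H] [AddCommGroup V] [Module R V]

/-- the stabilizer of a vector -/
def vstab (ρ : H →* Module.End R V) (v : V) : Subgroup H where
  carrier := {h | ρ h v = v}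
  one_mem' := by simp
  mul_mem' := fun {a b} ha hb => by
    have ha' : ρ a v = v := ha
    have hb' : ρ b v = v := hb
    show ρ (a * b) v = v
    rw [map_mul, Module.End.mul_apply, hb', ha']
  inv_mem' := fun {a} ha => by
    have ha' : ρ a v = v := ha
    show ρ a⁻¹ v = v
    conv_lhs => rw [← ha', ← Module.End.mul_apply, ← map_mul, inv_mul_cancel, map_one]
    rfl

theorem mem_vstab {ρ : H →* Module.End R V} {v : V} {h : H} : h ∈ vstab ρ v ↔ ρ h v = v := Iff.rfl

theorem rep_mul_apply (ρ : H →* Module.End R V) (a b : H) (v : V) :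
    ρ (a * b) v = ρ a (ρ b v) := by rw [map_mul, Module.End.mul_apply]

theorem rep_inv_apply (ρ : H →* Module.End R V) (a : H) (v : V) : ρ a⁻¹ (ρ a v) = v := by
  rw [← rep_mul_apply, inv_mul_cancel, map_one, Module.End.one_apply]

theorem rep_apply_inv (ρ : H →* Module.End R V) (a : H) (v : V) : ρ a (ρ a⁻¹ v) = v := by
  rw [← rep_mul_apply, mul_inv_cancel, map_one, Module.End.one_apply]

/-- the stabilizer of a submodule -/
def wstab [Finite H] (ρ : H →* Module.End R V) (W : Submodule R V) : Subgroup H where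
  carrier := {h | ∀ v ∈ W, ρ h v ∈ W}
  one_mem' := fun v hv => by simpa using hv
  mul_mem' := fun {a b} ha hb v hv => by rw [rep_mul_apply]; exact ha _ (hb v hv)
  inv_mem' := fun {a} ha v hv => by
    have h1 : ∀ n : ℕ, ρ (a ^ n) v ∈ W := fun n => by
      induction n with
      | zero => simpa using hv
      | succ n ih => rw [pow_succ', rep_mul_apply]; exact ha _ ih
    have : a⁻¹ = a ^ (orderOf a - 1) := by
      rw [inv_eq_iff_mul_eq_one, ← pow_succ', Nat.sub_add_cancel (orderOf_pos a), pow_orderOf_eq_one]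
    rw [this]; exact h1 _

theorem mem_wstab [Finite H] {ρ : H →* Module.End R V} {W : Submodule R V} {h : H} :
    h ∈ wstab ρ W ↔ ∀ v ∈ W, ρ h v ∈ W := Iff.rfl

end

theorem exists_eigen_of_pow_eq {q : ℕ} [hq : Fact q.Prime] {V : Type*} [AddCommGroup V]
    [Module (ZMod q) V] [Nontrivial V] {u : Module.End (ZMod q) V} (h : u ^ q = u) :
    ∃ (μ : ZMod q) (v : V), v ≠ 0 ∧ u v = μ • v := by
  by_contra hc
  push Not at hc
  have key : ∀ (s : Multiset (ZMod q)) (v : V),
      aeval u ((s.map fun a => X - C a).prod) v = 0 → v = 0 := fun s => by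
    induction s using Multiset.induction_on with
    | empty => intro v hv; simpa using hv
    | cons a s ih =>
      intro v hv
      rw [Multiset.map_cons, Multiset.prod_cons, mul_comm, map_mul, Module.End.mul_apply] at hv
      have h1 := ih _ hv
      by_contra h0
      apply hc a v h0
      simpa [sub_eq_zero, Module.algebraMap_end_apply] using h1
  have hm : (X ^ Fintype.card (ZMod q) - X : (ZMod q)[X]).Monic :=
    monic_X_pow_sub (by rw [degree_X]; exact_mod_cast Fintype.one_lt_card)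
  have e := prod_multiset_X_sub_C_of_monic_of_roots_card_eq hm (by
    rw [FiniteField.roots_X_pow_card_sub_X, FiniteField.X_pow_card_sub_X_natDegree_eq _
      Fintype.one_lt_card]; rfl)
  obtain ⟨v, hv⟩ := exists_ne (0 : V)
  exact hv (key _ v (by rw [e]; simp [h]))

theorem submodule_le_or_le {F V : Type*} [Ring F] [AddCommGroup V] [Module F V]
    {f : V →ₗ[F] V} {W A B : Submodule F V} (h : ∀ v ∈ W, f v ∈ A ∨ f v ∈ B) :
    (∀ v ∈ W, f v ∈ A) ∨ ∀ v ∈ W, f v ∈ B := by
  by_contra hc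
  push Not at hc
  obtain ⟨⟨a, ha, ha'⟩, b, hb, hb'⟩ := hc
  have haB := (h a ha).resolve_left ha'
  have hbA := (h b hb).resolve_right hb'
  rcases h (a + b) (add_mem ha hb) with h3 | h3 <;> rw [map_add] at h3
  · exact ha' (by simpa using sub_mem h3 hbA)
  · exact hb' (by simpa using sub_mem h3 haB)

/-- an irreducible faithful module in odd characteristic on which a Sylow 2-subgroup has the same
orbits as the whole group `H = O²(H)` -/
structure TwoOrb (q : ℕ) {H V : Type*} [Group H] [AddCommGroup V] [Module (ZMod q) V]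
    (ρ : H →* Module.End (ZMod q) V) (S : Sylow 2 H) : Prop where
  odd : q ≠ 2
  inj : Function.Injective ρ
  irr : ∀ U : Submodule (ZMod q) V, (∀ h, ∀ v ∈ U, ρ h v ∈ U) → U = ⊥ ∨ U = ⊤
  orb : ∀ h v, ∃ s ∈ (S : Subgroup H), ρ h v = ρ s v
  res : pResidual 2 H = ⊤
  cop : ¬ q ∣ Nat.card H

namespace TwoOrb

variable {q : ℕ} [hq : Fact q.Prime] {H V : Type*} [Group H] [Finite H] [AddCommGroup V]
  [Module (ZMod q) V] {ρ : H →* Module.End (ZMod q) V} {S : Sylow 2 H}

theorem two_ne (h : TwoOrb q ρ S) : (2 : ZMod q) ≠ 0 := fun e =>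
  h.odd ((Nat.prime_dvd_prime_iff_eq hq.out Nat.prime_two).1
    ((ZMod.natCast_eq_zero_iff 2 q).1 (by exact_mod_cast e)))

theorem eq_zero_of_eq_neg (h : TwoOrb q ρ S) {v : V} (e : v = -v) : v = 0 := by
  have : (2 : ZMod q) • v = 0 := by rw [two_smul]; nth_rewrite 1 [e]; exact neg_add_cancel v
  exact (smul_eq_zero.1 this).resolve_left h.two_ne

theorem irrS (h : TwoOrb q ρ S) {U : Submodule (ZMod q) V}
    (hU : (S : Subgroup H) ≤ wstab ρ U) : U = ⊥ ∨ U = ⊤ :=
  h.irr U fun g v hv => by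
    obtain ⟨s, hs, e⟩ := h.orb g v
    rw [e]; exact hU hs v hv

theorem index_ne (h : TwoOrb q ρ S) (N : Subgroup H) : N.index ≠ 2 := fun e => by
  haveI := normal_of_index_eq_two e
  have := pResidual_le_of_index_eq_pow (p := 2) (N := N) (k := 1) e
  rw [h.res, top_le_iff] at this
  rw [this, index_top] at e
  omega

theorem eq_one (h : TwoOrb q ρ S) {g : H} (e : ∀ v, ρ g v = v) : g = 1 :=
  h.inj (by rw [map_one]; exact LinearMap.ext e)

/-- primitivity -/
theorem eq_smul (h : TwoOrb q ρ S) {u : Module.End (ZMod q) V} {μ : ZMod q} (hμ : μ ≠ 0)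
    (hu : ∀ s ∈ (S : Subgroup H), u * ρ s = ρ s * u ∨ u * ρ s = -(ρ s * u)) {v : V} (hv : v ≠ 0)
    (e : u v = μ • v) (w : V) : u w = μ • w := by
  set A := u.eigenspace μ with hA
  set B := u.eigenspace (-μ) with hB
  have mA : ∀ {x}, x ∈ A ↔ u x = μ • x := Module.End.mem_eigenspace_iff
  have mB : ∀ {x}, x ∈ B ↔ u x = -(μ • x) := by
    intro x; rw [hB, Module.End.mem_eigenspace_iff, neg_smul]
  have hAB : ∀ x, x ∈ A → x ∈ B → x = 0 := fun x h1 h2 =>
    (smul_eq_zero.1 (h.eq_zero_of_eq_neg ((mA.1 h1).symm.trans (mB.1 h2)))).resolve_left hμ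
  have hS : ∀ s ∈ (S : Subgroup H), ∀ x, x ∈ A ∨ x ∈ B → ρ s x ∈ A ∨ ρ s x ∈ B := by
    intro s hs x hx
    rw [mA, mB] at hx ⊢
    rcases hu s hs with e1 | e1 <;> have e2 := LinearMap.congr_fun e1 x <;>
      simp only [Module.End.mul_apply, LinearMap.neg_apply] at e2 <;> rcases hx with e3 | e3 <;>
      simp [e2, e3]
  have hH : ∀ g x, x ∈ A ∨ x ∈ B → ρ g x ∈ A ∨ ρ g x ∈ B := fun g x hx => by
    obtain ⟨s, hs, e⟩ := h.orb g x
    rw [e]; exact hS s hs x hx
  have htop : A ⊔ B = ⊤ := by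
    refine (h.irr _ fun g x hx => ?_).resolve_left fun e0 => hv ?_
    · obtain ⟨a, ha, b, hb, rfl⟩ := Submodule.mem_sup.1 hx
      rw [map_add]
      exact add_mem ((hH g a (Or.inl ha)).elim Submodule.mem_sup_left Submodule.mem_sup_right)
        ((hH g b (Or.inr hb)).elim Submodule.mem_sup_left Submodule.mem_sup_right)
    · exact (Submodule.mem_bot _).1 (e0 ▸ Submodule.mem_sup_left (mA.2 e))
  have hvA : v ∈ A := mA.2 e
  have hnot : ∀ g, (∀ x ∈ A, ρ g x ∈ B) → ∀ x ∈ B, ρ g x ∈ A := fun g h1 => by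
    refine (submodule_le_or_le fun x hx => hH g x (Or.inr hx)).resolve_right fun h2 => hv ?_
    obtain ⟨a, ha, b, hb, e1⟩ := Submodule.mem_sup.1 (htop ▸ Submodule.mem_top (x := ρ g⁻¹ v))
    refine hAB v hvA ?_
    rw [← rep_apply_inv ρ g v, ← e1, map_add]
    exact add_mem (h1 a ha) (h2 b hb)
  have hdich : ∀ g, g ∉ wstab ρ A → ∀ x ∈ A, ρ g x ∈ B := fun g hg =>
    (submodule_le_or_le fun x hx => hH g x (Or.inl hx)).resolve_left hg
  by_cases hN : ∀ g, g ∈ wstab ρ A
  · have := (h.irr A hN).resolve_left fun e0 => hv ((Submodule.mem_bot _).1 (e0 ▸ hvA))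
    exact mA.1 (this ▸ Submodule.mem_top)
  obtain ⟨a, ha⟩ := not_forall.1 hN
  refine absurd (index_eq_two_iff.2 ⟨a, fun b => ?_⟩) (h.index_ne (wstab ρ A))
  by_cases hb : b ∈ wstab ρ A
  · exact Or.inr ⟨hb, fun e1 => ha (by simpa using mul_mem (inv_mem hb) e1)⟩
  · refine Or.inl ⟨fun x hx => ?_, hb⟩
    rw [rep_mul_apply]
    exact hnot b (hdich b hb) _ (hdich a ha x hx)

theorem eq_neg_one (h : TwoOrb q ρ S) {z : H} (hz : z ^ 2 = 1) (h1 : z ≠ 1)
    (hc : ∀ s ∈ (S : Subgroup H), Commute z s) (v : V) : ρ z v = -v := by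
  have h2 := (h.irrS (U := (ρ z).eigenspace 1) fun s hs x hx => by
    rw [Module.End.mem_eigenspace_iff, one_smul] at hx ⊢
    rw [← rep_mul_apply, (hc s hs).eq, rep_mul_apply, hx]).resolve_right fun e => h1 (h.eq_one
      fun x => by
        have : x ∈ (ρ z).eigenspace 1 := e ▸ Submodule.mem_top
        rwa [Module.End.mem_eigenspace_iff, one_smul] at this)
  have h3 : ρ z v + v ∈ (ρ z).eigenspace 1 := by
    rw [Module.End.mem_eigenspace_iff, one_smul, map_add, ← rep_mul_apply, ← sq, hz, map_one,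
      add_comm]; rfl
  rw [h2, Submodule.mem_bot] at h3
  exact eq_neg_of_add_eq_zero_left h3

theorem mem_center_of_neg (h : TwoOrb q ρ S) {z : H} (hz : ∀ v, ρ z v = -v) : z ∈ center H :=
  mem_center_iff.2 fun g => h.inj (LinearMap.ext fun v => by
    rw [rep_mul_apply, rep_mul_apply, hz, hz, map_neg])

theorem no_four_group (h : TwoOrb q ρ S) (E : Subgroup (S : Subgroup H)) (hE : E.Normal)
    (hE' : IsElementaryAbelian 2 E) : Nat.card E ≠ 2 ^ 2 := fun hc => by
  haveI := S.isPGroup'.isNilpotent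
  obtain ⟨⟨z, hzE, hzZ⟩, hz1⟩ := (ne_bot_iff_exists_ne_one).1 (inf_center_ne_bot (N := E) fun e => by
    rw [e, card_bot] at hc; omega)
  have hz1 : z ≠ 1 := fun e => hz1 (Subtype.ext e)
  have hz2 := hE'.2 z hzE
  have hz : ∀ v, ρ z v = -v := h.eq_neg_one (by exact_mod_cast hz2) (by exact_mod_cast hz1)
    fun s hs => congrArg Subtype.val (mem_center_iff.1 hzZ ⟨s, hs⟩).symm
  have hle : zpowers z ≤ E := zpowers_le.2 hzE
  have hi : (zpowers z).relIndex E = 2 := by
    have := card_mul_relIndex hle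
    rw [Nat.card_zpowers, orderOf_eq_prime hz2 hz1, hc] at this
    omega
  obtain ⟨e, heE, he⟩ := SetLike.not_le_iff_exists.1 fun h1 : E ≤ zpowers z => by
    rw [relIndex_eq_one.2 h1] at hi; omega
  haveI : (zpowers z).Normal := ⟨fun x hx g => by
    rwa [mem_center_iff.1 (zpowers_le.2 hzZ hx) g, mul_inv_cancel_right]⟩
  have he2 : (e : H) * e = 1 := by exact_mod_cast (sq e).symm.trans (hE'.2 e heE)
  have hpm : ∀ w ∈ zpowers z, (∀ v, ρ w v = v) ∨ ∀ v, ρ w v = -v := by
    rintro _ ⟨k, rfl⟩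
    rcases Int.even_or_odd' k with ⟨j, rfl | rfl⟩
    · left; intro v
      simp only [zpow_mul, zpow_ofNat, hz2, one_zpow]; simp
    · right; intro v
      simp only [zpow_add, zpow_mul, zpow_ofNat, hz2, one_zpow, one_mul, pow_one, hz]
  obtain ⟨v, hv⟩ : ∃ v, ρ e v + v ≠ 0 := by
    by_contra hc
    push Not at hc
    have : (e : H) = z := h.inj (LinearMap.ext fun v => by
      rw [hz]; exact eq_neg_of_add_eq_zero_left (hc v))
    exact he (Subtype.ext this ▸ mem_zpowers z)
  have key := h.eq_smul (u := ρ e) one_ne_zero (fun s hs => ?_) hv (by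
    rw [one_smul, map_add, ← rep_mul_apply, he2, map_one, add_comm]; rfl)
  · have : e = 1 := Subtype.ext (h.eq_one fun v => by simpa using key v)
    exact he (this ▸ one_mem _)
  set s' : (S : Subgroup H) := ⟨s, hs⟩ with hs'
  have h1 : s'⁻¹ * e * s'⁻¹⁻¹ ∈ E := hE.conj_mem e heE _
  have h2 : s'⁻¹ * e * s'⁻¹⁻¹ ∉ zpowers z := fun h3 => he (by
    simpa [mul_assoc] using (inferInstance : (zpowers z).Normal).conj_mem _ h3 s')
  have h3 : e⁻¹ * (s'⁻¹ * e * s'⁻¹⁻¹) ∈ zpowers z :=
    (mul_mem_iff_of_index_two (H := (zpowers z).subgroupOf E) hi (a := ⟨e⁻¹, inv_mem heE⟩)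
      (b := ⟨_, h1⟩)).2 (iff_of_false (fun h4 => he (by simpa using inv_mem (mem_subgroupOf.1 h4))) h2)
  have e1 : (e : H) * s = s * e * ((e⁻¹ * (s'⁻¹ * e * s'⁻¹⁻¹) : (S : Subgroup H)) : H) := by
    simp only [hs', Subgroup.coe_mul, Subgroup.coe_inv]; group
  refine (hpm _ h3).imp (fun h4 => LinearMap.ext fun v => ?_) fun h4 => LinearMap.ext fun v => ?_
  · rw [← map_mul, ← map_mul, e1, rep_mul_apply, h4]
  · rw [← map_mul, ← map_mul, e1, rep_mul_apply, h4, map_neg]; rfl

theorem eq_bot_of_isCyclic (h : TwoOrb q ρ S) (hc : IsCyclic (S : Subgroup H)) :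
    (S : Subgroup H) = ⊥ := by
  by_contra h0
  have hd : 2 ∣ Nat.card H := by
    obtain ⟨k, hk⟩ := S.isPGroup'.exists_card_eq
    refine Dvd.dvd.trans ?_ (card_subgroup_dvd_card (S : Subgroup H))
    rw [hk]; exact dvd_pow_self _ fun e => h0 (card_eq_one.1 (by rw [hk, e, pow_zero]))
  have := hasNormalPComplement_iff_not_dvd_pResidual.1
    (hasNormalPComplement_of_normalizer_le_centralizer S (IsCyclic.normalizer_le_centralizer
      ((Nat.minFac_eq_two_iff _).2 hd) hc))
  rw [h.res, card_top] at this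
  exact this hd

theorem isSolvable_of_bot (h : TwoOrb q ρ S) (hc : (S : Subgroup H) = ⊥) : Group.IsSolvable H := by
  haveI : Subsingleton H := ⟨fun a b => h.inj (LinearMap.ext fun v => by
    obtain ⟨s, hs, e⟩ := h.orb a v
    obtain ⟨t, ht, e'⟩ := h.orb b v
    rw [hc, mem_bot] at hs ht
    rw [e, e', hs, ht])⟩
  infer_instance

theorem neg_of_dqs (h : TwoOrb q ρ S) {n : ℕ} {a b : (S : Subgroup H)} (hd : DQSGen n a b) (v : V) :
    ρ ((a : H) ^ 2 ^ (n - 1)) v = -v := by
  have h1 := hd.orderOf_z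
  have h2 : a ^ 2 ^ (n - 1) ∈ center (S : Subgroup H) := hd.center_eq ▸ mem_zpowers _
  refine h.eq_neg_one ?_ ?_ (fun s hs => congrArg Subtype.val (mem_center_iff.1 h2 ⟨s, hs⟩).symm) v
  · have := pow_orderOf_eq_one (a ^ 2 ^ (n - 1))
    rw [h1] at this
    exact_mod_cast this
  · have : a ^ 2 ^ (n - 1) ≠ 1 := fun e => by rw [e, orderOf_one] at h1; omega
    exact_mod_cast this

omit [Finite H] in
theorem mem_zpowers_of_dqs {n : ℕ} {a b : (S : Subgroup H)} (hd : DQSGen n a b) {u : H}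
    (hu : u ∈ zpowers (a : H)) (h2 : u ^ 2 = 1) : u ∈ zpowers ((a : H) ^ 2 ^ (n - 1)) :=
  mem_zpowers_pow_of_pow_eq_one two_ne_zero (by
    rw [orderOf_coe, hd.ord, Nat.sub_add_cancel (by have := hd.two_le; omega)]) hu h2

theorem sq_ne_one (h : TwoOrb q ρ S) {n : ℕ} {a b : (S : Subgroup H)} (hd : DQSGen n a b) :
    b ^ 2 ≠ 1 := fun hb => by
  have hZ := h.mem_center_of_neg (h.neg_of_dqs hd)
  have hb' : (b : H) ^ 2 = 1 := by exact_mod_cast hb
  have hmap : zpowers (a : H) = (zpowers a).map (S : Subgroup H).subtype :=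
    (MonoidHom.map_zpowers (S : Subgroup H).subtype a).symm
  obtain ⟨N, -, hN, -⟩ := CL.Transfer.thompson_transfer (S : Subgroup H) (zpowers (a : H))
    (Nat.odd_iff.2 (Nat.two_dvd_ne_zero.1 S.not_dvd_index))
    (by rw [hmap, relIndex, subgroupOf, comap_map_eq_self_of_injective (subtype_injective _)]
        exact hd.index) b hb' fun g hg => by
      have h1 := mem_zpowers_of_dqs hd hg (by rw [conj_pow, hb']; group)
      have h2 := mem_center_iff.1 (zpowers_le.2 hZ h1) g⁻¹
      have h3 : (b : H) = g * b * g⁻¹ := by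
        calc (b : H) = g⁻¹ * (g * b * g⁻¹) * g := by group
          _ = _ := by rw [h2]; group
      rw [← h3, hmap] at hg
      obtain ⟨y, hy, e⟩ := hg
      exact hd.notMem (Subtype.ext e ▸ hy)
  exact h.index_ne N hN

/-- a vector `v` such that `V` is spanned by `v` and one more vector has an abelian stabilizer -/
theorem isSolvable_of_span (h : TwoOrb q ρ S) {v w : V}
    (hs : ∀ x : V, ∃ α β : ZMod q, x = α • v + β • w) : Group.IsSolvable H := by
  have hab : IsMulCommutative (vstab ρ v) := isMulCommutative_of_forall fun k hk k' hk' => by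
    have hk : ρ k v = v := hk
    have hk' : ρ k' v = v := hk'
    obtain ⟨α, β, e⟩ := hs (ρ k w)
    obtain ⟨α', β', e'⟩ := hs (ρ k' w)
    set c := (k' * k)⁻¹ * (k * k') with hc
    have hcv : ρ c v = v := mul_mem (inv_mem (mul_mem (show k' ∈ vstab ρ v from hk') hk))
      (mul_mem (show k ∈ vstab ρ v from hk) hk')
    have hiv : ρ (k' * k)⁻¹ v = v := inv_mem (mul_mem (show k' ∈ vstab ρ v from hk') hk)
    obtain ⟨γ, hγ⟩ : ∃ γ : ZMod q, ρ c w = w + γ • v := by
      refine ⟨α' + β' * α - (α + β * α'), ?_⟩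
      have e1 : ρ (k * k') w = ρ (k' * k) w + (α' + β' * α - (α + β * α')) • v := by
        simp only [rep_mul_apply, e, e', map_add, map_smul, hk, hk']
        module
      rw [hc, rep_mul_apply, e1, map_add, rep_inv_apply, map_smul, hiv]
    have hpow : ∀ n : ℕ, ρ (c ^ n) w = w + (n * γ) • v := fun n => by
      induction n with
      | zero => simp
      | succ n ih =>
        rw [pow_succ', rep_mul_apply, ih, map_add, hγ, map_smul, hcv]
        push_cast; module
    have h1 : c ^ q = 1 := h.eq_one fun x => by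
      obtain ⟨a, b, rfl⟩ := hs x
      have : ρ (c ^ q) v = v := pow_mem (show c ∈ vstab ρ v from hcv) q
      rw [map_add, map_smul, map_smul, this, hpow]; simp
    have h2 : c = 1 := by
      by_contra h3
      exact h.cop (orderOf_eq_prime h1 h3 ▸ orderOf_dvd_natCard c)
    exact (inv_mul_eq_one.1 h2).symm
  refine isSolvable_of_isFact_top H S (vstab ρ v) S.isPGroup'.isNilpotent
    (isNilpotent_of_isMulCommutative hab) (isFact_top_iff.2 fun g => ?_)
  obtain ⟨s, hs, e⟩ := h.orb g v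
  exact ⟨s, hs, s⁻¹ * g, by rw [mem_vstab, rep_mul_apply, e, rep_inv_apply], by group⟩

variable [Nontrivial V]

instance charP_end : CharP (Module.End (ZMod q) V) q :=
  charP_of_injective_algebraMap (algebraMap (ZMod q) (Module.End (ZMod q) V)).injective q

theorem pow_succ_eq_one (h : TwoOrb q ρ S) {n : ℕ} {a b : (S : Subgroup H)} (hd : DQSGen n a b)
    (hba : b * a * b⁻¹ = a⁻¹) : (a : H) ^ (q + 1) = 1 := by
  classical
  have hz := h.neg_of_dqs hd
  have hn := hd.two_le
  have ho : orderOf (a : H) = 2 ^ n := by rw [orderOf_coe, hd.ord]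
  obtain ⟨m, hm⟩ : 2 ∣ q + 1 := (hq.out.odd_of_ne_two h.odd).add_one.two_dvd
  have hex : ∃ k, ((a : H) ^ 2 ^ k) ^ (q + 1) = 1 ∧ k ≤ n - 1 := ⟨n - 1, by
    rw [hm, pow_mul, ← pow_mul _ _ 2, ← pow_succ, Nat.sub_add_cancel (by omega), ← ho,
      pow_orderOf_eq_one, one_pow], le_rfl⟩
  obtain ⟨h1, h2⟩ := Nat.find_spec hex
  by_cases h0 : Nat.find hex = 0
  · simpa [h0] using h1
  exfalso
  obtain ⟨k, hk⟩ := Nat.exists_eq_succ_of_ne_zero h0
  have h3 := Nat.find_min hex (m := k) (by omega)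
  rw [hk] at h1 h2
  set c := (a : H) ^ 2 ^ k with hc
  have hc1 : c ^ (q + 1) ≠ 1 := fun e => h3 ⟨e, by omega⟩
  have hc2 : c ^ 2 = (a : H) ^ 2 ^ (k + 1) := by rw [hc, ← pow_mul, ← pow_succ]
  have hcz : ∀ v, ρ (c ^ (q + 1)) v = -v := h.eq_neg_one
    (by rw [← pow_mul, mul_comm, pow_mul, hc2]; exact h1) hc1 fun s _ =>
      (mem_center_iff.1 (zpowers_le.2 (h.mem_center_of_neg hz) (mem_zpowers_of_dqs hd
        (pow_mem (pow_mem (mem_zpowers _) _) _)
        (by rw [← pow_mul, mul_comm, pow_mul, hc2]; exact h1))) s).symm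
  have hbc : (b : H) * c = c⁻¹ * b := by
    have : (b : H) * a * (b : H)⁻¹ = (a : H)⁻¹ := by exact_mod_cast hba
    calc (b : H) * c = (b * c * (b : H)⁻¹) * b := by group
      _ = _ := by rw [hc, ← conj_pow, this, inv_pow]
  have hbc' : (b : H) * c⁻¹ = c * b := by
    calc (b : H) * c⁻¹ = c * (c⁻¹ * b) * c⁻¹ := by group
      _ = _ := by rw [← hbc]; group
  set σ := ρ c - ρ c⁻¹ with hσ
  have hσb : σ * ρ b = -(ρ b * σ) := by
    rw [hσ, sub_mul, mul_sub, ← map_mul, ← map_mul, ← map_mul, ← map_mul, hbc, hbc', neg_sub]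
  have hσa : ∀ i : ℤ, σ * ρ ((a : H) ^ i) = ρ ((a : H) ^ i) * σ := fun i => by
    have : Commute c ((a : H) ^ i) := ((Commute.refl _).pow_left _).zpow_right _
    rw [hσ, sub_mul, mul_sub, ← map_mul, ← map_mul, ← map_mul, ← map_mul, this.eq, this.inv_left.eq]
  have hσq : σ ^ q = σ := by
    have e1 : ρ (c ^ q) = -ρ c⁻¹ := LinearMap.ext fun v => by
      rw [show c ^ q = c ^ (q + 1) * c⁻¹ by group, rep_mul_apply, hcz]; rfl
    have e2 : ρ (c⁻¹ ^ q) = -ρ c := LinearMap.ext fun v => by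
      have := hcz (ρ (c⁻¹ ^ q) v)
      rw [← rep_mul_apply, show c ^ (q + 1) * c⁻¹ ^ q = c by group] at this
      rw [LinearMap.neg_apply, this, neg_neg]
    rw [hσ, sub_pow_char_of_commute _ ((Commute.refl c).inv_right.map ρ), ← map_pow, ← map_pow, e1, e2]
    abel
  obtain ⟨μ, v, hv, e⟩ := exists_eigen_of_pow_eq hσq
  have hμ : μ ≠ 0 := by
    rintro rfl
    rw [zero_smul, hσ, LinearMap.sub_apply, sub_eq_zero] at e
    have e1 : c ^ 2 ∈ vstab ρ v := by rw [mem_vstab, sq, rep_mul_apply, e, rep_apply_inv]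
    have e2 : ρ ((c ^ 2) ^ 2 ^ (n - 1 - (k + 1))) v = v := pow_mem e1 _
    rw [hc2, ← pow_mul, ← pow_add, Nat.add_sub_cancel' h2, hz] at e2
    exact hv (h.eq_zero_of_eq_neg e2.symm)
  have key := h.eq_smul hμ (fun s hs => ?_) hv e
  · have e1 := LinearMap.congr_fun hσb v
    simp only [Module.End.mul_apply, LinearMap.neg_apply, key, map_smul] at e1
    have e2 := (smul_eq_zero.1 (h.eq_zero_of_eq_neg e1)).resolve_left hμ
    exact hv (by rw [← rep_inv_apply ρ b v, e2, map_zero])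
  obtain ⟨i, e1 | e1⟩ := hd.elt ⟨s, hs⟩
  · have : s = (a : H) ^ i := by simpa using congrArg Subtype.val e1
    exact Or.inl (this ▸ hσa i)
  · have : s = (a : H) ^ i * b := by simpa using congrArg Subtype.val e1
    right
    rw [this, map_mul, ← mul_assoc, hσa, mul_assoc, hσb, mul_neg, mul_assoc]

theorem isSolvable_of_quaternion (h : TwoOrb q ρ S) {n : ℕ} {a b : (S : Subgroup H)}
    (hd : DQSGen n a b) (hb : b ^ 2 = a ^ 2 ^ (n - 1)) (hba : b * a * b⁻¹ = a⁻¹) :
    Group.IsSolvable H := by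
  have hz := h.neg_of_dqs hd
  have hn := hd.two_le
  have hq1 := h.pow_succ_eq_one hd hba
  have hba' : (b : H) * a * (b : H)⁻¹ = (a : H)⁻¹ := by exact_mod_cast hba
  have hgen : ∀ W : Submodule (ZMod q) V, (a : H) ∈ wstab ρ W → (b : H) ∈ wstab ρ W →
      W = ⊥ ∨ W = ⊤ := fun W h1 h2 => h.irrS fun s hs => by
    obtain ⟨i, e1 | e1⟩ := hd.elt ⟨s, hs⟩
    · have : s = (a : H) ^ i := by simpa using congrArg Subtype.val e1
      exact this ▸ zpow_mem h1 i
    · have : s = (a : H) ^ i * b := by simpa using congrArg Subtype.val e1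
      exact this ▸ mul_mem (zpow_mem h1 i) h2
  set A := ρ a with hA
  set B := ρ b with hB
  set τ := A + ρ (a : H)⁻¹ with hτ
  have hτq : τ ^ q = τ := by
    rw [hτ, hA, add_pow_char_of_commute _ ((Commute.refl (a : H)).inv_right.map ρ), ← map_pow,
      ← map_pow, show (a : H) ^ q = (a : H) ^ (q + 1) * (a : H)⁻¹ by group,
      show (a : H)⁻¹ ^ q = ((a : H) ^ (q + 1))⁻¹ * a by group, hq1, add_comm]
    simp
  obtain ⟨μ, v₀, hv₀, e⟩ := exists_eigen_of_pow_eq hτq
  have hτμ : ∀ v, τ v = μ • v := by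
    have := (hgen (τ.eigenspace μ) (fun x hx => ?_) fun x hx => ?_).resolve_left fun e0 =>
      hv₀ ((Submodule.mem_bot _).1 (e0 ▸ Module.End.mem_eigenspace_iff.2 e))
    · exact fun v => Module.End.mem_eigenspace_iff.1 (this ▸ Submodule.mem_top)
    · rw [Module.End.mem_eigenspace_iff] at hx ⊢
      rw [← map_smul, ← hx, hτ, LinearMap.add_apply, LinearMap.add_apply, map_add, rep_inv_apply,
        rep_apply_inv]
    · rw [Module.End.mem_eigenspace_iff] at hx ⊢
      rw [← map_smul, ← hx, hτ, LinearMap.add_apply, LinearMap.add_apply, map_add, add_comm, hA]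
      simp only [← rep_mul_apply]
      congr 2
      · rw [← hba']; group
      · rw [show (b : H) * (a : H)⁻¹ = (b * a * (b : H)⁻¹)⁻¹ * b by group, hba', inv_inv]
  have hA2 : ∀ v, A (A v) = μ • A v - v := fun v => by
    rw [← hτμ, hτ, LinearMap.add_apply, hA, rep_inv_apply]; abel
  have hpow : ∀ k : ℕ, ∃ x y : ZMod q, ∀ v, ρ ((a : H) ^ k) v = x • v + y • A v := fun k => by
    induction k with
    | zero => exact ⟨1, 0, fun v => by simp⟩
    | succ k ih =>
      obtain ⟨x, y, e⟩ := ih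
      refine ⟨-y, x + y * μ, fun v => ?_⟩
      rw [pow_succ, rep_mul_apply, e, ← hA, hA2]; module
  obtain ⟨x, y, hxy⟩ := hpow (2 ^ (n - 2))
  set I := ρ ((a : H) ^ 2 ^ (n - 2)) with hI
  have hI2 : ∀ v, I (I v) = -v := fun v => by
    rw [hI, ← rep_mul_apply, ← sq, ← pow_mul, ← pow_succ, show n - 2 + 1 = n - 1 by omega, hz]
  have hB2 : ∀ v, B (B v) = -v := fun v => by
    have : (b : H) ^ 2 = (a : H) ^ 2 ^ (n - 1) := by exact_mod_cast hb
    rw [hB, ← rep_mul_apply, ← sq, this, hz]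
  have hBI : ∀ v, B (I v) = -I (B v) := fun v => by
    have e1 : (a : H) ^ 2 ^ (n - 2) * (b * (a : H) ^ 2 ^ (n - 2)) = b := by
      calc _ = (a : H) ^ 2 ^ (n - 2) * (b * (a : H) ^ 2 ^ (n - 2) * (b : H)⁻¹) * b := by group
        _ = _ := by rw [← conj_pow, hba']; group
    have e2 : I (B (I v)) = B v := by rw [hI, hB, ← rep_mul_apply, ← rep_mul_apply, mul_assoc, e1]
    rw [← e2, hI2, neg_neg]
  have hy : y ≠ 0 := by
    rintro rfl
    have e1 := hBI v₀
    simp only [hxy, zero_smul, add_zero, map_smul] at e1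
    have e2 := hI2 (B v₀)
    simp only [hxy, zero_smul, add_zero, h.eq_zero_of_eq_neg e1, smul_zero] at e2
    have e3 := hB2 v₀
    rw [neg_eq_zero.1 e2.symm, map_zero] at e3
    exact hv₀ (neg_eq_zero.1 e3.symm)
  obtain ⟨α, β, hαβ⟩ := ZMod.sq_add_sq q (-1)
  have hu : ∀ v, α • I (α • I v + β • B v) + β • B (α • I v + β • B v) = v := fun v => by
    simp only [map_add, map_smul, hI2, hB2, hBI]
    linear_combination (norm := module) (-hαβ) • v
  obtain ⟨ε, v, hv, hε⟩ : ∃ (ε : ZMod q) (v : V), v ≠ 0 ∧ α • I v + β • B v = ε • v := by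
    by_cases h1 : α • I v₀ + β • B v₀ + v₀ = 0
    · exact ⟨-1, v₀, hv₀, by rw [neg_one_smul]; exact eq_neg_of_add_eq_zero_left h1⟩
    · refine ⟨1, _, h1, ?_⟩
      have := hu v₀
      simp only [map_add, map_smul, smul_add, one_smul] at this ⊢
      linear_combination (norm := module) this
  set w := I (B v) with hw
  have hIw : I w = -B v := hI2 _
  have hBw : B w = I v := by rw [hw, hBI, hB2, map_neg, neg_neg]
  have h1 : β • I v - α • B v = -(ε • w) := by
    have := congrArg (fun x => I (B x)) hε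
    simp only [map_add, map_smul, hBI, hB2, map_neg, ← hw, hIw, neg_neg] at this
    linear_combination (norm := module) -this
  have hIv : I v = (-(α * ε)) • v + (β * ε) • w := by
    linear_combination (norm := module) (-α) • hε - β • h1 + hαβ • I v
  have hBv : B v = (-(β * ε)) • v + (-(α * ε)) • w := by
    linear_combination (norm := module) (-β) • hε + α • h1 + hαβ • B v
  have hspan : ∀ {f : Module.End (ZMod q) V}, f v ∈ Submodule.span (ZMod q) {v, w} →
      f w ∈ Submodule.span (ZMod q) {v, w} →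
      ∀ x ∈ Submodule.span (ZMod q) {v, w}, f x ∈ Submodule.span (ZMod q) {v, w} :=
    fun h1 h2 x hx => by
      obtain ⟨s, t, rfl⟩ := Submodule.mem_span_pair.1 hx
      rw [map_add, map_smul, map_smul]
      exact add_mem (Submodule.smul_mem _ _ h1) (Submodule.smul_mem _ _ h2)
  have mI : I v ∈ Submodule.span (ZMod q) {v, w} := Submodule.mem_span_pair.2 ⟨_, _, hIv.symm⟩
  have mB : B v ∈ Submodule.span (ZMod q) {v, w} := Submodule.mem_span_pair.2 ⟨_, _, hBv.symm⟩
  have hI' := hspan mI (hIw ▸ neg_mem mB)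
  have htop := (hgen (Submodule.span (ZMod q) {v, w}) (fun x' hx' => ?_)
    (hspan mB (hBw ▸ mI))).resolve_left fun e0 => hv ((Submodule.mem_bot _).1
      (e0 ▸ Submodule.subset_span (Set.mem_insert _ _)))
  · refine h.isSolvable_of_span (v := v) (w := w) fun x => ?_
    obtain ⟨s, t, e⟩ := Submodule.mem_span_pair.1 (htop ▸ Submodule.mem_top (x := x))
    exact ⟨s, t, e.symm⟩
  · have : A x' = y⁻¹ • (I x' - x • x') := by
      rw [hxy, add_sub_cancel_left, smul_smul, inv_mul_cancel₀ hy, one_smul]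
    rw [← hA, this]
    exact Submodule.smul_mem _ _ (sub_mem (hI' _ hx') (Submodule.smul_mem _ _ hx'))

theorem isSolvable (h : TwoOrb q ρ S) : Group.IsSolvable H := by
  rcases isCyclic_or_dqsGen_of_forall_normal S.isPGroup' h.no_four_group with
    hc | ⟨-, n, a, b, hd⟩
  · exact h.isSolvable_of_bot (h.eq_bot_of_isCyclic hc)
  rcases hd.rel with ⟨h1, -⟩ | ⟨h1, h2⟩ | ⟨-, h1, -⟩
  · exact absurd h1 (h.sq_ne_one hd)
  · exact h.isSolvable_of_quaternion hd h1 h2
  · exact absurd h1 (h.sq_ne_one hd)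

end TwoOrb

end CL.Fgs
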