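/-
Groups acting coprimely on an abelian `q`-group (`q` odd) with all orbits of 2-power size are
solvable modulo the kernel (helper97).
-/
import Cfsg.Agent.Fgs.OrbitTwo

namespace CL.Fgs

open Subgroup Cfsg CL.Grp

universe u v

/-- a representation over `ℤ` on a `ZMod q`-module as a representation over `ZMod q` -/
def repZMod (q : ℕ) {H V : Type*} [Group H] [AddCommGroup V] [Module (ZMod q) V]
    (ρ : Representation ℤ H V) : H →* Module.End (ZMod q) V where
  toFun := fun g => (ρ g).toAddMonoidHom.toZModLinearMap q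
  map_one' := by ext v; simp
  map_mul' := fun a b => by ext v; simp

theorem isSolvable_of_irreducible {q : ℕ} [hq : Fact q.Prime] (hq2 : q ≠ 2) {H V : Type*} [Group H]
    [Finite H] [AddCommGroup V] [Nontrivial V] [Module (ZMod q) V] (ρ : Representation ℤ H V)
    (hker : ρ.ker = ⊥) (hres : pResidual 2 H = ⊤) (hcop : ¬ q ∣ Nat.card H)
    (hirr : ∀ U : Submodule ℤ V, (∀ g, U ≤ U.comap (ρ g)) → U = ⊥ ∨ U = ⊤)
    (horb : ∀ v : V, ∃ k, (vstab ρ v).index = 2 ^ k) : Group.IsSolvable H := by
  obtain ⟨S⟩ : Nonempty (Sylow 2 H) := inferInstance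
  refine TwoOrb.isSolvable (q := q) (ρ := repZMod q ρ) (S := S) ⟨hq2, ?_, fun U hU => ?_,
    fun g v => ?_, hres, hcop⟩
  · refine (injective_iff_map_eq_one (repZMod q ρ)).2 fun g hg => ?_
    have : g ∈ ρ.ker := LinearMap.ext fun v => LinearMap.congr_fun hg v
    rwa [hker] at this
  · exact (hirr (U.restrictScalars ℤ) fun g v hv => hU g v hv).imp
      (fun e => by simpa using e) fun e => by simpa using e
  · obtain ⟨k, hk⟩ := horb v
    obtain ⟨s, hs, t, ht, rfl⟩ := exists_mul_eq_of_coprime_index
      (show (S : Subgroup H).index.Coprime (vstab ρ v).index from hk ▸ coprime_sylow_index_pow S k) g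
    refine ⟨s, hs, ?_⟩
    have : ρ t v = v := ht
    show ρ (s * t) v = ρ s v
    rw [rep_mul_apply, this]

theorem exists_derivedSeries_le_ker_aux {q : ℕ} [hq : Fact q.Prime] (hq2 : q ≠ 2) (n : ℕ) :
    ∀ (H : Type u) [Group H] [Finite H] (V : Type v) [AddCommGroup V] [Finite V]
      (ρ : Representation ℤ H V), Nat.card H + Nat.card V = n → ¬ q ∣ ρ.ker.index →
      (∀ v : V, ∃ k, q ^ k • v = 0) → (∀ v : V, ∃ k, (vstab ρ v).index = 2 ^ k) →
      ∃ m, derivedSeries H m ≤ ρ.ker := by
  induction n using Nat.strong_induction_on with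
  | _ n ih =>
  intro H _ _ V _ _ ρ hn hcop hV horb
  have hdvd : ∀ {a k : ℕ}, a ∣ 2 ^ k → ∃ j, a = 2 ^ j := fun h => by
    obtain ⟨j, -, e⟩ := (Nat.dvd_prime_pow Nat.prime_two).1 h
    exact ⟨j, e⟩
  by_cases hker : ρ.ker = ⊥
  swap
  · let ρ' : Representation ℤ (H ⧸ ρ.ker) V := QuotientGroup.lift ρ.ker ρ le_rfl
    obtain ⟨m, hm⟩ := ih _ (by
      rw [← hn]
      have h1 := card_eq_card_quotient_mul_card_subgroup ρ.ker
      have h2 := (one_lt_card_iff_ne_bot ρ.ker).2 hker
      have h3 : 0 < Nat.card (H ⧸ ρ.ker) := Nat.card_pos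
      nlinarith) (H ⧸ ρ.ker) V ρ' rfl (fun h => hcop (h.trans (index_dvd_card _))) hV fun v => by
        rw [← index_comap_of_surjective _ (QuotientGroup.mk'_surjective ρ.ker)]
        exact horb v
    exact ⟨m, fun g hg => hm (map_derivedSeries_le_derivedSeries (QuotientGroup.mk' ρ.ker) m
      (mem_map_of_mem _ hg))⟩
  rw [hker, index_bot] at hcop
  have hsol : Group.IsSolvable H → ∃ m, derivedSeries H m ≤ ρ.ker := fun ⟨m, hm⟩ =>
    ⟨m, hm ▸ bot_le⟩
  by_cases hres : pResidual 2 H = ⊤
  swap
  · obtain ⟨m, hm⟩ := ih _ (by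
      rw [← hn]
      have h1 := (pResidual 2 H).card_mul_index
      have h2 : 1 < (pResidual 2 H).index := one_lt_index_of_ne_top hres
      have h3 : 0 < Nat.card (pResidual 2 H) := Nat.card_pos
      nlinarith) (pResidual 2 H) V (ρ.comp (pResidual 2 H).subtype) rfl
      (fun h => hcop (h.trans ((index_dvd_card _).trans (card_subgroup_dvd_card _)))) hV fun v => by
        obtain ⟨k, hk⟩ := horb v
        exact hdvd (hk ▸ relIndex_dvd_index_of_normal (vstab ρ v) (pResidual 2 H))
    haveI : Group.IsSolvable (pResidual 2 H) := ⟨m, eq_bot_iff.2 fun g hg => by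
      have : (g : H) ∈ ρ.ker := hm hg
      rw [hker] at this
      exact Subtype.ext this⟩
    haveI := (isPGroup_quotient_pResidual 2 H).isNilpotent
    exact hsol (Group.isSolvable_of_ker_le_range (pResidual 2 H).subtype 
      (QuotientGroup.mk' (pResidual 2 H)) (by simp))
  by_cases hirr : ∀ U : Submodule ℤ V, (∀ g, U ≤ U.comap (ρ g)) → U = ⊥ ∨ U = ⊤
  swap
  · push Not at hirr
    obtain ⟨U, hU, h0, h1⟩ := hirr
    have e := AddSubgroup.card_eq_card_quotient_mul_card_addSubgroup U.toAddSubgroup
    have e1 : 1 < Nat.card U := by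
      haveI := Submodule.nontrivial_iff_ne_bot.2 h0
      exact Finite.one_lt_card
    haveI : Finite (V ⧸ U) := Finite.of_surjective _ U.mkQ_surjective
    have e2 : 1 < Nat.card (V ⧸ U) := by
      haveI := Submodule.Quotient.nontrivial_iff.2 h1
      exact Finite.one_lt_card
    change Nat.card V = Nat.card (V ⧸ U) * Nat.card U at e
    obtain ⟨m₁, hm₁⟩ := ih _ (by rw [← hn]; nlinarith) H U (ρ.subrepresentation U hU) rfl
      (fun h => hcop (h.trans (index_dvd_card _)))
      (fun v => (hV v).imp fun k hk => Subtype.ext hk) fun v => by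
        have : vstab (ρ.subrepresentation U hU) v = vstab ρ v :=
          Subgroup.ext fun g => Subtype.ext_iff
        rw [this]; exact horb v
    obtain ⟨m₂, hm₂⟩ := ih _ (by rw [← hn]; nlinarith) H (V ⧸ U) (ρ.quotient U hU) rfl
      (fun h => hcop (h.trans (index_dvd_card _)))
      (fun v => by
        obtain ⟨v, rfl⟩ := U.mkQ_surjective v
        exact (hV v).imp fun k hk => by rw [← map_nsmul, hk, map_zero]) fun v => by
        obtain ⟨v, rfl⟩ := U.mkQ_surjective v
        obtain ⟨k, hk⟩ := horb v
        exact hdvd (k := k) (by rw [← hk]; exact index_dvd_of_le fun g hg => congrArg U.mkQ hg)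
    refine ⟨max m₁ m₂ + 1, ?_⟩
    rw [derivedSeries_succ, commutator_le]
    have key : ∀ a ∈ derivedSeries H (max m₁ m₂), ∀ b ∈ derivedSeries H (max m₁ m₂), ∀ v,
        ρ a (ρ b v) = ρ a v + ρ b v - v := fun a ha b hb v => by
      have h2 : ρ b v - v ∈ U := by
        rw [← Submodule.Quotient.eq]
        exact LinearMap.congr_fun (hm₂ (derivedSeries_antitone H (le_max_right _ _) hb)) (U.mkQ v)
      have h3 : ρ a (ρ b v - v) = ρ b v - v := congrArg Subtype.val
        (LinearMap.congr_fun (hm₁ (derivedSeries_antitone H (le_max_left _ _) ha)) ⟨_, h2⟩)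
      rw [map_sub] at h3
      linear_combination (norm := abel) h3
    intro a ha b hb
    have : ρ (a * b) = ρ (b * a) := LinearMap.ext fun v => by
      rw [rep_mul_apply, rep_mul_apply, key a ha b hb, key b hb a ha, add_comm]
    rw [MonoidHom.mem_ker, commutatorElement_def, show a * b * a⁻¹ * b⁻¹ = (a * b) * (b * a)⁻¹ by group,
      map_mul, this, ← map_mul, mul_inv_cancel, map_one]
  rcases subsingleton_or_nontrivial V with hV0 | hV0
  · exact ⟨0, fun g _ => LinearMap.ext fun v => Subsingleton.elim _ _⟩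
  have hqV : ∀ v : V, q • v = 0 := by
    have h1 := (hirr (LinearMap.ker (q • LinearMap.id)) fun g v hv => by
      simp only [Submodule.mem_comap, LinearMap.mem_ker, LinearMap.smul_apply, LinearMap.id_apply]
        at hv ⊢
      rw [← map_nsmul, hv, map_zero]).resolve_left fun e => by
        have h2 : ∀ (k : ℕ) (v : V), q ^ k • v = 0 → v = 0 := fun k => by
          induction k with
          | zero => intro v hv; simpa using hv
          | succ k ih' =>
            intro v hv
            rw [pow_succ, mul_smul] at hv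
            have : v ∈ LinearMap.ker (q • (LinearMap.id : V →ₗ[ℤ] V)) := ih' _ hv
            rwa [e] at this
        obtain ⟨v, hv⟩ := exists_ne (0 : V)
        obtain ⟨k, hk⟩ := hV v
        exact hv (h2 k v hk)
    intro v
    have : v ∈ LinearMap.ker (q • (LinearMap.id : V →ₗ[ℤ] V)) := h1 ▸ Submodule.mem_top
    exact this
  letI : Module (ZMod q) V := AddCommGroup.zmodModule hqV
  exact hsol (isSolvable_of_irreducible hq2 ρ hker hres hcop hirr horb)

open scoped IsMulCommutative in
/-- if all elements of the normal abelian `q`-subgroup `V` (`q` odd, `q ∤ [G : C(V)]`) have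
2-power class size then `G/C(V)` is solvable -/
theorem exists_derivedSeries_le_centralizer {G : Type*} [Group G] [Finite G] {q : ℕ}
    [hq : Fact q.Prime] (hq2 : q ≠ 2) {V : Subgroup G} [V.Normal] [IsMulCommutative V]
    (hV : IsPGroup q V) (hc : ¬ q ∣ (centralizer (V : Set G)).index)
    (h : ∀ v ∈ V, ∃ k, cs(v) = 2 ^ k) : ∃ m, derivedSeries G m ≤ centralizer (V : Set G) := by
  letI : MulDistribMulAction G V := MulDistribMulAction.compHom V (MulAut.conjNormal (H := V))
  have hk : (Representation.ofMulDistribMulAction G V).ker = centralizer (V : Set G) := by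
    ext g
    rw [MonoidHom.mem_ker, LinearMap.ext_iff, mem_centralizer_iff]
    constructor
    · intro h1 v hv
      have : g * v * g⁻¹ = v := congrArg (fun x => ((Additive.toMul x : V) : G))
        (h1 (Additive.ofMul ⟨v, hv⟩))
      exact (mem_cent.1 (mem_cent_iff_conj.2 this)).symm
    · intro h1 v
      exact congrArg Additive.ofMul (Subtype.ext (mem_cent_iff_conj.1 (mem_cent'.2
        (h1 _ (Additive.toMul v).2))))
  rw [← hk] at hc ⊢
  refine exists_derivedSeries_le_ker_aux hq2 _ G (Additive V) _ rfl hc (fun v => ?_) fun v => ?_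
  · obtain ⟨k, hk⟩ := hV (Additive.toMul v)
    exact ⟨k, congrArg Additive.ofMul hk⟩
  · have : vstab (Representation.ofMulDistribMulAction G V) v = cent(((Additive.toMul v : V) : G)) := by
      ext g
      rw [mem_cent_iff_conj, mem_vstab]
      exact ⟨fun e => congrArg (fun x => ((Additive.toMul x : V) : G)) e,
        fun e => congrArg Additive.ofMul (Subtype.ext e)⟩
    rw [this]
    exact h _ (Additive.toMul v).2

end CL.Fgs
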