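/-
Groups with class sizes `1, m, m n` (helper97): there is an `r`-element of class size `m`, `r ∣ m`.
-/
import Cfsg.Agent.Fgs.ClassThree
import Cfsg.Agent.S4125
import Cfsg.Agent.Char.Burnside
import Cfsg.Agent.Fus.SubGrp

namespace CL.Fgs

open Subgroup Cfsg CL.Grp
open scoped Pointwise commutatorElement

variable {G : Type*} [Group G] [Finite G]

theorem eq_of_le_of_relIndex_dvd_sq {p : ℕ} [hp : Fact p.Prime] {Z P U V : Subgroup G}
    (h : Z.relIndex P ∣ p ^ 2) (hZ : Z ⊓ P ≤ U) (hU : ¬ U ≤ Z) (hUV : U ≤ V) (hV : V ≤ P)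
    (hP : ¬ P ≤ V) : V ≤ U := by
  rw [← inf_relIndex_right, ← relIndex_mul_relIndex _ _ _ (hZ.trans hUV) hV,
    ← relIndex_mul_relIndex _ _ _ hZ hUV] at h
  have key : ∀ a : ℕ, a ∣ p ^ 2 → a ≠ 1 → p ∣ a := fun a ha h1 => by
    obtain ⟨j, -, rfl⟩ := (Nat.dvd_prime_pow hp.out).1 ha
    exact dvd_pow_self p (by rintro rfl; simp at h1)
  obtain ⟨a, ha⟩ := key _ (((dvd_mul_right _ _).mul_right _).trans h)
    fun e => hU ((relIndex_eq_one.1 e).trans inf_le_left)
  obtain ⟨b, hb⟩ := key _ ((dvd_mul_left _ _).trans h) fun e => hP (relIndex_eq_one.1 e)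
  rw [ha, hb, show p * a * U.relIndex V * (p * b) = p ^ 2 * (U.relIndex V * (a * b)) by ring] at h
  exact relIndex_eq_one.1 (Nat.dvd_one.1 ((dvd_mul_right _ _).trans
    (Nat.dvd_of_mul_dvd_mul_left (pow_pos hp.out.pos 2) (by simpa using h))))

/-- A `p`-group `P` with `|P : P ∩ Z| ∣ p ^ 2` acting on a nilpotent normal `p'`-subgroup `T`:
if each element of `T` is `T`-conjugate to one centralized by a non-central element of `P`, then some
non-central element of `P` centralizes `T`. -/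
theorem exists_le_cent_of_cover {p : ℕ} [hp : Fact p.Prime] {P T : Subgroup G} [hT : T.Normal]
    (hP : IsPGroup p P) (hTp : (Nat.card T).Coprime p) (hnil : Group.IsNilpotent T)
    (hZ : (center G).relIndex P ∣ p ^ 2) (hc : ∀ a ∈ P, ∀ b ∈ P, ⁅a, b⁆ ∈ center G)
    (hcov : ∀ a ∈ T, ∃ t ∈ T, ∃ v ∈ P, v ∉ center G ∧ Commute v (t * a * t⁻¹)) :
    ∃ v ∈ P, v ∉ center G ∧ T ≤ cent(v) := by
  by_contra hn
  push Not at hn
  set f := QuotientGroup.mk' ⁅T, T⁆ with hf
  have hab : ∀ a ∈ T, ∀ b ∈ T, Commute (f a) (f b) := fun a ha b hb => by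
    rw [← commutatorElement_eq_one_iff_commute, ← map_commutatorElement]
    exact (QuotientGroup.eq_one_iff _).2 (commutator_mem_commutator ha hb)
  set St : G → Subgroup G := fun a => P ⊓ (cent(f a)).comap f with hSt
  have hmem : ∀ a g, g ∈ St a ↔ g ∈ P ∧ Commute (f g) (f a) := fun a g =>
    and_congr_right fun _ => mem_cent
  have hcen : ∀ z ∈ center G, ∀ y, Commute (f z) y := fun z hz y => by
    obtain ⟨y, rfl⟩ := QuotientGroup.mk'_surjective _ y
    exact Commute.map (mem_center_iff.1 hz y).symm f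
  have hZSt : ∀ a, center G ⊓ P ≤ St a := fun a z hz => (hmem a z).2 ⟨hz.2, hcen z hz.1 _⟩
  have cover : ∀ a ∈ T, ∃ v ∈ St a, v ∉ center G := fun a ha => by
    obtain ⟨t, ht, v, hv, hvZ, e⟩ := hcov a ha
    refine ⟨v, (hmem a v).2 ⟨hv, ?_⟩, hvZ⟩
    have := e.map f
    rwa [map_mul, map_mul, (hab t ht a ha).eq, mul_assoc, ← map_mul, mul_inv_cancel, map_one,
      mul_one] at this
  have proper : ∀ v ∈ P, v ∉ center G → ∃ b ∈ T, v ∉ St b := fun v hv hvZ => by
    by_contra e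
    push Not at e
    obtain ⟨k, hk⟩ := (hP.to_le (zpowers_le.2 hv)).exists_card_eq
    have h1 := commutator_sup_centralizer_eq (A := zpowers v) (K := T)
      (by rw [normalizer_eq_top]; exact le_top) (hk ▸ hTp.symm.pow_left k) (Or.inr inferInstance)
    have h2 : ⁅T, zpowers v⁆ ≤ ⁅T, T⁆ := commutator_le.2 fun t ht g hg => by
      rw [← QuotientGroup.eq_one_iff]
      change f _ = 1
      rw [map_commutatorElement, commutatorElement_eq_one_iff_commute]
      exact ((hmem t g).1 (zpowers_le.2 (e t ht) hg)).2.symm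
    refine (commutator_sup_lt_of_isNilpotent (M := T ⊓ centralizer (zpowers v : Set G))
      (lt_of_le_of_ne inf_le_left fun e' => hn v hv hvZ fun t ht => ?_)).not_ge
      (h1.ge.trans (sup_le_sup_right h2 _))
    exact mem_cent'.2 ((e'.ge ht).2 v (mem_zpowers v))
  obtain ⟨v₀, hv₀, hv₀Z⟩ := cover 1 (one_mem T)
  obtain ⟨a, ha, haP⟩ := proper v₀ hv₀.1 hv₀Z
  obtain ⟨v, hv, hvZ⟩ := cover a ha
  obtain ⟨b, hb, hvb⟩ := proper v hv.1 hvZ
  obtain ⟨w, hw, hwZ⟩ := cover b hb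
  obtain ⟨u, hu, huZ⟩ := cover (a * b) (mul_mem ha hb)
  have huP : u ∈ P := hu.1
  have h1 : P ≤ St a ⊔ St b := by
    by_contra e
    exact hvb (eq_of_le_of_relIndex_dvd_sq hZ (hZSt b) (fun e' => hwZ (e' hw)) le_sup_right
      (sup_le inf_le_left inf_le_left) e (mem_sup_left hv))
  have hconj : ∀ c, St c ≤ St (u * c * u⁻¹) := fun c g hg => by
    obtain ⟨hgP, hgc⟩ := (hmem c g).1 hg
    refine (hmem _ g).2 ⟨hgP, ?_⟩
    have h2 := hcen _ (hc g hgP u huP)
    have h3 : f g * f u = f ⁅g, u⁆ * f u * f g := by rw [map_commutatorElement]; group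
    rw [map_mul, map_mul, map_inv]
    refine mem_cent.1 (mem_cent_iff_conj.2 ?_)
    calc f g * (f u * f c * (f u)⁻¹) * (f g)⁻¹ = (f g * f u) * f c * (f g * f u)⁻¹ := by group
      _ = f ⁅g, u⁆ * (f u * (f g * f c * (f g)⁻¹) * (f u)⁻¹) * (f ⁅g, u⁆)⁻¹ := by rw [h3]; group
      _ = _ := by rw [hgc.eq, mul_inv_cancel_right, (h2 _).eq, mul_inv_cancel_right]
  set d := a⁻¹ * (u * a * u⁻¹) with hd
  have hdT : d ∈ T := mul_mem (inv_mem ha) (hT.conj_mem a ha u)
  have hd' : f d = f b * (f (u * b * u⁻¹))⁻¹ := by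
    have := mem_cent_iff_conj.1 (mem_cent.2 ((hmem _ u).1 hu).2)
    simp only [hd, map_mul, map_inv] at this ⊢
    calc (f a)⁻¹ * (f u * f a * (f u)⁻¹)
        = (f a)⁻¹ * (f u * (f a * f b) * (f u)⁻¹) * (f u * f b * (f u)⁻¹)⁻¹ := by group
      _ = _ := by rw [this]; group
  have h2 : St a ⊔ St b ≤ St d := sup_le
    (fun g hg => (hmem d g).2 ⟨hg.1, by
      rw [hd, map_mul, map_inv]
      exact ((hmem a g).1 hg).2.inv_right.mul_right ((hmem _ g).1 (hconj a hg)).2⟩)
    (fun g hg => (hmem d g).2 ⟨hg.1, by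
      rw [hd']
      exact ((hmem b g).1 hg).2.mul_right ((hmem _ g).1 (hconj b hg)).2.inv_right⟩)
  have hua : u ∈ St a := (hmem a u).2 ⟨huP, mem_cent.1 (mem_of_pow_mem_coprime
    (((isPiElt_singleton_of_mem hP huP).map f).coprime ((isPiElt_compl_of_mem
      ((Nat.Prime.coprime_iff_not_dvd hp.out).1 hTp.symm) hdT).map f))
    (by rw [pow_orderOf_eq_one]; exact one_mem _)
    (pow_orderOf_mem_cent ((hmem d u).1 (h2 (h1 huP))).2 (by simp [hd])))⟩
  have hub : u ∈ St b := (hmem b u).2 ⟨huP, by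
    have := ((hmem a u).1 hua).2.inv_right.mul_right ((hmem _ u).1 hu).2
    rwa [map_mul, inv_mul_cancel_left] at this⟩
  exact hvb (eq_of_le_of_relIndex_dvd_sq (U := St a ⊓ St b) hZ (le_inf (hZSt a) (hZSt b))
    (fun e => huZ (e ⟨hua, hub⟩)) inf_le_left inf_le_left (fun e => haP (e hv₀.1)) hv).2

/-- If `[P, P] ≤ Z(G)` in a solvable group then `P O_{p'}(G) / O_{p'}(G) = O_p(G / O_{p'}(G))`. -/
theorem map_eq_pCore_of_commutator_le_center [Group.IsSolvable G] {p : ℕ} [hp : Fact p.Prime]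
    (P : Sylow p G) (hc : ∀ a ∈ (P : Subgroup G), ∀ b ∈ (P : Subgroup G), ⁅a, b⁆ ∈ center G) :
    (P : Subgroup G).map (QuotientGroup.mk' (pPrimeCore p G)) = pCore p _ := by
  set f := QuotientGroup.mk' (pPrimeCore p G) with hf
  have hs : Function.Surjective f := QuotientGroup.mk'_surjective _
  have hC := centralizer_pCore_le_of_isSolvable (pPrimeCore_quotient_pPrimeCore p G)
  have hRP : pCore p _ ≤ (P : Subgroup G).map f := pCore_le_sylow (P.mapSurjective hs)
  set R := pCore p (G ⧸ pPrimeCore p G) with hR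
  set π := QuotientGroup.mk' (center (G ⧸ pPrimeCore p G)) with hπ
  set D := (centralizer ((R.map π : Subgroup _) : Set _)).comap π with hD
  have hmem : ∀ g, g ∈ D ↔ ∀ r ∈ R, ⁅g, r⁆ ∈ center _ := fun g => by
    refine ⟨fun hg r hr => (QuotientGroup.eq_one_iff _).1 ?_, fun h => ?_⟩
    · change π _ = 1
      rw [map_commutatorElement, commutatorElement_eq_one_iff_mul_comm]
      exact (hg _ (mem_map_of_mem π hr)).symm
    · rintro _ ⟨r, hr, rfl⟩
      refine (commutatorElement_eq_one_iff_mul_comm.1 ?_).symm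
      rw [← map_commutatorElement]
      exact (QuotientGroup.eq_one_iff _).2 (h r hr)
  have hDp : IsPGroup p D := isPGroup_of_forall_isPiElt fun g hg => by
    have h1 : piPart {p}ᶜ g ∈ R := hC fun r hr => by
      have h2 := (hmem _).1 (piPart_mem (π := {p}ᶜ) hg) r hr
      set y := piPart {p}ᶜ g
      have h3 : ⁅y, r⁆ ∈ R := by
        rw [commutatorElement_def]
        exact mul_mem ((inferInstance : R.Normal).conj_mem r hr y) (inv_mem hr)
      exact mem_cent'.1 (mem_of_pow_mem_coprime ((isPiElt_singleton_of_mem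
        (pCore_isPGroup p _) h3).coprime (isPiElt_piPart _ g))
        (pow_orderOf_mem_cent (mem_center_iff.1 h2 y)
          (by rw [mem_center_iff.1 h2 r, commutatorElement_def]; group))
        (by rw [pow_orderOf_eq_one]; exact one_mem _))
    have h2 := (isPiElt_singleton_of_mem (pCore_isPGroup p _) h1).eq_one (isPiElt_piPart _ g)
    rwa [piPart_eq_one_iff, compl_compl] at h2
  refine le_antisymm (le_trans ?_ (le_pCore hDp)) hRP
  rintro _ ⟨a, ha, rfl⟩
  refine (hmem _).2 fun r hr => ?_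
  obtain ⟨b, hb, rfl⟩ := hRP hr
  rw [← map_commutatorElement]
  refine mem_center_iff.2 fun y => ?_
  obtain ⟨y, rfl⟩ := hs y
  rw [← map_mul, ← map_mul, mem_center_iff.1 (hc a ha b hb) y]

namespace Three

variable {m n : ℕ}

theorem reduce (h : Three G m n)
    (hC : ∀ r : ℕ, r.Prime → r ∣ m → ∀ u : G, IsPiElt {r} u → u ∉ center G → cs(u) = m * n) :
    ∃ (p s a k : ℕ) (x : G), p.Prime ∧ s.Prime ∧ m = p ^ a ∧ n = s ^ k ∧ IsPiElt {s} x ∧
      cs(x) = m := by
  obtain ⟨x₀, hx₀⟩ := h.ex_m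
  obtain ⟨s, hs, -, hxZ⟩ := exists_piPart_not_mem (h.not_mem_center hx₀.symm.dvd)
  have hx := isPiElt_piPart {s} x₀
  have hm : cs(piPart {s} x₀) = m := by rw [← h.cent_eq hx₀ hxZ (cent_le_piPart _ _), hx₀]
  set x := piPart {s} x₀
  haveI := Fact.mk hs
  have hsm : ¬ s ∣ m := fun e => h.lt.ne (hm.symm.trans (hC s hs e x hx hxZ))
  have hsn : s ∣ n := by_contra fun e => hxZ (h.mem_center hsm e hx)
  obtain ⟨p, hp, hpm⟩ := Nat.exists_prime_and_dvd h.one_lt_m.ne'
  haveI := Fact.mk hp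
  have hps : p ≠ s := fun e => hsm (e ▸ hpm)
  obtain ⟨k, hk⟩ : ∃ k, n = s ^ k := by
    refine (two_cases_in (h.relIndex hx hm)).elim id fun ⟨q, hq⟩ => ?_
    obtain ⟨u, hu, hup, huZ⟩ := h.exists_mem_cent hpm (g := x)
    have h1 : ¬ cent(x) ≤ cent(u) := fun e => h.lt.ne (by
      rw [← hC p hp hpm u hup huZ, ← h.cent_eq hm huZ e, hm])
    obtain rfl : p = q := by_contra fun e => h1 (hq p hp hps e u hu hup)
    rw [← (h.relIndex hx hm u hu (hup.mono (sub_compl hps))).resolve_left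
      fun e => h1 (relIndex_eq_one.1 e)]
    refine (isPiNum_singleton_iff hs index_ne_zero_of_finite).1 fun t ht hd => by_contra fun e => ?_
    haveI := Fact.mk ht
    refine not_dvd_relIndex_of_forall (fun w hw hw' => mem_cent_comm.1 (hq t ht e ?_ w hw hw' hu)) hd
    rintro rfl
    refine h.not_dvd_n hp hpm ?_
    exact (h.relIndex hx hm u hu (hup.mono (sub_compl hps))).resolve_left
      (fun e => h1 (relIndex_eq_one.1 e)) ▸ hd
  have h2 : ∀ y ∈ (⊤ : Subgroup G), IsPiElt {s}ᶜ y →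
      (cent(y)).relIndex ⊤ = 1 ∨ (cent(y)).relIndex ⊤ = m * n := fun y _ hy => by
    rw [relIndex_top_right]
    by_cases e : y ∈ center G
    · exact Or.inl (cs_eq_one_iff.2 e)
    obtain ⟨t, ht, htd, htZ⟩ := exists_piPart_not_mem e
    haveI := Fact.mk ht
    have htm : t ∣ m := by_contra fun e' => htZ (h.mem_center e' (fun e'' => hy t ht htd
      ((Nat.prime_dvd_prime_iff_eq ht hs).1 (ht.dvd_of_dvd_pow (hk ▸ e'')))) (isPiElt_piPart _ _))
    have := hC t ht htm _ (isPiElt_piPart _ _) htZ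
    exact Or.inr (by rw [h.cent_eq' this (cent_le_piPart _ _), this])
  obtain ⟨q, hq⟩ := (two_cases_in h2).resolve_left (by
    rintro ⟨j, hj⟩
    exact hps ((Nat.prime_dvd_prime_iff_eq hp hs).1 (hp.dvd_of_dvd_pow (hj ▸ hpm.mul_right n))))
  have h3 : ∀ t : ℕ, t.Prime → t ∣ m → t = q := fun t ht htm => by
    haveI := Fact.mk ht
    obtain ⟨w, -, h1, h2⟩ := h.exists_mem_cent htm (g := 1)
    by_contra e
    exact h2 (cent_eq_top_iff.1 (top_le_iff.1 (hq t ht (fun e' => hsm (e' ▸ htm)) e w trivial h1)))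
  obtain ⟨a, ha⟩ := (isPiNum_singleton_iff hp (hm ▸ cs_ne_zero x)).1
    fun t ht htm => (h3 t ht htm).trans (h3 p hp hpm).symm
  exact ⟨p, s, a, k, x, hp, hs, ha, hk, hx, hm⟩

theorem not_sylow_dvd (h : Three G m n) {p : ℕ} [hp : Fact p.Prime] (hpm : p ∣ m) {B : Subgroup G}
    {v y : G} (hv : cs(v) = m * n) (hB : IsSylowIn p B cent(v)) (hy : y ∉ center G)
    (hle : B ≤ cent(y)) : IsSylowIn p B cent(y) := by
  refine ⟨hle, hB.isPGroup, fun e => ?_⟩
  have h1 : B.relIndex cent(y) ∣ B.relIndex cent(v) * n :=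
    Nat.dvd_of_mul_dvd_mul_right h.one_lt_m.le (by
      rw [mul_assoc, mul_comm n, ← hv, relIndex_mul_index hB.le, ← relIndex_mul_index hle]
      exact Nat.mul_dvd_mul_left _ (h.dvd_cs hy))
  exact ((Nat.Prime.dvd_mul hp.out).1 (e.trans h1)).elim hB.not_dvd (h.not_dvd_n hp.out hpm)

theorem relIndex_sylow (h : Three G m n) {p a : ℕ} [hp : Fact p.Prime] (hpm : p ∣ m) (ha : m = p ^ a)
    {B : Subgroup G} {v : G} (hv : cs(v) = m * n) (hB : IsSylowIn p B cent(v)) (P : Sylow p G)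
    (hle : B ≤ P) : (cent(v)).relIndex P = m := by
  have e : cent(v) ⊓ P = B := hB.eq_of_le (P.isPGroup'.to_le inf_le_right) (le_inf hB.le hle)
    inf_le_left
  rw [← inf_relIndex_right, e]
  have h1 : B.relIndex P * (P : Subgroup G).index = m * (B.relIndex cent(v) * n) := by
    rw [relIndex_mul_index hle, ← relIndex_mul_index hB.le, hv]; ring
  obtain ⟨c, hc⟩ := P.isPGroup'.exists_card_eq
  obtain ⟨j, -, hj⟩ := (Nat.dvd_prime_pow hp.out).1 (hc ▸ relIndex_dvd_card B (P : Subgroup G))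
  refine Nat.dvd_antisymm (Nat.Coprime.dvd_of_dvd_mul_right ?_ (h1 ▸ dvd_mul_right _ _))
    (Nat.Coprime.dvd_of_dvd_mul_right (ha ▸ (coprime_sylow_index_pow P a).symm)
      (h1 ▸ dvd_mul_right _ _))
  rw [hj]
  exact Nat.Coprime.pow_left _ ((Nat.Prime.coprime_iff_not_dvd hp.out).2 fun e =>
    ((Nat.Prime.dvd_mul hp.out).1 e).elim hB.not_dvd (h.not_dvd_n hp.out hpm))

theorem exists_m (h : Three G m n) :
    ∃ (r : ℕ) (x : G), r.Prime ∧ r ∣ m ∧ IsPiElt {r} x ∧ cs(x) = m := by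
  by_contra hn
  push Not at hn
  have hC' : ∀ r : ℕ, r.Prime → r ∣ m → ∀ u : G, IsPiElt {r} u → u ∉ center G → cs(u) = m * n :=
    fun r hr hd u hu huZ => (h.cs_of huZ).resolve_left (hn r u hr hd hu)
  obtain ⟨p, s, a, k, x, hp, hs, ha, hk, hx, hm⟩ := h.reduce hC'
  haveI := Fact.mk hp
  haveI := Fact.mk hs
  have hpm : p ∣ m := ha ▸ dvd_pow_self p (by rintro rfl; exact h.one_lt_m.ne' ha)
  have hsn : s ∣ n := hk ▸ dvd_pow_self s (by rintro rfl; exact h.one_lt_n.ne' hk)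
  have hsp : s ≠ p := fun e => h.not_dvd_n hp hpm (e ▸ hsn)
  have hC := hC' p hp hpm
  have hxZ := h.not_mem_center hm.symm.dvd
  have hcen : ∀ t : ℕ, t.Prime → t ≠ p → t ≠ s → ∀ w : G, IsPiElt {t} w → w ∈ center G :=
    fun t ht h1 h2 w hw => by
    haveI := Fact.mk ht
    exact h.mem_center (fun e => h1 ((Nat.prime_dvd_prime_iff_eq ht hp).1
      (ht.dvd_of_dvd_pow (ha ▸ e)))) (fun e => h2 ((Nat.prime_dvd_prime_iff_eq ht hs).1
      (ht.dvd_of_dvd_pow (hk ▸ e)))) hw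
  haveI : Group.IsSolvable G := by
    haveI : Group.IsSolvable (G ⧸ center G) := CL.Char.isSolvable_of_two_primes hp hs fun t ht hd => by
      haveI := Fact.mk ht
      obtain ⟨w, h1, h2⟩ := exists_noncentral_of_dvd (G := G) hd
      by_contra e
      push Not at e
      exact h2 (hcen t ht e.1 e.2 w h1)
    haveI : Group.IsSolvable (center G) :=
      Group.isSolvable_of_comm fun a b => Subtype.ext (mem_center_iff.1 b.2 a)
    exact Group.isSolvable_of_ker_le_range (center G).subtype (QuotientGroup.mk' (center G))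
      (by simp)
  -- centralizers of non-central `p`-elements contain non-central `s`-elements and are abelian
  have hex : ∀ u : G, ∃ y ∈ cent(u), IsPiElt {s} y ∧ y ∉ center G := fun u => by
    obtain ⟨u₀, h1, h2, h3⟩ := h.exists_mem_cent hpm (g := x)
    exact exists_noncentral_mem_cent' (mem_cent_comm.1 h1) hx hxZ hs.not_dvd_one
      (by rw [mul_one, hC u₀ h2 h3]; exact h.cs_dvd u)
  have hab : ∀ u : G, IsPiElt {p} u → u ∉ center G → ∀ a ∈ cent(u), cent(u) ≤ cent(a) :=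
    fun u hu huZ => by
    have h1 : ∀ y ∈ cent(u), IsPiElt {p}ᶜ y → cent(u) ≤ cent(y) := fun y hy hy' =>
      h.cent_le (hC u hu huZ) hy (hu.coprime hy')
    obtain ⟨y, hy, hys, hyZ⟩ := hex u
    have hyp := hys.mono (sub_compl hsp)
    refine fun a ha => le_cent_of_piPart (π := {p}) ?_ (h1 _ (piPart_mem ha) (isPiElt_piPart _ _))
    have hv := isPiElt_piPart {p} a
    have hvu : piPart {p} a ∈ cent(u) := piPart_mem ha
    set v := piPart {p} a
    rcases h.cs_of hyZ with e | e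
    · obtain ⟨B, -, hB, -, -⟩ := exists_direct_in (p := p) (C := cent(u)) fun y hy hy' => by
        rw [relIndex_eq_one.2 (h1 y hy hy')]; exact hp.not_dvd_one
      obtain ⟨Q, hQ⟩ := ((isSylowIn_of_forall hB).isPGroup.comap_subtype
        (K := cent(y))).exists_le_sylow
      have h2 := (Cfsg.Agent.S4125.case_ne (G := cent(y)) hs hsp (fun w hw => by
        rw [cs_coe]
        rcases h.relIndex hys e w w.2 ((isPiElt_coe_iff.2 hw).mono (sub_compl hsp.symm)) with e' | e'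
        exacts [⟨0, e'⟩, ⟨k, e'.trans hk⟩]) Q).1
      intro g hg
      refine mem_cent_comm.1 (le_cent_of_piPart (π := {p}) (C := zpowers v) (zpowers_le.2 ?_)
        (zpowers_le.2 (h1 _ (piPart_mem hg) (isPiElt_piPart _ _) hvu)) (mem_zpowers v))
      have hg' : piPart {p} g ∈ cent(u) := piPart_mem hg
      exact mem_cent.2 (congrArg Subtype.val (comm_of_isMulCommutative h2
        (a := ⟨v, h1 y hy hyp hvu⟩) (b := ⟨_, h1 y hy hyp hg'⟩) (hQ ((hB _).2 ⟨hvu, hv⟩))
        (hQ ((hB _).2 ⟨hg', isPiElt_piPart _ _⟩))).eq)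
    · rw [h.cent_eq' e (h1 y hy hyp)] at hvu ⊢
      exact h.cent_le e hvu (hv.coprime hyp).symm
  have hB : ∀ u : G, IsPiElt {p} u → u ∉ center G → ∃ B : Subgroup G, SemiReg B cent(u) ∧
      ∀ w, w ∈ B ↔ w ∈ cent(u) ∧ IsPiElt {p} w := fun u hu huZ =>
    ⟨piIn {p} cent(u) fun a ha b hb => mem_cent.1 (hab u hu huZ b hb ha),
      ⟨fun _ ha => ha.1, fun a ha => hab u hu huZ a ha.1, fun a ha haZ =>
        (h.cent_eq' (hC a ha.2 haZ) (hab u hu huZ a ha.1)).ge, fun g hg =>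
        mem_normalizer_fintype fun w hw => ⟨(mem_normalizer_iff.1 hg w).1 hw.1, hw.2.conj g⟩⟩,
      fun _ => Iff.rfl⟩
  obtain ⟨P⟩ : Nonempty (Sylow p G) := inferInstance
  have hconj : ∀ u : G, IsPiElt {p} u → u ∉ center G → ∃ (g : G) (B : Subgroup G),
      SemiReg B cent(g * u * g⁻¹) ∧ (∀ w, w ∈ B ↔ w ∈ cent(g * u * g⁻¹) ∧ IsPiElt {p} w) ∧ B ≤ P :=
    fun u hu huZ => by
    obtain ⟨B, -, h2⟩ := hB u hu huZ
    obtain ⟨g, hg⟩ := exists_conj_le_sylow P (isSylowIn_of_forall h2).isPGroup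
    obtain ⟨B', h3, h4⟩ := hB _ (hu.conj g) (mt conj_mem_center_iff.1 huZ)
    refine ⟨g, B', h3, h4, fun w hw => hg ((mem_conj_smul_iff _ _ _).2 ((h2 _).2
      ⟨mem_cent_conj.1 ((h4 w).1 hw).1, ?_⟩))⟩
    simpa using ((h4 w).1 hw).2.conj g⁻¹
  have hPZ : ¬ (P : Subgroup G) ≤ center G := fun e =>
    not_dvd_index_of_sylow_le P e ((hpm.mul_right n).trans h.dvd_index)
  obtain ⟨w, hw, hwZ, hwp, hwP⟩ := exists_second_center P.isPGroup' le_rfl le_normalizer hPZ
  have hw' := isPiElt_singleton_of_mem P.isPGroup' hw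
  obtain ⟨B, hBs, hBm⟩ := hB w hw' hwZ
  have hBy := isSylowIn_of_forall hBm
  have hPN : (P : Subgroup G) ≤ normalizer ((cent(w) : Subgroup G) : Set G) :=
    fun g hg => mem_normalizer_cent_of_commutator_mem (hwP g hg)
  have hBP : B ≤ P := (isSylowIn_of_le P hPN).le_of_normalized hBy.isPGroup
    (hBs.le.trans le_normalizer) hBs.norm
  have hwi := h.relIndex_sylow hpm ha (hC w hw' hwZ) hBy P hBP
  have hmp : m = p := by
    set S := piIn {p}ᶜ cent(w) fun a ha b hb => mem_cent.1 (hab w hw' hwZ b hb ha) with hS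
    obtain ⟨y, h1, h2, h3⟩ := hex w
    refine ((Nat.dvd_prime hp).1 (hwi ▸ relIndex_cent_dvd_prime (S := S) P.isPGroup' hwp hwP
      (fun a ha b hb => mem_cent.1 (hab w hw' hwZ b hb.1 ha.1))
      (coprime_card_of_forall_isPiElt fun u hu => hu.2) (fun g hg => mem_normalizer_fintype
        fun u hu => ⟨(mem_normalizer_iff.1 (hPN hg) u).1 hu.1, hu.2.conj g⟩)
      (fun g hg u hu => mem_cent.1 (hab w hw' hwZ g hg.2 hu.1)) (fun g hg hg' u hu hc => ?_)
      fun e => h3 (e ⟨h1, h2.mono (sub_compl hsp)⟩))).resolve_left h.one_lt_m.ne'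
    by_contra e
    have h4 := hBs.le.trans (hab w hw' hwZ u hu.1)
    exact hg' (hBs.le ((h.not_sylow_dvd hpm (hC w hw' hwZ) hBy e h4).eq_of_le
      (P.isPGroup'.to_le inf_le_right) (le_inf h4 hBP) inf_le_left ▸ ⟨mem_cent.2 hc, hg⟩))
  subst hmp
  have hZ : (center G).relIndex P ∣ m ^ 2 := by
    obtain ⟨g₀, hg₀⟩ := exists_forall_conj_not_mem (mt cent_eq_top_iff.1 hwZ)
    obtain ⟨v, h1, h2, h3⟩ := h.exists_mem_cent hpm (g := g₀)
    obtain ⟨g, B', h4, h5, h6⟩ := hconj v h2 h3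
    have h7 := h.relIndex_sylow hpm ha (by rw [cs_conj, hC v h2 h3]) (isSylowIn_of_forall h5) P h6
    have h8 : (cent(w) ⊓ cent(g * v * g⁻¹)) ⊓ P ≤ center G := fun b hb => by
      by_contra e
      have hb' := isPiElt_singleton_of_mem P.isPGroup' hb.2
      exact hg₀ g (hBs.cent_le b ((hBm b).2 ⟨hb.1.1, hb'⟩) e (h4.comm b ((h5 b).2 ⟨hb.1.2, hb'⟩)
        (conj_mem_cent_conj.2 (mem_cent_comm.1 h1))))
    have h9 := relIndex_inf_le (H := cent(w)) (K := cent(g * v * g⁻¹)) (L := P)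
    rw [hwi, h7, ← inf_relIndex_right, ← sq] at h9
    obtain ⟨c, hc⟩ := P.isPGroup'.exists_card_eq
    obtain ⟨j, -, hj⟩ := (Nat.dvd_prime_pow hp).1
      (hc ▸ relIndex_dvd_card ((cent(w) ⊓ cent(g * v * g⁻¹)) ⊓ P) (P : Subgroup G))
    refine (relIndex_dvd_of_le_left _ h8).trans ?_
    rw [hj] at h9 ⊢
    exact pow_dvd_pow m ((Nat.pow_le_pow_iff_right hp.one_lt).1 h9)
  have hcomm : ∀ a ∈ (P : Subgroup G), ∀ b ∈ (P : Subgroup G), ⁅a, b⁆ ∈ center G :=
    fun a ha b hb => by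
    have h1 : (center (P : Subgroup G)).index ∣ m ^ 2 := (index_dvd_of_le (H := (center G).subgroupOf P)
      fun z hz => mem_center_iff.2 fun g => Subtype.ext (mem_center_iff.1 hz g)).trans hZ
    have := CL.Fus.commutator_le_center_of_index h1
    by_contra e
    refine not_dvd_index_of_sylow_le P (fun g hg => mem_cent.2 ?_) (h.dvd_cs e)
    exact congrArg Subtype.val (mem_center_iff.1 (this (commutator_mem_commutator
      (mem_top (⟨a, ha⟩ : (P : Subgroup G))) (mem_top (⟨b, hb⟩ : (P : Subgroup G))))) ⟨g, hg⟩)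
  set T := pPrimeCore m G with hT
  set f := QuotientGroup.mk' T with hf
  have hR : (P : Subgroup G).map f = pCore m _ := map_eq_pCore_of_commutator_le_center P hcomm
  have hTp : (Nat.card T).Coprime m := pPrimeCore_coprime m G
  have hTp' : ∀ t ∈ T, IsPiElt {m}ᶜ t := fun t ht =>
    isPiElt_compl_of_mem ((Nat.Prime.coprime_iff_not_dvd hp).1 hTp.symm) ht
  have hall : ∀ y : G, IsPiElt {m}ᶜ y → y ∈ T := fun y hy => by
    obtain ⟨v, h1, h2, h3⟩ := h.exists_mem_cent hpm (g := y)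
    obtain ⟨g, B', h4, h5, h6⟩ := hconj v h2 h3
    suffices g * y * g⁻¹ ∈ T by
      simpa [mul_assoc] using (inferInstance : T.Normal).conj_mem _ this g⁻¹
    have h7 : g * y * g⁻¹ ∈ cent(g * v * g⁻¹) := conj_mem_cent_conj.2 (mem_cent_comm.1 h1)
    have h8 : g * v * g⁻¹ ∈ B' := (h5 _).2 ⟨self_mem_cent _, h2.conj g⟩
    have hy' := (hy.conj g).map f
    generalize g * y * g⁻¹ = y' at h7 hy' ⊢
    generalize g * v * g⁻¹ = v' at h4 h5 h7 h8
    have key : ∀ b ∈ B', f b ∈ centralizer ((zpowers (f y') : Subgroup _) : Set (G ⧸ T)) :=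
      fun b hb c hc => mem_cent.1 (zpowers_le.2 (map_cent_le f b
        (mem_map_of_mem f (h4.comm b hb h7))) hc)
    haveI := (pCore_isPGroup m (G ⧸ T)).isNilpotent
    obtain ⟨c, hc⟩ := (pCore_isPGroup m (G ⧸ T)).exists_card_eq
    have h9 := le_centralizer_of_nilpotent_of_centralizer_le (A := zpowers (f y'))
      (H := pCore m (G ⧸ T)) (by rw [normalizer_eq_top]; exact le_top)
      (by rw [hc, Nat.card_zpowers]
          exact ((isPiElt_compl_singleton_iff_coprime hp).1 hy').pow_right c) (by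
        rw [← hR]
        rintro _ ⟨⟨b, hb, rfl⟩, hb'⟩
        have e1 := hb' (f v') ⟨mem_map_of_mem f (h6 h8), key v' h8⟩
        have e2 : ⁅v', b⁆ ∈ T := by
          rw [← QuotientGroup.eq_one_iff]
          change f _ = 1
          rw [map_commutatorElement, commutatorElement_eq_one_iff_mul_comm]
          exact e1
        have e3 : ⁅v', b⁆ ∈ (P : Subgroup G) := by
          rw [commutatorElement_def]
          exact mul_mem (mul_mem (mul_mem (h6 h8) hb) (inv_mem (h6 h8))) (inv_mem hb)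
        have e4 := (isPiElt_singleton_of_mem P.isPGroup' e3).eq_one (hTp' _ e2)
        exact key b ((h5 b).2 ⟨mem_cent'.2 (commutatorElement_eq_one_iff_commute.1 e4),
          isPiElt_singleton_of_mem P.isPGroup' hb⟩))
    exact (QuotientGroup.eq_one_iff _).1 ((isPiElt_singleton_of_mem (pCore_isPGroup m _)
      (centralizer_pCore_le_of_isSolvable (pPrimeCore_quotient_pPrimeCore m G)
        (h9 (mem_zpowers _)))).eq_one hy')
  obtain ⟨j, hj⟩ : ∃ j, T.index = m ^ j := by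
    rw [← relIndex_top_right]
    exact exists_relIndex_eq_pow_of_forall hp fun u _ hu => hall u hu
  have hnil : Group.IsNilpotent T := isNilpotent_of_forall_pow_mem_center (r := s) fun t => by
    obtain ⟨i, hi⟩ := exists_pow_mem_of_piPart_compl_mem (r := s) (x := (t : G)) (H := center G)
      ((isPiElt_piPart {s}ᶜ (t : G)).mem_of_forall_primePow_mem fun l u hl hls hu hu' => by
        by_cases e : l = m
        · subst e
          rw [hu.eq_one (hTp' u (zpowers_le.2 (piPart_mem t.2) hu'))]; exact one_mem _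
        · exact hcen l hl e hls u hu)
    exact ⟨i, mem_center_iff.2 fun g => Subtype.ext (mem_center_iff.1 hi g)⟩
  obtain ⟨v, hv, hvZ, hle⟩ := exists_le_cent_of_cover P.isPGroup' hTp hnil hZ hcomm fun a _ => by
    obtain ⟨v, h1, h2, h3⟩ := h.exists_mem_cent hpm (g := a)
    obtain ⟨g, hg⟩ := h2.exists_conj_mem_sylow P
    obtain ⟨b, hb, t, ht, rfl⟩ := exists_mul_eq_of_coprime_index (A := (P : Subgroup G)) (B := T)
      (hj ▸ coprime_sylow_index_pow P j) g
    refine ⟨t, ht, t * v * t⁻¹, ?_, mt conj_mem_center_iff.1 h3,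
      mem_cent.1 (conj_mem_cent_conj.2 h1)⟩
    simpa [mul_assoc] using mul_mem (mul_mem (inv_mem hb) hg) hb
  have := index_dvd_of_le hle
  rw [hC v (isPiElt_singleton_of_mem P.isPGroup' hv) hvZ, hj] at this
  exact hsp ((Nat.prime_dvd_prime_iff_eq hs hp).1
    (hs.dvd_of_dvd_pow ((hsn.mul_left m).trans this)))

end Three

end CL.Fgs
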