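import Cfsg.Agent.Transfer.Control

/-! Counting elements that lie in a conjugate of a subgroup; class sizes prime to `p`. -/

set_option autoImplicit false
open Subgroup

namespace CL.ClsCount
open CL.Grp
variable {G : Type*} [Group G] [Finite G]

/-- The conjugates of `C` cover at most `|G:N| (|C| - 1) + 1` elements, if `N` normalizes `C`. -/
theorem card_conj_mem_le (C N : Subgroup G) (h : N ≤ normalizer (C : Set G)) :
    Nat.card {g : G | ∃ x : G, x * g * x⁻¹ ∈ C} + N.index ≤ N.index * Nat.card C + 1 := by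
  classical
  let f : (G ⧸ N) × ↥((C : Set G) \ {1}) → G := fun a => a.1.out * a.2 * a.1.out⁻¹
  have h1 : {g : G | ∃ x : G, x * g * x⁻¹ ∈ C} ⊆ insert 1 (Set.range f) := by
    rintro g ⟨x, hx⟩
    by_cases hg : g = 1
    · exact Or.inl hg
    obtain ⟨n, hn⟩ := QuotientGroup.mk_out_eq_mul N x⁻¹
    have h2 : (n : G)⁻¹ * (x * g * x⁻¹) * (n : G)⁻¹⁻¹ ∈ C := (mem_normalizer_iff.1 (h (inv_mem n.2)) _).1 hx
    refine Or.inr ⟨⟨(x⁻¹ : G), ⟨_, h2, fun h3 => hg ?_⟩⟩, ?_⟩
    · have h4 : g = x⁻¹ * n * ((n : G)⁻¹ * (x * g * x⁻¹) * (n : G)⁻¹⁻¹) * (x⁻¹ * n)⁻¹ := by group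
      rw [h4, Set.mem_singleton_iff.1 h3]; group
    · simp only [f, hn]; group
  have h2 := (Set.ncard_le_ncard h1).trans (Set.ncard_insert_le _ _)
  have h3 : (Set.range f).ncard ≤ N.index * ((C : Set G) \ {1}).ncard := by
    rw [← Set.image_univ]
    refine (Set.ncard_image_le (Set.toFinite _)).trans ?_
    rw [Set.ncard_univ, Nat.card_prod]; rfl
  have h4 : ((C : Set G) \ {1}).ncard + 1 = Nat.card C := Set.ncard_sdiff_singleton_add_one C.one_mem
  rw [← h4, mul_add, mul_one]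
  change Set.ncard _ + _ ≤ _
  omega

/-- Jordan: the conjugates of a proper subgroup do not cover the group. -/
theorem eq_top_of_forall_conj_mem (C : Subgroup G) (h : ∀ g : G, ∃ x : G, x * g * x⁻¹ ∈ C) : C = ⊤ := by
  have h1 := card_conj_mem_le C C le_normalizer
  rw [Set.eq_univ_of_forall (s := {g : G | ∃ x : G, x * g * x⁻¹ ∈ C}) h, Nat.card_univ, index_mul_card] at h1
  have := C.index_ne_zero_of_finite
  exact index_eq_one.1 (by omega)

variable {p : ℕ} [Fact p.Prime]

theorem exists_sylow_le {S : Subgroup G} (h : ¬ p ∣ S.index) : ∃ P : Sylow p G, (P : Subgroup G) ≤ S := by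
  obtain ⟨U, hU⟩ := exists_isSylowIn p S
  have h2 : IsSylowIn p U ⊤ := by
    refine ⟨le_top, hU.isPGroup, ?_⟩
    rw [relIndex_top_right, ← relIndex_mul_index hU.le]
    exact fun h3 => ((Fact.out : p.Prime).dvd_mul.1 h3).elim hU.not_dvd h
  obtain ⟨P, hP⟩ := isSylowIn_top_iff.1 h2
  exact ⟨P, hP ▸ hU.le⟩

theorem exists_conj_mem_centralizer (P : Sylow p G) {g : G} (h : ¬ p ∣ (centralizer ({g} : Set G)).index) :
    ∃ x : G, x * g * x⁻¹ ∈ centralizer (P : Set G) := by
  obtain ⟨Q, hQ⟩ := exists_sylow_le h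
  obtain ⟨x, hx⟩ := exists_conj_le_sylow Q P.isPGroup'
  refine ⟨x⁻¹, mem_centralizer_iff.2 fun y hy => ?_⟩
  have := mem_centralizer_singleton_iff.1 (hQ (hx (conj_mem_conj_smul x hy)))
  calc y * (x⁻¹ * g * x⁻¹⁻¹) = x⁻¹ * (x * y * x⁻¹ * g) * x := by group
    _ = _ := by rw [this]; group

/-- The elements with class size prime to `p` are at most a fraction `1 / |N(P) : C(P)|` of `G`. -/
theorem relIndex_mul_card_le (P : Sylow p G) :
    (centralizer (P : Set G)).relIndex (normalizer (P : Set G)) *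
      Nat.card {g : G | ¬ p ∣ (centralizer ({g} : Set G)).index} ≤ Nat.card G := by
  have h1 := card_conj_mem_le (centralizer (P : Set G)) (normalizer (P : Set G)) fun a ha => by
    rw [← conj_smul_eq_self_iff, ← Sylow.coe_coe, ← centralizer_conj_smul, (conj_smul_eq_self_iff _ _).mpr ha]
  have h2 : Nat.card {g : G | ¬ p ∣ (centralizer ({g} : Set G)).index} ≤
      Nat.card {g : G | ∃ x : G, x * g * x⁻¹ ∈ centralizer (P : Set G)} :=
    Set.ncard_le_ncard fun g hg => exists_conj_mem_centralizer P hg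
  have h3 := (normalizer (P : Set G)).index_ne_zero_of_finite
  rw [← index_mul_card (centralizer (P : Set G)), ← relIndex_mul_index (centralizer_le_normalizer (P : Set G)), mul_assoc]
  exact Nat.mul_le_mul_left _ (by omega)

theorem two_mul_card_le (h : ¬ Cfsg.HasNormalPComplement p G) :
    2 * Nat.card {g : G | ¬ p ∣ (centralizer ({g} : Set G)).index} ≤ Nat.card G := by
  obtain ⟨P⟩ : Nonempty (Sylow p G) := inferInstance
  refine le_trans (Nat.mul_le_mul_right _ ?_) (relIndex_mul_card_le P)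
  have h1 : (centralizer (P : Set G)).relIndex (normalizer (P : Set G)) ≠ 0 := index_ne_zero_of_finite
  have h2 : (centralizer (P : Set G)).relIndex (normalizer (P : Set G)) ≠ 1 := fun e =>
    h (CL.Transfer.hasNormalPComplement_of_normalizer_le_centralizer P (relIndex_eq_one.1 e))
  omega

/-- If all class sizes are prime to `p`, the Sylow `p`-subgroups are central. -/
theorem sylow_le_center (P : Sylow p G) (h : ∀ g : G, ¬ p ∣ (centralizer ({g} : Set G)).index) :
    (P : Subgroup G) ≤ center G := fun x hx => by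
  have := eq_top_of_forall_conj_mem _ fun g => exists_conj_mem_centralizer P (h g)
  exact mem_center_iff.2 fun g => (mem_centralizer_iff.1 (this ▸ mem_top g : g ∈ centralizer (P : Set G)) x hx).symm

theorem exists_central {U : Subgroup G} (hU : IsPGroup p U) (h : U ≠ ⊥) :
    ∃ z ∈ U, z ≠ 1 ∧ U ≤ centralizer ({z} : Set G) := by
  haveI := (nontrivial_iff_ne_bot U).2 h
  haveI := hU.center_nontrivial
  obtain ⟨z, hz⟩ := exists_ne (1 : center U)
  exact ⟨z.1, z.1.2, fun e => hz (Subtype.ext (Subtype.ext e)), fun y hy =>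
    mem_centralizer_singleton_iff.2 (congrArg Subtype.val (mem_center_iff.1 z.2 ⟨y, hy⟩))⟩

omit [Finite G] in
theorem centralizer_mul_le {a b : G} (h : Commute a b) (hc : (orderOf a).Coprime (orderOf b)) :
    centralizer ({a * b} : Set G) ≤ centralizer {a} := fun x hx => by
  have h1 : a ∈ zpowers (a ^ orderOf b) := mem_zpowers_pow_iff.2 hc.symm
  rw [← mul_one (a ^ orderOf b), ← pow_orderOf_eq_one b, ← h.mul_pow] at h1
  obtain ⟨k, hk⟩ := mem_zpowers_iff.1 h1
  have h2 : Commute x (a * b) := mem_centralizer_singleton_iff.1 hx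
  exact mem_centralizer_singleton_iff.2 (hk ▸ (h2.pow_right _).zpow_right k).eq

/-- Double counting: primes `p` such that at least half of the elements have class size divisible by `p`. -/
theorem card_primes_lt {σ : ℕ} (hσ : ∀ x : G, (centralizer ({x} : Set G)).index.primeFactors.card ≤ σ) (h0 : σ ≠ 0)
    (S : Finset ℕ) (hS : ∀ q ∈ S, q.Prime ∧ ¬ Cfsg.HasNormalPComplement q G) : S.card < 2 * σ := by
  classical
  haveI := Fintype.ofFinite G
  have h1 : ∀ q ∈ S, Nat.card G ≤ 2 * (Finset.univ.filter fun g : G => q ∣ (centralizer ({g} : Set G)).index).card := by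
    intro q hq
    haveI := Fact.mk (hS q hq).1
    have h2 := two_mul_card_le (hS q hq).2
    have h3 := Finset.card_filter_add_card_filter_not (s := Finset.univ) fun g : G => q ∣ (centralizer ({g} : Set G)).index
    rw [Nat.card_eq_fintype_card, Fintype.card_subtype] at h2
    rw [Finset.card_univ, ← Nat.card_eq_fintype_card] at h3
    simp only [Set.mem_ofPred_eq] at h2
    omega
  have h2 : ∑ q ∈ S, (Finset.univ.filter fun g : G => q ∣ (centralizer ({g} : Set G)).index).card =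
      ∑ g : G, (S.filter fun q => q ∣ (centralizer ({g} : Set G)).index).card := by
    simp only [Finset.card_filter]
    exact Finset.sum_comm
  have h3 : ∀ g : G, (S.filter fun q => q ∣ (centralizer ({g} : Set G)).index).card ≤ σ := fun g =>
    le_trans (Finset.card_le_card fun q hq => Nat.mem_primeFactors.2
      ⟨(hS q (Finset.mem_filter.1 hq).1).1, (Finset.mem_filter.1 hq).2, index_ne_zero_of_finite⟩) (hσ g)
  have h4 : ∑ g : G, (S.filter fun q => q ∣ (centralizer ({g} : Set G)).index).card < ∑ _g : G, σ := by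
    refine Finset.sum_lt_sum (fun g _ => h3 g) ⟨1, Finset.mem_univ _, ?_⟩
    rw [Finset.filter_eq_empty_iff.2 fun q hq => ?_]
    · exact Nat.pos_of_ne_zero h0
    · rw [(eq_top_iff' _).2 fun x => mem_centralizer_singleton_iff.2 (by simp), index_top, Nat.dvd_one]
      exact (hS q hq).1.ne_one
  have h5 := Finset.sum_le_sum h1
  rw [← Finset.mul_sum, h2, Finset.sum_const, smul_eq_mul] at h5
  rw [Finset.sum_const, Finset.card_univ, ← Nat.card_eq_fintype_card, smul_eq_mul] at h4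
  refine lt_of_mul_lt_mul_right (a := Nat.card G) ?_ (Nat.zero_le _)
  nlinarith

/-- Class sizes `n ≠ 1` of the form `L / k` with `k ≠ 1` an `A`-number or an `A'`-number. -/
def TwoTypes (G : Type*) [Group G] (L : ℕ) (A : Set ℕ) : Prop :=
  ∀ g : G, g ≠ 1 → ∃ k, k ≠ 1 ∧ (centralizer ({g} : Set G)).index * k = L ∧
    ((∀ q, q.Prime → q ∣ k → q ∈ A) ∨ ∀ q, q.Prime → q ∣ k → q ∉ A)

theorem TwoTypes.not_dvd {L m : ℕ} {A : Set ℕ} (h : TwoTypes G L A) (hZ : center G = ⊥) (hm : Nat.card G = L * m)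
    {a : ℕ} (ha : a.Prime) (haA : a ∈ A) (haL : a ∣ L) {q : ℕ} (hq : q.Prime) (hqA : q ∉ A) : ¬ q ∣ m := by
  intro hqm
  haveI := Fact.mk hq
  haveI := Fact.mk ha
  have hne : ∀ {r : ℕ} [Fact r.Prime] (P : Sylow r G), r ∣ Nat.card G → (P : Subgroup G) ≠ ⊥ := fun P hr =>
    P.ne_bot_of_dvd_card hr
  choose! k hk1 hk2 hk3 using h
  have hC : ∀ g : G, g ≠ 1 → Nat.card (centralizer ({g} : Set G)) = k g * m := fun g hg => by
    refine Nat.eq_of_mul_eq_mul_left (Nat.pos_of_ne_zero (centralizer ({g} : Set G)).index_ne_zero_of_finite) ?_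
    rw [index_mul_card, hm, ← mul_assoc, hk2 g hg]
  have hdvd : ∀ g g' : G, g ≠ 1 → g' ≠ 1 → centralizer ({g} : Set G) ≤ centralizer {g'} → k g ∣ k g' := fun g g' h1 h2 h3 => by
    have := card_dvd_of_le h3
    rw [hC g h1, hC g' h2] at this
    exact Nat.dvd_of_mul_dvd_mul_right (Nat.pos_of_mul_pos_left (hm ▸ Nat.card_pos)) this
  have hcen : ∀ {r : ℕ} [Fact r.Prime] (P : Sylow r G) (z : G), z ≠ 1 → (P : Subgroup G) ≤ centralizer {z} → r ∣ L → r ∣ k z :=
    fun {r} _ P z h1 h2 h3 => ((Fact.out : r.Prime).dvd_mul.1 (hk2 z h1 ▸ h3)).resolve_left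
      fun h4 => P.not_dvd_index (h4.trans (index_dvd_of_le h2))
  by_cases hqL : q ∣ L
  swap
  · obtain ⟨Q⟩ : Nonempty (Sylow q G) := inferInstance
    refine hne Q (hm ▸ hqm.mul_left _) (eq_bot_iff.2 (hZ ▸ sylow_le_center Q fun g hg => ?_))
    by_cases h1 : g = 1
    · rw [h1, (eq_top_iff' _).2 fun x => mem_centralizer_singleton_iff.2 (by simp), index_top, Nat.dvd_one] at hg
      exact hq.ne_one hg
    · exact hqL (hk2 g h1 ▸ hg.mul_right _)
  obtain ⟨P⟩ : Nonempty (Sylow a G) := inferInstance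
  obtain ⟨z, hzP, hz1, hz⟩ := exists_central P.isPGroup' (hne P (hm ▸ haL.mul_right _))
  have hzA := (hk3 z hz1).resolve_right fun h1 => h1 a ha (hcen P z hz1 hz haL) haA
  obtain ⟨U, hU⟩ := exists_isSylowIn q (centralizer ({z} : Set G))
  have hUA : ∀ u ∈ U, u ≠ 1 → ¬ q ∣ k u := fun u hu hu1 hqu => by
    have h1 : Commute z u := (mem_centralizer_singleton_iff.1 (hU.le hu)).symm
    obtain ⟨i, hi⟩ := (IsPGroup.iff_orderOf.1 P.isPGroup') ⟨z, hzP⟩
    obtain ⟨j, hj⟩ := (IsPGroup.iff_orderOf.1 hU.isPGroup) ⟨u, hu⟩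
    rw [← orderOf_coe] at hi hj
    have h2 : (orderOf z).Coprime (orderOf u) := by
      rw [show orderOf z = a ^ i from hi, show orderOf u = q ^ j from hj]
      exact Nat.Coprime.pow _ _ ((Nat.coprime_primes ha hq).2 fun e => hqA (e ▸ haA))
    have h3 : z * u ≠ 1 := fun e => by
      rw [eq_inv_of_mul_eq_one_right e, orderOf_inv, Nat.coprime_self, orderOf_eq_one_iff] at h2
      exact hz1 h2
    obtain ⟨r, hr, hrk⟩ := Nat.exists_prime_and_dvd (hk1 _ h3)
    have h4 := hzA r hr (hrk.trans (hdvd _ _ h3 hz1 (centralizer_mul_le h1 h2)))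
    have h5 := hrk.trans (hdvd _ _ h3 hu1 (h1.eq ▸ centralizer_mul_le h1.symm h2.symm))
    exact (hk3 u hu1).elim (fun h6 => hqA (h6 q hq hqu)) fun h6 => h6 r hr h5 h4
  have hr : ∀ g : G, g ≠ 1 → U ≤ centralizer {g} → U.relIndex (centralizer {g}) * Nat.card U = k g * m := fun g h1 h2 => by
    rw [← hC g h1, relIndex, ← Nat.card_congr (subgroupOfEquivOfLe h2).toEquiv, index_mul_card]
  have hU1 : U ≠ ⊥ := fun e => by
    have h1 := hr z hz1 hU.le
    rw [card_eq_one.2 e, mul_one] at h1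
    exact hU.not_dvd (h1 ▸ hqm.mul_left _)
  obtain ⟨u, huU, hu1, hu⟩ := exists_central hU.isPGroup hU1
  have hUu : IsSylowIn q U (centralizer ({u} : Set G)) := ⟨hu, hU.isPGroup, fun h1 => by
    have h2 : U.relIndex (centralizer {u}) * k z = U.relIndex (centralizer {z}) * k u :=
      Nat.eq_of_mul_eq_mul_right (Nat.card_pos (α := U)) (by
        rw [mul_right_comm, hr u hu1 hu, mul_right_comm _ (k u), hr z hz1 hU.le]; ring)
    exact (hq.dvd_mul.1 (h2 ▸ h1.mul_right _)).elim hU.not_dvd (hUA u huU hu1)⟩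
  obtain ⟨Q, hQ⟩ := hU.isPGroup.exists_le_sylow
  obtain ⟨w, hwQ, hw1, hw⟩ := exists_central Q.isPGroup' (hne Q (hm ▸ hqm.mul_left _))
  have h1 := hUu.eq_of_le (Q.isPGroup'.to_inf_left (K := centralizer {u})) (le_inf hQ hu) inf_le_right
  refine hUA w (h1 ▸ ⟨hwQ, mem_centralizer_singleton_iff.2 ?_⟩) hw1 (hcen Q w hw1 hw hqL)
  exact (mem_centralizer_singleton_iff.1 (hw (hQ huU))).symm

/-- A group with disconnected prime graph has class sizes of two types. -/
theorem twoTypes_of_disc (A : Set ℕ) (h : ∀ a ∈ A, ∀ b ∉ A, a.Prime → b.Prime → a ∣ Nat.card G → b ∣ Nat.card G →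
    ¬ ∃ x : G, orderOf x = a * b) : TwoTypes G (Nat.card G) A := by
  intro g hg
  refine ⟨Nat.card (centralizer ({g} : Set G)), fun e => hg ?_, index_mul_card _, ?_⟩
  · exact mem_bot.1 (card_eq_one.1 e ▸ mem_centralizer_singleton_iff.2 rfl)
  obtain ⟨r, hr, hrg⟩ := Nat.exists_prime_and_dvd (fun e => hg (orderOf_eq_one_iff.1 e))
  have h1 : orderOf (g ^ (orderOf g / r)) = r := orderOf_pow_orderOf_div (orderOf_pos g).ne' hrg
  have key : ∀ q, q.Prime → q ∣ Nat.card (centralizer ({g} : Set G)) → q ≠ r → ∃ x : G, orderOf x = q * r := fun q hq h2 h3 => by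
    haveI := Fact.mk hq
    obtain ⟨y, hy⟩ := exists_prime_orderOf_dvd_card' q h2
    rw [← orderOf_coe] at hy
    have h4 : Commute (y : G) g := mem_centralizer_singleton_iff.1 y.2
    refine ⟨y * g ^ (orderOf g / r), ?_⟩
    rw [(h4.pow_right _).orderOf_mul_eq_mul_orderOf_of_coprime (by rw [hy, h1]; exact (Nat.coprime_primes hq hr).2 h3), hy, h1]
  have h2 := hrg.trans (orderOf_dvd_natCard g)
  by_cases hA : r ∈ A
  · refine Or.inl fun q hq h3 => by_contra fun h4 => h r hA q h4 hr hq h2 (h3.trans (card_subgroup_dvd_card _)) ?_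
    exact mul_comm q r ▸ key q hq h3 fun e => h4 (e ▸ hA)
  · exact Or.inr fun q hq h3 h4 => h q h4 r hA hq hr (h3.trans (card_subgroup_dvd_card _)) h2 (key q hq h3 fun e => hA (e ▸ h4))

omit [Finite G] in
theorem TwoTypes.compl {L : ℕ} {A : Set ℕ} (h : TwoTypes G L A) : TwoTypes G L Aᶜ := fun g hg => by
  obtain ⟨k, h1, h2, h3⟩ := h g hg
  exact ⟨k, h1, h2, h3.symm.imp id fun h4 q hq h5 h6 => h6 (h4 q hq h5)⟩

/-- Some class size `n` has `|G| / n` an `A`-number. -/
theorem TwoTypes.exists_type {A : Set ℕ} (h : TwoTypes G (Nat.card G) A) {a : ℕ} (ha : a.Prime) (haA : a ∈ A)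
    (haL : a ∣ Nat.card G) : ∃ (g : G) (k : ℕ), (centralizer ({g} : Set G)).index * k = Nat.card G ∧
      ∀ q, q.Prime → q ∣ k → q ∈ A := by
  haveI := Fact.mk ha
  obtain ⟨y, hy⟩ := exists_prime_orderOf_dvd_card' a haL
  obtain ⟨k, -, h2, h3⟩ := h y fun e => ha.ne_one (by rw [← hy, e, orderOf_one])
  refine ⟨y, k, h2, h3.resolve_right fun h4 => h4 a ha ?_ haA⟩
  rw [← index_mul_card (centralizer ({y} : Set G))] at h2
  rw [Nat.eq_of_mul_eq_mul_left (Nat.pos_of_ne_zero index_ne_zero_of_finite) h2, ← hy]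
  exact orderOf_dvd_natCard (centralizer ({y} : Set G)) (mem_centralizer_singleton_iff.2 rfl)

end CL.ClsCount
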