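/-
Row 3875 (least order of a group with non-normal Sylow `p`-subgroups) from row 999.
-/
import Cfsg.Agent.Grp.Coprime2
import Cfsg.Agent.Grp.Fitting
import Cfsg.Agent.Grp.MinNormal
import Cfsg.Agent.Cls.SLnCard
import Cfsg.Statements.S0999
import Cfsg.Statements.S3875

set_option autoImplicit false
open Cfsg Subgroup CL.Grp
open scoped Pointwise commutatorElement

namespace CL.Fgs

theorem isPClosed_of_normal_sylow {G : Type*} [Group G] [Finite G] {p : ℕ} [Fact p.Prime] (P : Sylow p G)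
    (h : (P : Subgroup G).Normal) : IsPClosed p G := fun Q => by
  have := P.unique_of_normal h
  rw [Subsingleton.elim Q P]; exact h

theorem le_normalizer_of_isPClosed {G : Type*} [Group G] [Finite G] {p : ℕ} [Fact p.Prime]
    (P : Sylow p G) {K : Subgroup G} (hPK : (P : Subgroup G) ≤ K) (h : IsPClosed p K) :
    K ≤ normalizer ((P : Subgroup G) : Set G) :=
  (normal_subgroupOf_iff_le_normalizer hPK).1 (h (P.subtype hPK))

theorem card_psl_two_mul_gcd (F : Type*) [Field F] [Fintype F] :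
    Nat.gcd 2 (Fintype.card F - 1) * Nat.card (Matrix.ProjectiveSpecialLinearGroup (Fin 2) F) =
      Fintype.card F * (Fintype.card F ^ 2 - 1) := by
  rw [← CL.SLn.card_SL_two, ← CL.SLn.card_PSL_mul, Fintype.card_fin]

theorem card_psl_two_prime {p : ℕ} (hp : p.Prime) (h2 : p ≠ 2) (F : Type*) [Field F] [Fintype F]
    (hF : Fintype.card F = p) :
    Nat.card (Matrix.ProjectiveSpecialLinearGroup (Fin 2) F) = p * (p ^ 2 - 1) / 2 := by
  have h := card_psl_two_mul_gcd F
  rw [hF, Nat.gcd_eq_left (even_iff_two_dvd.1 (Nat.Odd.sub_odd (hp.odd_of_ne_two h2) odd_one))] at h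
  omega

theorem min_le_card_of_not_isPClosed (h999 : type_of% @Cfsg.CfsgFrozen.S0999.{0}) {p : ℕ}
    [hp : Fact p.Prime] (h2 : p ≠ 2) {m : ℕ} (hleast : ∀ k : ℕ, IsPrimePow k → k % p = 1 → m ≤ k)
    (G : Type) [Group G] [Finite G] :
    ¬ IsPClosed p G → min (p * m) (p * (p ^ 2 - 1) / 2) ≤ Nat.card G := by
  refine induction_on_card (P := fun X _ _ => ¬ IsPClosed p X →
    min (p * m) (p * (p ^ 2 - 1) / 2) ≤ Nat.card X) ?_ G
  intro X _ _ ih hX
  by_contra hlt
  have hsub : ∀ K : Subgroup X, K ≠ ⊤ → IsPClosed p K := fun K hK => by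
    by_contra h
    exact hlt ((ih K (card_subgroup_lt hK) h).trans (card_subgroup_lt hK).le)
  have hquo : ∀ (N : Subgroup X) [N.Normal], N ≠ ⊥ → IsPClosed p (X ⧸ N) := fun N _ hN => by
    by_contra h
    exact hlt ((ih _ (card_quotient_lt hN) h).trans (card_quotient_lt hN).le)
  obtain ⟨P⟩ : Nonempty (Sylow p X) := inferInstance
  have hPn : ¬ (P : Subgroup X).Normal := fun h => hX (isPClosed_of_normal_sylow P h)
  have hsup : ∀ (N : Subgroup X) [N.Normal], N ≠ ⊥ → ((P : Subgroup X) ⊔ N).Normal := by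
    intro N _ hN
    have := hquo N hN (P.mapSurjective (QuotientGroup.mk'_surjective N))
    have h1 := this.comap (QuotientGroup.mk' N)
    rwa [Sylow.coe_mapSurjective, comap_map_eq, QuotientGroup.ker_mk'] at h1
  have hO : pCore p X = ⊥ := by
    by_contra h
    have := hsup _ h
    rw [sup_eq_left.2 (pCore_le_sylow P)] at this
    exact hPn this
  have hpd : p ∣ Nat.card P := by
    obtain ⟨k, hk⟩ := P.isPGroup'.exists_card_eq
    rw [hk]
    refine dvd_pow_self p ?_
    rintro rfl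
    apply hPn
    rw [card_eq_one.1 hk]; infer_instance
  have hnt : Nontrivial X := by
    by_contra h
    rw [not_nontrivial_iff_subsingleton] at h
    exact hPn (by rw [Subsingleton.elim (P : Subgroup X) ⊥]; infer_instance)
  by_cases hs : ∀ N : Subgroup X, N.Normal → N = ⊥ ∨ N = ⊤
  · have : IsSimpleGroup X := ⟨hs⟩
    have hlt2 : Nat.card X < p * (p ^ 2 - 1) / 2 := lt_of_lt_of_le (not_le.1 hlt) (min_le_right _ _)
    have h3 : Nat.card X < p ^ 3 := by
      have : p * (p ^ 2 - 1) ≤ p ^ 3 := by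
        rw [pow_succ' p 2]; exact Nat.mul_le_mul_left _ (Nat.sub_le _ _)
      omega
    rcases h999 (G := X) (fun hc => hPn ⟨fun n hn g => by
        rwa [hc.isMulCommutative.is_comm.comm g n, mul_inv_cancel_right]⟩) p hp.out
      (hpd.trans (card_subgroup_dvd_card _)) h3 with ⟨F, _, _, hF, -, ⟨e⟩⟩ | ⟨k, F, _, _, hF, hk, h4, ⟨e⟩⟩
    · rw [Nat.card_congr e.toEquiv, card_psl_two_prime hp.out h2 F hF] at hlt2
      exact lt_irrefl _ hlt2
    · have h := card_psl_two_mul_gcd F
      have hk0 : k ≠ 0 := by rintro rfl; omega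
      have hodd : Nat.gcd 2 (Fintype.card F - 1) = 1 := by
        rw [hF]
        exact Nat.coprime_two_left.2 (Nat.Even.sub_odd Nat.one_le_two_pow
          (Nat.even_pow.2 ⟨even_two, hk0⟩) odd_one)
      rw [hodd, one_mul, hF, ← Nat.card_congr e.toEquiv] at h
      rw [h, hk] at hlt2
      generalize 2 ^ k = a at *
      obtain ⟨b, rfl⟩ : ∃ b, a = b + 3 := ⟨a - 3, by omega⟩
      have e1 : (b + 3) ^ 2 - 1 = b ^ 2 + 6 * b + 8 := by
        rw [Nat.sub_eq_iff_eq_add (Nat.one_le_pow _ _ (by omega))]; ring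
      have e2 : (b + 3 + 1) ^ 2 - 1 = b ^ 2 + 8 * b + 15 := by
        rw [Nat.sub_eq_iff_eq_add (Nat.one_le_pow _ _ (by omega))]; ring
      rw [e1, e2] at hlt2
      have hb : 1 ≤ b := by
        by_contra hb
        have : b = 0 := by omega
        subst this
        rw [hk] at hp
        exact absurd hp.out (by norm_num)

      have h5 := (Nat.le_div_iff_mul_le (by norm_num : 0 < 2)).1 (Nat.succ_le_of_lt hlt2)
      nlinarith [Nat.mul_le_mul hb hb, Nat.mul_le_mul (Nat.mul_le_mul hb hb) hb]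
  push Not at hs
  obtain ⟨N, hn, hN1, hN2⟩ := hs
  have hNp : ¬ p ∣ Nat.card N := by
    intro hd
    obtain ⟨Q⟩ : Nonempty (Sylow p N) := inferInstance
    have := Q.characteristic_of_normal (hsub N hN2 Q)
    have h1 : ((Q : Subgroup N).map N.subtype) ≤ pCore p X := le_pCore (Q.isPGroup'.map _)
    rw [hO, le_bot_iff, map_eq_bot_iff_of_injective _ N.subtype_injective] at h1
    exact Q.ne_bot_of_dvd_card hd h1
  have htop : (P : Subgroup X) ⊔ N = ⊤ := by
    by_contra h
    have := hsup N hN1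
    have h1 := (P.subtype le_sup_left).characteristic_of_normal (hsub _ h (P.subtype le_sup_left))
    have h2 : ((P.subtype (le_sup_left : (P : Subgroup X) ≤ (P : Subgroup X) ⊔ N)).toSubgroup.map
      (Subgroup.subtype _)).Normal := inferInstance
    rw [Sylow.coe_subtype, subgroupOf_map_subtype, inf_eq_left.2 le_sup_left] at h2
    exact hPn h2
  obtain ⟨q, Q, hq, hQ, hPQ, hQt⟩ : ∃ (q : ℕ) (Q : Subgroup X), q.Prime ∧ IsPGroup q Q ∧
      (P : Subgroup X) ≤ normalizer (Q : Set X) ∧ (P : Subgroup X) ⊔ Q = ⊤ := by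
    by_contra hcon
    push Not at hcon
    have h1 : N ≤ normalizer ((P : Subgroup X) : Set X) := by
      refine le_of_forall_exists_isSylowIn_le fun q hq _ => ?_
      have := Fact.mk hq
      obtain ⟨k, hk⟩ := P.isPGroup'.exists_card_eq
      have : Group.IsNilpotent (P : Subgroup X) := P.isPGroup'.isNilpotent
      obtain ⟨S, hS, hPS⟩ := exists_isSylowIn_le_normalizer (A := (P : Subgroup X)) (K := N) q
        (by rw [normalizer_eq_top]; exact le_top)
        (by rw [hk]; exact Nat.Coprime.pow_left k (hp.out.coprime_iff_not_dvd.2 hNp))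
        (Or.inl inferInstance)
      exact ⟨S, hS, le_sup_right.trans (le_normalizer_of_isPClosed P le_sup_left
        (hsub _ (hcon q S hq hS.isPGroup hPS)))⟩
    exact hPn (normalizer_eq_top_iff.1 (eq_top_iff.2 (htop ▸ sup_le le_normalizer h1)))
  have := Fact.mk hq
  have hQn : Q.Normal := normalizer_eq_top_iff.1 (eq_top_iff.2 (hQt ▸ sup_le hPQ le_normalizer))
  have h1 : Nat.card (Sylow p X) ∣ Nat.card Q := by
    refine (Sylow.card_dvd_index P).trans ?_
    have h3 := card_sup_dvd hPQ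
    rw [hQt, card_top, ← (P : Subgroup X).card_mul_index] at h3
    exact Nat.dvd_of_mul_dvd_mul_left Nat.card_pos h3
  obtain ⟨k, hk⟩ := hQ.exists_card_eq
  obtain ⟨j, -, hj⟩ := (Nat.dvd_prime_pow hq).1 (hk ▸ h1)
  have hj0 : j ≠ 0 := by
    rintro rfl
    rw [pow_zero, P.card_eq_index_normalizer, index_eq_one] at hj
    exact hPn (normalizer_eq_top_iff.1 hj)
  have h3 := hleast _ (hj ▸ hq.isPrimePow.pow hj0) (Eq.trans (card_sylow_modEq_one p X)
    (Nat.mod_eq_of_lt hp.out.one_lt))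
  apply hlt
  refine (min_le_left _ _).trans ?_
  rw [← (P : Subgroup X).card_mul_index]
  exact Nat.mul_le_mul (Nat.le_of_dvd Nat.card_pos hpd)
    (h3.trans (Nat.le_of_dvd (Nat.pos_of_ne_zero index_ne_zero_of_finite) (Sylow.card_dvd_index P)))

theorem not_isPClosed_psl_two {p : ℕ} [hp : Fact p.Prime] (h2 : p ≠ 2) :
    ¬ IsPClosed p (Matrix.ProjectiveSpecialLinearGroup (Fin 2) (ZMod p)) := by
  intro h
  let a : Matrix.SpecialLinearGroup (Fin 2) (ZMod p) := ⟨!![1, 1; 0, 1], by simp⟩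
  let b : Matrix.SpecialLinearGroup (Fin 2) (ZMod p) := ⟨!![1, 0; 1, 1], by simp⟩
  have ha : ∀ n : ℕ, (a ^ n).1 = !![1, (n : ZMod p); 0, 1] := by
    intro n
    induction n with
    | zero => simp [Matrix.one_fin_two]
    | succ n ih => rw [pow_succ, Matrix.SpecialLinearGroup.coe_mul, ih]; simp [a, add_comm]
  have hb : ∀ n : ℕ, (b ^ n).1 = !![1, 0; (n : ZMod p), 1] := by
    intro n
    induction n with
    | zero => simp [Matrix.one_fin_two]
    | succ n ih => rw [pow_succ, Matrix.SpecialLinearGroup.coe_mul, ih]; simp [b, add_comm]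
  have hap : a ^ p = 1 := Subtype.ext (by rw [ha]; simp [Matrix.one_fin_two])
  have hbp : b ^ p = 1 := Subtype.ext (by rw [hb]; simp [Matrix.one_fin_two])
  set f := QuotientGroup.mk' (center (Matrix.SpecialLinearGroup (Fin 2) (ZMod p))) with hf
  obtain ⟨P⟩ : Nonempty (Sylow p (Matrix.ProjectiveSpecialLinearGroup (Fin 2) (ZMod p))) :=
    inferInstance
  have hmem : ∀ x, x ^ p = 1 → f x ∈ (P : Subgroup _) := by
    intro x hx
    have : IsPGroup p (zpowers (f x)) := by
      have h1 : orderOf (f x) ∣ p ^ 1 := orderOf_dvd_of_pow_eq_one (by rw [pow_one, ← map_pow, hx, map_one])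
      obtain ⟨j, -, hj⟩ := (Nat.dvd_prime_pow hp.out).1 h1
      exact IsPGroup.of_card (by rw [Nat.card_zpowers, hj])
    obtain ⟨Q, hQ⟩ := this.exists_le_sylow
    have := P.unique_of_normal (h P)
    rw [Subsingleton.elim P Q]
    exact hQ (mem_zpowers _)
  have hc := card_psl_two_mul_gcd (ZMod p)
  rw [ZMod.card] at hc
  have hPc : Nat.card P ∣ p := by
    obtain ⟨k, hk⟩ := P.isPGroup'.exists_card_eq
    have h1 : p ^ k ∣ p * (p ^ 2 - 1) := by
      rw [← hc, ← hk]; exact (card_subgroup_dvd_card _).mul_left _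
    rw [hk]
    refine Nat.Coprime.dvd_of_dvd_mul_right (Nat.Coprime.pow_left k ?_) h1
    have : 1 ≤ p ^ 2 := Nat.one_le_pow _ _ hp.out.pos
    refine hp.out.coprime_iff_not_dvd.2 fun hd => hp.out.ne_one ?_
    have h3 := (Nat.dvd_sub_iff_right this (dvd_pow_self p two_ne_zero)).1 hd
    exact Nat.dvd_one.1 h3
  have hcyc : IsCyclic P := isCyclic_of_card_dvd_prime hPc
  have h1 : f a * f b = f b * f a :=
    congrArg Subtype.val (hcyc.isMulCommutative.is_comm.comm ⟨_, hmem a hap⟩ ⟨_, hmem b hbp⟩)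
  rw [← map_mul, ← map_mul, hf, QuotientGroup.mk'_eq_mk'] at h1
  obtain ⟨z, hz, e⟩ := h1
  obtain ⟨r, -, hr⟩ := Matrix.SpecialLinearGroup.mem_center_iff.1 hz
  have e1 := congrArg Subtype.val e
  rw [Matrix.SpecialLinearGroup.coe_mul, Matrix.SpecialLinearGroup.coe_mul,
    Matrix.SpecialLinearGroup.coe_mul, ← hr, show a.1 = !![1, 1; 0, 1] from rfl,
    show b.1 = !![1, 0; 1, 1] from rfl] at e1
  have h01 := congrFun (congrFun e1 0) 1
  have h00 := congrFun (congrFun e1 0) 0
  simp [Matrix.mul_apply, Fin.sum_univ_two] at h01 h00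
  rw [h01] at h00
  simp at h00

theorem exists_not_isPClosed_card_mul {p : ℕ} [hp : Fact p.Prime] {m : ℕ} (hm : IsPrimePow m)
    (hm1 : m % p = 1) :
    ∃ (H : Type) (_ : Group H) (_ : Finite H), Nat.card H = p * m ∧ ¬ IsPClosed p H := by
  obtain ⟨l, k, hl, hk, rfl⟩ := (isPrimePow_nat_iff _).1 hm
  have := Fact.mk hl
  let F := GaloisField l k
  have hF : Nat.card F = l ^ k := GaloisField.card l k hk.ne'
  obtain ⟨u, hu⟩ := exists_prime_orderOf_dvd_card' (G := Fˣ) p (by
    rw [Nat.card_units, hF]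
    exact (Nat.modEq_iff_dvd' (Nat.one_le_pow _ _ hl.pos)).1
      ((Nat.mod_eq_of_lt hp.out.one_lt).trans hm1.symm))
  let φ : zpowers u →* MulAut (Multiplicative F) :=
    ((MulAutMultiplicative F).symm.toMonoidHom.comp (DistribMulAction.toAddAut Fˣ F)).comp
      (zpowers u).subtype
  refine ⟨Multiplicative F ⋊[φ] zpowers u, inferInstance,
    Finite.of_equiv _ SemidirectProduct.equivProd.symm, ?_, fun h => ?_⟩
  · rw [SemidirectProduct.card, Nat.card_zpowers, hu, Nat.card_congr Multiplicative.toAdd, hF, mul_comm]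
  have : Finite (Multiplicative F ⋊[φ] zpowers u) := Finite.of_equiv _ SemidirectProduct.equivProd.symm
  have h1 : IsPGroup p (SemidirectProduct.inr : zpowers u →* Multiplicative F ⋊[φ] zpowers u).range := by
    rw [MonoidHom.range_eq_map]
    exact (IsPGroup.to_subgroup (IsPGroup.of_card (n := 1)
      (by rw [Nat.card_zpowers, hu, pow_one])) ⊤).map _
  obtain ⟨P, hP⟩ := h1.exists_le_sylow
  let x : Multiplicative F ⋊[φ] zpowers u := SemidirectProduct.inr ⟨u, mem_zpowers u⟩
  let y : Multiplicative F ⋊[φ] zpowers u := SemidirectProduct.inl (Multiplicative.ofAdd 1)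
  have hx : x ∈ P.toSubgroup := hP ⟨_, rfl⟩
  have h2 : x * (y * x⁻¹ * y⁻¹) ∈ P.toSubgroup :=
    P.toSubgroup.mul_mem hx ((h P).conj_mem _ (P.toSubgroup.inv_mem hx) _)
  have h3 : x * (y * x⁻¹ * y⁻¹) = SemidirectProduct.inl (Multiplicative.ofAdd ((u : F) - 1)) := by
    rw [← mul_assoc, ← mul_assoc, ← map_inv, ← SemidirectProduct.inl_aut, ← map_inv, ← map_mul]
    congr 1
    change Multiplicative.ofAdd ((u : F) * 1 + -1) = _
    rw [mul_one, sub_eq_add_neg]
  rw [h3] at h2
  obtain ⟨n, hn⟩ := P.isPGroup' ⟨_, h2⟩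
  have h4 := congrArg Subtype.val hn
  simp only [SubmonoidClass.mk_pow, OneMemClass.coe_one] at h4
  rw [← map_pow, map_eq_one_iff _ SemidirectProduct.inl_injective, ← ofAdd_nsmul, ofAdd_eq_one,
    nsmul_eq_mul, mul_eq_zero, Nat.cast_pow, sub_eq_zero] at h4
  rcases h4 with h4 | h4
  · have h5 := (CharP.cast_eq_zero_iff F l p).1 (pow_eq_zero_iff'.1 h4).1
    rw [(Nat.prime_dvd_prime_iff_eq hl hp.out).1 h5, (Nat.mod_eq_zero_of_dvd (dvd_pow_self p hk.ne'))] at hm1
    exact absurd hm1 (by norm_num)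
  · rw [Units.val_eq_one.1 h4, orderOf_one] at hu
    exact hp.out.ne_one hu.symm

theorem s3875_of (h999 : type_of% @Cfsg.CfsgFrozen.S0999.{0}) : type_of% @Cfsg.CfsgFrozen.S3875 := by
  intro p hp h2 m hm hm1 hleast
  refine ⟨fun H _ _ h => min_le_card_of_not_isPClosed h999 h2 hleast H h, ?_⟩
  rcases le_total (p * m) (p * (p ^ 2 - 1) / 2) with h | h
  · rw [min_eq_left h]; exact exists_not_isPClosed_card_mul hm hm1
  · rw [min_eq_right h]
    exact ⟨_, inferInstance, inferInstance, card_psl_two_prime hp.out h2 (ZMod p) (ZMod.card p),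
      not_isPClosed_psl_two h2⟩

end CL.Fgs
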