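/-
The theorem of Camina and Herzog: if every 2-element centralises a Sylow 2-subgroup, the Sylow 2-subgroups are
abelian (from the theorems of Goldschmidt and Bender).
-/
import Cfsg.Agent.Fgs.CorEq
import Cfsg.Agent.Abel2.Struct
import Cfsg.Agent.Gold.BenderStr
import Cfsg.Agent.Bender.LemmaX1
import Cfsg.Agent.Grp.NilpSub
import Cfsg.Statements.S4194
import Cfsg.Statements.S4355

set_option autoImplicit false
set_option linter.unusedSectionVars false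

open Cfsg Subgroup CL.Even CL.Grp CL.Loc CL.Abel2

namespace CL.Fgs

universe u

variable {G : Type*} [Group G] [Finite G]

/-- every 2-element centralises a Sylow 2-subgroup. -/
def TwoCen (G : Type*) [Group G] : Prop :=
  ∀ x : G, (∃ k : ℕ, x ^ 2 ^ k = 1) → ∃ Q : Subgroup G, IsSylowIn 2 Q ⊤ ∧ Q ≤ centralizer {x}

theorem mem_syl_of_cent {p : ℕ} [Fact p.Prime] {Q H : Subgroup G} (hQ : IsSylowIn p Q H) {x : G} (hx : x ∈ H)
    {k : ℕ} (hk : x ^ p ^ k = 1) (hn : x ∈ 𝒩(Q)) : x ∈ Q :=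
  (hQ.eq_of_le (isPGroup_sup' hQ.isPGroup (isPGroup_zpowers hk) (zpowers_le.2 hn)) le_sup_left
    (sup_le hQ.le (zpowers_le.2 hx))).le (mem_sup_right (mem_zpowers x))

theorem mem_cent_of_le_cent1 {Q : Subgroup G} {x : G} (h : Q ≤ centralizer {x}) : x ∈ 𝒞(Q) :=
  fun _ hy => mem_centralizer_singleton_iff.1 (h hy)

theorem TwoCen.quot (h : TwoCen G) (N : Subgroup G) [N.Normal] : TwoCen (G ⧸ N) := by
  rintro y ⟨k, hk⟩
  obtain ⟨S, hS⟩ := exists_isSylowIn (p := 2) (⊤ : Subgroup G)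
  obtain ⟨g, -, hg⟩ := syl_conj_le (sylIn_map_mk hS N) (isPGroup_zpowers hk) le_top
  obtain ⟨x, hx, e⟩ := hg (conj_mem_cj g (mem_zpowers y))
  obtain ⟨Q, hQ, hc⟩ := h x (isPGroup_iff_forall.1 hS.isPGroup x hx)
  have h1 := syl_cj (sylIn_map_mk hQ N) g⁻¹
  rw [cj_top] at h1
  refine ⟨_, h1, fun z hz => ?_⟩
  obtain ⟨w, hw, e'⟩ := mem_cj.1 hz
  have h2 := congrArg (QuotientGroup.mk' N) (mem_centralizer_singleton_iff.1 (hc hw))
  rw [map_mul, map_mul, e, e', inv_inv] at h2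
  exact mem_centralizer_singleton_iff.2 (by simpa using h2)

theorem TwoCen.normal (h : TwoCen G) (N : Subgroup G) [N.Normal] : TwoCen N := by
  rintro x ⟨k, hk⟩
  obtain ⟨Q, hQ, hc⟩ := h x ⟨k, congrArg Subtype.val hk⟩
  have h1 := hQ.inf_of_normalized (N := N) le_top (by rw [normalizer_eq_top])
  exact ⟨_, isSylowIn_top h1.toSylow, fun z hz => mem_centralizer_singleton_iff.2
    (Subtype.ext (mem_centralizer_singleton_iff.1 (hc hz.1)))⟩

theorem TwoCen.exists_conj (h : TwoCen G) {S : Subgroup G} (hS : IsSylowIn 2 S ⊤) {x : G} {k : ℕ}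
    (hk : x ^ 2 ^ k = 1) : ∃ g : G, g * x * g⁻¹ ∈ S ⊓ 𝒞(S) := by
  obtain ⟨Q, hQ, hc⟩ := h x ⟨k, hk⟩
  obtain ⟨g, -, rfl⟩ := syl_conj hQ hS
  have h1 := mem_cent_of_le_cent1 hc
  exact ⟨g, conj_mem_cj g (mem_syl_of_cent hQ trivial hk (cent_le_norm Q h1)), by
    rw [← cj_cent]; exact conj_mem_cj g h1⟩

/-- If `exp S` divides `2 ^ (n + 1)`, a conjugate in `S` of the `2 ^ n`-th power of a central element of `S` is
central in `S`, provided all 2-elements have exponent dividing `2 ^ (n + 1)`. -/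
theorem mho_central {S : Subgroup G} (hS : IsSylowIn 2 S ⊤) {n : ℕ} (he : ∀ x ∈ S, x ^ 2 ^ (n + 1) = 1)
    {x g : G} (hx : x ∈ S ⊓ 𝒞(S)) (hu : g * x ^ 2 ^ n * g⁻¹ ∈ S) : g * x ^ 2 ^ n * g⁻¹ ∈ 𝒞(S) := by
  have he' : ∀ P : Subgroup G, IsPGroup 2 P → ∀ y ∈ P, y ^ 2 ^ (n + 1) = 1 := fun P hP y hy => by
    obtain ⟨h, -, hh⟩ := syl_conj_le hS hP le_top
    have := he _ (hh (conj_mem_cj h hy))
    rwa [conj_pow, conj_eq_one_iff] at this
  set u := g * x ^ 2 ^ n * g⁻¹ with hudef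
  by_contra hne
  set R := S ⊓ centralizer {u} with hR
  have huR : u ∈ R := ⟨hu, mem_centralizer_singleton_iff.2 rfl⟩
  have hlt : R < S := lt_of_le_of_ne inf_le_left fun e => hne (mem_cent_of_le_cent1 (e.ge.trans inf_le_right))
  obtain ⟨t₀, ht₀, ht₀R⟩ := SetLike.exists_of_lt (lt_inf_normalizer_of_isPGroup hS.isPGroup hlt)
  obtain ⟨t, ht, htR, ht2⟩ : ∃ t ∈ S ⊓ 𝒩(R), t ∉ R ∧ t * t ∈ R := by
    have key : ∀ k : ℕ, ∀ t ∈ S ⊓ 𝒩(R), t ∉ R → t ^ 2 ^ k ∈ R → ∃ t ∈ S ⊓ 𝒩(R), t ∉ R ∧ t * t ∈ R := by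
      intro k
      induction k with
      | zero => exact fun t _ h1 h2 => absurd (by simpa using h2) h1
      | succ k ih =>
        intro t ht h1 h2
        by_cases h3 : t * t ∈ R
        · exact ⟨t, ht, h1, h3⟩
        · exact ih _ (mul_mem ht ht) h3 (by rwa [← pow_two, ← pow_mul, ← pow_succ'])
    exact key (n + 1) t₀ ht₀ ht₀R (by rw [he t₀ ht₀.1]; exact one_mem _)
  obtain ⟨T, hT, hle⟩ := exists_isSylowIn_ge (hS.isPGroup.to_inf_left (K := 𝒩(R))) inf_le_right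
  set M := R ⊔ 𝒞(R) with hM
  have hMn : 𝒩(R) ≤ 𝒩(M) := le_norm_sup le_rfl (norm_le_norm_cent R)
  have hMle : M ≤ 𝒩(R) := sup_le le_normalizer (cent_le_norm R)
  have hT0 := hT.inf_of_normalized hMle hMn
  have hMu : M ≤ centralizer {u} := sup_le inf_le_right fun y hy =>
    mem_centralizer_singleton_iff.2 (comm_of_mem hy huR).symm
  have hSg : IsSylowIn 2 (cj g S) (centralizer {u}) := by
    have h1 := syl_cj hS g
    rw [cj_top] at h1
    refine h1.of_le (fun y hy => mem_centralizer_singleton_iff.2 ?_) le_top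
    have := comm_of_mem (pow_mem hx.2 (2 ^ n)) (mem_cj.1 hy)
    calc y * u = g * (g⁻¹ * y * g * x ^ 2 ^ n) * g⁻¹ := by rw [hudef]; group
      _ = u * y := by rw [this, hudef]; group
  obtain ⟨c, hc, hcT⟩ := syl_conj_le hSg hT0.isPGroup (inf_le_right.trans hMu)
  set y := c⁻¹ * (g * x * g⁻¹) * c with hy
  have hyT : y ∈ 𝒞(T ⊓ M) := by
    intro z hz
    have h1 := comm_of_mem hx.2 (mem_cj.1 (hcT (conj_mem_cj c hz)))
    calc z * y = (c⁻¹ * g) * (g⁻¹ * (c * z * c⁻¹) * g * x) * (g⁻¹ * c) := by rw [hy]; group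
      _ = y * z := by rw [h1, hy]; group
  have hRT : R ≤ T ⊓ M := le_inf ((le_inf inf_le_left le_normalizer).trans hle) le_sup_left
  have hyu : y ^ 2 ^ n = u := by
    have h1 : y = c⁻¹ * (g * x * g⁻¹) * c⁻¹⁻¹ := by rw [inv_inv]
    rw [h1, conj_pow, conj_pow, ← hudef, inv_inv, mul_assoc, ← mem_centralizer_singleton_iff.1 hc,
      inv_mul_cancel_left]
  have hu2 : u * u = 1 := by rw [← pow_two, hudef, conj_pow, ← pow_mul, ← pow_succ, he x hx.1]; group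
  have hy0 : y ∈ T ⊓ M := mem_syl_of_cent hT0 (mem_sup_right (cent_mono hRT hyT)) (k := n + 1)
    (by rw [pow_succ, pow_mul, hyu, pow_two, hu2]) (cent_le_norm _ hyT)
  have htT : t ∈ T := hle ht
  have htn : t ∈ 𝒩(T ⊓ M) := le_norm_inf le_normalizer (hT.le.trans hMn) htT
  have hy1 : t * y * t⁻¹ ∈ T ⊓ M := Even.conj_mem htn hy0
  have hy2 : t * y * t⁻¹ ∈ 𝒞(T ⊓ M) := Even.conj_mem (norm_le_norm_cent _ htn) hyT
  have c1 : Commute y (t * y * t⁻¹) := comm_of_mem hy2 hy0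
  have c2 : Commute (y * (t * y * t⁻¹)) (t * t) :=
    Commute.mul_left (comm_of_mem hyT (hRT ht2)).symm (comm_of_mem hy2 (hRT ht2)).symm
  have e1 := he' T hT.isPGroup _ (mul_mem hy0.1 htT)
  rw [pow_succ', pow_mul, pow_two, show y * t * (y * t) = y * (t * y * t⁻¹) * (t * t) by group, c2.mul_pow,
    c1.mul_pow, conj_pow, hyu, ← pow_two, ← pow_mul, ← pow_succ', he t ht.1, mul_one] at e1
  refine htR ⟨ht.1, mem_centralizer_singleton_iff.2 ?_⟩
  calc t * u = (u * u) * (t * u * t⁻¹) * t := by rw [hu2]; group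
    _ = u * t := by rw [mul_assoc u u, e1, mul_one]

/-- the `2 ^ n`-th powers of the central elements of `S`. -/
def mhoZ (S : Subgroup G) (n : ℕ) : Subgroup G where
  carrier := {w | ∃ x ∈ S ⊓ 𝒞(S), x ^ 2 ^ n = w}
  one_mem' := ⟨1, one_mem _, one_pow _⟩
  mul_mem' := by
    rintro _ _ ⟨x, hx, rfl⟩ ⟨y, hy, rfl⟩
    exact ⟨x * y, mul_mem hx hy, Commute.mul_pow (comm_of_mem hy.2 hx.1) _⟩
  inv_mem' := by
    rintro _ ⟨x, hx, rfl⟩
    exact ⟨x⁻¹, inv_mem hx, inv_pow _ _⟩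

theorem mhoZ_le (S : Subgroup G) (n : ℕ) : mhoZ S n ≤ S ⊓ 𝒞(S) := by
  rintro _ ⟨x, hx, rfl⟩
  exact pow_mem hx _

theorem mhoZ_sc (S : Sylow 2 G) {n : ℕ} (he : ∀ x ∈ (S : Subgroup G), x ^ 2 ^ (n + 1) = 1) :
    IsStronglyClosed (mhoZ (S : Subgroup G) n) (S : Subgroup G) := by
  refine ⟨(mhoZ_le _ n).trans inf_le_left, ?_⟩
  rintro _ ⟨x, hx, rfl⟩ g hg
  obtain ⟨m, hm, e⟩ := CL.C2Low.exists_normalizer_conj S (x := x ^ 2 ^ n) (g := g)
    (fun s hs => comm_of_mem (pow_mem hx.2 _) hs)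
    fun s hs => comm_of_mem (mho_central (isSylowIn_top S) he hx hg) hs
  exact ⟨m * x * m⁻¹, ⟨Even.conj_mem hm hx.1, Even.conj_mem (norm_le_norm_cent _ hm) hx.2⟩, by rw [conj_pow, e]⟩

theorem TwoCen.exists_sc (h : TwoCen G) (S : Sylow 2 G) (h1 : (S : Subgroup G) ≠ ⊥) :
    ∃ A : Subgroup G, A ≠ ⊥ ∧ IsMulCommutative A ∧ IsStronglyClosed A (S : Subgroup G) := by
  classical
  have hex : ∃ k : ℕ, ∀ x ∈ (S : Subgroup G), x ^ 2 ^ k = 1 := by
    obtain ⟨k, hk⟩ := S.isPGroup'.exists_card_eq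
    exact ⟨k, fun x hx => hk ▸ orderOf_dvd_iff_pow_eq_one.1 (orderOf_dvd_natCard _ hx)⟩
  have h0 : Nat.find hex ≠ 0 := fun e => h1 (eq_bot_iff.2 fun x hx => by
    simpa [e] using Nat.find_spec hex x hx)
  obtain ⟨n, hn⟩ := Nat.exists_eq_succ_of_ne_zero h0
  have he : ∀ x ∈ (S : Subgroup G), x ^ 2 ^ (n + 1) = 1 := by
    have := Nat.find_spec hex
    rwa [hn] at this
  have hne := Nat.find_min hex (m := n) (by omega)
  push Not at hne
  obtain ⟨x, hx, hx1⟩ := hne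
  obtain ⟨g, hg⟩ := h.exists_conj (isSylowIn_top S) (he x hx)
  refine ⟨_, fun e => hx1 ?_, ⟨⟨fun a b => Subtype.ext (comm_of_mem (mhoZ_le _ n b.2).2 (mhoZ_le _ n a.2).1)⟩⟩,
    mhoZ_sc S he⟩
  have : (g * x * g⁻¹) ^ 2 ^ n ∈ mhoZ (S : Subgroup G) n := ⟨_, hg, rfl⟩
  rwa [e, mem_bot, conj_pow, conj_eq_one_iff] at this

theorem TwoCen.abSyl_of_core (h : TwoCen G) {V : Subgroup G} [V.Normal] (hV : IsPGroup 2 V)
    (hq : AbSyl (G ⧸ V)) : AbSyl G := by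
  obtain ⟨S, hS⟩ := exists_isSylowIn (p := 2) (⊤ : Subgroup G)
  have hVn : (⊤ : Subgroup G) ≤ 𝒩(V) := by rw [normalizer_eq_top]
  have hVS : V ≤ S := hS.le_of_normalized hV le_top hVn
  have hVc : V ≤ 𝒞(S) := le_centralizer_iff.1 fun x hx => by
    obtain ⟨Q, hQ, hc⟩ := h x (isPGroup_iff_forall.1 hS.isPGroup x hx)
    exact mem_cent_of_le_cent1 ((hQ.le_of_normalized hV le_top hVn).trans hc)
  refine abSyl_of_isSylowIn hS fun x hx => ?_
  obtain ⟨k, hk⟩ := isPGroup_iff_forall.1 hS.isPGroup x hx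
  obtain ⟨g, hg⟩ := h.exists_conj hS hk
  obtain ⟨m, hm, e⟩ := hq.fusion (sylIn_map_mk hS V) (mem_map_of_mem _ hx) (g := QuotientGroup.mk' V g) trivial
    (by rw [← map_inv, ← map_mul, ← map_mul]; exact mem_map_of_mem _ hg.1)
  obtain ⟨m, rfl⟩ := QuotientGroup.mk'_surjective V m
  have hmS : m ∈ 𝒩(S) := by
    have h1 := mem_comap.2 (mem_inf.1 hm).2
    rw [comap_normalizer_eq_of_surjective _ (QuotientGroup.mk'_surjective V), comap_map_eq,
      QuotientGroup.ker_mk', sup_eq_left.2 hVS] at h1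
    exact h1
  rw [← map_inv, ← map_mul, ← map_mul, ← map_inv, ← map_mul, ← map_mul, QuotientGroup.mk'_apply,
    QuotientGroup.mk'_apply, QuotientGroup.eq] at e
  have h2 : m * x * m⁻¹ ∈ 𝒞(S) := by
    have := mul_mem (mem_inf.1 hg).2 (inv_mem (hVc e))
    simpa [mul_assoc] using this
  simpa [mul_assoc] using Even.conj_mem' (norm_le_norm_cent _ hmS) h2

theorem TwoCen.mem_sup_cent (h : TwoCen G) {N : Subgroup G} [N.Normal] (hN : AbSyl N) (hO : pPrimeCoreOf 2 N = ⊥)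
    {x : G} {k : ℕ} (hk : x ^ 2 ^ k = 1) : x ∈ N ⊔ 𝒞(N) := by
  obtain ⟨Q, hQ, hc⟩ := h x ⟨k, hk⟩
  have hNn : (⊤ : Subgroup G) ≤ 𝒩(N) := by rw [normalizer_eq_top]
  have hQN := hQ.inf_of_normalized le_top hNn
  have hxc := mem_cent_of_le_cent1 (inf_le_left.trans hc : Q ⊓ N ≤ _)
  set H := N ⊔ zpowers x with hH
  set T := Q ⊓ N ⊔ zpowers x with hT
  have hxH : x ∈ H := mem_sup_right (mem_zpowers x)
  have hTH : IsSylowIn 2 T H := by
    refine ⟨sup_le_sup_right inf_le_right _,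
      isPGroup_sup' hQN.isPGroup (isPGroup_zpowers hk) (zpowers_le.2 (cent_le_norm _ hxc)), ?_⟩
    rw [CL.Bender.LX.relIndex_eq_of_mul (le_sup_left : N ≤ H) fun m hm => by
      obtain ⟨a, ha, b, hb, rfl⟩ := (mem_sup_nl (le_top.trans hNn)).1 hm
      exact ⟨a, ha, by rw [inv_mul_cancel_left]; exact mem_sup_right hb⟩]
    exact fun hd => hQN.not_dvd (hd.trans (relIndex_dvd_of_le_left N le_sup_left))
  have hab : Q ⊓ N ≤ 𝒞(Q ⊓ N) := fun a ha b hb =>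
    congrArg Subtype.val (hN.mul_comm' hQN.toSylow.isPGroup' (a := ⟨b, hb.2⟩) (b := ⟨a, ha.2⟩) hb ha)
  have hTc : T ≤ 𝒞(T) := by
    rw [hT, cent_sup]
    exact le_inf (sup_le hab (zpowers_le.2 hxc)) (sup_le (le_centralizer_iff.1 (zpowers_le.2 hxc))
      (zpowers x).le_centralizer)
  have hH' : AbSyl H := abSyl_of_sylow hTH.toSylow
    ⟨⟨fun a b => Subtype.ext (Subtype.ext (comm_of_mem (hTc b.2) a.2))⟩⟩
  have h1 := hH'.le_sup_cpc (K := N.subgroupOf H) (P := zpowers ⟨x, hxH⟩)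
    (isPGroup_zpowers (k := k) (Subtype.ext hk)) (by rw [normalizer_eq_top]; exact le_top) (mem_zpowers _)
  have h2 : pPrimeCoreOf 2 (N.subgroupOf H) = ⊥ := by
    rw [← map_eq_bot_iff_of_injective _ H.subtype_injective, map_pPrimeCoreOf_of_injective H.subtype_injective,
      map_subgroupOf_eq_of_le le_sup_left, hO]
  rw [cpc_eq_cent h2] at h1
  obtain ⟨a, ha, c, hc', e⟩ := (mem_sup_nr (by rw [normalizer_eq_top]; exact le_top)).1 h1
  rw [show x = a * c from (congrArg Subtype.val e).symm]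
  exact mul_mem (mem_sup_left ha) (mem_sup_right fun y hy =>
    congrArg Subtype.val (hc' (⟨y, mem_sup_left hy⟩ : H) hy))

theorem TwoCen.abSyl_simple (hGo : CL.C2Low.GoldThm.{u}) (hB : CL.Bender.BenderSplit.{u}) {G : Type u} [Group G]
    [Finite G] [IsSimpleGroup G] (h : TwoCen G) : AbSyl G := by
  by_cases hG : IsMulCommutative G
  · exact fun P _ a _ b _ => hG.1.1 b a
  obtain ⟨S⟩ := (inferInstance : Nonempty (Sylow 2 G))
  obtain ⟨A, h1, h2, h3⟩ := h.exists_sc S (CL.C2Low.sylow_ne_bot hG S)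
  rcases hGo S A h1 h2 h3 with h4 | ⟨M, hM⟩
  · exact abSyl_of_sylow S h4
  obtain ⟨T', B, hD⟩ := CL.Gold.benderData_top hB hM (CL.C2Low.hasFour_of_simple hG)
    (CL.C2Low.oddCore_eq_bot_of_simple hG) (isSylowIn_top S)
  refine abSyl_of_isSylowIn (isSylowIn_top S) fun x hx => ?_
  obtain ⟨k, hk⟩ := isPGroup_iff_forall.1 S.isPGroup' x hx
  obtain ⟨Q, hQ, hc⟩ := h x ⟨k, hk⟩
  have hxc := mem_cent_of_le_cent1 hc
  by_cases e : Q = S
  · exact e ▸ hxc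
  · rw [mem_bot.1 ((hD.ti Q hQ e).le ⟨hx, mem_syl_of_cent hQ trivial hk (cent_le_norm Q hxc)⟩)]
    exact one_mem _

theorem TwoCen.abSyl_aux (hGo : CL.C2Low.GoldThm.{u}) (hB : CL.Bender.BenderSplit.{u}) (n : ℕ) :
    ∀ (G : Type u) [Group G] [Finite G], Nat.card G = n → TwoCen G → AbSyl G := by
  induction n using Nat.strong_induction_on with
  | _ n ih =>
  intro G _ _ hn h
  have hq : ∀ (N : Subgroup G) [N.Normal], N ≠ ⊥ → AbSyl (G ⧸ N) := fun N _ hN =>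
    ih _ (by
      rw [← hn, card_eq_card_quotient_mul_card_subgroup N]
      exact lt_mul_of_one_lt_right Nat.card_pos ((one_lt_card_iff_ne_bot N).2 hN)) _ rfl (h.quot N)
  obtain ⟨S, hS⟩ := exists_isSylowIn (p := 2) (⊤ : Subgroup G)
  by_contra hab
  have hne : ⁅S, S⁆ ≠ ⊥ := fun e => hab (abSyl_of_isSylowIn hS (commutator_eq_bot_iff_le_centralizer.1 e))
  have hSS : (⁅S, S⁆ : Subgroup G) ≤ S := commutator_le_of_le_norm le_normalizer
  have hle : ∀ (N : Subgroup G) [N.Normal], N ≠ ⊥ → ⁅S, S⁆ ≤ N := fun N _ hN => by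
    rw [← QuotientGroup.ker_mk' N, ← Subgroup.map_eq_bot_iff, map_commutator, commutator_eq_bot_iff_le_centralizer]
    exact hq N hN _ (hS.isPGroup.map _)
  by_cases hs : IsSimpleGroup G
  · exact hab (h.abSyl_simple hGo hB)
  have hnt : Nontrivial G := by
    obtain ⟨x, -, hx⟩ := (bot_or_exists_ne_one _).resolve_left hne
    exact ⟨⟨x, 1, hx⟩⟩
  obtain ⟨N, hN, h1, h2⟩ : ∃ N : Subgroup G, N.Normal ∧ N ≠ ⊥ ∧ N ≠ ⊤ := by
    by_contra hc
    push Not at hc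
    exact hs ⟨fun N hN => or_iff_not_imp_left.2 (hc N hN)⟩
  have hNab : AbSyl N := ih _ (hn ▸ (Finite.card_subtype_lt (p := (· ∈ N))
    (Classical.choose_spec (not_forall.1 fun e => h2 ((eq_top_iff' N).2 e))))) N rfl (h.normal N)
  have hNn : (⊤ : Subgroup G) ≤ 𝒩(N) := by rw [normalizer_eq_top]
  have hO : pPrimeCoreOf 2 N = ⊥ := by
    by_contra hO
    have : (pPrimeCoreOf 2 N).Normal :=
      normalizer_eq_top_iff.1 (top_le_iff.1 (hNn.trans (normalizer_le_normalizer_pPrimeCoreOf 2 N)))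
    exact hne (eq_bot_iff.2 ((le_inf hSS (hle _ hO)).trans (inf_eq_bot_of_odd hS.isPGroup (odd_core N)).le))
  by_cases hC : 𝒞(N) = ⊥
  · refine hab (abSyl_of_isSylowIn hS fun x hx y hy => ?_)
    have hSN : S ≤ N := fun x hx => by
      obtain ⟨k, hk⟩ := isPGroup_iff_forall.1 hS.isPGroup x hx
      simpa [hC] using h.mem_sup_cent hNab hO hk
    exact congrArg Subtype.val (hNab.mul_comm' (hS.of_le hSN le_top).toSylow.isPGroup'
      (a := ⟨y, hSN hy⟩) (b := ⟨x, hSN hx⟩) hy hx)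
  have hZ : ⁅S, S⁆ ≤ N ⊓ 𝒞(N) := le_inf (hle N h1) (hle _ hC)
  have hV : ⁅S, S⁆ ≤ pCoreOf 2 (N ⊓ 𝒞(N)) := le_core hZ (hS.isPGroup.to_le hSS)
    (inf_le_right.trans ((cent_mono (hle N h1)).trans (cent_le_norm _)))
  have : (pCoreOf 2 (N ⊓ 𝒞(N))).Normal :=
    normalizer_eq_top_iff.1 (top_le_iff.1 (le_norm_core (le_norm_inf hNn (le_norm_cent hNn))))
  exact hab (h.abSyl_of_core (core_isP _) (hq _ fun e => hne (eq_bot_iff.2 (hV.trans e.le))))

theorem TwoCen.abSyl (hGo : CL.C2Low.GoldThm.{u}) (hB : CL.Bender.BenderSplit.{u}) {G : Type u} [Group G]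
    [Finite G] (h : TwoCen G) : AbSyl G := TwoCen.abSyl_aux hGo hB _ G rfl h

theorem s4194_of (hGo : CL.C2Low.GoldThm.{u}) (hB : CL.Bender.BenderSplit.{u}) :
    type_of% @Cfsg.CfsgFrozen.S4194.{u} := by
  intro G _ _ P
  refine ⟨fun h x ⟨k, hk⟩ => ?_, fun h => ?_⟩
  · have hx : IsPGroup 2 (zpowers x) := isPGroup_zpowers (k := k) (by rw [← hk, pow_orderOf_eq_one])
    obtain ⟨Q, hQ⟩ := hx.exists_le_sylow
    exact ⟨Q, (abSyl_of_sylow P h).le_cent_elt Q.isPGroup' (hQ (mem_zpowers x))⟩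
  · refine (TwoCen.abSyl hGo hB fun x ⟨k, hk⟩ => ?_).isMulCommutative P.isPGroup'
    obtain ⟨j, -, hj⟩ := (Nat.dvd_prime_pow Nat.prime_two).1 (orderOf_dvd_of_pow_eq_one hk)
    obtain ⟨Q, hQ⟩ := h x ⟨j, hj⟩
    exact ⟨Q, isSylowIn_top Q, hQ⟩

theorem s4355_of (hGo : CL.C2Low.GoldThm.{u}) (hB : CL.Bender.BenderSplit.{u}) :
    type_of% @Cfsg.CfsgFrozen.S4355.{u} := by
  intro G _ _ h P
  refine (TwoCen.abSyl hGo hB fun x ⟨k, hk⟩ => ?_).isMulCommutative P.isPGroup'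
  obtain ⟨j, -, hj⟩ := (Nat.dvd_prime_pow Nat.prime_two).1 (orderOf_dvd_of_pow_eq_one hk)
  obtain ⟨Q, hQ⟩ := exists_isSylowIn (p := 2) (centralizer {x})
  exact ⟨Q, hQ.of_not_dvd_relIndex le_top (by rw [relIndex_top_right]; exact h x ⟨j, hj⟩), hQ.le⟩

end CL.Fgs
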