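/-
Abelian 2-subgroups `H` such that every conjugate lies in `H O` with `O` an `H`-invariant subgroup of odd order:
basic properties and the case of a simple group.
-/
import Cfsg.Agent.Abel2.Main
import Cfsg.Agent.C2Low.Basic
import Cfsg.Agent.Gold.GSimple
import Cfsg.Agent.Inv.Dihedral

set_option autoImplicit false
set_option linter.unusedSectionVars false

open Cfsg Subgroup CL.Even CL.Grp CL.Loc CL.Abel2

namespace CL.Fgs

universe u

variable {G : Type*} [Group G] [Finite G]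

/-- `H` is an abelian 2-group and each conjugate of `H` lies in `H O` for an `H`-invariant odd subgroup `O`. -/
structure ECl (H : Subgroup G) : Prop where
  two : IsPGroup 2 H
  ab : H ≤ 𝒞(H)
  ex : ∀ g : G, ∃ O : Subgroup G, Odd (Nat.card O) ∧ H ≤ 𝒩(O) ∧ cj g H ≤ H ⊔ O

theorem ec_mem_of_odd {H K : Subgroup G} (hH : IsPGroup 2 H) (hn : H ≤ 𝒩(K)) {x : G} (hx : x ∈ H ⊔ K)
    (ho : Odd (orderOf x)) : x ∈ K := by
  have h1 : (K.subgroupOf (H ⊔ K)).Normal := ⟨fun y hy g => by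
    rw [mem_subgroupOf] at hy ⊢
    exact Even.conj_mem (sup_le hn le_normalizer g.2) hy⟩
  obtain ⟨k, hk⟩ := IsPGroup.iff_card.1 hH
  have h2 : K.relIndex (H ⊔ K) ∣ 2 ^ k := by
    rw [relIndex_sup_of_le_normalizer hn, ← hk]
    exact relIndex_dvd_card K H
  have h3 : (⟨x, hx⟩ : (H ⊔ K : Subgroup G)) ^ K.relIndex (H ⊔ K) ∈ K.subgroupOf (H ⊔ K) := pow_index_mem _ _
  exact Even.mem_of_pow_mem_of_coprime
    (Nat.Coprime.coprime_dvd_right h2 (Nat.Coprime.pow_right k (Nat.coprime_two_right.2 ho))) h3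

theorem ec_mem_of_two {H O P : Subgroup G} (hO : Odd (Nat.card O)) (hn : H ≤ 𝒩(O)) (hP : IsPGroup 2 P)
    (hHP : H ≤ P) {x : G} (hx : x ∈ H ⊔ O) (hxP : x ∈ P) : x ∈ H := by
  obtain ⟨a, ha, b, hb, rfl⟩ := (mem_sup_nr hn).1 hx
  have h1 : b ∈ P ⊓ O := ⟨by simpa using mul_mem (inv_mem (hHP ha)) hxP, hb⟩
  rw [inf_eq_bot_of_odd hP hO, mem_bot] at h1
  rwa [h1, mul_one]

namespace ECl
variable {H : Subgroup G}

theorem closed (h : ECl H) {P : Subgroup G} (hP : IsPGroup 2 P) (hHP : H ≤ P) {x g : G} (hx : x ∈ H)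
    (hg : g * x * g⁻¹ ∈ P) : g * x * g⁻¹ ∈ H := by
  obtain ⟨O, h1, h2, h3⟩ := h.ex g
  exact ec_mem_of_two h1 h2 hP hHP (h3 (conj_mem_cj g hx)) hg

theorem closed_norm (h : ECl H) {V : Subgroup G} (hV : IsPGroup 2 V) (hn : H ≤ 𝒩(V)) {x g : G} (hx : x ∈ H)
    (hg : g * x * g⁻¹ ∈ V) : g * x * g⁻¹ ∈ H :=
  h.closed (isPGroup_sup' hV h.two hn) le_sup_right hx (mem_sup_left hg)

theorem map (h : ECl H) {G' : Type*} [Group G'] [Finite G'] {f : G →* G'} (hf : Function.Surjective f) :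
    ECl (H.map f) := by
  refine ⟨h.two.map f, ?_, fun g => ?_⟩
  · rintro _ ⟨x, hx, rfl⟩ _ ⟨y, hy, rfl⟩
    rw [← map_mul, ← map_mul, h.ab hx y hy]
  · obtain ⟨g, rfl⟩ := hf g
    obtain ⟨O, h1, h2, h3⟩ := h.ex g
    refine ⟨O.map f, Odd.of_dvd_nat h1 (card_map_dvd O f), (map_mono h2).trans (le_normalizer_map f), ?_⟩
    intro y hy
    obtain ⟨x, hx, e⟩ := mem_cj.1 hy
    rw [← Subgroup.map_sup]
    exact ⟨_, h3 (conj_mem_cj g hx), by simp [e, mul_assoc]⟩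

theorem subgroupOf (h : ECl H) {K : Subgroup G} (hn : H ≤ 𝒩(K)) : ECl (H.subgroupOf K) := by
  refine ⟨h.two.comap_subtype, fun x hx y hy => Subtype.ext (h.ab hx y hy), fun g => ?_⟩
  obtain ⟨O, h1, h2, h3⟩ := h.ex g
  refine ⟨O.subgroupOf K, Odd.of_dvd_nat h1 (card_comap_dvd_of_injective O _ K.subtype_injective),
    fun x hx => mem_normalizer_iff.2 fun y => mem_normalizer_iff.1 (h2 hx) y, fun y hy => ?_⟩
  have h4 : (y : G) ∈ H ⊔ O := h3 (mem_cj.2 (mem_subgroupOf.1 (mem_cj.1 hy)))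
  obtain ⟨a, ha, b, hb, e⟩ := (mem_sup_nr h2).1 h4
  have hbK : b ∈ K := ec_mem_of_odd h.two hn (by
    rw [show b = a⁻¹ * y by rw [← e]; group]
    exact mul_mem (mem_sup_left (inv_mem ha)) (mem_sup_right y.2)) (odd_orderOf_of_mem h1 hb)
  have haK : a ∈ K := by
    rw [show a = y * b⁻¹ by rw [← e]; group]
    exact mul_mem y.2 (inv_mem hbK)
  rw [show y = ⟨a, haK⟩ * ⟨b, hbK⟩ from Subtype.ext e.symm]
  exact mul_mem (mem_sup_left ha) (mem_sup_right hb)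

/-- At most one element of `H` has a product of odd order with a given element of a conjugate. -/
theorem eq_of_odd (h : ECl H) {a a' b g : G} (ha : a ∈ H) (ha' : a' ∈ H) (hb : b ∈ cj g H)
    (h1 : Odd (orderOf (a * b))) (h2 : Odd (orderOf (a' * b))) : a = a' := by
  obtain ⟨O, o1, o2, o3⟩ := h.ex g
  have e1 := ec_mem_of_odd h.two o2 (mul_mem (mem_sup_left ha) (o3 hb)) h1
  have e2 := ec_mem_of_odd h.two o2 (mul_mem (mem_sup_left ha') (o3 hb)) h2
  have e3 : a * a'⁻¹ ∈ H ⊓ O := mem_inf.2 ⟨mul_mem ha (inv_mem ha'), by simpa [mul_assoc] using mul_mem e1 (inv_mem e2)⟩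
  rw [inf_eq_bot_of_odd h.two o1, mem_bot] at e3
  exact mul_inv_eq_one.1 e3

end ECl

/-- the conclusion -/
def ECc (H : Subgroup G) : Prop := ∀ g : G, cj g H ≤ H ⊔ pPrimeCore 2 G

theorem ECc.amb {H K : Subgroup G} (h : ECc (H.subgroupOf K)) {g : G} (hg : g ∈ K) :
    cj g (H ⊓ K) ≤ (H ⊓ K) ⊔ 𝒪(K) := by
  intro y hy
  have h1 := mem_cj.1 hy
  have hyK : y ∈ K := by simpa [mul_assoc] using mul_mem (mul_mem hg (mem_inf.1 h1).2) (inv_mem hg)
  have h2 : (⟨y, hyK⟩ : K) ∈ cj (⟨g, hg⟩ : K) (H.subgroupOf K) := mem_cj.2 (mem_inf.1 h1).1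
  have h3 := mem_map_of_mem K.subtype (h _ h2)
  rwa [Subgroup.map_sup, subgroupOf_map_subtype] at h3

section simple
variable [IsSimpleGroup G] {H : Subgroup G}

theorem ec_cent_ne_top (hG : ¬ IsMulCommutative G) {u : G} (hu : u ≠ 1) : centralizer ({u} : Set G) ≠ ⊤ := by
  intro e
  have h1 : u ∈ center G := mem_center_iff.2 fun g =>
    mem_centralizer_singleton_iff.1 (e.ge (mem_top g))
  rcases (inferInstance : (center G).Normal).eq_bot_or_eq_top with h | h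
  · exact hu (mem_bot.1 (h ▸ h1))
  · exact hG ⟨⟨fun a b => mem_center_iff.1 (h.ge (mem_top b)) a⟩⟩

theorem ECl.norm_ne_top (h : ECl H) (hG : ¬ IsMulCommutative G) (h1 : H ≠ ⊥) : 𝒩(H) ≠ ⊤ := fun e => by
  rcases (normalizer_eq_top_iff.1 e).eq_bot_or_eq_top with h2 | h2
  · exact h1 h2
  · exact hG ⟨⟨fun a b => h.ab (h2.ge (mem_top b)) a (h2.ge (mem_top a))⟩⟩

theorem ECl.exists_two_inv (h : ECl H) (hG : ¬ IsMulCommutative G) (h1 : H ≠ ⊥) :
    ∃ a ∈ H, ∃ a' ∈ H, orderOf a = 2 ∧ orderOf a' = 2 ∧ a ≠ a' := by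
  obtain ⟨k, hk⟩ := IsPGroup.iff_card.1 h.two
  have h2 : 2 ∣ Nat.card H := by
    rw [hk]
    refine dvd_pow_self 2 fun e => h1 ?_
    rw [e, pow_zero] at hk
    exact card_eq_one.1 hk
  obtain ⟨a, ha⟩ := exists_prime_orderOf_dvd_card' 2 h2
  have ha2 : orderOf (a : G) = 2 := by rw [orderOf_coe, ha]
  have hni := CL.C2Low.not_isolated_of_simple hG (a : G)
  simp only [IsIsolatedInvolution, ha2, true_and, not_forall] at hni
  obtain ⟨g, hc, hne⟩ := hni
  have hb : orderOf (g * a * g⁻¹) = 2 := by rw [← ha2]; exact MulEquiv.orderOf_eq (MulAut.conj g) (a : G)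
  obtain ⟨P, hP, hHP⟩ := exists_isSylowIn_ge h.two (h.ab.trans (cent_mono (zpowers_le.2 a.2)))
  obtain ⟨c, hc', hle⟩ := syl_conj_le hP (isPGroup_zpowers_two (mul_self_of_two hb))
    (zpowers_le.2 (show g * a * g⁻¹ ∈ 𝒞(zpowers (a : G)) from by
      rintro _ ⟨n, rfl⟩
      exact (hc.zpow_left n).eq))
  have h3 := hle (conj_mem_cj c (mem_zpowers _))
  rw [show c * (g * a * g⁻¹) * c⁻¹ = (c * g) * a * (c * g)⁻¹ by group] at h3
  refine ⟨a, a.2, _, h.closed hP.isPGroup hHP a.2 h3, ha2, ?_, fun e => hne ?_⟩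
  · rw [← ha2]; exact MulEquiv.orderOf_eq (MulAut.conj (c * g)) (a : G)
  · have h4 := comm_of_mem hc' (mem_zpowers (a : G))
    calc g * a * g⁻¹ = c⁻¹ * (c * g * a * (c * g)⁻¹) * c := by group
      _ = a := by rw [← e, mul_assoc, h4, inv_mul_cancel_left]

theorem ECl.false_of_se (h : ECl H) (hG : ¬ IsMulCommutative G) (h1 : H ≠ ⊥) {M : Subgroup G}
    (hM : IsStronglyEmbedded M) : False := by
  obtain ⟨a, ha, a', ha', o1, o2, hne⟩ := h.exists_two_inv hG h1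
  have uf := CL.Inv.SE.uniqueFix hM
  obtain ⟨x, hx⟩ := uf.exists_fix o1
  have hx' : a' • x = x := uf.smul_eq_of_commute o1 (h.ab ha a' ha') hx
  obtain ⟨g, hg⟩ : ∃ g : G, g • x ≠ x := by
    obtain ⟨m, hm⟩ : ∃ m, m ∉ M := by
      by_contra hc
      push Not at hc
      exact hM.1 ((eq_top_iff' M).2 hc)
    obtain ⟨y, rfl⟩ := QuotientGroup.mk_surjective x
    refine ⟨y * m * y⁻¹, fun e => hm ?_⟩
    rw [MulAction.Quotient.smul_mk, QuotientGroup.eq] at e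
    simpa [mul_assoc] using e
  have ob : orderOf (g * a * g⁻¹) = 2 := by rw [← o1]; exact MulEquiv.orderOf_eq (MulAut.conj g) a
  have hb : (g * a * g⁻¹) • g • x = g • x := by rw [mul_smul, mul_smul, inv_smul_smul, hx]
  exact hne (h.eq_of_odd ha ha' (conj_mem_cj g ha) (uf.odd_orderOf_mul o1 ob hx hb hg.symm)
    (uf.odd_orderOf_mul o2 ob hx' hb hg.symm))

theorem ec_mem_syl {S : Subgroup G} (hS : IsSylowIn 2 S ⊤) {z : G} (hz : z * z = 1) (hn : z ∈ 𝒩(S)) : z ∈ S :=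
  CL.Gold.mem_syl_of_norm hS (mem_top z) hn (k := 1) (by rw [pow_one, sq, hz])

theorem ECl.false_of_cent_le (h : ECl H) (hG : ¬ IsMulCommutative G) (h1 : H ≠ ⊥) (hS : IsSylowIn 2 H ⊤)
    (hc : ∀ u ∈ H, orderOf u = 2 → centralizer {u} ≤ 𝒩(H)) : False := by
  obtain ⟨a, ha, a', ha', o1, o2, hne⟩ := h.exists_two_inv hG h1
  obtain ⟨g, hg⟩ : ∃ g : G, g * a * g⁻¹ ∉ H := by
    by_contra hall
    push Not at hall
    have h2 : normalClosure ({a} : Set G) ≤ H := by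
      refine (closure_le _).2 fun y hy => ?_
      obtain ⟨x, hx, hxy⟩ := Group.mem_conjugatesOfSet_iff.1 hy
      obtain ⟨g, rfl⟩ := isConj_iff.1 hxy
      rw [Set.mem_singleton_iff.1 hx]
      exact hall g
    rcases (inferInstance : (normalClosure ({a} : Set G)).Normal).eq_bot_or_eq_top with h3 | h3
    · exact ne_one_of_two o1 (mem_bot.1 (h3 ▸ subset_normalClosure (Set.mem_singleton a)))
    · exact h.norm_ne_top hG h1 (top_le_iff.1 ((h3.ge.trans h2).trans le_normalizer))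
  have ob : orderOf (g * a * g⁻¹) = 2 := by rw [← o1]; exact MulEquiv.orderOf_eq (MulAut.conj g) a
  have key : ∀ c ∈ H, orderOf c = 2 → Odd (orderOf (c * (g * a * g⁻¹))) := fun c hcH oc => by
    refine Nat.not_even_iff_odd.1 fun he => hg ?_
    obtain ⟨z1, z2, z3⟩ := CL.Inv.half_pow_central (mul_self_of_two oc) (mul_self_of_two ob)
      (orderOf_pos _).ne' he
    have h2 := ec_mem_syl hS (mul_self_of_two z1) (hc c hcH oc (mem_centralizer_singleton_iff.2 z2.eq))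
    exact ec_mem_syl hS (mul_self_of_two ob) (hc _ h2 z1 (mem_centralizer_singleton_iff.2 z3.symm.eq))
  exact hne (h.eq_of_odd ha ha' (conj_mem_cj g ha) (key a ha o1) (key a' ha' o2))

end simple

end CL.Fgs
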