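/-
Extremely closed abelian 2-subgroups (S3017) from the theorems of Goldschmidt, Bender and Walter.
-/
import Cfsg.Agent.Fgs.CorEC1
import Cfsg.Agent.Abel2.PSLOdd
import Cfsg.Agent.Bender.Basic1
import Cfsg.Agent.S3020
import Cfsg.Statements.S3017

set_option autoImplicit false
set_option linter.unusedSectionVars false

open Cfsg Subgroup CL.Even CL.Grp CL.Loc CL.Abel2

namespace CL.Fgs

universe u

variable {G : Type*} [Group G] [Finite G]

theorem ec_conj_inv {a y : G} (h : a * y * a⁻¹ = y⁻¹) : y * a * y⁻¹ = y * y * a :=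
  calc y * a * y⁻¹ = y * (a * y * a⁻¹)⁻¹ * a := by group
    _ = _ := by rw [h, inv_inv]

section simple
variable [IsSimpleGroup G] {H : Subgroup G}

theorem ECl.false_of_four (h : ECl H) (hK : KProps G) (hS : IsSylowIn 2 H ⊤) (h4 : Nat.card H = 4)
    (hm : ∀ u : G, orderOf u = 2 → IsCoatom (centralizer ({u} : Set G)))
    (ih : ∀ u ∈ H, u ≠ 1 → ∀ g ∈ centralizer ({u} : Set G), cj g H ≤ H ⊔ 𝒪(centralizer ({u} : Set G))) :
    False := by
  have hG := hK.noncomm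
  obtain ⟨he, -, Y, hY⟩ := hK.ea H hS
  have hsq : ∀ a ∈ H, a * a = 1 := fun a ha => by rw [← sq]; exact he.2 a ha
  have h1 : H ≠ ⊥ := fun e => by rw [e, card_bot] at h4; omega
  have hC := hK.cent_le hS h4
  have hHC : ∀ a ∈ H, H ≤ centralizer {a} := fun a ha x hx => mem_centralizer_singleton_iff.2 (h.ab ha x hx)
  have F1 : ∀ a ∈ H, a ≠ 1 → centralizer {a} ≤ H ⊔ 𝒪(centralizer ({a} : Set G)) := fun a ha a1 g hg => by
    have hn : centralizer {a} ≤ 𝒩(H ⊔ 𝒪(centralizer ({a} : Set G))) := le_norm_of_cj_le fun c hc => by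
      rw [cj_sup]
      exact sup_le (ih a ha a1 c hc) ((cj_eq (le_normalizer_pPrimeCoreOf 2 _ hc)).le.trans le_sup_right)
    obtain ⟨n, hn', k, hk, rfl⟩ := frattini_mul (hS.of_le le_sup_left le_top)
      (sup_le (hHC a ha) (pPrimeCoreOf_le 2 _)) hn hg
    refine mul_mem (mem_sup_left ?_) hk
    have e : n * a * n⁻¹ = a := by rw [mem_centralizer_singleton_iff.1 (mem_inf.1 hn').1, mul_inv_cancel_right]
    have h2 := hC (CL.Gold.sq_mem_cent_of_four h4 hsq (mem_inf.1 hn').2 ha a1 e)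
    exact CL.Gold.mem_syl_of_norm hS (mem_top n) (mem_inf.1 hn').2 (k := 2) (by
      rw [show n ^ 2 ^ 2 = n * n * (n * n) by norm_num [pow_succ, mul_assoc], hsq _ h2])
  have F2 : ∀ a ∈ H, a ≠ 1 → ∀ x, Odd (orderOf x) → x ∈ centralizer {a} → x ∈ 𝒪(centralizer ({a} : Set G)) :=
    fun a ha a1 x ho hx => ec_mem_of_odd h.two ((hHC a ha).trans (le_normalizer_pPrimeCoreOf 2 _))
      (F1 a ha a1 hx) ho
  have F3 : ∀ a ∈ H, a ≠ 1 → ∃ x ∈ 𝒪(centralizer ({a} : Set G)), x ≠ 1 := fun a ha a1 => by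
    by_contra hall
    push Not at hall
    refine h.false_of_cent_le hG h1 hS fun u hu ou => (F1 u hu (ne_one_of_two ou)).trans
      (sup_le le_normalizer fun x hx => ?_)
    obtain ⟨y, -, e⟩ := hY.trans u hu a ha (ne_one_of_two ou) a1
    have h2 := hall (y * x * y⁻¹) (F2 a ha a1 _ (by
      rw [show orderOf (y * x * y⁻¹) = orderOf x from MulEquiv.orderOf_eq (MulAut.conj y) x]
      exact odd_orderOf_of_mem (odd_core _) hx) (mem_centralizer_singleton_iff.2 (by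
        have h3 := mem_centralizer_singleton_iff.1 (pPrimeCoreOf_le 2 _ hx)
        rw [← e]
        calc y * x * y⁻¹ * (y * u * y⁻¹) = y * (x * u) * y⁻¹ := by group
          _ = _ := by rw [h3]; group)))
    rw [conj_eq_one_iff.1 h2]
    exact one_mem _
  have F4 : ∀ a ∈ H, a ≠ 1 → ∀ b ∈ H, b ≠ 1 → b ≠ a → ∀ x ∈ 𝒪(centralizer ({a} : Set G)),
      b * x * b⁻¹ = x⁻¹ := fun a ha a1 b hb b1 ba => by
    refine (hK.inv a b (two_of_mul_self (hsq a ha) a1) (hsq b hb) (h.ab hb a ha)).resolve_left fun hc => ?_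
    obtain ⟨x, hx, x1⟩ := F3 a ha a1
    have e1 := mem_centralizer_singleton_iff.1 (pPrimeCoreOf_le 2 _ hx)
    have e2 := comm_of_mem hc hx
    have h2 : x ∈ H ⊓ 𝒪(centralizer ({a} : Set G)) := mem_inf.2 ⟨hC fun v hv => by
      rcases CL.Gold.mem_of_card_four h4 hsq ha hb a1 b1 ba hv with rfl | rfl | rfl | rfl
      · simp
      · exact e1.symm
      · exact e2.symm
      · rw [mul_assoc, ← e2, ← mul_assoc, ← e1, mul_assoc], hx⟩
    rw [inf_eq_bot_of_odd h.two (odd_core _), mem_bot] at h2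
    exact x1 h2
  have F5 : ∀ a ∈ H, a ≠ 1 → ∀ V ≤ 𝒪(centralizer ({a} : Set G)), V ≠ ⊥ → 𝒩(V) ≤ centralizer {a} :=
    fun a ha a1 V hV V1 => by
    obtain ⟨b, hb, b1, ba⟩ := CL.Gold.exists_third h4.ge a
    have hle : centralizer {a} ≤ 𝒩(V) := (F1 a ha a1).trans (sup_le (le_norm_of_cj_le fun c hc v hv => by
      rw [mem_cj] at hv
      have hv' := hV hv
      by_cases c1 : c = 1
      · simpa [c1] using hv
      by_cases ca : c = a
      · have e := mem_centralizer_singleton_iff.1 (pPrimeCoreOf_le 2 _ hv')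
        rw [← ca] at e
        rw [show v = c * (c⁻¹ * v * c) * c⁻¹ by group, ← e, mul_inv_cancel_right]
        exact hv
      · rw [show v = c * (c⁻¹ * v * c) * c⁻¹ by group, F4 a ha a1 c hc c1 ca _ hv']
        exact inv_mem hv) ((le_centralizer_iff.1 fun v hv x hx => ?_).trans (cent_le_norm V)))
    · refine ((hm a (two_of_mul_self (hsq a ha) a1)).le_iff.1 hle).elim (fun e => ?_) fun e => e.le
      exact absurd (CL.C2Low.eq_bot_of_normal_odd hG (normalizer_eq_top_iff.1 e) (odd_of_le hV (odd_core _))) V1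
    · have e := F4 a ha a1 b hb b1 ba _ (mul_mem hx (hV hv))
      rw [show b * (x * v) * b⁻¹ = b * x * b⁻¹ * (b * v * b⁻¹) by group, F4 a ha a1 b hb b1 ba _ hx,
        F4 a ha a1 b hb b1 ba _ (hV hv), ← mul_inv_rev, inv_inj] at e
      exact e.symm
  have F5' : ∀ a ∈ H, a ≠ 1 → ∀ x ∈ 𝒪(centralizer ({a} : Set G)), x ≠ 1 → ∀ c, c * x = x * c → c * a = a * c :=
    fun a ha a1 x hx x1 c hc => mem_centralizer_singleton_iff.1 (F5 a ha a1 (zpowers x) (zpowers_le.2 hx)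
      (zpowers_ne_bot.2 x1) (cent_le_norm _ (by
        rintro _ ⟨n, rfl⟩
        exact ((show Commute c x from hc).zpow_right n).eq.symm)))
  obtain ⟨a₁, ha₁, a₂, ha₂, o1, o2, hne⟩ := h.exists_two_inv hG h1
  have n1 := ne_one_of_two o1
  have n2 := ne_one_of_two o2
  have F6 : ∀ g : G, ∃ a ∈ H, a ≠ 1 ∧ cj g H ≤ centralizer {a} := fun g => by
    obtain ⟨O, hO, hn, hle⟩ := h.ex g
    by_cases e : O = ⊥
    · exact ⟨a₁, ha₁, n1, hle.trans (sup_le (hHC _ ha₁) (e.le.trans bot_le))⟩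
    obtain ⟨p, hp, -, hP⟩ := CL.Bender.exists_core_ne_bot_of_odd hO e
    have := Fact.mk hp
    set V := pCoreOf p O ⊓ 𝒞(pCoreOf p O) with hV
    have hVn : 𝒩(O) ≤ 𝒩(V) := le_norm_inf (norm_le_norm_core O) (le_norm_cent (norm_le_norm_core O))
    have V1 : V ≠ ⊥ := inf_cent_ne_bot (core_isP O) (core_isP O) le_normalizer hP
    have hVo : Odd (Nat.card V) := odd_of_le (inf_le_left.trans (core_le O)) hO
    have : IsMulCommutative H := ⟨⟨fun a b => Subtype.ext (h.ab b.2 a a.2)⟩⟩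
    obtain ⟨a, ha, a1, x, hx, x1⟩ : ∃ a ∈ H, a ≠ 1 ∧ ∃ x ∈ V ⊓ centralizer {a}, x ≠ 1 := by
      by_contra hall
      push Not at hall
      exact V1 (eq_bot_iff.2 (le_of_forall_centralizer_le (CL.Gold.not_isCyclic_of_four_le hsq h4.ge)
        (hn.trans hVn) (coprime_card_two h.two hVo) fun a ha a1 x hx => hall a ha a1 x hx))
    have hx' := F2 a ha a1 x (odd_orderOf_of_mem hVo (mem_inf.1 hx).1) (mem_inf.1 hx).2
    refine ⟨a, ha, a1, hle.trans (sup_le (hHC a ha) ((le_normalizer.trans hVn).trans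
      (F5 a ha a1 V (fun v hv => ?_) V1)))⟩
    exact F2 a ha a1 v (odd_orderOf_of_mem hVo hv) (mem_centralizer_singleton_iff.2
      (F5' a ha a1 x hx' x1 v (comm_of_mem (mem_inf.1 (mem_inf.1 hx).1).2 (mem_inf.1 hv).1)))
  obtain ⟨x, hx, x1⟩ := F3 a₁ ha₁ n1
  obtain ⟨y, hy, y1⟩ := F3 a₂ ha₂ n2
  have ex1 : Commute x a₁ := mem_centralizer_singleton_iff.1 (pPrimeCoreOf_le 2 _ hx)
  have ey2 : Commute y a₂ := mem_centralizer_singleton_iff.1 (pPrimeCoreOf_le 2 _ hy)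
  have e12 : Commute a₁ a₂ := h.ab ha₂ a₁ ha₁
  have ex2 := F4 a₁ ha₁ n1 a₂ ha₂ n2 hne.symm x hx
  have ey1 := F4 a₂ ha₂ n2 a₁ ha₁ n1 hne y hy
  have pow4 : ∀ z : G, Odd (orderOf z) → z ≠ 1 → z * z * (z * z) ≠ 1 := fun z ho z1 e => z1 (by
    have h2 : orderOf z ∣ 2 ^ 2 := orderOf_dvd_of_pow_eq_one (by rw [← e]; norm_num [pow_succ, mul_assoc])
    exact orderOf_eq_one_iff.1 (Nat.Coprime.eq_one_of_dvd (Nat.Coprime.pow_right 2
      (Nat.coprime_two_right.2 ho)) h2))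
  obtain ⟨c, hc⟩ : ∃ c, c = x * (y * a₁ * y⁻¹) * x⁻¹ := ⟨_, rfl⟩
  have hcb : Commute c (x * a₂ * x⁻¹) := by
    rw [hc]
    exact ((ey2.mul_left e12).mul_left ey2.inv_left).map (MulAut.conj x)
  have hc1 : ¬ Commute c a₁ := fun e => by
    have e1 : Commute (y * a₁ * y⁻¹) a₁ := by
      have := e.map (MulAut.conj x⁻¹)
      simp only [MulAut.conj_apply, hc] at this
      rwa [show x⁻¹ * (x * (y * a₁ * y⁻¹) * x⁻¹) * x⁻¹⁻¹ = y * a₁ * y⁻¹ by group, ex1.inv_left.eq, inv_inv,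
        inv_mul_cancel_right] at this
    rw [ec_conj_inv ey1] at e1
    have e2 := e1.mul_left (Commute.refl a₁).inv_left
    rw [mul_inv_cancel_right] at e2
    refine pow4 y (odd_orderOf_of_mem (odd_core _) hy) y1 ?_
    calc y * y * (y * y) = y * y * (y * y * a₁) * a₁⁻¹ := by group
      _ = y * y * ((a₁ * y * a₁⁻¹) * (a₁ * y * a₁⁻¹)) := by rw [e2.eq]; group
      _ = 1 := by rw [ey1]; group
  obtain ⟨a, ha, a1, hle⟩ := F6 (x * y)
  have hca : Commute c a := mem_centralizer_singleton_iff.1 (hle (by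
    have := conj_mem_cj (x * y) ha₁
    rwa [show x * y * a₁ * (x * y)⁻¹ = c by rw [hc]; group] at this))
  have eb := ec_conj_inv ex2
  have fin : ∀ w : G, Commute x w → w * w = 1 → Commute c (x * x * w) → False := fun w h2 h3 h5 => by
    have h6 := h5.mul_right h5
    rw [show x * x * w * (x * x * w) = x * x * (w * (x * x)) * w by group, ← (h2.mul_left h2).eq,
      show x * x * (x * x * w) * w = x * x * (x * x) * (w * w) by group, h3, mul_one] at h6
    exact hc1 (F5' a₁ ha₁ n1 _ (mul_mem (mul_mem hx hx) (mul_mem hx hx))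
      (pow4 x (odd_orderOf_of_mem (odd_core _) hx) x1) c h6)
  have h7 := hcb.mul_right hca
  rw [eb] at h7
  rcases CL.Gold.mem_of_card_four h4 hsq ha₁ ha₂ n1 n2 hne.symm ha with rfl | rfl | rfl | rfl
  · exact a1 rfl
  · exact hc1 hca
  · exact fin 1 (Commute.one_right x) (mul_one 1) (by rwa [mul_assoc, hsq _ ha₂] at h7)
  · exact fin a₁ ex1 (hsq _ ha₁) (by rwa [e12.eq, mul_assoc, ← mul_assoc a₂, hsq _ ha₂, one_mul] at h7)

theorem ECl.false_of_kProps (h : ECl H) (hK : KProps G) (h1 : H ≠ ⊥)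
    (ih : ∀ u ∈ H, u ≠ 1 → ∀ g ∈ centralizer ({u} : Set G), cj g H ≤ H ⊔ 𝒪(centralizer ({u} : Set G))) :
    False := by
  obtain ⟨S, hS, hHS⟩ := exists_isSylowIn_ge h.two (le_top : H ≤ ⊤)
  obtain ⟨-, -, Y, hY⟩ := hK.ea S hS
  obtain ⟨a, ha, a1⟩ := (bot_or_exists_ne_one H).resolve_left h1
  obtain rfl : H = S := le_antisymm hHS fun s hs => by
    by_cases s1 : s = 1
    · rw [s1]; exact one_mem _
    obtain ⟨y, -, rfl⟩ := hY.trans a (hHS ha) s hs a1 s1
    exact h.closed hS.isPGroup hHS ha hs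
  rcases hK.bal with hb | ⟨h4, hm⟩
  · refine h.false_of_cent_le hK.noncomm h1 hS fun u hu ou => le_norm_of_cj_le fun g hg => ?_
    have h2 := hb u ((𝒪(centralizer ({u} : Set G))).map MulAut.conj) ou
      (Odd.of_dvd_nat (odd_core _) (card_map_dvd _ _)) (by
        rintro _ ⟨x, hx, rfl⟩
        rw [MulAut.conj_apply, mem_centralizer_singleton_iff.1 (pPrimeCoreOf_le 2 _ hx), mul_inv_cancel_right])
      ((map_mono (le_normalizer_pPrimeCoreOf 2 _)).trans (le_normalizer_map _))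
    rw [map_eq_bot_iff_of_injective _ hK.conj_inj] at h2
    simpa [h2] using ih u hu (ne_one_of_two ou) g hg
  · exact h.false_of_four hK hS (h4 H hS) hm ih

end simple

theorem ec_eq_of_central {A M : Subgroup G} [M.Normal] (hA : IsPGroup 2 A) (hAM : A ≤ M) (hc : M ≤ 𝒞(A))
    (ho : Odd (A.relIndex M)) (hO : pPrimeCore 2 G = ⊥) : M ≤ A := by
  obtain ⟨k, hk⟩ := IsPGroup.iff_card.1 hA
  obtain ⟨X, h1, h2, -, h4⟩ := exists_complement_in hAM (hc.trans (cent_le_norm A))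
    (by rw [hk]; exact Nat.Coprime.pow_left k (Nat.coprime_two_left.2 ho))
  have h5 : X ≤ 𝒪(M) := le_pPrimeCoreOf h1 (h2.ge.trans (sup_le
    ((le_centralizer_iff.1 (h1.trans hc)).trans (cent_le_norm X)) le_normalizer))
    (by rw [h4]; exact Nat.coprime_two_right.2 ho)
  have h6 := pPrimeCoreOf_le_of_le_normalizer (p := 2) (le_top : M ≤ ⊤) (by rw [normalizer_eq_top])
  rw [pPrimeCoreOf_top, hO] at h6
  exact h2.ge.trans (sup_le le_rfl ((h5.trans h6).trans bot_le))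

theorem ECc.comap {H N : Subgroup G} [N.Normal] (h : ECc (H.map (QuotientGroup.mk' N))) (g : G) :
    cj g H ≤ H ⊔ (pPrimeCore 2 (G ⧸ N)).comap (QuotientGroup.mk' N) := by
  intro y hy
  have h1 := h (QuotientGroup.mk' N g) (mem_cj.2 (by
    rw [← map_inv, ← map_mul, ← map_mul]
    exact mem_map_of_mem _ (mem_cj.1 hy)) : QuotientGroup.mk' N y ∈ _)
  obtain ⟨_, ⟨a, ha, rfl⟩, b, hb, e⟩ := (mem_sup_nr (by rw [normalizer_eq_top]; exact le_top)).1 h1
  rw [show y = a * (a⁻¹ * y) by group]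
  refine mul_mem (mem_sup_left ha) (mem_sup_right (mem_comap.2 ?_))
  rwa [map_mul, map_inv, ← e, inv_mul_cancel_left]

theorem ECl.ecc (hGo : CL.C2Low.GoldThm.{u}) (hB : CL.Bender.BenderThm.{u}) (hW : Walter.{u}) (G : Type u)
    [Group G] [Finite G] : ∀ H : Subgroup G, ECl H → ECc H := by
  refine induction_on_card (P := fun X _ _ => ∀ H : Subgroup X, ECl H → ECc H) ?_ G
  intro G _ _ ih H h
  have hq : ∀ (N : Subgroup G) [N.Normal], N ≠ ⊥ → ∀ g, cj g H ≤ H ⊔ (pPrimeCore 2 (G ⧸ N)).comap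
      (QuotientGroup.mk' N) := fun N _ hN =>
    (ih _ (Grp.card_quotient_lt hN) _ (h.map (QuotientGroup.mk'_surjective N))).comap
  have hs : ∀ K : Subgroup G, K ≠ ⊤ → H ≤ 𝒩(K) → ∀ g ∈ K, cj g (H ⊓ K) ≤ (H ⊓ K) ⊔ 𝒪(K) :=
    fun K hK hn g hg => (ih _ (Grp.card_subgroup_lt hK) _ (h.subgroupOf hn)).amb hg
  by_cases hO : pPrimeCore 2 G = ⊥
  swap
  · intro g
    have := hq _ hO g
    rwa [comap_pPrimeCore_quotient (pPrimeCore_coprime 2 G)] at this
  by_cases h1 : H = ⊥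
  · intro g; rw [h1, cj_bot]; exact bot_le
  have htop : ∀ (N : Subgroup G) [N.Normal] (K : Subgroup G), K ≤ 𝒩(N) := fun N _ K => by
    rw [normalizer_eq_top]; exact le_top
  suffices hn : ∀ g, cj g H ≤ H from fun g => (hn g).trans le_sup_left
  by_cases hsimp : IsSimpleGroup G
  · by_cases hG : IsMulCommutative G
    · exact fun g y hy => by simpa [hG.1.1 g⁻¹ y] using mem_cj.1 hy
    exfalso
    obtain ⟨S, hS⟩ := h.two.exists_le_sylow
    rcases hGo S H h1 ⟨⟨fun a b => Subtype.ext (h.ab b.2 a a.2)⟩⟩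
      ⟨hS, fun x hx g hg => h.closed S.isPGroup' hS hx hg⟩ with h2 | ⟨M, hM⟩
    · refine h.false_of_kProps ((hW G hG (abSyl_of_sylow S h2)).kProps hB kPropsPSL) h1 fun u hu u1 g hg => ?_
      have hle : H ≤ centralizer {u} := fun x hx => mem_centralizer_singleton_iff.2 (h.ab hu x hx)
      simpa only [inf_eq_left.2 hle] using hs _ (ec_cent_ne_top hG u1) (hle.trans le_normalizer) g hg
    · exact h.false_of_se hG h1 hM
  by_cases hA : ∃ A : Subgroup G, A.Normal ∧ A ≠ ⊥ ∧ A ≤ H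
  · obtain ⟨A, _, A1, hAH⟩ := hA
    set M := (pPrimeCore 2 (G ⧸ A)).comap (QuotientGroup.mk' A) with hM
    have hAM : A ≤ M := fun a ha => mem_comap.2 (by
      rw [QuotientGroup.mk'_apply, (QuotientGroup.eq_one_iff a).2 ha]; exact one_mem _)
    have hHA : H ≤ 𝒞(A) := h.ab.trans (cent_mono hAH)
    have h2 : M ⊓ 𝒞(A) ≤ A := ec_eq_of_central (h.two.to_le hAH) (le_inf hAM (hAH.trans hHA)) inf_le_right (by
      rw [← card_map_mk']
      exact odd_of_le (map_le_iff_le_comap.2 inf_le_left) (odd_of_coprime_two (pPrimeCore_coprime 2 _))) hO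
    intro g y hy
    obtain ⟨a, ha, m, hm, rfl⟩ := (mem_sup_nr (htop M H)).1 (hq A A1 g hy)
    have h3 : a * m ∈ 𝒞(A) := cj_le_of_le hHA (htop _ ⊤ (mem_top g)) hy
    exact mul_mem ha (hAH (h2 (mem_inf.2 ⟨hm, by simpa using mul_mem (inv_mem (hHA ha)) h3⟩)))
  have hN : ∀ (N : Subgroup G) [N.Normal], N ≠ ⊤ → H ⊓ N = ⊥ := fun N _ hN => by
    by_contra hne
    have h2 := pPrimeCoreOf_le_of_le_normalizer (p := 2) (le_top : N ≤ ⊤) (htop N ⊤)
    rw [pPrimeCoreOf_top, hO, le_bot_iff] at h2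
    have h3 : H ⊓ N ≤ pCoreOf 2 N := le_core inf_le_right (h.two.to_inf_left) (le_norm_of_cj_le fun g hg => by
      simpa only [h2, sup_bot_eq] using hs N hN (htop N H) g hg)
    have h4 : (⊤ : Subgroup G) ≤ 𝒩(pCoreOf 2 N) := le_norm_core (htop N ⊤)
    exact hA ⟨H ⊓ N, ⟨fun x hx g => mem_inf.2 ⟨h.closed_norm (core_isP N) (le_top.trans h4) (mem_inf.1 hx).1
      (Even.conj_mem (h4 (mem_top g)) (h3 hx)), Normal.conj_mem inferInstance _ (mem_inf.1 hx).2 g⟩⟩, hne,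
      inf_le_left⟩
  have hnt : Nontrivial G := by
    obtain ⟨x, -, hx⟩ := (bot_or_exists_ne_one _).resolve_left h1
    exact ⟨⟨x, 1, hx⟩⟩
  obtain ⟨N, hNn, N1, N2⟩ : ∃ N : Subgroup G, N.Normal ∧ N ≠ ⊥ ∧ N ≠ ⊤ := by
    by_contra hc
    push Not at hc
    exact hsimp ⟨fun N hN => or_iff_not_imp_left.2 (hc N hN)⟩
  set M := (pPrimeCore 2 (G ⧸ N)).comap (QuotientGroup.mk' N) with hM
  have hMt : M ≠ ⊤ := fun e => h1 (by
    have h2 : H.map (QuotientGroup.mk' N) ≤ pPrimeCore 2 (G ⧸ N) := map_le_iff_le_comap.2 (le_top.trans e.ge)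
    have h3 := inf_pPrimeCore_eq_bot (h.two.map (QuotientGroup.mk' N))
    rw [inf_eq_left.2 h2, Subgroup.map_eq_bot_iff, QuotientGroup.ker_mk'] at h3
    rw [← hN N N2, inf_eq_left.2 h3])
  have hHM : H ⊔ M = ⊤ := by
    by_contra hne
    have : (H ⊔ M).Normal := normalizer_eq_top_iff.1 (top_le_iff.1 (le_norm_of_cj_le fun g _ => by
      rw [cj_sup]
      exact sup_le (hq N N1 g) ((cj_eq (htop M ⊤ (mem_top g))).le.trans le_sup_right)))
    exact h1 (by rw [← hN _ hne, inf_eq_left.2 le_sup_left])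
  obtain ⟨S, hS, hHS⟩ := exists_isSylowIn_ge h.two (le_top : H ≤ ⊤)
  intro g y hy
  have h2 := CL.Gold.zstar_amb hS hHS (fun x hx k _ hk => by
    obtain ⟨m, hm, a, ha, rfl⟩ := (mem_sup_nl (htop M H)).1 ((sup_comm H M ▸ hHM).ge (mem_top k))
    have e : m * a * x * (m * a)⁻¹ = m * x * m⁻¹ := by rw [mul_assoc m, ← h.ab ha x hx]; group
    have h3 : m * a * x * (m * a)⁻¹ * x⁻¹ ∈ H ⊓ M := mem_inf.2 ⟨mul_mem (h.closed hS.isPGroup hHS hx hk)
      (inv_mem hx), by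
        rw [e, show m * x * m⁻¹ * x⁻¹ = m * (x * m⁻¹ * x⁻¹) by group]
        exact mul_mem hm (Normal.conj_mem inferInstance _ (inv_mem hm) x)⟩
    rw [hN M hMt, mem_bot] at h3
    exact mul_inv_eq_one.1 h3) (mem_cj.1 hy) (mem_top g)
  rw [pPrimeCoreOf_top, hO, mem_bot, mul_inv_eq_one, mul_inv_eq_iff_eq_mul] at h2
  rw [show y = g * (g⁻¹ * y * g) * g⁻¹ by group, ← h2, mul_inv_cancel_right]
  exact mem_cj.1 hy

theorem s3017_of (hGo : CL.C2Low.GoldThm.{u}) (hB : CL.Bender.BenderThm.{u}) (hW : Walter.{u}) :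
    type_of% @Cfsg.CfsgFrozen.S3017.{u} := by
  intro G _ _ H h2 hab hcl
  have h : ECl H := ⟨h2, fun x hx y hy => congrArg Subtype.val (hab.1.1 (⟨y, hy⟩ : H) ⟨x, hx⟩), fun g =>
    ⟨𝒪(H ⊔ cj g H), odd_core _, le_sup_left.trans (le_normalizer_pPrimeCoreOf 2 _),
      le_sup_right.trans (Cfsg.Agent.S3020.result H h2 hab hcl g _ rfl).1.ge⟩⟩
  have h3 := h.ecc hGo hB hW G H
  have hn : (⊤ : Subgroup G) ≤ 𝒩(pPrimeCore 2 G) := by rw [normalizer_eq_top]
  have h4 : (⊤ : Subgroup G) ≤ 𝒩(H ⊔ pPrimeCore 2 G) := le_norm_of_cj_le fun g _ => by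
    rw [cj_sup]
    exact sup_le (h3 g) ((cj_eq (hn (mem_top g))).le.trans le_sup_right)
  have hS : IsSylowIn 2 H (H ⊔ pPrimeCore 2 G) := isSylowIn_of_maximal le_sup_left h2 fun U hU h5 h6 =>
    le_antisymm (fun x hx => ec_mem_of_two (odd_of_coprime_two (pPrimeCore_coprime 2 G)) (le_top.trans hn) hU h5
      (h6 hx) hx) h5
  refine eq_top_iff.2 ((frattini_sup hS le_top h4).ge.trans (sup_le (inf_le_right.trans le_sup_left)
    (sup_le (le_normalizer.trans le_sup_left) le_sup_right)))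

end CL.Fgs
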