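/-
Simple groups whose 2-elements are irrational (from the theorems of Goldschmidt, Bender and Walter).
-/
import Cfsg.Agent.C2Low.Cond2
import Cfsg.Agent.C2Low.BenderSyl
import Cfsg.Agent.Cit.Cor1
import Cfsg.Agent.Cls.SL2Sub
import Cfsg.Statements.S0506
import Cfsg.Statements.S4030

set_option autoImplicit false

open Cfsg Subgroup CL.Even CL.Grp CL.C2Low

namespace CL.Fgs

universe u

variable {G : Type*} [Group G]

/-- the elements of square one of `S`, when they commute. -/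
def sqOneSub (S : Subgroup G) (h : ∀ x ∈ S, ∀ y ∈ S, x * x = 1 → y * y = 1 → x * y = y * x) : Subgroup G where
  carrier := {x | x ∈ S ∧ x * x = 1}
  one_mem' := ⟨S.one_mem, one_mul 1⟩
  mul_mem' := fun {x y} hx hy => ⟨S.mul_mem hx.1 hy.1, by
    calc x * y * (x * y) = x * (y * x) * y := by group
      _ = 1 := by rw [← h x hx.1 y hy.1 hx.2 hy.2, ← mul_assoc, hx.2, one_mul, hy.2]⟩
  inv_mem' := fun {x} hx => ⟨S.inv_mem hx.1, by rw [← mul_inv_rev, hx.2, inv_one]⟩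

theorem sqOneSub_sc (S : Subgroup G) (h : ∀ x ∈ S, ∀ y ∈ S, x * x = 1 → y * y = 1 → x * y = y * x) :
    IsStronglyClosed (sqOneSub S h) S :=
  ⟨fun _ hx => hx.1, fun x hx g hg => ⟨hg, by simp [hx.2]⟩⟩

theorem sqOneSub_comm (S : Subgroup G) (h : ∀ x ∈ S, ∀ y ∈ S, x * x = 1 → y * y = 1 → x * y = y * x) :
    IsMulCommutative (sqOneSub S h) :=
  ⟨⟨fun x y => Subtype.ext (h _ x.2.1 _ y.2.1 x.2.2 y.2.2)⟩⟩

theorem mem_norm_zpowers_of_conj_inv [Finite G] {y x : G} (h : y * x * y⁻¹ = x⁻¹) : y ∈ 𝒩(zpowers x) :=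
  mem_norm_of_cj_le (by
    rw [MonoidHom.map_zpowers, zpowers_le]
    exact (show y * x * y⁻¹ ∈ zpowers x from h ▸ inv_mem (mem_zpowers x)))

theorem four_le_of_psl [IsSimpleGroup G] (hG : ¬ IsMulCommutative G) {F : Type*} [Field F] [Fintype F]
    (e : G ≃* Matrix.ProjectiveSpecialLinearGroup (Fin 2) F) : 4 ≤ Fintype.card F := by
  by_contra h
  have := CL.SL2.isSolvable_psl (F := F) (by omega)
  have : Group.IsSolvable G := Group.isSolvable_of_isSolvable_injective (f := e.toMonoidHom) e.injective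
  exact hG ⟨⟨IsSimpleGroup.comm_iff_isSolvable.2 this⟩⟩

theorem s4030_of (hGo : GoldThm.{u}) (hB : CL.Bender.BenderThm.{u}) (h506 : type_of% @Cfsg.CfsgFrozen.S0506.{u}) :
    type_of% @Cfsg.CfsgFrozen.S4030.{u} := by
  intro G _ _ _ hG hirr
  have key : ∀ x y : G, (∃ k : ℕ, x ^ 2 ^ k = 1) → y * x * y⁻¹ = x⁻¹ → y * x = x * y := fun x y ⟨k, hk⟩ h =>
    mem_centralizer_singleton_iff.1 (hirr x (fun r hr hd => (Nat.prime_dvd_prime_iff_eq hr Nat.prime_two).1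
      (hr.dvd_of_dvd_pow (hd.trans (orderOf_dvd_of_pow_eq_one hk)))) (mem_norm_zpowers_of_conj_inv h))
  obtain ⟨S⟩ := (inferInstance : Nonempty (Sylow 2 G))
  have hc : ∀ x ∈ (S : Subgroup G), ∀ y ∈ (S : Subgroup G), x * x = 1 → y * y = 1 → x * y = y * x :=
    fun x hx y hy h1 h2 => by
      have h3 := key (x * y) x (isPGroup_iff_forall.1 S.isPGroup' _ (mul_mem hx hy)) (by
        rw [mul_inv_rev, inv_eq_of_mul_eq_one_right h1, inv_eq_of_mul_eq_one_right h2, ← mul_assoc, h1, one_mul])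
      exact (mul_left_cancel (a := x) (by rw [h3, mul_assoc])).symm
  have hps : ∀ n : ℕ, 2 ≤ n → CL.Abel2.IsPSL2 G (2 ^ n) → ∃ (F : Type) (_ : Field F) (_ : Fintype F),
      4 ≤ Fintype.card F ∧ (Fintype.card F % 8 = 0 ∨ Fintype.card F % 8 = 3 ∨ Fintype.card F % 8 = 5) ∧
      Nonempty (G ≃* Matrix.ProjectiveSpecialLinearGroup (Fin 2) F) := fun n hn h => by
    obtain ⟨F, i1, i2, h1, ⟨e⟩⟩ := isPSL2_mod_eight hn h
    exact ⟨F, i1, i2, four_le_of_psl hG e, h1, ⟨e⟩⟩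
  have hne : sqOneSub (S : Subgroup G) hc ≠ ⊥ := fun e => by
    obtain ⟨t, ht, h2⟩ := CL.Inv.SE.exists_inv_of_isPGroup S.isPGroup' (sylow_ne_bot hG S)
    exact CL.Inv.SE.ne_one_of_inv h2 (mem_bot.1 (e.le ⟨ht, CL.Inv.SE.mul_self_of_inv h2⟩))
  rcases gold_bender hGo hB hG S hne (sqOneSub_comm _ hc) (sqOneSub_sc _ hc) with h | h
  · rcases h506 hG S h with ⟨a, ha, h⟩ | ⟨F, i1, i2, h1, ⟨e⟩⟩ | h | h
    · exact Or.inl (hps a ha h)
    · exact Or.inl ⟨F, i1, i2, four_le_of_psl hG e, Or.inr h1, ⟨e⟩⟩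
    · exact Or.inr (Or.inr (Or.inl h))
    · exact Or.inr (Or.inr (Or.inr h))
  rcases h with ⟨F, i1, i2, ⟨n, hn, hF⟩, e⟩ | h | ⟨F, i1, i2, n, hn, hF, ⟨e⟩⟩
  · exact Or.inl (hps n hn ⟨F, i1, i2, hF, e⟩)
  · exact Or.inr (Or.inl (CL.Cit.isSuzuki_of_isoSuzuki h))
  exfalso
  have : Finite (Cfsg.PSU 3 F (2 ^ n)) := Finite.of_equiv G e.toEquiv
  obtain ⟨P⟩ := (inferInstance : Nonempty (Sylow 2 (Cfsg.PSU 3 F (2 ^ n))))
  have hU := u3Syl_psu hF P
  obtain ⟨x, hx, h1⟩ := hU.exists_sq_ne (by calc 2 = 2 ^ 1 := rfl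
    _ ≤ 2 ^ n := Nat.pow_le_pow_right two_pos (by omega))
  obtain ⟨y, -, h2⟩ := hU.comm x hx h1 (x * x) (mul_mem hx hx) (hU.sq x hx)
  have h3 : y * x * y⁻¹ = x⁻¹ := by
    have : y * x⁻¹ * y⁻¹ = x := mul_left_cancel (a := x) (by rw [← h2]; group)
    rw [← inv_inv (y * x * y⁻¹), conj_inv, this]
  have h4 := key (e.symm x) (e.symm y) ⟨2, by
    rw [← map_pow, show x ^ 2 ^ 2 = x * x * (x * x) by simp [pow_succ, mul_assoc], hU.sq x hx, map_one]⟩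
    (by rw [← map_inv, ← map_mul, ← map_mul, h3, map_inv])
  rw [← map_mul, ← map_mul, e.symm.apply_eq_iff_eq] at h4
  rw [h4, mul_inv_cancel_right] at h3
  exact h1 (by nth_rewrite 2 [h3]; rw [mul_inv_cancel])

end CL.Fgs
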