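/-
Modules over `ZMod p` with a fixed-point-free endomorphism of prime order `q`; building
automorphisms of a split extension by a cyclic group.
-/
import Cfsg.Agent.Base

namespace CL.Fgs

open Polynomial

section lin

variable {F V : Type*} [Field F] [AddCommGroup V] [Module F V]

theorem map_aeval_of_comm {W : Type*} [AddCommGroup W] [Module F W] {φ : Module.End F V}
    {ψ : Module.End F W} {β : V →ₗ[F] W} (h : ∀ u, β (φ u) = ψ (β u)) (g : F[X]) (u : V) :
    β (aeval φ g u) = aeval ψ g (β u) := by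
  have hp : ∀ (n : ℕ) (u : V), β ((φ ^ n) u) = (ψ ^ n) (β u) := by
    intro n
    induction n with
    | zero => intro u; simp
    | succ n ih => intro u; rw [pow_succ, pow_succ, Module.End.mul_apply, Module.End.mul_apply, ih, h]
  induction g using Polynomial.induction_on' with
  | add a b ha hb => simp only [map_add, LinearMap.add_apply, ha, hb]
  | monomial n a => simp [aeval_monomial, hp]

/-- the cyclic submodule generated by a vector -/
noncomputable def endCyc (φ : Module.End F V) (v : V) : Submodule F V :=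
  LinearMap.range ((LinearMap.applyₗ v).comp (aeval φ : F[X] →ₐ[F] Module.End F V).toLinearMap)

theorem mem_endCyc {φ : Module.End F V} {v w : V} : w ∈ endCyc φ v ↔ ∃ g : F[X], aeval φ g v = w := by
  simp [endCyc]

theorem self_mem_endCyc (φ : Module.End F V) (v : V) : v ∈ endCyc φ v :=
  mem_endCyc.2 ⟨1, by simp⟩

theorem endCyc_le_of_mem {φ : Module.End F V} {v w : V} (h : w ∈ endCyc φ v) :
    endCyc φ w ≤ endCyc φ v := by
  obtain ⟨g, rfl⟩ := mem_endCyc.1 h
  intro u hu
  obtain ⟨g', rfl⟩ := mem_endCyc.1 hu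
  exact mem_endCyc.2 ⟨g' * g, by simp⟩

/-- If all cyclic submodules generated by nonzero vectors have the same size, every polynomial in
`φ` is zero or injective. -/
theorem aeval_eq_zero_of_card_endCyc [Finite V] {φ : Module.End F V}
    (h : ∀ v w : V, v ≠ 0 → w ≠ 0 → Nat.card (endCyc φ v) ≤ Nat.card (endCyc φ w))
    {g : F[X]} {v : V} (hv : v ≠ 0) (hg : aeval φ g v = 0) : aeval φ g = 0 := by
  have key : ∀ v w : V, w ≠ 0 → w ∈ endCyc φ v → endCyc φ w = endCyc φ v := by
    intro v w hw hm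
    have hv : v ≠ 0 := by
      rintro rfl
      obtain ⟨g, hg⟩ := mem_endCyc.1 hm
      exact hw (by rw [← hg]; simp)
    apply SetLike.coe_injective
    exact Set.eq_of_subset_of_ncard_le (endCyc_le_of_mem hm) (h v w hv hw)
  ext w
  by_contra hw
  simp only [LinearMap.zero_apply] at hw
  have h1 : aeval φ g w ∈ endCyc φ (v + w) := mem_endCyc.2 ⟨g, by rw [map_add, hg, zero_add]⟩
  have h2 : aeval φ g w ∈ endCyc φ w := mem_endCyc.2 ⟨g, rfl⟩
  have h3 : endCyc φ (v + w) = endCyc φ w := (key _ _ hw h1).symm.trans (key _ _ hw h2)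
  have h4 : v ∈ endCyc φ w := by
    have := Submodule.sub_mem _ (h3 ▸ self_mem_endCyc φ (v + w)) (self_mem_endCyc φ w)
    simpa using this
  have h5 : w ∈ endCyc φ v := (key _ _ hv h4) ▸ self_mem_endCyc φ w
  obtain ⟨s, hs⟩ := mem_endCyc.1 h5
  apply hw
  rw [← hs, ← Module.End.mul_apply, ← map_mul, mul_comm, map_mul, Module.End.mul_apply, hg, map_zero]

theorem aeval_cyclotomic_eq_zero_of_fpf {q : ℕ} [Fact q.Prime] {φ : Module.End F V}
    (hq : φ ^ q = 1) (hf : ∀ v, φ v = v → v = 0) : aeval φ (cyclotomic q F) = 0 := by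
  have h1 : (φ - 1) * aeval φ (cyclotomic q F) = 0 := by
    have := congrArg (aeval φ) (cyclotomic_prime_mul_X_sub_one F q)
    rw [mul_comm, map_mul] at this
    simpa [hq] using this
  ext v
  apply hf
  have := congrArg (fun f : Module.End F V => f v) h1
  simpa [sub_eq_zero] using this

end lin

theorem orderOf_natCast_zmod_eq {p q : ℕ} (h : p.Coprime q) :
    orderOf (p : ZMod q) = orderOf (ZMod.unitOfCoprime p h) := by
  rw [← orderOf_units, ZMod.coe_unitOfCoprime]

/-- primitive root criterion -/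
theorem orderOf_eq_of_transitive {p q : ℕ} [hp : Fact p.Prime] [hq : Fact q.Prime] (hpq : p ≠ q)
    {V : Type*} [AddCommGroup V] [Module (ZMod p) V] [Finite V] [Nontrivial V]
    {φ : Module.End (ZMod p) V} (hφ : φ ^ q = 1) (hf : ∀ v, φ v = v → v = 0)
    (h1 : ∀ v w : V, v ≠ 0 → w ≠ 0 → ∃ (β : V →ₗ[ZMod p] V) (k : ℕ), Function.Injective β ∧
      β v = w ∧ ∀ u, β (φ u) = (φ ^ k) (β u))
    (h2 : ∀ k : ℕ, 0 < k → k < q → ∃ β : V →ₗ[ZMod p] V, Function.Injective β ∧
      ∀ u, β (φ u) = (φ ^ k) (β u)) : orderOf (p : ZMod q) = q - 1 := by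
  classical
  have hc : ∀ v w : V, v ≠ 0 → w ≠ 0 → Nat.card (endCyc φ v) ≤ Nat.card (endCyc φ w) := by
    intro v w hv hw
    obtain ⟨β, k, hβ, hvw, hk⟩ := h1 v w hv hw
    refine Nat.card_le_card_of_injective (fun u : endCyc φ v => (⟨β u, ?_⟩ : endCyc φ w)) ?_
    · obtain ⟨g, hg⟩ := mem_endCyc.1 u.2
      refine mem_endCyc.2 ⟨g.comp (X ^ k), ?_⟩
      rw [← hg, map_aeval_of_comm hk, hvw, aeval_comp]; simp
    · intro a b hab
      exact Subtype.ext (hβ (congrArg Subtype.val hab))
  have : Module.Finite (ZMod p) V := Module.Finite.of_finite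
  have hint : IsIntegral (ZMod p) φ := LinearMap.isIntegral φ
  set f := minpoly (ZMod p) φ with hfdef
  have hprime : Prime f := by
    refine ⟨minpoly.ne_zero hint, minpoly.not_isUnit _ _, fun a b hab => ?_⟩
    have h0 : aeval φ (a * b) = 0 := minpoly.dvd_iff.1 hab
    by_cases hb : aeval φ b = 0
    · exact Or.inr (minpoly.dvd _ _ hb)
    · left
      obtain ⟨v, hv⟩ : ∃ v, aeval φ b v ≠ 0 := by
        by_contra hcon
        push Not at hcon
        exact hb (LinearMap.ext hcon)
      refine minpoly.dvd _ _ (aeval_eq_zero_of_card_endCyc hc hv ?_)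
      rw [← Module.End.mul_apply, ← map_mul, h0]; rfl
  have hirr : Irreducible f := hprime.irreducible
  have hdvd : f ∣ cyclotomic q (ZMod p) := minpoly.dvd _ _ (aeval_cyclotomic_eq_zero_of_fpf hφ hf)
  have hcop : p.Coprime q := (Nat.coprime_primes hp.out hq.out).2 hpq
  have hdeg := natDegree_of_dvd_cyclotomic_of_irreducible (K := ZMod p) (p := p) (f := 1)
    (by simp) hcop hdvd hirr
  have hdeg' : f.natDegree = orderOf (p : ZMod q) := by
    rw [hdeg, ← orderOf_units, ZMod.coe_unitOfCoprime, pow_one]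
  have hle : f.natDegree ≤ q - 1 := by
    have := natDegree_le_of_dvd hdvd (cyclotomic_ne_zero _ _)
    rwa [natDegree_cyclotomic, Nat.totient_prime hq.out] at this
  rw [← hdeg']
  refine le_antisymm hle ?_
  have := Fact.mk hirr
  set ζ := AdjoinRoot.root f with hζ
  have hζq : ζ ^ q = 1 := by
    have : f ∣ X ^ q - 1 := minpoly.dvd _ _ (by simp [hφ])
    have h3 := AdjoinRoot.mk_eq_zero.2 this
    rw [map_sub, map_pow, AdjoinRoot.mk_X, map_one, sub_eq_zero] at h3
    exact h3
  have hζ1 : ζ ≠ 1 := by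
    intro h
    have h3 : AdjoinRoot.mk f (X - 1) = 0 := by rw [map_sub, AdjoinRoot.mk_X, map_one, ← hζ, h, sub_self]
    have h4 := minpoly.dvd_iff.1 (AdjoinRoot.mk_eq_zero.1 h3)
    obtain ⟨v, hv⟩ := exists_ne (0 : V)
    apply hv
    apply hf
    have := congrArg (fun f : Module.End (ZMod p) V => f v) h4
    simpa [sub_eq_zero] using this
  have hord : orderOf ζ = q := orderOf_eq_prime hζq hζ1
  have hroot : ∀ k ∈ Finset.Ico 1 q, aeval (ζ ^ k) f = 0 := by
    intro k hk
    obtain ⟨hk1, hk2⟩ := Finset.mem_Ico.1 hk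
    obtain ⟨β, hβ, hk⟩ := h2 k hk1 hk2
    have hsurj : Function.Surjective β := Finite.surjective_of_injective hβ
    have h3 : aeval (φ ^ k) f = 0 := by
      ext u
      obtain ⟨w, rfl⟩ := hsurj u
      rw [← map_aeval_of_comm hk, hfdef, minpoly.aeval]; simp
    have h4 : f ∣ f.comp (X ^ k) := minpoly.dvd _ _ (by rw [aeval_comp]; simpa using h3)
    have h5 := AdjoinRoot.mk_eq_zero.2 h4
    rw [← AdjoinRoot.aeval_eq, aeval_comp] at h5
    simpa using h5
  have hcard := card_le_degree_of_subset_roots (p := f.map (algebraMap (ZMod p) (AdjoinRoot f)))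
    (Z := (Finset.Ico 1 q).image fun k => ζ ^ k) (by
      intro a ha
      rw [Finset.mem_val] at ha
      obtain ⟨k, hk, rfl⟩ := Finset.mem_image.1 ha
      rw [mem_roots (Polynomial.map_ne_zero hirr.ne_zero), IsRoot.def, eval_map_algebraMap]
      exact hroot k hk)
  rw [Finset.card_image_of_injOn, natDegree_map, Nat.card_Ico] at hcard
  · exact hcard
  · intro a ha b hb hab
    refine pow_injOn_Iio_orderOf (x := ζ) ?_ ?_ hab
    · rw [hord]; exact (Finset.mem_Ico.1 ha).2
    · rw [hord]; exact (Finset.mem_Ico.1 hb).2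

theorem exists_linearEquiv_of_card_eq {K V W : Type*} [Field K] [AddCommGroup V] [Module K V]
    [AddCommGroup W] [Module K W] [Finite V] [Finite W] (h : Nat.card V = Nat.card W) {v : V} {w : W}
    (hv : v ≠ 0) (hw : w ≠ 0) : ∃ β : V ≃ₗ[K] W, β v = w := by
  have : Finite K := Finite.of_injective (fun c : K => c • v) (smul_left_injective K hv)
  have : Module.Finite K V := Module.Finite.of_finite
  have : Module.Finite K W := Module.Finite.of_finite
  have hr : Module.finrank K V = Module.finrank K W := by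
    rw [Module.natCard_eq_pow_finrank (K := K) (V := V),
      Module.natCard_eq_pow_finrank (K := K) (V := W)] at h
    exact Nat.pow_right_injective Finite.one_lt_card h
  let e : V ≃ₗ[K] W := LinearEquiv.ofFinrankEq V W hr
  have hev : e v ≠ 0 := by simpa using hv
  obtain ⟨g, hg⟩ := Submodule.exists_linearEquiv_restrict_eq
    ((LinearEquiv.toSpanNonzeroSingleton K W (e v) hev).symm.trans
      (LinearEquiv.toSpanNonzeroSingleton K W w hw))
  refine ⟨e.trans g, ?_⟩
  have := hg (LinearEquiv.toSpanNonzeroSingleton K W (e v) hev 1)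
  rw [LinearEquiv.trans_apply, LinearEquiv.symm_apply_apply] at this
  simpa using this.symm

/-- two fixed-point-free endomorphisms of order `q` are similar if `p` is a primitive root -/
theorem exists_intertwining_of_primitive_root {p q : ℕ} [hp : Fact p.Prime] [hq : Fact q.Prime]
    (hpq : p ≠ q) (hord : orderOf (p : ZMod q) = q - 1)
    {V : Type*} [AddCommGroup V] [Module (ZMod p) V] [Finite V]
    {φ ψ : Module.End (ZMod p) V} (hφ : φ ^ q = 1) (hf : ∀ v, φ v = v → v = 0)
    (hψ : ψ ^ q = 1) (hg : ∀ v, ψ v = v → v = 0) {v w : V} (hv : v ≠ 0) (hw : w ≠ 0) :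
    ∃ β : V ≃+ V, β v = w ∧ ∀ u, β (φ u) = ψ (β u) := by
  have hcop : p.Coprime q := (Nat.coprime_primes hp.out hq.out).2 hpq
  have hirr : Irreducible (cyclotomic q (ZMod p)) :=
    ZMod.irreducible_of_dvd_cyclotomic_of_natDegree (hp.out.coprime_iff_not_dvd.1 hcop) dvd_rfl (by
      rw [natDegree_cyclotomic, Nat.totient_prime hq.out, ← hord, ← orderOf_units,
        ZMod.coe_unitOfCoprime])
  have := Fact.mk hirr
  have hl : ∀ χ : Module.End (ZMod p) V, χ ^ q = 1 → (∀ v, χ v = v → v = 0) →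
      ∃ ρ : AdjoinRoot (cyclotomic q (ZMod p)) →+* Module.End (ZMod p) V,
        ρ (AdjoinRoot.root _) = χ := by
    intro χ h1 h2
    refine ⟨Ideal.Quotient.lift _ (aeval χ : (ZMod p)[X] →ₐ[ZMod p] _).toRingHom ?_, ?_⟩
    · intro a ha
      obtain ⟨b, rfl⟩ := Ideal.mem_span_singleton.1 ha
      simp [aeval_cyclotomic_eq_zero_of_fpf h1 h2]
    · exact (Ideal.Quotient.lift_mk _ _ _).trans (by simp)
  obtain ⟨ρ, hρ⟩ := hl φ hφ hf
  obtain ⟨σ, hσ⟩ := hl ψ hψ hg
  obtain ⟨β, hβ⟩ := @exists_linearEquiv_of_card_eq (AdjoinRoot (cyclotomic q (ZMod p))) V V _ _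
    (Module.compHom V ρ) _ (Module.compHom V σ) _ _ rfl v w hv hw
  refine ⟨@LinearEquiv.toAddEquiv _ _ _ _ _ _ _ _ _ _ _ _ (Module.compHom V ρ) (Module.compHom V σ) β,
    hβ, fun u => ?_⟩
  have := @LinearEquiv.map_smul _ V V _ _ _ (Module.compHom V ρ) (Module.compHom V σ) β
    (AdjoinRoot.root _) u
  rw [← hρ, ← hσ]
  exact this

/-- building an automorphism of a split extension by a cyclic group -/
theorem exists_mulAut_of_intertwining {G : Type*} [Group G] [Finite G] {P : Subgroup G} [P.Normal]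
    {x y : G} (hx : P.IsComplement' (Subgroup.zpowers x)) (hy : P ⊔ Subgroup.zpowers y = ⊤)
    (hxy : orderOf y ∣ orderOf x) (β : P →* G) (hβ : P ≤ β.range)
    (h : ∀ u v : P, (v : G) = x * u * x⁻¹ → β v = y * β u * y⁻¹) :
    ∃ α : MulAut G, α x = y ∧ ∀ u : P, α u = β u := by
  have hgen : ∀ g : Subgroup.zpowers x, g ∈ Subgroup.zpowers (⟨x, Subgroup.mem_zpowers x⟩ :
      Subgroup.zpowers x) := by
    rintro ⟨_, n, rfl⟩
    exact ⟨n, rfl⟩
  let ψ : Subgroup.zpowers x →* G := monoidHomOfForallMemZpowers hgen (g' := y)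
    (by rwa [Subgroup.orderOf_mk])
  have hψ : ψ ⟨x, Subgroup.mem_zpowers x⟩ = y := monoidHomOfForallMemZpowers_apply_gen _ _
  have hpow : ∀ (n : ℕ) (u v : P), (v : G) = x ^ n * u * (x ^ n)⁻¹ →
      β v = y ^ n * β u * (y ^ n)⁻¹ := by
    intro n
    induction n with
    | zero => intro u v huv; simp at huv; simp [huv]
    | succ n ih =>
      intro u v huv
      have hm : x ^ n * u * (x ^ n)⁻¹ ∈ P := Subgroup.Normal.conj_mem ‹_› _ u.2 _
      rw [h ⟨_, hm⟩ v (by rw [huv, pow_succ']; group), ih u ⟨_, hm⟩ rfl, pow_succ']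
      group
  let γ := SemidirectProduct.lift (φ := (P.normalizerMonoidHom).comp
    (Subgroup.inclusion (P.normalizer_eq_top ▸ le_top : Subgroup.zpowers x ≤ _))) β ψ (by
      intro g
      ext u
      obtain ⟨n, hn⟩ := (mem_powers_iff_mem_zpowers.2 (hgen g))
      simp only at hn
      subst hn
      simp only [MonoidHom.comp_apply, MulEquiv.coe_toMonoidHom, MulAut.conj_apply]
      rw [map_pow ψ, hψ]
      exact hpow n u _ rfl)
  let e := SemidirectProduct.mulEquivSubgroup hx
  let α : G →* G := γ.comp e.symm.toMonoidHom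
  have hα1 : ∀ u : P, α u = β u := by
    intro u
    have : e.symm u = SemidirectProduct.inl u := by
      rw [MulEquiv.symm_apply_eq]; simp [e]
    simp only [α, MonoidHom.comp_apply, MulEquiv.coe_toMonoidHom, this, γ,
      SemidirectProduct.lift_inl]
  have hα2 : α x = y := by
    have : e.symm x = SemidirectProduct.inr ⟨x, Subgroup.mem_zpowers x⟩ := by
      rw [MulEquiv.symm_apply_eq]; simp [e]
    simp only [α, MonoidHom.comp_apply, MulEquiv.coe_toMonoidHom, this, γ,
      SemidirectProduct.lift_inr, hψ]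
  have hsurj : Function.Surjective α := by
    rw [← MonoidHom.range_eq_top, eq_top_iff, ← hy, sup_le_iff]
    constructor
    · intro g hg
      obtain ⟨u, rfl⟩ := hβ hg
      exact ⟨u, hα1 u⟩
    · rw [Subgroup.zpowers_le]; exact ⟨x, hα2⟩
  exact ⟨MulEquiv.ofBijective α ⟨Finite.injective_iff_surjective.2 hsurj, hsurj⟩, hα2, hα1⟩

end CL.Fgs
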