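import Cfsg.Agent.Base

set_option autoImplicit false

namespace CL.Fgs

open DihedralGroup

/-- The subgroup `{r i, sr i : i ∈ A}` of the dihedral group. -/
def dihSub {n : ℕ} (A : AddSubgroup (ZMod n)) : Subgroup (DihedralGroup n) where
  carrier := {g | ∃ i ∈ A, g = r i ∨ g = sr i}
  one_mem' := ⟨0, A.zero_mem, Or.inl rfl⟩
  mul_mem' := by
    rintro _ _ ⟨i, hi, rfl | rfl⟩ ⟨j, hj, rfl | rfl⟩
    · exact ⟨i + j, A.add_mem hi hj, Or.inl rfl⟩
    · exact ⟨j - i, A.sub_mem hj hi, Or.inr rfl⟩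
    · exact ⟨i + j, A.add_mem hi hj, Or.inr rfl⟩
    · exact ⟨j - i, A.sub_mem hj hi, Or.inl rfl⟩
  inv_mem' := by
    rintro _ ⟨i, hi, rfl | rfl⟩
    · exact ⟨-i, A.neg_mem hi, Or.inl rfl⟩
    · exact ⟨i, hi, Or.inr rfl⟩

theorem r_mem_dihSub {n : ℕ} {A : AddSubgroup (ZMod n)} {i : ZMod n} : r i ∈ dihSub A ↔ i ∈ A := by
  constructor
  · rintro ⟨j, hj, h | h⟩
    · cases h; exact hj
    · cases h
  · intro h; exact ⟨i, h, Or.inl rfl⟩

theorem sr_mem_dihSub {n : ℕ} {A : AddSubgroup (ZMod n)} {i : ZMod n} :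
    sr i ∈ dihSub A ↔ i ∈ A := by
  constructor
  · rintro ⟨j, hj, h | h⟩
    · cases h
    · cases h; exact hj
  · intro h; exact ⟨i, h, Or.inr rfl⟩

/-- A subgroup of a dihedral group without reflections is cyclic. -/
theorem dih_isCyclic_of_no_sr {n : ℕ} (H : Subgroup (DihedralGroup n)) (h : ∀ j, sr j ∉ H) :
    IsCyclic H := by
  have hle : H ≤ Subgroup.zpowers (r 1 : DihedralGroup n) := by
    rintro (i | i) hi
    · obtain ⟨k, rfl⟩ := ZMod.intCast_surjective i
      exact ⟨k, by simp⟩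
    · exact absurd hi (h i)
  exact Subgroup.isCyclic_of_le hle

/-- A non-cyclic subgroup of a dihedral group contains a reflection and a nontrivial rotation. -/
theorem dih_exists_of_not_isCyclic {n : ℕ} (H : Subgroup (DihedralGroup n)) (h : ¬ IsCyclic H) :
    ∃ j, sr j ∈ H ∧ ∃ i, i ≠ 0 ∧ r i ∈ H := by
  by_contra hcon
  push Not at hcon
  by_cases h1 : ∀ j, sr j ∉ H
  · exact h (dih_isCyclic_of_no_sr H h1)
  push Not at h1
  obtain ⟨j, hj⟩ := h1
  apply h
  have hle : H ≤ Subgroup.zpowers (sr j) := by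
    rintro (i | i) hi
    · by_cases h0 : i = 0
      · rw [h0]; exact Subgroup.one_mem _
      · exact absurd hi (hcon j hj i h0)
    · have h2 : r (i - j) ∈ H := H.mul_mem hj hi
      by_cases h0 : i - j = 0
      · rw [sub_eq_zero.1 h0]; exact Subgroup.mem_zpowers _
      · exact absurd h2 (hcon j hj _ h0)
  exact Subgroup.isCyclic_of_le hle

/-- A non-abelian subgroup of a dihedral group contains a reflection and a rotation of order
greater than two. -/
theorem dih_exists_of_not_comm {n : ℕ} (H : Subgroup (DihedralGroup n))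
    (h : ¬ IsMulCommutative H) : ∃ j, sr j ∈ H ∧ ∃ i, i + i ≠ 0 ∧ r i ∈ H := by
  by_contra hcon
  push Not at hcon
  apply h
  refine ⟨⟨?_⟩⟩
  rintro ⟨i | i, hi⟩ ⟨j | j, hj⟩ <;> apply Subtype.ext
  · simp [add_comm]
  · have : i + i = 0 := by by_contra h0; exact hcon j hj i h0 hi
    simp only [MulMemClass.mk_mul_mk, r_mul_sr, sr_mul_r, sr.injEq]
    linear_combination -this
  · have : j + j = 0 := by by_contra h0; exact hcon i hi j h0 hj
    simp only [MulMemClass.mk_mul_mk, r_mul_sr, sr_mul_r, sr.injEq]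
    linear_combination this
  · have : (j - i) + (j - i) = 0 := by
      by_contra h0; exact hcon j hj _ h0 (H.mul_mem hi hj)
    simp only [MulMemClass.mk_mul_mk, sr_mul_sr, r.injEq]
    linear_combination this

/-- In `ZMod n` there is at most one non-zero element killed by two. -/
theorem zmod_eq_of_add_self_eq_zero {n : ℕ} {a b : ZMod n} (ha : a + a = 0) (ha0 : a ≠ 0)
    (hb : b + b = 0) (hb0 : b ≠ 0) : a = b := by
  have h1 := (ZMod.neg_eq_self_iff a).1 (neg_eq_of_add_eq_zero_left ha)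
  have h2 := (ZMod.neg_eq_self_iff b).1 (neg_eq_of_add_eq_zero_left hb)
  rcases n with _ | n
  · exact absurd (add_self_eq_zero (R := ℤ).1 ha) ha0
  · apply ZMod.val_injective
    rcases h1 with h1 | h1
    · exact absurd h1 ha0
    rcases h2 with h2 | h2
    · exact absurd h2 hb0
    omega

theorem zmod_eq_zero_of_odd {n : ℕ} (hn : Odd n) {a : ZMod n} (ha : a + a = 0) : a = 0 := by
  rcases (ZMod.neg_eq_self_iff a).1 (neg_eq_of_add_eq_zero_left ha) with h | h
  · exact h
  · obtain ⟨k, hk⟩ := hn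
    omega

end CL.Fgs
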