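/-
Central extensions of order two of `PSL₂(q)` and `A₇` contain a forbidden Frobenius configuration unless `q = 5, 9`.
-/
import Cfsg.Agent.Fgs.Dv2Defs
import Cfsg.Agent.Cls.SL2Tori
import Cfsg.Agent.Cls.SL2Root
import Cfsg.Agent.S2429
import Cfsg.Agent.S3370

set_option autoImplicit false

namespace CL.Dv2

universe u

namespace Psl

open Subgroup CL.SL2 CL.GL2
open scoped MatrixGroups

section Lift

variable {G S : Type*} [Group G] [Group S] {m : G} {π : G →* S}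

theorem m_pow (h : One G m) {r : ℕ} (hr : Odd r) : m ^ r = m := by
  obtain ⟨k, rfl⟩ := hr
  rw [pow_succ, pow_mul, sq, h.sq, one_pow, one_mul]

theorem mul_m_pow (h : One G m) (a : G) {r : ℕ} (hr : Odd r) : (a * m) ^ r = a ^ r * m := by
  rw [(show Commute a m from h.cen a).mul_pow, m_pow h hr]

theorem uniq (h : One G m) (hk : ∀ g, π g = 1 → g = 1 ∨ g = m) {a b : G} (e : π a = π b) {r : ℕ} (hr : Odd r)
    (ha : a ^ r = 1) (hb : b ^ r = 1) : a = b := by
  rcases hk (b⁻¹ * a) (by rw [map_mul, map_inv, e, inv_mul_cancel]) with e1 | e1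
  · exact (inv_mul_eq_one.1 e1).symm
  · rw [inv_mul_eq_iff_eq_mul.1 e1, mul_m_pow h b hr, hb, one_mul] at ha
    exact absurd ha h.ne_one

theorem lift (h : One G m) (hs : Function.Surjective π) (hk : ∀ g, π g = 1 → g = 1 ∨ g = m) (hm : π m = 1) {s : S}
    {r : ℕ} (hr : Odd r) (e : s ^ r = 1) : ∃ c, π c = s ∧ c ^ r = 1 := by
  obtain ⟨g, rfl⟩ := hs s
  rcases hk (g ^ r) (by rw [map_pow, e]) with e1 | e1
  · exact ⟨g, rfl, e1⟩
  · exact ⟨g * m, by rw [map_mul, hm, mul_one], by rw [mul_m_pow h g hr, e1, h.sq]⟩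

theorem noFrob (h : One G m) (hs : Function.Surjective π) (hk : ∀ g, π g = 1 → g = 1 ∨ g = m) (hm : π m = 1)
    [Finite G] (hF : NoFrob G) (U : Subgroup S) (c : S) {r n : ℕ} (hr : Odd r) (hn : Odd n) (hU : U ≠ ⊥)
    (hc : ∀ a ∈ U, ∀ b ∈ U, a * b = b * a) (he : ∀ a ∈ U, a ^ r = 1) (hcn : c ^ n = 1) (h3 : 3 ≤ orderOf c)
    (hN : ∀ y ∈ U, c * y * c⁻¹ ∈ U) (hf : ∀ j : ℕ, c ^ j ≠ 1 → ∀ y ∈ U, c ^ j * y = y * c ^ j → y = 1) : False := by
  let W : Subgroup G :=
    { carrier := {g | π g ∈ U ∧ g ^ r = 1}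
      one_mem' := ⟨by rw [map_one]; exact one_mem _, one_pow _⟩
      inv_mem' := fun {a} ha => ⟨by rw [map_inv]; exact inv_mem ha.1, by rw [inv_pow, ha.2, inv_one]⟩
      mul_mem' := fun {a b} ha hb => ⟨by rw [map_mul]; exact mul_mem ha.1 hb.1, by
        have : a * b * a⁻¹ = b := uniq h hk (by rw [map_mul, map_mul, map_inv, hc _ ha.1 _ hb.1, mul_inv_cancel_right])
          hr (by rw [conj_pow, hb.2, mul_one, mul_inv_cancel]) hb.2
        rw [(show Commute a b from mul_inv_eq_iff_eq_mul.1 this).mul_pow, ha.2, hb.2, one_mul]⟩ }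
  obtain ⟨d, rfl, hd⟩ := lift h hs hk hm hn hcn
  refine hF W d (fun e => hU ?_) (h3.trans (Nat.le_of_dvd (orderOf_pos d) (orderOf_map_dvd π d)))
    (fun y hy => ⟨by rw [map_mul, map_mul, map_inv]; exact hN _ hy.1, by
      rw [conj_pow, hy.2, mul_one, mul_inv_cancel]⟩) fun j hj y hy e => ?_
  · rw [eq_bot_iff]
    intro a ha
    obtain ⟨g, rfl, hg⟩ := lift h hs hk hm hr (he a ha)
    have : g ∈ W := ⟨ha, hg⟩
    rw [e, mem_bot] at this
    rw [this, map_one]; exact one_mem _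
  · refine uniq h hk ((hf j (fun e1 => hj ?_) _ hy.1 ?_).trans (map_one π).symm) hr hy.2 (one_pow _)
    · exact uniq h hk (by rw [map_pow, e1, map_one]) hn (by rw [← pow_mul, mul_comm, pow_mul, hd, one_pow]) (one_pow _)
    · rw [← map_pow, ← map_mul, ← map_mul, e]

theorem exists_hom (h : One G m) [(zpowers m).Normal] (e : G ⧸ zpowers m ≃* S) :
    ∃ π : G →* S, Function.Surjective π ∧ (∀ g, π g = 1 → g = 1 ∨ g = m) ∧ π m = 1 := by
  refine ⟨e.toMonoidHom.comp (QuotientGroup.mk' _), e.surjective.comp (QuotientGroup.mk'_surjective _),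
    fun g hg => ?_, ?_⟩
  · have : g ∈ zpowers m := (QuotientGroup.eq_one_iff g).1 (e.map_eq_one_iff.1 hg)
    obtain ⟨k, rfl⟩ := this
    obtain ⟨i, rfl | rfl⟩ := Int.even_or_odd' k
    · left; change m ^ (2 * i) = 1; rw [zpow_mul, zpow_two, h.sq, one_zpow]
    · right; change m ^ (2 * i + 1) = m; rw [zpow_add_one, zpow_mul, zpow_two, h.sq, one_zpow, one_mul]
  · exact e.map_eq_one_iff.2 ((QuotientGroup.eq_one_iff m).2 (mem_zpowers m))

end Lift

/-- a 7-cycle -/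
def y7 : alternatingGroup (Fin 7) := ⟨finRotate 7, Equiv.Perm.mem_alternatingGroup.2 (by decide +kernel)⟩

/-- an element of order three that normalises it -/
def c7 : alternatingGroup (Fin 7) :=
  ⟨⟨![0, 2, 4, 6, 1, 3, 5], ![0, 4, 1, 5, 2, 6, 3], by decide, by decide⟩,
    Equiv.Perm.mem_alternatingGroup.2 (by decide +kernel)⟩

theorem y7_pow : y7 ^ 7 = 1 := Subtype.ext (by decide +kernel)

theorem c7_pow : c7 ^ 3 = 1 := Subtype.ext (by decide +kernel)

theorem c7_conj : c7 * y7 * c7⁻¹ = y7 ^ 2 := Subtype.ext (by decide +kernel)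

theorem c7_fpf' : ∀ (j : Fin 3) (i : Fin 7), c7.1 ^ j.1 * y7.1 ^ i.1 = y7.1 ^ i.1 * c7.1 ^ j.1 → j = 0 ∨ i = 0 := by
  decide +kernel

theorem c7_fpf (j : ℕ) (hj : j < 3) (i : ℕ) (hi : i < 7) (h : c7 ^ j * y7 ^ i = y7 ^ i * c7 ^ j) :
    c7 ^ j = 1 ∨ y7 ^ i = 1 :=
  (c7_fpf' ⟨j, hj⟩ ⟨i, hi⟩ (congrArg Subtype.val h)).imp
    (fun e => by rw [show j = 0 from congrArg Fin.val e, pow_zero])
    fun e => by rw [show i = 0 from congrArg Fin.val e, pow_zero]

section SL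

variable {F : Type} [Field F]

theorem diag_conj (a : Fˣ) (b : F) : (diagSL a * upT b * (diagSL a)⁻¹ : SL(2, F)) = upT ((a : F) ^ 2 * b) := by
  rw [mul_inv_eq_iff_eq_mul]
  refine ext_SL ?_
  rw [coe_mul_SL, coe_mul_SL, coe_upT, coe_upT, coe_diagSL]
  ext i j
  fin_cases i <;> fin_cases j <;> simp [Matrix.mul_apply, Fin.sum_univ_two]
  field_simp

theorem up_inj (h2 : (2 : F) ≠ 0) {a b : F} (h : ((upT a : SL(2, F)) : PSL(2, F)) = (upT b : SL(2, F))) : a = b := by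
  rcases psl_mk_eq_iff.1 h with e | e
  · exact upT_injective e
  · have := congrArg (fun g : SL(2, F) => (g : Matrix (Fin 2) (Fin 2) F) 0 0) e
    simp only [coe_upT, Matrix.SpecialLinearGroup.coe_neg, Matrix.neg_apply, Matrix.of_apply, Matrix.cons_val',
      Matrix.cons_val_zero] at this
    exact absurd (by linear_combination this) h2

theorem upT_zero : (upT 0 : SL(2, F)) = 1 := Subtype.ext (by rw [coe_upT]; exact (Matrix.one_fin_two).symm)

/-- The image of the unitriangular group. -/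
def UU (F : Type) [Field F] : Subgroup PSL(2, F) where
  carrier := {u | ∃ b : F, u = (upT b : SL(2, F))}
  one_mem' := ⟨0, by rw [upT_zero]; rfl⟩
  mul_mem' := by
    rintro _ _ ⟨a, rfl⟩ ⟨b, rfl⟩
    exact ⟨a + b, by rw [upT_add]; rfl⟩
  inv_mem' := by
    rintro _ ⟨a, rfl⟩
    exact ⟨-a, by rw [upT_neg]; rfl⟩

theorem mk_conj (a : Fˣ) (b : F) : ((diagSL a : SL(2, F)) : PSL(2, F)) * (upT b : SL(2, F)) *
    ((diagSL a : SL(2, F)) : PSL(2, F))⁻¹ = (upT ((a : F) ^ 2 * b) : SL(2, F)) := by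
  rw [← diag_conj]; rfl

theorem up_ne_one (h2 : (2 : F) ≠ 0) : ((upT 1 : SL(2, F)) : PSL(2, F)) ≠ 1 := fun e =>
  one_ne_zero (up_inj h2 (e.trans (by rw [upT_zero]; rfl)))

end SL

end Psl

open Psl Subgroup CL.SL2 CL.GL2
open scoped MatrixGroups

theorem not_alt7 {G : Type u} [Group G] [Finite G] {m : G} (h : One G m) [(Subgroup.zpowers m).Normal]
    (hF : NoFrob G) (e : G ⧸ Subgroup.zpowers m ≃* alternatingGroup (Fin 7)) : False := by
  obtain ⟨π, hs, hk, hm⟩ := exists_hom h e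
  have : Fact (Nat.Prime 3) := ⟨Nat.prime_three⟩
  refine noFrob h hs hk hm hF (zpowers y7) c7 (r := 7) (n := 3) (by decide) (by decide)
    (zpowers_ne_bot.2 fun e => absurd (congrArg Subtype.val e) (by decide +kernel)) ?_ ?_ c7_pow
    (orderOf_eq_prime c7_pow fun e => absurd (congrArg Subtype.val e) (by decide +kernel)).ge ?_ fun j hj y hy e => ?_
  · rintro _ ⟨i, rfl⟩ _ ⟨j, rfl⟩
    exact zpow_mul_comm ..
  · rintro _ ⟨i, rfl⟩
    change (y7 ^ i) ^ 7 = 1
    rw [← zpow_natCast, ← zpow_mul, mul_comm, zpow_mul, zpow_natCast, y7_pow, one_zpow]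
  · rintro _ ⟨i, rfl⟩
    change c7 * y7 ^ i * c7⁻¹ ∈ _
    rw [← conj_zpow, c7_conj]
    exact zpow_mem (pow_mem (mem_zpowers _) _) _
  · obtain ⟨i, rfl⟩ := mem_powers_iff_mem_zpowers.2 hy
    change c7 ^ j * y7 ^ i = y7 ^ i * c7 ^ j at e
    change y7 ^ i = 1
    rw [pow_eq_pow_mod j c7_pow] at hj e
    rw [pow_eq_pow_mod i y7_pow] at e ⊢
    exact (c7_fpf _ (Nat.mod_lt _ (by norm_num)) _ (Nat.mod_lt _ (by norm_num)) e).resolve_left hj

theorem card_of_psl {G : Type u} [Group G] [Finite G] {m : G} (h : One G m) [(Subgroup.zpowers m).Normal]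
    (hF : NoFrob G) (hP : NoFermat G) {F : Type} [Field F] [Fintype F] (hodd : Odd (Fintype.card F))
    (h3 : 3 < Fintype.card F) (e : G ⧸ Subgroup.zpowers m ≃* Matrix.ProjectiveSpecialLinearGroup (Fin 2) F) :
    Fintype.card F = 5 ∨ Fintype.card F = 9 := by
  obtain ⟨π, hs, hk, hm⟩ := exists_hom h e
  obtain ⟨p, hp⟩ := CharP.exists F
  obtain ⟨n, hpp, hn⟩ := FiniteField.card F p
  have h2 : (2 : F) ≠ 0 := fun h2 => Nat.not_even_iff_odd.2 hodd (even_card_of_two_eq_zero h2)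
  have po : Odd p := (Nat.odd_pow_iff n.ne_zero).1 (hn ▸ hodd)
  have hu : Nat.card Fˣ = Fintype.card F - 1 := by rw [Nat.card_units, Nat.card_eq_fintype_card]
  have hup : ∀ b : F, ((upT b : SL(2, F)) : PSL(2, F)) ^ p = 1 := fun b => by
    rw [← QuotientGroup.mk_pow, transvection_pow_char]; rfl
  have only2 : ∀ {r : ℕ}, r.Prime → r ∣ Fintype.card F - 1 → r = 2 := fun {r} hr hd => by
    by_contra r2
    have := Fact.mk hr
    have ro := hr.odd_of_ne_two r2
    obtain ⟨a, ha⟩ := exists_prime_orderOf_dvd_card' (G := Fˣ) r (hu ▸ hd)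
    have ho : orderOf (diagSL a : SL(2, F)) = r := by rw [orderOf_injective _ diagSL_injective, ha]
    have ho' : orderOf ((diagSL a : SL(2, F)) : PSL(2, F)) = r := by rw [orderOf_psl_mk_of_odd (ho ▸ ro), ho]
    refine noFrob h hs hk hm hF (UU F) (diagSL a : SL(2, F)) po ro (fun e => up_ne_one h2 ?_) ?_ ?_
      (by rw [← ho', pow_orderOf_eq_one]) (by have := hr.two_le; omega) ?_ ?_
    · rw [← mem_bot, ← e]; exact ⟨1, rfl⟩
    · rintro _ ⟨b, rfl⟩ _ ⟨c, rfl⟩
      rw [← QuotientGroup.mk_mul, ← QuotientGroup.mk_mul, ← upT_add, ← upT_add, add_comm]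
    · rintro _ ⟨b, rfl⟩
      exact hup b
    · rintro _ ⟨b, rfl⟩
      exact ⟨_, mk_conj a b⟩
    · rintro j hj _ ⟨b, rfl⟩ e
      rw [← QuotientGroup.mk_pow, ← map_pow] at hj e
      have e1 := up_inj h2 ((mk_conj (a ^ j) b).symm.trans (mul_inv_eq_iff_eq_mul.2 e))
      by_cases hb : b = 0
      · rw [hb, upT_zero]; rfl
      exfalso
      have e2 : a ^ (j * 2) = 1 := Units.ext (by
        rw [pow_mul, Units.val_pow_eq_pow_val]; exact (mul_eq_right₀ hb).1 e1)
      have e3 := orderOf_dvd_of_pow_eq_one e2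
      rw [ha] at e3
      have e4 : r ∣ j := ((Nat.coprime_primes hr Nat.prime_two).2 r2).dvd_of_dvd_mul_right e3
      rw [← ha, orderOf_dvd_iff_pow_eq_one] at e4
      exact hj (by rw [e4, map_one]; rfl)
  have hk2 := Nat.eq_prime_pow_of_unique_prime_dvd (show Fintype.card F - 1 ≠ 0 by omega) only2
  generalize (Fintype.card F - 1).primeFactorsList.length = k at hk2
  by_cases hn1 : 2 ≤ (n : ℕ)
  · obtain ⟨e1, e2⟩ := Cfsg.Agent.S3370.numB (k := k) po hpp.one_lt hn1 (by omega)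
    right; rw [hn, e1, e2]; norm_num
  have hq : Fintype.card F = p := by
    rw [hn, show (n : ℕ) = 1 by have := n.pos; omega, pow_one]
  by_cases hk4 : k < 4
  · interval_cases k <;> omega
  exfalso
  have h17 : 17 ≤ p := by
    have := Nat.pow_le_pow_right (show 0 < 2 by norm_num) (not_lt.1 hk4)
    omega
  have h3p : 3 ∣ p + 1 := by
    have a1 : ¬ 3 ∣ p := fun hd => by have := (Nat.prime_dvd_prime_iff_eq Nat.prime_three hpp).1 hd; omega
    have a2 : ¬ 3 ∣ p - 1 := fun hd => by have := only2 Nat.prime_three (hq ▸ hd); omega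
    omega
  have := Fact.mk hpp
  have : Fact (Nat.Prime 3) := ⟨Nat.prime_three⟩
  obtain ⟨y, hy, hyp⟩ := lift h hs hk hm po (hup 1)
  obtain ⟨l, hl⟩ := IsCyclic.exists_ofOrder_eq_natCard (α := Fˣ)
  obtain ⟨w, hw⟩ := hs (diagSL l : SL(2, F))
  obtain ⟨s, hs2⟩ : ∃ s : ℕ, (s : F) = (l : F) ^ 2 :=
    ⟨((ZMod.ringEquiv F hq).symm ((l : F) ^ 2)).val, by
      rw [← map_natCast (ZMod.ringEquiv F hq), ZMod.natCast_zmod_val, RingEquiv.apply_symm_apply]⟩
  obtain ⟨T, hT, hTc, hTs, hTg, -⟩ := Cfsg.Agent.S2429.result hodd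
  obtain ⟨t, ht⟩ := IsCyclic.exists_ofOrder_eq_natCard (α := T)
  obtain ⟨d, hd⟩ := h3p
  have hto : orderOf (t : SL(2, F)) = 3 * d := by rw [orderOf_coe, ht, hTc, hq, hd]
  have hx3 : ((t : SL(2, F)) ^ d) ^ 3 = 1 := by rw [← pow_mul, mul_comm, ← hto, pow_orderOf_eq_one]
  have hx1 : (t : SL(2, F)) ^ d ≠ 1 := fun e => by
    have := Nat.le_of_dvd (by omega) (orderOf_dvd_of_pow_eq_one e)
    omega
  have hneg : ∀ g : SL(2, F), g ^ 3 = 1 → (-g) ^ 3 ≠ 1 := fun g hg e => by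
    rw [Odd.neg_pow (by decide), hg] at e
    exact neg_one_ne_one_sl h2 e
  have hx2 : (t : SL(2, F)) ^ d ≠ -1 := fun e => hneg 1 (one_pow _) (e ▸ hx3)
  obtain ⟨x, hx, hxp⟩ := lift h hs hk hm (s := (((t : SL(2, F)) ^ d : SL(2, F)) : PSL(2, F))) (r := 3) (by decide)
    (by rw [← QuotientGroup.mk_pow, hx3]; rfl)
  refine hP p y w x s hpp h17 (fun e => up_ne_one h2 (by rw [← hy, e, map_one])) hyp ?_ (fun j hj hj2 e => ?_)
    (orderOf_eq_prime hxp fun e => ?_) ?_ fun e => ?_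
  · refine uniq h hk ?_ po (by rw [conj_pow, hyp, mul_one, mul_inv_cancel])
      (by rw [← pow_mul, mul_comm, pow_mul, hyp, one_pow])
    rw [map_mul, map_mul, map_inv, map_pow, hy, hw, mk_conj, ← QuotientGroup.mk_pow, transvection_pow, hs2]
  · have e1 : l ^ (2 * j) = 1 := Units.ext (by
      rw [Units.val_pow_eq_pow_val, pow_mul, ← hs2, ← Nat.cast_pow, (CharP.natCast_eq_natCast F p).2 e]; simp)
    have := Nat.le_of_dvd (by omega) (orderOf_dvd_of_pow_eq_one e1)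
    omega
  · rw [e, map_one] at hx
    exact (psl_mk_eq_one_iff.1 hx.symm).elim hx1 hx2
  · have hC := hTg _ (pow_mem t.2 d) (fun e => hx1 (Subtype.ext e)) fun e => hx2 (Subtype.ext e)
    let K := T.map (QuotientGroup.mk' (center SL(2, F)))
    have hle : centralizer ({x} : Set G) ≤ K.comap π := fun g hg => by
      obtain ⟨g', hg'⟩ := QuotientGroup.mk_surjective (π g)
      refine ⟨g', hC ▸ mem_centralizer_singleton_iff.2 (mul_inv_eq_iff_eq_mul.1 ?_), hg'⟩
      have e1 := congrArg π (mul_inv_eq_iff_eq_mul.2 (mem_centralizer_singleton_iff.1 hg))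
      rw [map_mul, map_mul, map_inv, hx, ← hg'] at e1
      refine (psl_mk_eq_iff.1 e1).resolve_right fun e2 => hneg _ hx3 ?_
      rw [← e2, conj_pow, hx3, mul_one, mul_inv_cancel]
    have hK : K.comap (QuotientGroup.mk' (center SL(2, F))) = T := by
      rw [comap_map_eq, QuotientGroup.ker_mk', sup_eq_left, ← hTs]
      exact center_le_centralizer _
    have a1 := card_mul_index (K.comap π)
    have a2 := card_mul_index T
    rw [← hK, index_comap_of_surjective _ (QuotientGroup.mk'_surjective _), hK,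
      card_eq_card_quotient_mul_card_subgroup (center SL(2, F)), hTc, hq] at a2
    rw [index_comap_of_surjective _ hs, card_eq_card_quotient_mul_card_subgroup (zpowers m),
      Nat.card_congr e.toEquiv, Nat.card_zpowers, orderOf_eq_prime (by rw [sq, h.sq]) h.ne_one] at a1
    have a3 : 1 < Nat.card (center SL(2, F)) := (one_lt_card_iff_ne_bot _).2 fun e =>
      neg_one_ne_one_sl h2 (mem_bot.1 (e ▸ sl_mem_center_iff.2 (Or.inr rfl)))
    refine (card_le_of_le hle).trans (Nat.le_of_mul_le_mul_right ?_ (Nat.pos_of_ne_zero K.index_ne_zero_of_finite))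
    rw [a1, a2]
    exact Nat.mul_le_mul_left _ a3
  · obtain rfl : d = 6 := by omega
    obtain ⟨z, hz, hzp⟩ := lift h hs hk hm (s := (((t : SL(2, F)) ^ 2 : SL(2, F)) : PSL(2, F))) (r := 9) (by decide)
      (by rw [← QuotientGroup.mk_pow, ← pow_mul, ← hto, pow_orderOf_eq_one]; rfl)
    exact ⟨z, uniq h hk (by rw [map_pow, hz, hx, ← QuotientGroup.mk_pow, ← pow_mul]) (r := 3) (by decide)
      (by rw [← pow_mul, hzp]) hxp⟩

end CL.Dv2
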