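/-
Groups in which abelian subgroups of equal order are conjugate: passage to quotients.
-/
import Cfsg.Agent.Fgs.EqConj3
import Cfsg.Agent.Grp.PGroupCyc

set_option autoImplicit false

namespace CL.Fgs

open Cfsg Subgroup CL.Grp
open scoped Pointwise commutatorElement

universe u

/-- Abelian subgroups of equal order are conjugate. -/
def AbConj (G : Type*) [Group G] : Prop :=
  ∀ A B : Subgroup G, IsMulCommutative A → IsMulCommutative B → Nat.card A = Nat.card B →
    ∃ g : G, MulAut.conj g • A = B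

theorem commute_of_involutions_conj (G : Type u) [Group G] [Finite G] : Group.IsSolvable G →
    (∀ x y : G, orderOf x = 2 → orderOf y = 2 → IsConj x y) →
    ∀ P : Subgroup G, IsPGroup 2 P → ∀ x ∈ P, ∀ y ∈ P, x ^ 2 = 1 → y ^ 2 = 1 → Commute x y := by
  revert G
  refine induction_on_card fun G _ _ ih hsol h P hP x hx y hy hx2 hy2 => ?_
  by_cases hx1 : x = 1
  · rw [hx1]; exact Commute.one_left _
  by_cases hy1 : y = 1
  · rw [hy1]; exact Commute.one_right _
  haveI : Nontrivial G := ⟨⟨x, 1, hx1⟩⟩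
  obtain ⟨q, N, hq, hNn, hN, hNc, hNq⟩ := hall_exists_abelian_normal_pgroup (G := G)
  haveI := Fact.mk hq
  by_cases h2 : q = 2
  · subst h2
    obtain ⟨n, hn⟩ := hNq.exists_card_eq
    have hd : 2 ∣ Nat.card N := by
      rcases n with _ | n
      · exact absurd (card_eq_one.1 hn) hN
      · exact hn ▸ dvd_pow_self 2 n.succ_ne_zero
    obtain ⟨t, ht⟩ := exists_prime_orderOf_dvd_card' 2 hd
    have key : ∀ z : G, z ≠ 1 → z ^ 2 = 1 → z ∈ N := fun z h1 h2 => by
      obtain ⟨c, rfl⟩ := isConj_iff.1 (h t z (by rw [orderOf_coe, ht]) (orderOf_eq_prime h2 h1))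
      exact hNn.conj_mem _ t.2 c
    exact setLike_mul_comm (s := N) (key x hx1 hx2) (key y hy1 hy2)
  · obtain ⟨n, hn⟩ := hNq.exists_card_eq
    have hodd : Odd (Nat.card N) := hn ▸ (hq.odd_of_ne_two h2).pow
    have lift : ∀ z : G ⧸ N, orderOf z = 2 → ∃ w : G, orderOf w = 2 ∧ (w : G ⧸ N) = z := by
      intro z hz
      obtain ⟨w, rfl⟩ := QuotientGroup.mk_surjective z
      have h1 : ((w : G ⧸ N)) ^ 2 = 1 := hz ▸ pow_orderOf_eq_one _
      have h3 : w ^ 2 ∈ N := (QuotientGroup.eq_one_iff _).1 h1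
      have h4 : ((w ^ Nat.card N : G) : G ⧸ N) = w := by
        obtain ⟨r, hr⟩ := hodd
        rw [QuotientGroup.mk_pow, hr, pow_succ, pow_mul, h1, one_pow, one_mul]
      refine ⟨w ^ Nat.card N, orderOf_eq_prime ?_ fun e => ?_, h4⟩
      · rw [← pow_mul, mul_comm, pow_mul]
        exact congrArg Subtype.val (pow_card_eq_one' (x := (⟨w ^ 2, h3⟩ : N)))
      · rw [e] at h4; rw [← h4] at hz; simp at hz
    have := ih (G ⧸ N) (card_quotient_lt hN) inferInstance (fun a b ha hb => by
      obtain ⟨a, ha', rfl⟩ := lift a ha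
      obtain ⟨b, hb', rfl⟩ := lift b hb
      exact (QuotientGroup.mk' N).map_isConj (h a b ha' hb')) _ (hP.map (QuotientGroup.mk' N))
      _ (mem_map_of_mem _ hx) _ (mem_map_of_mem _ hy) (by rw [← map_pow, hx2, map_one])
      (by rw [← map_pow, hy2, map_one])
    rw [← commutatorElement_eq_one_iff_commute, ← map_commutatorElement] at this
    rw [← commutatorElement_eq_one_iff_commute, ← mem_bot,
      ← CL.Loc.inf_eq_bot_of_isPGroup_of_coprime hP (Nat.coprime_two_right.2 hodd)]
    exact mem_inf.2 ⟨mul_mem (mul_mem (mul_mem hx hy) (inv_mem hx)) (inv_mem hy),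
      (QuotientGroup.eq_one_iff _).1 this⟩

section
variable {G : Type u} [Group G] [Finite G]

omit [Finite G] in
theorem isMulCommutative_of_map_mk' {V X : Subgroup G} [V.Normal] (hd : X ⊓ V = ⊥)
    (h : IsMulCommutative (X.map (QuotientGroup.mk' V))) : IsMulCommutative X := by
  refine ⟨⟨fun a b => Subtype.ext ?_⟩⟩
  have := setLike_mul_comm (s := X.map (QuotientGroup.mk' V)) (mem_map_of_mem _ a.2) (mem_map_of_mem _ b.2)
  change (a : G) * b = b * a
  rw [← commutatorElement_eq_one_iff_mul_comm, ← map_commutatorElement] at this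
  rw [← commutatorElement_eq_one_iff_mul_comm, ← mem_bot, ← hd]
  exact mem_inf.2 ⟨mul_mem (mul_mem (mul_mem a.2 b.2) (inv_mem a.2)) (inv_mem b.2),
    (QuotientGroup.eq_one_iff _).1 this⟩

theorem AbConj.le_of_card_le (h : AbConj G) {p : ℕ} [Fact p.Prime] {V X : Subgroup G} [hn : V.Normal]
    (hV : IsElementaryAbelian p V) (hX : IsPGroup p X) (hc : IsMulCommutative X)
    (hle : Nat.card X ≤ Nat.card V) : X ≤ V := by
  obtain ⟨Y, hY, hc'⟩ := exists_le_card_eq_of_isPGroup hX (isPGroup_of_isElementaryAbelian hV) hle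
  obtain ⟨g, rfl⟩ := h Y X (isMulCommutative_of_le hV.1 hY) hc hc'
  exact (conj_smul_le_iff _ _ _).2 fun x hx => hn.conj_mem _ (hY hx) g

theorem AbConj.quotient_step (h : AbConj G) {p : ℕ} [hp : Fact p.Prime] {V : Subgroup G} [hn : V.Normal]
    (hV : IsElementaryAbelian p V) (hV0 : V ≠ ⊥) (hs : p ≠ 2 ∨ Group.IsSolvable G) :
    AbConj (G ⧸ V) := by
  have hVp := isPGroup_of_isElementaryAbelian hV
  have hπ := QuotientGroup.mk'_surjective V
  set π := QuotientGroup.mk' V with hπd
  have hker : ∀ X : Subgroup (G ⧸ V), V ≤ X.comap π := fun X x hx => by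
    rw [mem_comap, show π x = 1 from (QuotientGroup.eq_one_iff _).2 hx]; exact one_mem _
  have hrel : ∀ X : Subgroup (G ⧸ V), V.relIndex (X.comap π) = Nat.card X := fun X => by
    rw [← card_map_mk', map_comap_eq_self_of_surjective hπ]
  obtain ⟨n, hcV⟩ := hVp.exists_card_eq
  have hn0 : n ≠ 0 := by rintro rfl; exact hV0 (card_eq_one.1 hcV)
  have down : ∀ A B : Subgroup (G ⧸ V), ∀ X Y : Subgroup G, X.map π = A → Y.map π = B →
      (∃ g : G, MulAut.conj g • X = Y) → ∃ g : G ⧸ V, MulAut.conj g • A = B := by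
    rintro _ _ X _ rfl rfl ⟨g, rfl⟩
    exact ⟨π g, (map_conj_smul π g X).symm⟩
  intro A B hA hB hc
  by_cases hd : ¬ p ∣ Nat.card A
  · have L1 : ∀ X : Subgroup (G ⧸ V), IsMulCommutative X → ¬ p ∣ Nat.card X →
        ∃ Y : Subgroup G, IsMulCommutative Y ∧ Y.map π = X ∧ Nat.card Y = Nat.card X := by
      intro X hX hX'
      obtain ⟨Y, -, h2, h3, h4⟩ := exists_complement_in (hker X) (by rw [normalizer_eq_top]; exact le_top)
        (by rw [hrel, hcV]; exact Nat.Coprime.pow_left _ ((Nat.Prime.coprime_iff_not_dvd hp.out).2 hX'))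
      have h5 : Y.map π = X := by
        rw [← map_comap_eq_self_of_surjective hπ X, ← h2, Subgroup.map_sup,
          (map_eq_bot_iff V).2 (by rw [hπd, QuotientGroup.ker_mk']), bot_sup_eq]
      exact ⟨Y, isMulCommutative_of_map_mk' (by rw [inf_comm, h3]) (h5 ▸ hX), h5, h4.trans (hrel X)⟩
    obtain ⟨X, a1, a2, a3⟩ := L1 A hA hd
    obtain ⟨Y, b1, b2, b3⟩ := L1 B hB (hc ▸ hd)
    exact down A B X Y a2 b2 (h X Y a1 b1 (by rw [a3, b3, hc]))
  push Not at hd
  have hzp : ∀ (x : G) (k : ℕ), x ^ p ^ k = 1 → k ≤ n → x ∈ V := fun x k hx hk => by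
    obtain ⟨j, hj, e⟩ := (Nat.dvd_prime_pow hp.out).1 (orderOf_dvd_of_pow_eq_one hx)
    refine h.le_of_card_le hV (IsPGroup.of_card (n := j) (by rw [Nat.card_zpowers, e])) inferInstance ?_
      (mem_zpowers x)
    rw [Nat.card_zpowers, e, hcV]; exact Nat.pow_le_pow_right hp.out.pos (hj.trans hk)
  have F1 : ∀ x : G, x ^ p = 1 → x ∈ V := fun x hx => hzp x 1 (by rw [pow_one, hx]) (by omega)
  have F2 : Nat.card V = p := by
    obtain ⟨x, hx⟩ := exists_prime_orderOf_dvd_card' p hd
    obtain ⟨y, hy⟩ := hπ x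
    have h1 : y ^ p ∈ V := (QuotientGroup.eq_one_iff _).1 (by
      change π (y ^ p) = 1
      rw [map_pow, hy, ← hx, ← orderOf_coe, pow_orderOf_eq_one])
    by_contra hne
    have h2 : 2 ≤ n := by
      by_contra h3
      exact hne (by rw [hcV, show n = 1 by omega, pow_one])
    have h3 := hzp y 2 (by rw [sq, pow_mul]; exact hV.2 _ h1) h2
    have h4 : (x : G ⧸ V) = 1 := hy ▸ (QuotientGroup.eq_one_iff _).2 h3
    rw [← orderOf_coe, h4, orderOf_one] at hx
    exact hp.out.one_lt.ne hx
  have L2 : ∀ X : Subgroup (G ⧸ V), IsMulCommutative X → p ∣ Nat.card X → ∃ S Y : Subgroup G,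
      IsSylowIn p S (X.comap π) ∧ S ⊔ Y = X.comap π ∧ IsMulCommutative Y ∧ S ≤ centralizer (Y : Set G) ∧
        Nat.card Y = S.relIndex (X.comap π) := by
    intro X hX hX'
    obtain ⟨S, hS⟩ := exists_isSylowIn p (X.comap π)
    have hVS : V ≤ S := hS.le_of_normalized hVp (hker X) (by rw [normalizer_eq_top]; exact le_top)
    have hcomm : ∀ a ∈ X.comap π, ∀ b ∈ X.comap π, ⁅a, b⁆ ∈ V := fun a ha b hb =>
      (QuotientGroup.eq_one_iff _).1 (by
        change π ⁅a, b⁆ = 1
        rw [map_commutatorElement, commutatorElement_eq_one_iff_mul_comm]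
        exact setLike_mul_comm (s := X) ha hb)
    have hN : X.comap π ≤ normalizer (S : Set G) :=
      le_normalizer_iff_conj_smul_le.2 fun g hg => (conj_smul_le_iff _ _ _).2 fun x hx => by
        have := mul_mem (hVS (hcomm g hg x (hS.le hx))) hx
        simpa [commutatorElement_def] using this
    obtain ⟨m, hm⟩ := hS.isPGroup.exists_card_eq
    have hcop : (Nat.card S).Coprime (S.relIndex (X.comap π)) := by
      rw [hm]; exact Nat.Coprime.pow_left _ ((Nat.Prime.coprime_iff_not_dvd hp.out).2 hS.not_dvd)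
    obtain ⟨Y, h1, h2, h3, h4⟩ := exists_complement_in hS.le hN hcop
    refine ⟨S, Y, hS, h2, isMulCommutative_of_map_mk' (eq_bot_iff.2 (h3 ▸ le_inf (inf_le_right.trans hVS)
      inf_le_left)) (isMulCommutative_of_le hX (map_le_iff_le_comap.2 h1)), ?_, h4⟩
    have h5 := commutator_sup_centralizer_eq (h1.trans hN) (h4 ▸ hcop.symm)
      (Or.inr (haveI := hS.isPGroup.isNilpotent; inferInstance))
    have h6 : ⁅S, Y⁆ ≤ V := commutator_le.2 fun a ha b hb => hcomm a (hS.le ha) b (h1 hb)
    have h7 : V ≤ S ⊓ centralizer (Y : Set G) := by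
      by_cases h0 : S ⊓ centralizer (Y : Set G) = ⊥
      · rw [h0, sup_bot_eq] at h5
        have : S = V := le_antisymm (h5 ▸ h6) hVS
        exact absurd (by rw [this, hrel]; exact hX') hS.not_dvd
      · obtain ⟨k, hk⟩ := (hS.isPGroup.to_le (inf_le_left (b := centralizer (Y : Set G)))).exists_card_eq
        obtain ⟨y, hy⟩ := exists_prime_orderOf_dvd_card' (G := ↥(S ⊓ centralizer (Y : Set G))) p (by
          rcases k with _ | k
          · exact absurd (card_eq_one.1 hk) h0
          · exact hk ▸ dvd_pow_self p k.succ_ne_zero)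
        have : zpowers (y : G) = V := eq_of_le_of_card_ge ((zpowers_le).2 (F1 _ (by
          rw [← hy, ← orderOf_coe, pow_orderOf_eq_one]))) (by rw [Nat.card_zpowers, orderOf_coe, hy, F2])
        rw [← this]; exact (zpowers_le).2 y.2
    rw [← h5]; exact sup_le (h6.trans (h7.trans inf_le_right)) inf_le_right
  -- non-cyclic `p`-subgroups have order eight
  have F3 : ∀ S : Subgroup G, IsPGroup p S → ¬ IsCyclic S → Nat.card S = 8 := by
    intro S hS hnc
    obtain ⟨rfl, m, a, b, hab, hb, hba⟩ := (isCyclic_or_quaternion_of_forall_ea hS fun E hE e => by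
      have : E.map S.subtype ≤ V := by
        rintro _ ⟨x, hx, rfl⟩; exact F1 _ (by rw [← map_pow, hE.2 x hx, map_one])
      have := card_le_of_le this
      rw [card_map_subtype, e, F2] at this
      nlinarith [hp.out.one_lt]).resolve_left hnc
    haveI := hs.resolve_left fun e => e rfl
    have hV2 : ∀ x : G, π x ^ 2 = 1 → x ^ 4 = 1 := fun x hx => by
      rw [show 4 = 2 * 2 from rfl, pow_mul]
      exact hV.2 _ ((QuotientGroup.eq_one_iff _).1 hx)
    have hinv : ∀ x y : G ⧸ V, orderOf x = 2 → orderOf y = 2 → IsConj x y := by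
      have o4 : ∀ x : G, orderOf (π x) = 2 → orderOf x = 4 := fun x hx =>
        orderOf_eq_prime_pow (p := 2) (n := 1) (fun e => by
          have : π x = 1 := (QuotientGroup.eq_one_iff _).2 (F1 x e)
          rw [this] at hx; simp at hx) (hV2 x (hx ▸ pow_orderOf_eq_one _))
      intro x y hx hy
      obtain ⟨x, rfl⟩ := hπ x
      obtain ⟨y, rfl⟩ := hπ y
      obtain ⟨g, hg⟩ := h (zpowers x) (zpowers y) inferInstance inferInstance
        (by rw [Nat.card_zpowers, Nat.card_zpowers, o4 x hx, o4 y hy])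
      obtain ⟨i, hi⟩ := mem_zpowers_iff.1 (hg ▸ conj_mem_conj_smul g (mem_zpowers x))
      refine isConj_iff.2 ⟨π g, ?_⟩
      have h1 : π g * π x * (π g)⁻¹ = π y ^ i := by rw [← map_zpow, hi]; simp
      have h2 : π y ^ (2 : ℤ) = 1 := by exact_mod_cast hy ▸ pow_orderOf_eq_one (π y)
      rcases Int.even_or_odd' i with ⟨r, rfl | rfl⟩
      · rw [zpow_mul, h2, one_zpow, conj_eq_one_iff] at h1
        rw [h1] at hx; simp at hx
      · rw [h1, zpow_add, zpow_mul, h2, one_zpow, one_mul, zpow_one]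
    have hz : (b : G) ^ 2 ∈ V := F1 _ (by
      have := congrArg S.subtype (pow_orderOf_eq_one (a ^ 2 ^ (m - 1)))
      rw [hab.orderOf_z, ← hb] at this
      simpa using this)
    have hb2 : π b ^ 2 = 1 := (QuotientGroup.eq_one_iff _).2 hz
    have hba' : π b * π a * (π b)⁻¹ = (π a)⁻¹ := by
      simpa using congrArg (fun x : S => π x) hba
    have hcm := commute_of_involutions_conj (G ⧸ V) inferInstance hinv _ (hS.map π) _
      (mem_map_of_mem _ b.2) _ (mem_map_of_mem _ (mul_mem a.2 b.2)) hb2 (by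
        rw [map_mul]
        calc (π a * π b) ^ 2 = π a * (π b * π a * (π b)⁻¹) * π b ^ 2 := by simp only [sq]; group
          _ = 1 := by rw [hba', hb2]; group)
    have ha2 : π a ^ 2 = 1 := by
      have h1 : π b * π a = π a * π b := by
        have := hcm.eq
        rw [map_mul, ← mul_assoc] at this
        exact mul_right_cancel this
      rw [h1, mul_inv_cancel_right] at hba'
      rw [sq]; nth_rewrite 1 [hba']; group
    have h4 : orderOf a ∣ 2 ^ 2 := orderOf_dvd_of_pow_eq_one (Subtype.ext (hV2 _ ha2))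
    rw [hab.ord, Nat.pow_dvd_pow_iff_le_right one_lt_two] at h4
    rw [hab.card, le_antisymm h4 hab.two_le]; rfl
  obtain ⟨S, X, a1, a2, a3, a4, a5⟩ := L2 A hA hd
  obtain ⟨T, Y, b1, b2, b3, b4, b5⟩ := L2 B hB (hc ▸ hd)
  have hcc : Nat.card (A.comap π) = Nat.card (B.comap π) := by rw [card_comap_mk', card_comap_mk', hc]
  have hST : Nat.card S = Nat.card T := by rw [a1.card_eq_pow, b1.card_eq_pow, hcc]
  refine down A B _ _ (map_comap_eq_self_of_surjective hπ A) (map_comap_eq_self_of_surjective hπ B) ?_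
  by_cases hcy : IsCyclic S ∧ IsCyclic T
  · obtain ⟨c1, c2⟩ := hcy
    exact h _ _ (a2 ▸ isMulCommutative_sup inferInstance a3 a4) (b2 ▸ isMulCommutative_sup inferInstance b3 b4)
      hcc
  have hXY : Nat.card X = Nat.card Y := by
    have a := card_mul_relIndex a1.le
    rw [hcc, ← card_mul_relIndex b1.le, ← a5, ← b5, hST] at a
    exact Nat.eq_of_mul_eq_mul_left Nat.card_pos a
  obtain ⟨g, rfl⟩ := h X Y a3 b3 hXY
  have hsyl : ∀ R : Subgroup G, IsPGroup p R → Nat.card R = Nat.card S → IsSylowIn p R ⊤ := by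
    intro R hR e
    obtain ⟨U, hU, hU', hU''⟩ : ∃ U : Subgroup G, IsPGroup p U ∧ ¬ IsCyclic U ∧ Nat.card U = Nat.card S := by
      by_cases c : IsCyclic S
      · exact ⟨T, b1.isPGroup, fun c' => hcy ⟨c, c'⟩, hST.symm⟩
      · exact ⟨S, a1.isPGroup, c, rfl⟩
    obtain ⟨P, hP, hUP⟩ := exists_isSylowIn_ge hU le_top
    refine hP.of_card_le hR le_top (le_of_eq ?_)
    rw [e, ← hU'', F3 U hU hU', F3 P hP.isPGroup fun c => hU' (Subgroup.isCyclic_of_le hUP)]
  have c1 : MulAut.conj g • S ≤ centralizer ((MulAut.conj g • X : Subgroup G) : Set G) := by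
    rw [centralizer_conj_smul]; exact pointwise_smul_le_pointwise_smul_iff.2 a4
  obtain ⟨c, hc1, hc2⟩ := ((hsyl _ (IsPGroup.conj_smul a1.isPGroup g) (card_conj_smul g S)).of_le c1
    le_top).exists_conj_eq ((hsyl T b1.isPGroup hST.symm).of_le b4 le_top)
  refine ⟨c * g, ?_⟩
  rw [← a2, ← b2, ← conj_smul_conj_smul, smul_sup, smul_sup, hc2,
    (conj_smul_eq_self_iff c _).2 (centralizer_le_normalizer _ hc1)]

end

theorem AbConj.of_surjective (G : Type u) [Group G] [Finite G] : AbConj G →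
    ∀ {H : Type*} [Group H] (f : G →* H), Function.Surjective f → Group.IsSolvable f.ker →
      (Odd (Nat.card f.ker) ∨ Group.IsSolvable G) → AbConj H := by
  revert G
  refine induction_on_card fun G _ _ ih h H _ f hf hs ho => ?_
  by_cases h0 : f.ker = ⊥
  · have hi := (MonoidHom.ker_eq_bot_iff f).1 h0
    intro A B hA hB hc
    obtain ⟨g, hg⟩ := h (A.comap f) (B.comap f) (comap_injective_isMulCommutative A hi)
      (comap_injective_isMulCommutative B hi)
      (by rw [card_comap_of_surjective hf, card_comap_of_surjective hf, hc])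
    exact ⟨f g, by rw [← map_comap_eq_self_of_surjective hf A, ← map_conj_smul, hg,
      map_comap_eq_self_of_surjective hf]⟩
  obtain ⟨V, p, hp, hV, hle, hE⟩ := exists_isMinNormal_isElementaryAbelian_le f.ker h0 hs
  haveI := Fact.mk hp
  haveI := hV.normal
  have hk : (QuotientGroup.lift V f hle).ker = f.ker.map (QuotientGroup.mk' V) := QuotientGroup.ker_lift V f hle
  refine ih (G ⧸ V) (card_quotient_lt hV.ne_bot) (h.quotient_step hE hV.ne_bot (ho.imp_left fun ho e => ?_))
    (QuotientGroup.lift V f hle) (fun y => ?_) ?_ (ho.imp (fun ho => ?_) fun hG => ?_)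
  · subst e
    obtain ⟨n, hn⟩ := (isPGroup_of_isElementaryAbelian hE).exists_card_eq
    have := ho.of_dvd_nat (card_dvd_of_le hle)
    rcases n with _ | n
    · exact hV.ne_bot (card_eq_one.1 hn)
    · rw [hn] at this; exact absurd this (by simp [Nat.odd_iff, pow_succ])
  · obtain ⟨x, rfl⟩ := hf y; exact ⟨x, rfl⟩
  · rw [hk]; exact isSolvable_map _ _
  · rw [hk]; exact ho.of_dvd_nat (card_map_dvd _ _)
  · haveI : Group.IsSolvable G := hG
    infer_instance

end CL.Fgs
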