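/-
Solvable groups in which abelian subgroups of equal order are conjugate: normal elementary abelian subgroups and
the Sylow structure.
-/
import Cfsg.Agent.Fgs.EqConj4
import Cfsg.Agent.Fgs.CorEq
import Cfsg.Agent.Loc.SigGen
import Cfsg.Agent.Odd.BG1d

set_option autoImplicit false
set_option linter.unusedSectionVars false

open Cfsg Subgroup CL.Grp CL.Loc
open scoped Pointwise commutatorElement

namespace CL.Fgs.EqAb

universe u

variable {G : Type u} [Group G] [Finite G]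

theorem abP (h : AbConj G) (p : ℕ) : AbPConj p G := fun A B a b _ _ c => (h A B a b c).imp fun _ e => e.symm

section Elem

variable {q : ℕ} [hq : Fact q.Prime] {V N U : Subgroup G}

theorem mem_zpowers_of_mem (hV : IsElementaryAbelian q V) {u y : G} (hu : u ∈ V) (hy : y ∈ zpowers u) (h1 : y ≠ 1) :
    u ∈ zpowers y := by
  have h2 : u ≠ 1 := by
    rintro rfl
    exact h1 (by simpa using hy)
  have := eq_of_le_of_card_ge (zpowers_le.2 hy) (by
    rw [Nat.card_zpowers, Nat.card_zpowers, orderOf_eq_prime (hV.2 u hu) h2,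
      orderOf_eq_prime (hV.2 y (zpowers_le.2 hu hy)) h1])
  exact this ▸ mem_zpowers u

/-- a normal subgroup normalising a proper nontrivial subgroup of `V` acts on `V` by scalars. -/
theorem scalar (h : AbConj G) (hV : IsElementaryAbelian q V) [V.Normal] [hN : N.Normal] (hU : U < V) (h0 : U ≠ ⊥)
    (hn : N ≤ normalizer (U : Set G)) {n v : G} (hnN : n ∈ N) (hv : v ∈ V) : n * v * n⁻¹ ∈ zpowers v := by
  by_contra hw
  have hwV : n * v * n⁻¹ ∈ V := Normal.conj_mem inferInstance v hv n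
  have hv1 : v ≠ 1 := by
    rintro rfl
    exact hw (by simp)
  have := hV.1
  obtain ⟨E, hE, h1, h2⟩ := ea_exists_compl hV (sup_le (zpowers_le.2 hv) (zpowers_le.2 hwV))
  have hL : E ⊔ zpowers v ≤ V := sup_le hE (zpowers_le.2 hv)
  have h3 : n * v * n⁻¹ ∉ E ⊔ zpowers v := fun h3 => by
    obtain ⟨e, he, y, hy, h4⟩ := (Grp.mem_sup_of_le_normalizer (hE.trans (le_normalizer_of_isMulCommutative
      (zpowers_le.2 hv)))).1 h3
    have h5 : e ∈ E ⊓ (zpowers v ⊔ zpowers (n * v * n⁻¹)) :=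
      ⟨he, (eq_mul_inv_of_mul_eq h4) ▸ mul_mem (mem_sup_right (mem_zpowers _)) (mem_sup_left (inv_mem hy))⟩
    rw [h1, mem_bot] at h5
    rw [h5, one_mul] at h4
    exact hw (h4 ▸ hy)
  have h4 := card_sup_zpowers_le hV hL hwV
  rw [sup_assoc, h2] at h4
  obtain ⟨a, ha⟩ := ea_card_eq_pow (ea_mono hV hU.le)
  obtain ⟨b, hb⟩ := ea_card_eq_pow (ea_mono hV hL)
  obtain ⟨c, hc⟩ := ea_card_eq_pow hV
  have h5 := Grp.card_lt_card_of_lt hU
  rw [ha, hc, Nat.pow_lt_pow_iff_right hq.out.one_lt] at h5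
  rw [hb, hc, ← pow_succ', Nat.pow_le_pow_iff_right hq.out.one_lt] at h4
  have h6 : 1 ≤ a := Nat.pos_of_ne_zero fun e => h0 (card_eq_one.1 (by rw [ha, e, pow_zero]))
  obtain ⟨B, hB1, hB2, hB3⟩ := CL.Odd.exists_between_card_pow hq.out (le_sup_right : zpowers v ≤ E ⊔ zpowers v)
    (k := 1) (by rw [Nat.card_zpowers, orderOf_eq_prime (hV.2 v hv) hv1, pow_one]) h6
    (hb ▸ pow_dvd_pow q (by omega))
  obtain ⟨g, rfl⟩ := h U B (ea_mono hV hU.le).1 (ea_mono hV (hB2.trans hL)).1 (ha.trans hB3.symm)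
  refine h3 (hB2 ((mem_conj_smul_iff _ _ _).2 ?_))
  have h7 := (mem_normalizer_iff.1 (hn (hN.conj_mem' n hnN g)) _).1 ((mem_conj_smul_iff _ _ _).1 (hB1 (mem_zpowers v)))
  simpa [mul_assoc] using h7

/-- a scalar with a nontrivial fixed point is trivial. -/
theorem cent_of_scalar (hV : IsElementaryAbelian q V) {n v : G} (h : ∀ w ∈ V, n * w * n⁻¹ ∈ zpowers w) (hv : v ∈ V)
    (h1 : v ≠ 1) (hc : v * n = n * v) : n ∈ centralizer (V : Set G) := by
  intro w hw
  by_contra h2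
  have h3 : n * w * n⁻¹ * w⁻¹ ≠ 1 := fun e => h2 (by rw [mul_inv_eq_one, mul_inv_eq_iff_eq_mul] at e; exact e.symm)
  have h4 : n * w * n⁻¹ * w⁻¹ ∈ zpowers w := mul_mem (h w hw) (inv_mem (mem_zpowers w))
  have h5 : n * w * n⁻¹ * w⁻¹ ∈ zpowers (w * v) := by
    have := mul_mem (h _ (mul_mem hw hv)) (inv_mem (mem_zpowers (w * v)))
    rwa [show n * (w * v) * n⁻¹ * (w * v)⁻¹ = n * w * (v * n⁻¹ * v⁻¹) * w⁻¹ by group,
      show v * n⁻¹ * v⁻¹ = n⁻¹ by rw [(Commute.inv_right hc).eq, mul_inv_cancel_right]] at this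
  have h6 : w * v ∈ zpowers w := zpowers_le.2 h4 (mem_zpowers_of_mem hV (mul_mem hw hv) h5 h3)
  obtain ⟨i, rfl⟩ := mem_zpowers_of_mem hV hw (((zpowers w).mul_mem_cancel_left (mem_zpowers w)).1 h6) h1
  exact h2 (Commute.zpow_left hc i)

theorem cent_of_fixed (h : AbConj G) (hV : IsElementaryAbelian q V) [V.Normal] [N.Normal]
    (hN : ⁅N, N⁆ ≤ centralizer (V : Set G)) {y : G} (hy : y ∈ N) (h0 : V ⊓ centralizer {y} ≠ ⊥) :
    y ∈ centralizer (V : Set G) := by
  by_cases h1 : V ⊓ centralizer {y} = V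
  · exact fun v hv => mem_centralizer_singleton_iff.1 (h1.ge hv).2
  obtain ⟨v, hv, hv1⟩ := (bot_or_exists_ne_one _).resolve_left h0
  refine cent_of_scalar hV (fun w hw => scalar h hV (lt_of_le_of_ne inf_le_left h1) h0 ?_ hy hw) hv.1 hv1
    (mem_centralizer_singleton_iff.1 hv.2)
  refine le_normalizer_iff.2 fun n hn u hu => ?_
  refine ⟨Normal.conj_mem inferInstance u hu.1 n, mem_centralizer_singleton_iff.2 ?_⟩
  have h2 := hN (commutator_mem_commutator (inv_mem hy) (inv_mem hn)) u hu.1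
  have h3 := mem_centralizer_singleton_iff.1 hu.2
  rw [commutatorElement_def, inv_inv, inv_inv] at h2
  calc n * u * n⁻¹ * y = n * (u * y) * (y⁻¹ * n⁻¹ * y * n) * n⁻¹ := by group
    _ = n * y * (u * (y⁻¹ * n⁻¹ * y * n)) * n⁻¹ := by rw [h3]; group
    _ = y * (n * u * n⁻¹) := by rw [h2]; group

end Elem

theorem isCyclic_of_map {G' : Type*} [Group G'] {P : Subgroup G} {f : G →* G'} (hf : P ⊓ f.ker = ⊥)
    (h : IsCyclic (P.map f)) : IsCyclic P :=
  isCyclic_of_injective (f.subgroupMap P) ((injective_iff_map_eq_one _).2 fun x hx =>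
    Subtype.ext (mem_bot.1 (hf ▸ ⟨x.2, congrArg Subtype.val hx⟩ : (x : G) ∈ ⊥)))

/-- a noncyclic Sylow subgroup of exponent `p` is normal. -/
theorem sylow_normal {p : ℕ} [hp : Fact p.Prime] (G : Type u) [Group G] [Finite G] : Group.IsSolvable G → AbConj G →
    ∀ P : Subgroup G, IsSylowIn p P ⊤ → (∀ x ∈ P, x ^ p = 1) → ¬ IsCyclic P → P.Normal := by
  revert G
  refine induction_on_card fun G _ _ ih hs h P hP he hc => ?_
  have hP0 : P ≠ ⊥ := by
    rintro rfl
    exact hc inferInstance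
  have : Nontrivial G := not_subsingleton_iff_nontrivial.1 fun _ => hP0 (Subsingleton.elim _ _)
  obtain ⟨V, q, hq, hV, hVe⟩ := exists_isMinNormal_isElementaryAbelian G
  have := Fact.mk hq
  have := hV.normal
  have := hVe.1
  have hO := oneCls_of_abPConj (abP h p) he
  by_cases hqp : q = p
  · subst hqp
    have h1 : V ≤ P := hP.le_of_normalized (ea_isPGroup hVe) le_top (by rw [normalizer_eq_top])
    rwa [le_antisymm (hO.le_normal (by rw [inf_eq_right.2 h1]; exact hV.ne_bot)) h1]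
  obtain ⟨k, hk⟩ := ea_card_eq_pow hVe
  obtain ⟨m, hm⟩ := hP.isPGroup.exists_card_eq
  have hcop : (Nat.card V).Coprime p := hk ▸ ((Nat.coprime_primes hq hp.out).2 hqp).pow_left k
  have hab : IsMulCommutative P := OneCls.comm_of_psolv _ G rfl P ⊤ hO hP
    (isPSolvable_top_iff.2 (isPSolvable_of_isSolvable hs)) (by
      rcases m with _ | m
      · exact absurd (card_eq_one.1 hm) hP0
      · exact (dvd_pow_self p m.succ_ne_zero).trans (hm ▸ card_dvd_of_le le_top))
  have h1 := ih (G ⧸ V) (Grp.card_quotient_lt hV.ne_bot) inferInstance (h.quotient_step hVe hV.ne_bot (Or.inr hs)) _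
    (sylIn_map_mk hP V) (by rintro _ ⟨x, hx, rfl⟩; rw [← map_pow, he x hx, map_one])
    fun h1 => hc (isCyclic_of_map (inf_ker_mk_eq_bot hP.isPGroup hcop) h1)
  have h2 : (P ⊔ V).Normal := by
    have := h1.comap (QuotientGroup.mk' V)
    rwa [comap_map_eq, QuotientGroup.ker_mk'] at this
  have h3 : ⁅P ⊔ V, P ⊔ V⁆ ≤ V := by
    rw [← QuotientGroup.ker_mk' V, ← Subgroup.map_eq_bot_iff, map_commutator, Subgroup.map_sup, QuotientGroup.ker_mk',
      QuotientGroup.map_mk'_self, sup_bot_eq, commutator_eq_bot_iff_le_centralizer]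
    exact le_centralizer_iff_isMulCommutative.2 inferInstance
  have h4 : P ≤ centralizer (V : Set G) := by
    refine hO.le_normal fun h4 => hV.ne_bot (eq_bot_iff.2 (le_of_forall_centralizer_le hc
      (by rw [normalizer_eq_top]; exact le_top) (hm ▸ hcop.symm.pow_left m) fun y hy h5 => ?_))
    by_contra h6
    exact h5 (mem_bot.1 (h4 ▸ ⟨hy, cent_of_fixed h hVe (h3.trans (le_centralizer V)) (mem_sup_left hy)
      fun e => h6 e.le⟩ : y ∈ ⊥))
  refine ⟨fun x hx g => ?_⟩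
  have h5 : IsSylowIn p (MulAut.conj g⁻¹ • P) ⊤ := hP.conj_smul_of_mem (mem_top _)
  have := (h5.of_le ((conj_smul_le_iff _ _ _).2 fun y hy => h2.conj_mem y (mem_sup_left hy) _) le_top).le_of_normalized
    hP.isPGroup le_sup_left (sup_le le_normalizer (Grp.le_normalizer_of_le_centralizer (le_centralizer_iff.1 h4))) hx
  rwa [mem_conj_smul_iff, inv_inv] at this

/-- the properties of a generalised quaternion subgroup used below. -/
structure Qt (S : Subgroup G) : Prop where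
  pg : IsPGroup 2 S
  nab : ¬ IsMulCommutative S
  cen : ∀ x ∈ S, x ^ 2 = 1 → x ∈ centralizer (S : Set G)
  cyc : IsCyclic ↥(S ⊓ centralizer (S : Set G))
  gen : ∀ N : Subgroup G, (∀ x ∈ S, orderOf x = 2 ^ 2 → x ∈ N) → S ≤ N
  ge : 8 ≤ Nat.card S
  big : Nat.card S = 8 ∨ ∃ c ∈ ⁅S, S⁆, orderOf c = 2 ^ 2

theorem qt_of {S : Subgroup G} {n : ℕ} {a b : S} (h : DQSGen n a b) (h1 : b ^ 2 = a ^ 2 ^ (n - 1))
    (h2 : b * a * b⁻¹ = a⁻¹) : Qt S := by
  have hn := h.two_le
  have h4 : ∀ x : S, x ^ 2 = a ^ 2 ^ (n - 1) → orderOf (x : G) = 2 ^ 2 := fun x hx => by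
    rw [orderOf_coe]
    refine orderOf_eq_prime_pow (fun e => ?_) ?_
    · have := h.orderOf_z
      rw [← hx, ← pow_one 2, e, orderOf_one] at this
      omega
    · rw [pow_succ, pow_mul, pow_one, hx]
      exact orderOf_dvd_iff_pow_eq_one.1 h.orderOf_z.dvd
  refine ⟨h.isPGroup, h.not_isMulCommutative, fun x hx e y hy => ?_, ?_, fun N hN => ?_, ?_, ?_⟩
  · exact congrArg Subtype.val (mem_center_iff.1 (h.mem_center_of_sq_eq_one h1 h2 (x := ⟨x, hx⟩) (Subtype.ext e)) ⟨y, hy⟩)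
  · refine isCyclic_of_le (H' := zpowers (a : G)) fun x hx => ?_
    have : (⟨x, hx.1⟩ : S) ∈ center S := mem_center_iff.2 fun y => Subtype.ext (hx.2 y y.2)
    rw [h.center_eq] at this
    obtain ⟨i, hi⟩ := zpowers_le.2 (pow_mem (mem_zpowers a) _) this
    exact ⟨i, congrArg Subtype.val hi⟩
  · have hb := hN b b.2 (h4 b h1)
    have hab := hN _ (a * b).2 (h4 _ (by
      rw [← h1, pow_two, pow_two, show a * b * (a * b) = a * (b * a * b⁻¹) * (b * b) by group, h2, mul_inv_cancel,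
        one_mul]))
    intro x hx
    have : (⟨x, hx⟩ : S) ∈ N.subgroupOf S := by
      refine (closure_le _).2 ?_ (h.closure_eq_top ▸ mem_top _)
      rintro _ (rfl | rfl)
      · exact (N.mul_mem_cancel_right hb).1 hab
      · exact hb
    exact this
  · rw [h.card]
    exact Nat.pow_le_pow_right two_pos (show 3 ≤ n + 1 by omega)
  · by_cases e : n = 2
    · exact Or.inl (by rw [h.card, e]; rfl)
    refine Or.inr ⟨(a ^ 2 ^ (n - 2) : S), ?_, h4 _ (by rw [← pow_mul, ← pow_succ, show n - 2 + 1 = n - 1 by omega])⟩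
    have : a ^ 2 ^ (n - 2) ∈ commutator S := by
      rw [h.commutator_eq, show n - 2 = n - 3 + 1 by omega, Nat.pow_succ', pow_mul]
      exact pow_mem (mem_zpowers _) _
    have := mem_map_of_mem S.subtype this
    rwa [map_subtype_commutator] at this

namespace Qt

variable {S : Subgroup G} (hS : Qt S)
include hS

theorem ord4 {D : Subgroup G} (hD : D ≤ S) : (∃ y ∈ D, orderOf y = 2 ^ 2) ∨ D ≤ centralizer (S : Set G) := by
  refine or_iff_not_imp_left.2 fun h x hx => hS.cen x (hD hx) ?_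
  by_contra h1
  obtain ⟨k, hk⟩ := (IsPGroup.iff_orderOf.1 hS.pg) ⟨x, hD hx⟩
  obtain ⟨j, hj⟩ := exists_pow_orderOf_eq_sq Nat.prime_two ((orderOf_coe _).trans hk) h1
  exact h ⟨_, pow_mem hx j, hj⟩

theorem le_normal (h : AbConj G) {N : Subgroup G} [hN : N.Normal] {y : G} (hy : y ∈ N) (h4 : orderOf y = 2 ^ 2) :
    S ≤ N := hS.gen N fun x _ hx => by
  obtain ⟨g, hg⟩ := exists_conj_mem_of_orderOf_eq (abP h 2) hx h4
  simpa [mul_assoc] using hN.conj_mem _ (zpowers_le.2 hy hg) g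

theorem exists_cent {r : ℕ} (hr : r.Prime) (h2 : r ≠ 2) {X : Subgroup G} (hX : IsPGroup r X) (hc : IsCyclic X)
    (hn : S ≤ normalizer (X : Set G)) : ∃ y ∈ S ⊓ centralizer (X : Set G), orderOf y = 2 ^ 2 := by
  refine (hS.ord4 inf_le_left).resolve_right fun h => hS.nab ?_
  obtain ⟨a, ha, e⟩ := CL.Odd.exists_cent_sup_zpowers_of_cyclic hr h2 hX hc hn
  exact e ▸ isMulCommutative_sup (le_centralizer_iff_isMulCommutative.1 (h.trans (centralizer_le inf_le_left)))
    inferInstance (h.trans (centralizer_le (zpowers_le.2 ha)))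

theorem normal_card (hs : Group.IsSolvable G) (h : AbConj G) (hP : IsSylowIn 2 S ⊤)
    (hc : ∀ r : ℕ, r.Prime → r ≠ 2 → IsCyclic (pCore r G)) : S.Normal ∧ Nat.card S = 8 := by
  have := Fact.mk Nat.prime_two
  have h0 : pCore 2 G ≤ S := hP.le_of_normalized (pCore_isPGroup 2 G) le_top (by rw [normalizer_eq_top])
  have h1 : S ≤ pCore 2 G := by
    rcases hS.ord4 h0 with ⟨y, hy, h4⟩ | h2
    · exact hS.le_normal h hy h4
    refine le_pCore_of_le_fittingSubgroup hS.pg ((le_centralizer_iff.1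
      (fittingSubgroup_le_of_forall_pCore_le fun r hr => ?_)).trans (centralizer_fittingSubgroup_le G))
    by_cases e : r = 2
    · exact e ▸ h2
    obtain ⟨y, hy, h4⟩ := hS.exists_cent hr.out e (pCore_isPGroup r G) (hc r hr.out e)
      (by rw [normalizer_eq_top]; exact le_top)
    exact le_centralizer_iff.1 (hS.le_normal h hy.2 h4)
  have hn : S.Normal := le_antisymm h1 h0 ▸ inferInstance
  refine ⟨hn, hS.big.resolve_right fun ⟨c, hc, h4⟩ => hS.nab ?_⟩
  rw [eq_bot_of_le_commutator hS.pg.isNilpotent le_rfl (hS.le_normal h hc h4)]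
  infer_instance

end Qt

end CL.Fgs.EqAb
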