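/-
Solvable groups in which abelian subgroups of equal order are conjugate: all subgroups of equal order are conjugate.
-/
import Cfsg.Agent.Fgs.EqAb1

set_option autoImplicit false
set_option linter.unusedSectionVars false

open Cfsg Subgroup CL.Grp CL.Loc
open scoped Pointwise commutatorElement

namespace CL.Fgs.EqAb

universe u

variable {G : Type u} [Group G] [Finite G]

theorem fin (hs : Group.IsSolvable G) {W : Subgroup G} [W.Normal] [IsMulCommutative W]
    (hW : (Nat.card W).Coprime W.index)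
    (hc : ∀ p : ℕ, p.Prime → p ≠ 2 → ¬ p ∣ Nat.card W → ∀ P : Subgroup G, IsPGroup p P → IsCyclic P)
    (h2 : ¬ 2 ∣ Nat.card W → ∀ H K : Subgroup G, IsPGroup 2 H → IsPGroup 2 K → Nat.card H = Nat.card K →
      ∃ g : G, MulAut.conj g • H = K)
    {A B U : Subgroup G} [U.Normal] (hA : W ⊓ A = U) (hB : W ⊓ B = U) (h : Nat.card A = Nat.card B) :
    ∃ g : G, MulAut.conj g • A = B := by
  have cyc : ∀ p : ℕ, p.Prime → p ≠ 2 ∨ p ∣ Nat.card W → ∀ P : Subgroup (G ⧸ W), IsPGroup p P → IsCyclic P := by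
    intro p hp h1 P hP
    have := Fact.mk hp
    by_cases hd : p ∣ Nat.card W
    · obtain ⟨_ | k, hk⟩ := hP.exists_card_eq
      · rw [card_eq_one.1 hk]
        infer_instance
      · exact absurd (Nat.eq_one_of_dvd_coprimes hW hd ((dvd_pow_self p k.succ_ne_zero).trans
          (hk ▸ card_subgroup_dvd_card P))) hp.ne_one
    · obtain ⟨R, hR, rfl⟩ := exists_isPGroup_map_eq (QuotientGroup.mk'_surjective W) hP
      have := hc p hp (h1.resolve_right hd) hd R hR
      exact isCyclic_of_surjective _ ((QuotientGroup.mk' W).subgroupMap_surjective R)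
  have hq := conj_of_card_eq_of_pconj 2 (G ⧸ W) inferInstance (fun p hp H K hH hK e => by
    have := Fact.mk hp
    by_cases h1 : p ≠ 2 ∨ p ∣ Nat.card W
    · exact exists_conj_of_cyclic_pgroups (cyc p hp h1) hH hK e
    · rw [not_or, not_not] at h1
      obtain ⟨rfl, h1⟩ := h1
      exact pconj_quotient W (h2 h1) H K hH hK e) fun p hp h1 => cyc p hp (Or.inl h1)
  have key : ∀ X : Subgroup G, W ⊓ X = U → ∃ K : Subgroup G, U ⊔ K = X ∧ W ⊓ K = ⊥ ∧
      (Nat.card W).Coprime (Nat.card K) ∧ Nat.card U * Nat.card K = Nat.card X := fun X hX => by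
    have h1 : (Nat.card W).Coprime (U.relIndex X) := by
      rw [← hX, inf_relIndex_right]
      exact hW.coprime_dvd_right (Subgroup.relIndex_dvd_index_of_normal W X)
    have h3 : U ≤ X := hX ▸ inf_le_right
    obtain ⟨K, a, b, c, d⟩ := exists_complement_in h3 (by rw [normalizer_eq_top]; exact le_top)
      (h1.coprime_dvd_left (card_dvd_of_le (hX ▸ inf_le_left)))
    exact ⟨K, b, eq_bot_iff.2 (c ▸ le_inf (hX ▸ inf_le_inf_left _ a) inf_le_right), d ▸ h1,
      d ▸ hall_card_mul_relIndex h3⟩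
  obtain ⟨K, rfl, a, b, c⟩ := key A hA
  obtain ⟨L, rfl, a', b', c'⟩ := key B hB
  obtain ⟨g, hg⟩ := hq _ _ (card_map_mk'_eq (N := W) (Nat.eq_of_mul_eq_mul_left Nat.card_pos (c.trans (h.trans c'.symm)))
    (by rw [a, a']))
  obtain ⟨g, rfl⟩ := QuotientGroup.mk_surjective g
  obtain ⟨m, -, hm⟩ := hall_conj_of_sup_eq_abelian (conj_smul_sup_eq_of_quotient g hg) (by rwa [card_conj_smul]) b'
  exact ⟨m * g, by rw [smul_sup, (conj_smul_eq_self_iff _ U).2 (by rw [normalizer_eq_top]; trivial),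
    ← conj_smul_conj_smul, hm]⟩

/-- the primes whose Sylow subgroup is a minimal normal subgroup. -/
def pi (G : Type u) [Group G] : Set ℕ :=
  {q | ∃ V : Subgroup G, IsMinNormal V ∧ IsElementaryAbelian q V ∧ ∀ P : Subgroup G, IsPGroup q P → P ≤ V}

theorem le_W {q : ℕ} [hq : Fact q.Prime] (h : q ∈ pi G) {V : Subgroup G} (hV : IsMinNormal V)
    (he : IsElementaryAbelian q V) : V ≤ piCore (pi G) G := by
  have := hV.normal
  obtain ⟨k, hk⟩ := ea_card_eq_pow he
  exact le_piCore fun p hp hd => (Nat.prime_dvd_prime_iff_eq hp hq.out).1 (hp.dvd_of_dvd_pow (hk ▸ hd)) ▸ h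

theorem bot_or {q : ℕ} [hq : Fact q.Prime] {P : Subgroup G} (h : P ≤ piCore (pi G) G) (hP : IsPGroup q P) :
    P = ⊥ ∨ q ∈ pi G := by
  obtain ⟨_ | k, hk⟩ := hP.exists_card_eq
  · exact Or.inl (card_eq_one.1 hk)
  · exact Or.inr (piCore_isPiSubgroup _ G q hq.out ((dvd_pow_self q k.succ_ne_zero).trans (hk ▸ card_dvd_of_le h)))

theorem comm_W (hs : Group.IsSolvable G) : IsMulCommutative (piCore (pi G) G) := by
  have h1 : piCore (pi G) G ≤ fittingSubgroup G := le_of_forall_isPGroup_le fun q _ P hP h => by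
    rcases bot_or hP h with rfl | ⟨V, hV, -, h2⟩
    exacts [bot_le, (h2 P h).trans (hV.le_fittingSubgroup inferInstance)]
  refine le_centralizer_iff_isMulCommutative.1 (le_of_forall_isPGroup_le fun q _ P hP h => ?_)
  rcases bot_or hP h with rfl | ⟨V, hV, -, h2⟩
  exacts [bot_le, (h2 P h).trans (le_centralizer_iff.1 (h1.trans hV.fittingSubgroup_le_centralizer))]

theorem cop_W : (Nat.card (piCore (pi G) G)).Coprime (piCore (pi G) G).index := by
  refine Nat.coprime_of_dvd fun q hq h1 h2 => ?_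
  have := Fact.mk hq
  have h := piCore_isPiSubgroup _ G q hq h1
  obtain ⟨V, hV, he, h3⟩ := id h
  obtain ⟨P⟩ : Nonempty (Sylow q G) := inferInstance
  exact P.not_dvd_index (h2.trans (index_dvd_of_le ((h3 P P.2).trans (le_W h hV he))))

variable (hs : Group.IsSolvable G) (h : AbConj G)
include hs h

theorem tri {q : ℕ} [hq : Fact q.Prime] (hq' : q ∉ pi G) {S : Subgroup G} (hS : IsSylowIn q S ⊤) :
    IsCyclic S ∨ q = 2 ∧ ∃ (n : ℕ) (a b : S), DQSGen n a b ∧ b ^ 2 = a ^ 2 ^ (n - 1) ∧ b * a * b⁻¹ = a⁻¹ := by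
  rcases (abP h q).cases hS.isPGroup with h1 | h1 | h1
  · exact Or.inl h1
  · exact Or.inr h1
  refine Or.inl (by_contra fun h2 => hq' ?_)
  have := sylow_normal G hs h S hS h1 h2
  obtain ⟨V, hV, h3⟩ := exists_isMinNormal_le S (by rintro rfl; exact h2 inferInstance)
  have := hV.normal
  refine ⟨V, hV, hV.isElementaryAbelian_of_isPGroup (hS.isPGroup.to_le h3), fun P hP => le_trans ?_
    ((oneCls_of_abPConj (abP h q) h1).le_normal (by rw [inf_eq_right.2 h3]; exact hV.ne_bot))⟩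
  obtain ⟨T, hT, h4⟩ := exists_isSylowIn_ge hP le_top
  exact h4.trans (hS.eq_of_le hT.isPGroup (hT.le_of_normalized hS.isPGroup le_top (by rw [normalizer_eq_top]))
    le_top).le

theorem cyc_odd {q : ℕ} (hq : q.Prime) (h2 : q ≠ 2) (hq' : q ∉ pi G) {P : Subgroup G} (hP : IsPGroup q P) :
    IsCyclic P := by
  have := Fact.mk hq
  obtain ⟨T, hT, h4⟩ := exists_isSylowIn_ge hP le_top
  have := (tri hs h hq' hT).resolve_right fun e => h2 e.1
  exact isCyclic_of_le h4

theorem quat (h2 : 2 ∉ pi G) {S : Subgroup G} (hS : IsSylowIn 2 S ⊤) (hc : ¬ IsCyclic S) :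
    Qt S ∧ (S ⊔ piCore (pi G) G).Normal ∧ Nat.card S = 8 := by
  have := Fact.mk Nat.prime_two
  obtain ⟨-, n, a, b, h3, h4, h5⟩ := (tri hs h h2 hS).resolve_left hc
  let f := QuotientGroup.mk' (piCore (pi G) G)
  have hk : S ⊓ f.ker = ⊥ := inf_ker_mk_eq_bot hS.isPGroup
    ((Nat.prime_two.coprime_iff_not_dvd.2 fun e => h2 (piCore_isPiSubgroup _ G 2 Nat.prime_two e)).symm)
  let e : S ≃* S.map f := MulEquiv.ofBijective (f.subgroupMap S) ⟨(injective_iff_map_eq_one _).2 fun x hx =>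
    Subtype.ext (mem_bot.1 (hk ▸ ⟨x.2, congrArg Subtype.val hx⟩ : (x : G) ∈ ⊥)), f.subgroupMap_surjective S⟩
  obtain ⟨h6, h7⟩ := (qt_of (h3.map_equiv e) (by rw [← map_pow, h4, map_pow])
    (by rw [← map_inv, ← map_mul, ← map_mul, h5, map_inv])).normal_card inferInstance
    (h.of_surjective G f (QuotientGroup.mk'_surjective _) inferInstance (Or.inr hs)) (sylIn_map_mk hS _)
    fun r hr hr2 => by
      have := Fact.mk hr
      obtain ⟨R, hR, e⟩ := exists_isPGroup_map_eq (QuotientGroup.mk'_surjective (piCore (pi G) G)) (pCore_isPGroup r _)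
      rw [← e]
      by_cases h8 : r ∈ pi G
      · obtain ⟨V, hV, he, h9⟩ := id h8
        rw [(Subgroup.map_eq_bot_iff _).2 (by rw [QuotientGroup.ker_mk']; exact (h9 R hR).trans (le_W h8 hV he))]
        infer_instance
      · have := cyc_odd hs h hr hr2 h8 hR
        exact isCyclic_of_surjective _ (f.subgroupMap_surjective R)
  refine ⟨qt_of h3 h4 h5, ?_, (Nat.card_congr e.toEquiv).trans h7⟩
  have := h6.comap f
  rwa [comap_map_eq, QuotientGroup.ker_mk'] at this

omit hs in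
theorem eq_of_not_cyclic {S T : Subgroup G} (hS : Qt S) (h8 : Nat.card S = 8) (hT : T ≤ S) (hc : ¬ IsCyclic T) :
    T = S := by
  have := Fact.mk Nat.prime_two
  rcases (abP h 2).cases (hS.pg.to_le hT) with h1 | ⟨-, n, a, b, h1, h2, h3⟩ | h1
  · exact absurd h1 hc
  · exact eq_of_le_of_card_ge hT (h8 ▸ (qt_of h1 h2 h3).ge)
  · have := hS.cyc
    exact absurd (isCyclic_of_le (H' := S ⊓ centralizer (S : Set G)) fun x hx => ⟨hT hx, hS.cen x (hT hx) (h1 x hx)⟩) hc

theorem mem_norm (h2 : 2 ∉ pi G) {S U : Subgroup G} (hS : IsSylowIn 2 S ⊤) (hc : ¬ IsCyclic S)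
    (hU : U ≤ piCore (pi G) G) (hn : S ≤ normalizer (U : Set G)) {g : G}
    (hg : MulAut.conj g • (U ⊓ centralizer (S : Set G)) ≤ U) : g ∈ normalizer (U : Set G) := by
  obtain ⟨hQ, hN, -⟩ := quat hs h h2 hS hc
  have := comm_W hs
  have key : U ≤ MulAut.conj g⁻¹ • U := le_of_forall_isPGroup_le fun q hq P hP hP' x hx => by
    rw [mem_conj_smul_iff, inv_inv]
    rcases bot_or (hP.trans hU) hP' with rfl | hq'
    · rw [mem_bot.1 hx]
      simp
    obtain ⟨V, hV, he, h3⟩ := id hq'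
    have := hV.normal
    by_cases h4 : U ⊓ V = V
    · exact (h4.ge (this.conj_mem x (h3 P hP' hx) g)).1
    by_cases h5 : x = 1
    · simp [h5]
    have h6 : ∀ n ∈ S, ∀ v ∈ V, n * v * n⁻¹ ∈ zpowers v := fun n hn' v hv =>
      scalar h he (N := S ⊔ piCore (pi G) G) (lt_of_le_of_ne inf_le_right h4)
        (fun e => h5 (mem_bot.1 (e ▸ ⟨hP hx, h3 P hP' hx⟩ : x ∈ ⊥)))
        (Grp.le_normalizer_inf' (sup_le hn (Grp.le_normalizer_of_isMulCommutative hU))
          (by rw [normalizer_eq_top]; exact le_top)) (mem_sup_left hn') hv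
    have h7 : zpowers x ≤ V := zpowers_le.2 (h3 P hP' hx)
    obtain ⟨y, hy, h8⟩ := hQ.exists_cent hq.out (by rintro rfl; exact h2 hq') (hP'.to_le (zpowers_le.2 hx))
      inferInstance (le_normalizer_iff.2 fun n hn' k hk => zpowers_le.2 hk (h6 n hn' k (h7 hk)))
    have h9 := hQ.le_normal h (cent_of_scalar he (h6 y hy.1) (h3 P hP' hx) h5 (hy.2 x (mem_zpowers x))) h8
    exact (conj_smul_le_iff _ _ _).1 hg x ⟨hP hx, le_centralizer_iff.1 h9 (h3 P hP' hx)⟩
  exact inv_mem_iff.1 ((conj_smul_eq_self_iff _ _).1 (eq_of_le_of_card_ge key (card_conj_smul _ _).le).symm)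

theorem conj_two (h2 : 2 ∉ pi G) {S U H K : Subgroup G} (hS : IsSylowIn 2 S ⊤) (hc : ¬ IsCyclic S)
    (hU : U ≤ piCore (pi G) G) (hn : S ≤ normalizer (U : Set G)) (hH : H ≤ S) (hK : K ≤ S)
    (e : Nat.card H = Nat.card K) : ∃ g ∈ normalizer (U : Set G), MulAut.conj g • H = K := by
  have := Fact.mk Nat.prime_two
  obtain ⟨hQ, -, h8⟩ := quat hs h h2 hS hc
  by_cases h1 : H = S ∨ K = S
  · refine ⟨1, one_mem _, ?_⟩
    rw [map_one, one_smul]
    rcases h1 with rfl | rfl
    exacts [(eq_of_le_of_card_ge hK e.le).symm, eq_of_le_of_card_ge hH e.ge]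
  rw [not_or] at h1
  have := comm_W hs
  have hk : ∀ T : Subgroup G, IsPGroup 2 T → T ⊓ piCore (pi G) G = ⊥ := fun T hT =>
    (bot_or inf_le_right hT.to_inf_left).resolve_right h2
  set D := U ⊓ centralizer (S : Set G) with hD
  have hDW : D ≤ piCore (pi G) G := inf_le_left.trans hU
  have key : ∀ T ≤ S, T ≠ S → IsMulCommutative ↥(D ⊔ T) ∧ Nat.card ↥(D ⊔ T) = Nat.card D * Nat.card T := by
    intro T hT h3
    have : IsCyclic T := by_contra fun h4 => h3 (eq_of_not_cyclic h hQ h8 hT h4)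
    have h4 : D ≤ centralizer (T : Set G) := inf_le_right.trans (centralizer_le hT)
    exact ⟨isMulCommutative_sup (le_centralizer_iff_isMulCommutative.1 (hDW.trans ((le_centralizer _).trans
      (centralizer_le hDW)))) inferInstance h4, card_sup_of_inf_eq_bot (Grp.le_normalizer_of_le_centralizer h4)
      (eq_bot_iff.2 (hk T (hQ.pg.to_le hT) ▸ le_inf inf_le_right (inf_le_left.trans hDW)))⟩
  obtain ⟨a, b⟩ := key H hH h1.1
  obtain ⟨a', b'⟩ := key K hK h1.2
  obtain ⟨g, hg⟩ := h _ _ a a' (by rw [b, b', e])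
  rw [smul_sup] at hg
  refine ⟨g, mem_norm hs h h2 hS hc hU hn ?_, eq_of_le_of_card_ge ?_ (by rw [card_conj_smul, e])⟩
  · have h3 := dedekind_left (Grp.le_normalizer_of_isMulCommutative (A := D ⊔ K) le_sup_right |> le_sup_left.trans) hDW
    rw [hk K (hQ.pg.to_le hK), sup_bot_eq] at h3
    refine le_trans (le_inf (hg ▸ le_sup_left) ((conj_smul_le_iff _ _ _).2 fun x hx =>
      Normal.conj_mem inferInstance x (hDW hx) g)) (h3.le.trans inf_le_left)
  · have h3 : MulAut.conj g • H ≤ D ⊔ K := hg ▸ le_sup_right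
    have h4 : IsPGroup 2 ↥(MulAut.conj g • H ⊔ K) := ((hQ.pg.to_le hH).map _).to_sup_of_normal_right' (hQ.pg.to_le hK)
      (h3.trans (Grp.le_normalizer_of_isMulCommutative le_sup_right))
    have h5 := dedekind_left (A := K) (B := D) (le_sup_right.trans (Grp.le_normalizer_of_isMulCommutative
      (A := D ⊔ K) le_sup_left)) (le_sup_right : K ≤ MulAut.conj g • H ⊔ K)
    rw [eq_bot_iff.2 (hk _ h4 ▸ le_inf inf_le_right (inf_le_left.trans hDW) : D ⊓ (MulAut.conj g • H ⊔ K) ≤ ⊥),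
      sup_bot_eq] at h5
    exact h5 ▸ le_inf (sup_comm D K ▸ h3) le_sup_left

theorem main (A B : Subgroup G) (e : Nat.card A = Nat.card B) : ∃ g : G, MulAut.conj g • A = B := by
  have := Fact.mk Nat.prime_two
  have := comm_W hs
  set W := piCore (pi G) G with hW
  have hcard : ∀ X : Subgroup G, (Nat.card W).Coprime (W.relIndex X) := fun X =>
    cop_W.coprime_dvd_right (Subgroup.relIndex_dvd_index_of_normal W X)
  have hc : ∀ X Y : Subgroup G, Nat.card X = Nat.card Y → Nat.card ↥(W ⊓ X) ∣ Nat.card ↥(W ⊓ Y) := fun X Y e => by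
    refine ((hcard Y).coprime_dvd_left (card_dvd_of_le inf_le_left)).dvd_of_dvd_mul_right ?_
    rw [← inf_relIndex_right, hall_card_mul_relIndex inf_le_right, ← e]
    exact card_dvd_of_le inf_le_right
  have hab : ∀ X : Subgroup G, IsMulCommutative ↥(W ⊓ X) := fun X =>
    le_centralizer_iff_isMulCommutative.1 (inf_le_left.trans ((le_centralizer _).trans (centralizer_le inf_le_left)))
  wlog hU : W ⊓ A = W ⊓ B generalizing A
  · obtain ⟨g, hg⟩ := h _ _ (hab A) (hab B) (Nat.dvd_antisymm (hc A B e) (hc B A e.symm))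
    obtain ⟨m, hm⟩ := this (MulAut.conj g • A) (by rw [card_conj_smul, e]) (by
      rw [← hg, smul_inf, (conj_smul_eq_self_iff _ W).2 (by rw [normalizer_eq_top]; trivial)])
    exact ⟨m * g, by rw [← conj_smul_conj_smul, hm]⟩
  set X := normalizer ((W ⊓ B : Subgroup G) : Set G) with hX
  have hWX : W ≤ X := Grp.le_normalizer_of_isMulCommutative inf_le_left
  have hBX : B ≤ X := Grp.le_normalizer_inf' (by rw [normalizer_eq_top]; exact le_top) le_normalizer
  have hAX : A ≤ X := by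
    rw [hX, ← hU]
    exact Grp.le_normalizer_inf' (by rw [normalizer_eq_top]; exact le_top) le_normalizer
  have hd : ∀ p : ℕ, p.Prime → ¬ p ∣ Nat.card (W.subgroupOf X) → p ∉ pi G := fun p hp h1 h2 => by
    have := Fact.mk hp
    obtain ⟨V, hV, he, -⟩ := id h2
    obtain ⟨_ | k, hk⟩ := ea_card_eq_pow he
    · exact hV.ne_bot (card_eq_one.1 hk)
    · rw [hall_card_subgroupOf hWX] at h1
      exact h1 ((dvd_pow_self p k.succ_ne_zero).trans (hk ▸ card_dvd_of_le (le_W h2 hV he)))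
  have hi : ∀ P : Subgroup X, P ⊓ X.subtype.ker = ⊥ := fun P => by rw [ker_subtype, inf_bot_eq]
  obtain ⟨g, hg⟩ := fin (G := X) (W := W.subgroupOf X) (A := A.subgroupOf X) (B := B.subgroupOf X)
    (U := (W ⊓ B).subgroupOf X) inferInstance (by rw [hall_card_subgroupOf hWX]; exact hcard X)
    (fun p hp h1 h2 P hP => isCyclic_of_map (hi P) (cyc_odd hs h hp h1 (hd p hp h2) (hP.map _)))
    (fun h1 H K hH hK e => by
      by_cases h2 : ∀ P : Subgroup X, IsPGroup 2 P → IsCyclic P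
      · exact exists_conj_of_cyclic_pgroups h2 hH hK e
      push Not at h2
      obtain ⟨T, hT, h2⟩ := h2
      have h3 := hd 2 Nat.prime_two h1
      have h4 : ¬ IsCyclic (T.map X.subtype) := fun e => h2 (isCyclic_of_map (hi T) e)
      obtain ⟨S, hS, h5⟩ := exists_isSylowIn_ge (hT.map X.subtype) le_top
      have h6 : ¬ IsCyclic S := fun _ => h4 (isCyclic_of_le h5)
      obtain ⟨hQ, -, h8⟩ := quat hs h h3 hS h6
      have h7 : S ≤ X := eq_of_not_cyclic h hQ h8 h5 h4 ▸ map_subtype_le T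
      obtain ⟨a, ha, ha'⟩ := (hS.of_le h7 le_top).exists_conj_le (hH.map X.subtype) (map_subtype_le H)
      obtain ⟨b, hb, hb'⟩ := (hS.of_le h7 le_top).exists_conj_le (hK.map X.subtype) (map_subtype_le K)
      obtain ⟨g, hg, h9⟩ := conj_two hs h h3 hS h6 inf_le_left h7 ha' hb'
        (by rw [card_conj_smul, card_conj_smul, hall_card_map_subtype, hall_card_map_subtype, e])
      refine ⟨⟨b⁻¹ * (g * a), mul_mem (inv_mem hb) (mul_mem hg ha)⟩, map_injective X.subtype_injective ?_⟩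
      rw [hall_map_conj, coe_subtype, ← conj_smul_conj_smul, ← conj_smul_conj_smul, h9, conj_smul_conj_smul,
        inv_mul_cancel, map_one, one_smul])
    (by rw [← hU]; exact (comap_inf _ _ _).symm) (comap_inf _ _ _).symm
    (by rw [hall_card_subgroupOf hAX, hall_card_subgroupOf hBX, e])
  exact ⟨g, conj_smul_eq_of_subgroupOf hAX hBX g hg⟩

end CL.Fgs.EqAb
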