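/-
Bounds for the dimension of the fixed space of an element of prime order: linear algebra.
-/
import Cfsg.Agent.Fgs.HHThm

set_option autoImplicit false

namespace CL.Fgs.FD

open Cfsg Subgroup Module CL.Grp CL.Fgs.HH Polynomial
open scoped commutatorElement

universe v

variable {K : Type*} [Field K] {G : Type*} [Group G]

/-- The dimension of the fixed space. -/
noncomputable abbrev fx {W : Type*} [AddCommGroup W] [Module K W] (T : End K W) : ℕ :=
  finrank K (LinearMap.ker (T - 1))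

/-- No proper non-zero invariant subspace. -/
def Irr {W : Type*} [AddCommGroup W] [Module K W] (ρ : G →* End K W) : Prop :=
  ∀ U : Submodule K W, (∀ g, ∀ w ∈ U, ρ g w ∈ U) → U = ⊥ ∨ U = ⊤

theorem mem_fix {W : Type*} [AddCommGroup W] [Module K W] {T : End K W} {w : W} :
    w ∈ LinearMap.ker (T - 1) ↔ T w = w := by
  simp [sub_eq_zero]

theorem fx_le_add {W : Type*} [AddCommGroup W] [Module K W] [FiniteDimensional K W] (ρ : G →* End K W) (x : G)
    (U : Submodule K W) (hU : ∀ g, U ≤ U.comap (ρ g)) :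
    fx (ρ x) ≤ fx (Representation.subrepresentation ρ U hU x) + fx (Representation.quotient ρ U hU x) := by
  let f : LinearMap.ker (ρ x - 1) →ₗ[K] LinearMap.ker (Representation.quotient ρ U hU x - 1) :=
    (U.mkQ.domRestrict _).codRestrict _ fun w => mem_fix.2 (by
      change U.mkQ (ρ x w) = U.mkQ w
      rw [mem_fix.1 w.2])
  have hk : ∀ w : LinearMap.ker f, ((w : LinearMap.ker (ρ x - 1)) : W) ∈ U := fun w =>
    (Submodule.Quotient.mk_eq_zero U).1 (congrArg Subtype.val w.2)
  let g : LinearMap.ker f →ₗ[K] LinearMap.ker (Representation.subrepresentation ρ U hU x - 1) :=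
    (((LinearMap.ker (ρ x - 1)).subtype ∘ₗ (LinearMap.ker f).subtype).codRestrict U hk).codRestrict _
      fun w => mem_fix.2 (Subtype.ext (mem_fix.1 w.1.2))
  have h1 := LinearMap.finrank_le_finrank_of_injective (f := g) fun a b e =>
    Subtype.ext (Subtype.ext (congrArg (fun t => ((t : LinearMap.ker _) : U).1) e))
  have h2 := f.finrank_range_add_finrank_ker
  have h3 := Submodule.finrank_le (LinearMap.range f)
  unfold fx
  omega

/-- Reduction to irreducible modules. -/
theorem of_irr (x : G) (P : ∀ (W : Type v) [AddCommGroup W] [Module K W], (G →* End K W) → Prop)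
    (hs : ∀ (W : Type v) [AddCommGroup W] [Module K W] (ρ : G →* End K W) (U : Submodule K W)
      (hU : ∀ g, U ≤ U.comap (ρ g)), P W ρ →
        P U (Representation.subrepresentation ρ U hU) ∧ P (W ⧸ U) (Representation.quotient ρ U hU))
    (h : ∀ (W : Type v) [AddCommGroup W] [Module K W] [FiniteDimensional K W] [Nontrivial W] (ρ : G →* End K W),
      Irr ρ → P W ρ → 2 * fx (ρ x) < finrank K W) (n : ℕ) :
    ∀ (W : Type v) [AddCommGroup W] [Module K W] [FiniteDimensional K W] [Nontrivial W] (ρ : G →* End K W),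
      finrank K W = n → P W ρ → 2 * fx (ρ x) < finrank K W := by
  induction n using Nat.strong_induction_on with
  | _ n ih =>
    intro W _ _ _ _ ρ hn hP
    by_cases hI : Irr ρ
    · exact h W ρ hI hP
    unfold Irr at hI
    push Not at hI
    obtain ⟨U, hU, hb, ht⟩ := hI
    have hU' : ∀ g, U ≤ U.comap (ρ g) := fun g w hw => hU g w hw
    haveI : Nontrivial U := Submodule.nontrivial_iff_ne_bot.2 hb
    haveI : Nontrivial (W ⧸ U) := Submodule.Quotient.nontrivial_iff.2 ht
    have e := U.finrank_quotient_add_finrank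
    have p1 : 0 < finrank K U := finrank_pos
    have p2 : 0 < finrank K (W ⧸ U) := finrank_pos
    have h1 := ih _ (by omega) U _ rfl (hs W ρ U hU' hP).1
    have h2 := ih _ (by omega) (W ⧸ U) _ rfl (hs W ρ U hU' hP).2
    have := fx_le_add ρ x U hU'
    omega

variable {W : Type*} [AddCommGroup W] [Module K W] [FiniteDimensional K W]

omit [FiniteDimensional K W] in
theorem pow_eigen (f : End K W) {v : W} {μ : K} (h : f v = μ • v) (k : ℕ) : (f ^ k) v = μ ^ k • v := by
  induction k with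
  | zero => simp
  | succ k ih => rw [pow_succ', End.mul_apply, ih, map_smul, h, smul_smul, pow_succ]

theorem fx_conj (ρ : G →* End K W) (g x : G) : fx (ρ x) ≤ fx (ρ (g * x * g⁻¹)) :=
  LinearMap.finrank_le_finrank_of_injective
    (f := ((ρ g).domRestrict _).codRestrict (LinearMap.ker (ρ (g * x * g⁻¹) - 1)) fun w => mem_fix.2 (by
      change ρ (g * x * g⁻¹) (ρ g w) = ρ g w
      rw [← rho_mul_apply, inv_mul_cancel_right, rho_mul_apply, mem_fix.1 w.2]))
    ((injective_iff_map_eq_zero _).2 fun _ e => Subtype.ext (rho_inj (congrArg Subtype.val e)))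

/-- A system of imprimitivity bounds the fixed space by the number of orbits. -/
theorem imprim (ρ : G →* End K W) {Ω : Type*} [Finite Ω] [MulAction G Ω] [MulAction.IsPretransitive G Ω]
    (U : Ω → Submodule K W) (hU : ∀ (g : G) (ω : Ω), ∀ v ∈ U ω, ρ g v ∈ U (g • ω)) (hi : iSupIndep U) (ht : iSup U = ⊤)
    {x : G} {p : ℕ} (hp : p.Prime) (hx : x ^ p = 1) :
    p * fx (ρ x) * Nat.card Ω ≤ ((p - 1) * Nat.card {ω : Ω // x • ω = ω} + Nat.card Ω) * finrank K W := by
  classical
  haveI := Fintype.ofFinite Ω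
  have D := DirectSum.isInternal_submodule_of_iSupIndep_of_iSup_eq_top hi ht
  let e := LinearEquiv.ofBijective (DirectSum.coeLinearMap U) D
  let π : ∀ ω, W →ₗ[K] U ω := fun ω => DirectSum.component K Ω (fun ω => U ω) ω ∘ₗ e.symm.toLinearMap
  have π1 : ∀ ω, ∀ v ∈ U ω, (π ω v : W) = v := fun ω v hv =>
    congrArg Subtype.val (D.ofBijective_coeLinearMap_of_mem hv)
  have π0 : ∀ ω ω', ω' ≠ ω → ∀ v ∈ U ω', π ω v = 0 := fun ω ω' h v hv => D.ofBijective_coeLinearMap_of_mem_ne h hv
  have πe : ∀ (g : G) (ω : Ω) v, (π (g • ω) (ρ g v) : W) = ρ g (π ω v) := fun g ω v => by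
    have hv : v ∈ iSup U := ht ▸ Submodule.mem_top
    induction hv using Submodule.iSup_induction' with
    | mem ω' v hv =>
      by_cases h : ω' = ω
      · subst h; rw [π1 _ _ hv, π1 _ _ (hU g _ v hv)]
      · rw [π0 _ _ h v hv, π0 _ _ (fun e => h (smul_left_cancel g e)) _ (hU g _ v hv)]; simp
    | zero => simp
    | add a b _ _ ha hb => simp [ha, hb]
  obtain ⟨R, hR, hc⟩ := exists_orbit_reps (MulAction.toPermHom G Ω x) hp.pos (by rw [← map_pow, hx, map_one])
  let f : LinearMap.ker (ρ x - 1) →ₗ[K] ∀ r : R, U r := LinearMap.pi fun r => (π r).domRestrict _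
  have hf : Function.Injective f := (injective_iff_map_eq_zero _).2 fun v hv => by
    have h0 : ∀ ω, π ω v = 0 := fun ω => by
      obtain ⟨r, hr, i, rfl⟩ := hR ω
      have h1 : ρ (x ^ i) v = v := by
        rw [map_pow]; exact by simpa using pow_eigen (ρ x) (μ := 1) (by simpa using mem_fix.1 v.2) i
      have h2 := πe (x ^ i) r v
      rw [h1, show π r v = 0 from congrFun hv ⟨r, hr⟩] at h2
      rw [← map_pow]
      exact Subtype.ext (h2.trans (by simp))
    exact Subtype.ext (e.symm.map_eq_zero_iff.1 (DFinsupp.ext h0))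
  have hd : ∀ ω ω', finrank K (U ω) ≤ finrank K (U ω') := fun ω ω' => by
    obtain ⟨g, rfl⟩ := MulAction.exists_smul_eq G ω ω'
    exact LinearMap.finrank_le_finrank_of_injective (f := ((ρ g).domRestrict _).codRestrict _ fun w => hU g ω w w.2)
      ((injective_iff_map_eq_zero _).2 fun _ e => Subtype.ext (rho_inj (congrArg Subtype.val e)))
  have h1 := LinearMap.finrank_le_finrank_of_injective hf
  rw [finrank_pi_fintype] at h1
  have h2 : finrank K W = ∑ ω, finrank K (U ω) := by rw [← e.finrank_eq, finrank_directSum]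
  have h3 : (∑ r : R, finrank K (U r)) * Nat.card Ω ≤ R.card * finrank K W := by
    rw [h2, Finset.sum_mul, ← Fintype.card_coe, ← Finset.card_univ, ← smul_eq_mul, ← Finset.sum_const]
    refine Finset.sum_le_sum fun r _ => ?_
    rw [Nat.card_eq_fintype_card, mul_comm, ← Finset.card_univ, ← smul_eq_mul, ← Finset.sum_const]
    exact Finset.sum_le_sum fun ω _ => hd _ _
  have h4 : p * R.card ≤ (p - 1) * Nat.card {ω : Ω // x • ω = ω} + Nat.card Ω := by
    rw [hc, ← sum_ite_zero p _ _ hp.pos]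
    refine Finset.sum_le_sum fun i hi => ?_
    split_ifs with h0
    · exact Nat.card_le_card_of_injective _ Subtype.val_injective
    · refine Nat.card_le_card_of_injective (Subtype.map id fun ω hω => ?_) (Subtype.map_injective _ fun _ _ h => h)
      rw [← map_pow] at hω
      have := pow_mem_of_not_dvd (MulAction.stabilizer G ω) (m := 0) hp (by simpa using hx) hω (by
        simpa using Nat.not_dvd_of_pos_of_lt (Nat.pos_of_ne_zero h0) (Finset.mem_range.1 hi))
      simpa using this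
  calc p * fx (ρ x) * Nat.card Ω ≤ p * (R.card * finrank K W) := by
        rw [mul_assoc]; exact Nat.mul_le_mul_left _ ((Nat.mul_le_mul_right _ h1).trans h3)
    _ ≤ _ := by rw [← mul_assoc]; exact Nat.mul_le_mul_right _ h4

theorem exists_simul_basis [IsAlgClosed K] {A : Type*} (f : A → End K W) (hc : ∀ a b, f a * f b = f b * f a) {m : ℕ}
    (hm : (m : K) ≠ 0) (hf : ∀ a, f a ^ m = 1) :
    ∃ (b : Basis (Fin (finrank K W)) K W) (μ : Fin (finrank K W) → A → K), ∀ i a, f a (b i) = μ i a • b i := by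
  have htop : ⨆ χ : A → K, ⨅ a : A, (f a).eigenspace (χ a) = ⊤ := by
    have hss : ∀ a : A, (f a).IsFinitelySemisimple := fun a =>
      (End.isSemisimple_of_squarefree_aeval_eq_zero (X_pow_sub_one_separable_iff.2 hm).squarefree
        (by rw [map_sub, map_pow, aeval_X, hf, map_one, sub_self])).isFinitelySemisimple
    have := End.iSup_iInf_maxGenEigenspace_eq_top_of_iSup_maxGenEigenspace_eq_top_of_commute f
      (fun a b _ => hc a b) fun a => End.iSup_maxGenEigenspace_eq_top _
    simpa only [(hss _).maxGenEigenspace_eq_eigenspace] using this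
  obtain ⟨s, hs, h1, h2⟩ := exists_linearIndependent K {v : W | ∃ χ : A → K, ∀ a, f a v = χ a • v}
  let b : Basis s K W := Basis.mk h2 (by
    rw [Subtype.range_coe_subtype, Set.ofPred_mem_eq, h1, ← htop]
    exact iSup_le fun χ v hv => Submodule.subset_span
      ⟨χ, fun a => End.mem_eigenspace_iff.1 ((Submodule.mem_iInf _).1 hv a)⟩)
  haveI := FiniteDimensional.fintypeBasisIndex b
  let e : s ≃ Fin (finrank K W) := Fintype.equivFinOfCardEq (finrank_eq_card_basis b).symm
  choose μ hμ using fun i : s => hs i.2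
  exact ⟨b.reindex e, fun i => μ (e.symm i), fun i a => by simpa [b] using hμ (e.symm i) a⟩

open Classical in
theorem fx_eq_card {ι : Type*} [Fintype ι] (b : Basis ι K W) {T : End K W} {μ : ι → K} (h : ∀ i, T (b i) = μ i • b i) :
    fx T = (Finset.univ.filter fun i => μ i = 1).card := by
  have h1 : LinearMap.ker (T - 1) = Submodule.span K (b '' {i | μ i = 1}) := by
    ext v
    rw [mem_fix, b.mem_span_image]
    have e : ∀ i, b.repr (T v) i = μ i * b.repr v i := fun i => by
      have : b.coord i ∘ₗ T = μ i • b.coord i := b.ext fun j => by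
        by_cases hij : j = i <;> simp [h, hij]
      simpa using LinearMap.congr_fun this v
    refine ⟨fun hv i hi => ?_, fun hv => b.repr.injective (Finsupp.ext fun i => ?_)⟩
    · have := e i
      rw [hv] at this
      exact (mul_eq_right₀ (Finsupp.mem_support_iff.1 hi)).1 this.symm
    · by_cases hi : b.repr v i = 0
      · rw [e, hi, mul_zero]
      · rw [e, show μ i = 1 from hv (Finsupp.mem_support_iff.2 hi), one_mul]
  unfold fx
  rw [h1, Set.image_eq_range]
  exact (finrank_span_eq_card (b.linearIndependent.comp _ Subtype.val_injective)).trans (Fintype.card_subtype _)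

theorem conj_pow_eq {x y w z : G} (hz : z ∈ center G) (h1 : y * x * y⁻¹ = w * x) (h2 : y * w * y⁻¹ = z * w) (i : ℕ) :
    y ^ i * x * (y ^ i)⁻¹ = z ^ i.choose 2 * w ^ i * x := by
  have hc : ∀ g, Commute z g := fun g => (mem_center_iff.1 hz g).symm
  induction i with
  | zero => simp
  | succ i ih =>
    calc y ^ (i + 1) * x * (y ^ (i + 1))⁻¹ = y * (y ^ i * x * (y ^ i)⁻¹) * y⁻¹ := by group
      _ = y * z ^ i.choose 2 * y⁻¹ * (y * w * y⁻¹) ^ i * (y * x * y⁻¹) := by rw [ih, conj_pow]; group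
      _ = _ := by
        rw [h1, h2, (hc w).mul_pow, ← ((hc y).pow_left _).eq, Nat.choose_succ_succ' i 1, Nat.choose_one_right,
          pow_add, pow_succ w, ((Commute.refl z).pow_pow _ _).eq]
        group

theorem root_pair {p : ℕ} (hp : p.Prime) {ζ β α : K} (hζ : ζ ^ p = 1) (hβ : β ^ p = 1) {i j : ℕ} (hij : j < i)
    (hi : i < p) (h1 : ζ ^ i.choose 2 * β ^ i * α = 1) (h2 : ζ ^ j.choose 2 * β ^ j * α = 1) :
    ζ ^ (i + j) * β ^ 2 = ζ := by
  have ζ0 : ζ ≠ 0 := fun e => by simp [e, hp.ne_zero] at hζ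
  have β0 : β ≠ 0 := fun e => by simp [e, hp.ne_zero] at hβ
  have α0 : α ≠ 0 := fun e => by simp [e] at h1
  obtain ⟨d, rfl⟩ := Nat.exists_eq_add_of_lt hij
  have e1 : 2 * (j + d + 1).choose 2 + (d + 1) = 2 * j.choose 2 + (j + d + 1 + j) * (d + 1) := by
    have : ∀ n : ℕ, 2 * n.choose 2 + n = n * n := fun n => by
      induction n with
      | zero => simp
      | succ n ih => rw [Nat.choose_succ_succ' n 1, Nat.choose_one_right]; nlinarith
    have a1 := this (j + d + 1)
    have a2 := this j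
    nlinarith
  have h3 := mul_right_cancel₀ α0 (h1.trans h2.symm)
  have h4 : (ζ ^ (j + d + 1 + j) * β ^ 2 / ζ) ^ (d + 1) = 1 := by
    rw [div_pow, div_eq_one_iff_eq (pow_ne_zero _ ζ0)]
    refine mul_left_cancel₀ (mul_ne_zero (pow_ne_zero (2 * j.choose 2) ζ0) (pow_ne_zero (2 * j) β0)) ?_
    calc _ = ζ ^ (2 * j.choose 2 + (j + d + 1 + j) * (d + 1)) * (β ^ (j + d + 1)) ^ 2 := by ring
      _ = (ζ ^ (j + d + 1).choose 2 * β ^ (j + d + 1)) ^ 2 * ζ ^ (d + 1) := by rw [← e1]; ring
      _ = _ := by rw [h3]; ring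
  have h5 : (ζ ^ (j + d + 1 + j) * β ^ 2 / ζ) ^ p = 1 := by
    rw [div_pow, mul_pow, ← pow_mul, ← pow_mul, mul_comm _ p, mul_comm _ p, pow_mul, pow_mul, hζ, hβ]; simp
  have h6 := pow_gcd_eq_one.2 ⟨h4, h5⟩
  rw [(Nat.coprime_of_lt_prime (by omega) (by omega) hp).symm.gcd_eq_one, pow_one] at h6
  exact (div_eq_one_iff_eq ζ0).1 h6

theorem eq_one_of_pow_eq {p : ℕ} (hp : p.Prime) {ζ : K} (hζ : ζ ^ p = 1) {n i j : ℕ} (hij : i ≠ j) (hi : i < p)
    (hj : j < p) (h : ζ ^ (n + i) = ζ ^ (n + j)) : ζ = 1 := by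
  have ζ0 : ζ ≠ 0 := fun e => by simp [e, hp.ne_zero] at hζ
  wlog hlt : j < i generalizing i j
  · exact this hij.symm hj hi h.symm (by omega)
  obtain ⟨d, rfl⟩ := Nat.exists_eq_add_of_lt hlt
  have h4 : ζ ^ (d + 1) = 1 := mul_left_cancel₀ (pow_ne_zero (n + j) ζ0) (by rw [mul_one, ← pow_add, add_assoc, ← add_assoc j, h])
  have h6 := pow_gcd_eq_one.2 ⟨h4, hζ⟩
  rwa [(Nat.coprime_of_lt_prime (by omega) (by omega) hp).symm.gcd_eq_one, pow_one] at h6

/-- The element `x` acts on a Heisenberg configuration `y, w, z`. -/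
theorem pg [IsAlgClosed K] (ρ : G →* End K W) {p : ℕ} (hp : p.Prime) (hp2 : p ≠ 2) (hK : (p : K) ≠ 0) {x y w z : G}
    (hz : z ∈ center G) (h1 : y * x * y⁻¹ = w * x) (h2 : y * w * y⁻¹ = z * w) (hc : w * x = x * w) (hx : x ^ p = 1)
    (hw : w ^ p = 1) {ζ : K} (hζ : ρ z = ζ • 1) (hζp : ζ ^ p = 1) :
    (ζ = 1 → p * fx (ρ x) ≤ finrank K W + p * fx (ρ w)) ∧ (ζ ≠ 1 → p * fx (ρ x) ≤ 2 * finrank K W) := by
  classical
  obtain ⟨b, μ, hb⟩ := exists_simul_basis (fun t : Bool => if t then ρ x else ρ w)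
    (fun a b => by cases a <;> cases b <;> simp [← map_mul, hc]) hK
    (fun a => by cases a <;> simp [← map_pow, hx, hw])
  have bx : ∀ j, ρ x (b j) = μ j true • b j := fun j => hb j true
  have bw : ∀ j, ρ w (b j) = μ j false • b j := fun j => hb j false
  have hβ : ∀ j, μ j false ^ p = 1 := fun j => by
    have := pow_eigen _ (bw j) p
    rw [← map_pow, hw, map_one, End.one_apply] at this
    exact (eq_of_wt (b.ne_zero j) (this.symm.trans (one_smul K _).symm))
  have key : p * fx (ρ x) ≤ ∑ j, ((Finset.range p).filter fun i => ζ ^ i.choose 2 * μ j false ^ i * μ j true = 1).card := by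
    have e : ∀ i, fx (ρ x) ≤ (Finset.univ.filter fun j => ζ ^ i.choose 2 * μ j false ^ i * μ j true = 1).card :=
      fun i => by
        rw [← fx_eq_card b (T := ρ (y ^ i * x * (y ^ i)⁻¹)) fun j => ?_]
        · exact fx_conj ρ _ _
        rw [conj_pow_eq hz h1 h2, rho_mul_apply, rho_mul_apply, bx, map_pow, map_pow, map_smul, map_smul,
          pow_eigen _ (bw j), hζ, _root_.smul_pow, one_pow]
        simp [smul_smul, mul_comm]
    simp only [Finset.card_filter] at e ⊢
    rw [Finset.sum_comm]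
    simpa using Finset.sum_le_sum (s := Finset.range p) fun i _ => e i
  have pair : ∀ j, ∀ i ∈ (Finset.range p).filter fun i => ζ ^ i.choose 2 * μ j false ^ i * μ j true = 1,
      ∀ i' ∈ (Finset.range p).filter fun i => ζ ^ i.choose 2 * μ j false ^ i * μ j true = 1, i ≠ i' →
        ζ ^ (i + i') * μ j false ^ 2 = ζ := fun j i hi i' hi' hne => by
    rw [Finset.mem_filter, Finset.mem_range] at hi hi'
    rcases lt_or_gt_of_ne hne with h | h
    · rw [add_comm]; exact root_pair hp hζp (hβ j) h hi'.1 hi'.2 hi.2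
    · exact root_pair hp hζp (hβ j) h hi.1 hi.2 hi'.2
  refine ⟨fun e => key.trans ?_, fun e => key.trans ?_⟩
  · rw [fx_eq_card b bw, Finset.card_filter, Finset.mul_sum]
    refine (Finset.sum_le_sum (g := fun j => 1 + p * if μ j false = 1 then 1 else 0) fun j _ => ?_).trans
      (by simp [Finset.sum_add_distrib])
    split_ifs with h
    · exact (Finset.card_filter_le _ _).trans (by simp)
    · refine (Finset.card_le_one.2 fun i hi i' hi' => ?_).trans (by simp)
      by_contra hne
      have h3 := pair j i hi i' hi' hne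
      rw [e, one_pow, one_mul] at h3
      have h6 := pow_gcd_eq_one.2 ⟨h3, hβ j⟩
      rw [((Nat.coprime_primes Nat.prime_two hp).2 hp2.symm).gcd_eq_one, pow_one] at h6
      exact h h6
  · refine (Finset.sum_le_sum (g := fun _ => 2) fun j _ => ?_).trans (by simp [mul_comm])
    by_contra h
    obtain ⟨a, b', c, ha, hb', hc', h1, h2, h3⟩ := Finset.two_lt_card_iff.1 (not_le.1 h)
    have β0 : μ j false ≠ 0 := fun e => by simpa [e, hp.ne_zero] using hβ j
    exact e (eq_one_of_pow_eq hp hζp h3 (Finset.mem_range.1 (Finset.mem_filter.1 hb').1)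
      (Finset.mem_range.1 (Finset.mem_filter.1 hc').1)
      (mul_right_cancel₀ (pow_ne_zero 2 β0) ((pair j a ha b' hb' h1).trans (pair j a ha c hc' h2).symm)))

theorem extra_arith {p D c c' C f : ℕ} (hp : 5 ≤ p) (hD : 0 < D) (hc : c ≤ D) (h1 : c ^ 2 + c' ≤ C)
    (h2 : (D - c) ^ 2 ≤ (p - 1) * c') (h3 : p * C ≤ (p - 1) * f + D ^ 2) (h4 : 8 * f ≤ D ^ 2) : 2 * c < D := by
  by_contra h
  obtain ⟨r, rfl⟩ : ∃ r, p = r + 1 := ⟨p - 1, by omega⟩
  obtain ⟨e, rfl⟩ := Nat.exists_eq_add_of_le hc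
  obtain ⟨d, rfl⟩ : ∃ d, c = e + d := ⟨c - e, by omega⟩
  obtain ⟨s, rfl⟩ : ∃ s, r = s + 4 := ⟨r - 4, by omega⟩
  simp only [add_tsub_cancel_right, add_tsub_cancel_left] at h2 h3
  have h5 : 8 * (s + 5) * ((s + 4) * (e + d) ^ 2 + e ^ 2) ≤ (s + 4) * (s + 12) * (e + d + e) ^ 2 := by
    have a1 : (s + 4) * (e + d) ^ 2 + e ^ 2 ≤ (s + 4) * C := by nlinarith
    calc _ ≤ 8 * (s + 5) * ((s + 4) * C) := Nat.mul_le_mul_left _ a1
      _ = (s + 4) * (8 * ((s + 4 + 1) * C)) := by ring
      _ ≤ (s + 4) * ((s + 4) * (8 * f) + 8 * (e + d + e) ^ 2) := Nat.mul_le_mul_left _ (by nlinarith)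
      _ ≤ (s + 4) * ((s + 4) * (e + d + e) ^ 2 + 8 * (e + d + e) ^ 2) := by gcongr
      _ = _ := by ring
  have h6 : 0 < e ^ 2 + d ^ 2 := by
    rcases Nat.eq_zero_or_pos e with rfl | he
    · have : 0 < d := by omega
      positivity
    · positivity
  nlinarith [Nat.zero_le (s * e * d), Nat.zero_le (s * s * e * d), Nat.zero_le (s * e ^ 2), Nat.zero_le (s * s * e ^ 2),
    Nat.zero_le (s * d ^ 2), Nat.zero_le (s * s * d ^ 2), Nat.zero_le (e * d)]

/-- The extraspecial case. -/
theorem extra [IsAlgClosed K] [Finite G] {Q A B : Subgroup G} [Q.Normal] [A.Normal] {x : G} (hgen : Q ⊔ zpowers x = ⊤)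
    (hAQ : A ≤ Q) (hchar : (Nat.card Q : K) ≠ 0) (lam : G → K) (hcomm : ∀ g ∈ Q, ∀ h ∈ Q, ⁅g, h⁆ ∈ A)
    (hrad : ∀ t ∈ Q, t ∉ A → ∃ h ∈ Q, lam ⁅h, t⁆ ≠ 1) {p : ℕ} (hp : p.Prime) (h5 : 5 ≤ p) (hx : x ^ p = 1)
    (hcop : p.Coprime (Nat.card Q)) (hB : ∀ t ∈ Q, ⁅x, t⁆ ∈ A → t ∈ B) (h8 : 8 * A.relIndex B ≤ A.relIndex Q)
    {W : Type v} [AddCommGroup W] [Module K W] [FiniteDimensional K W] [Nontrivial W] (ρ : G →* End K W)
    (hsc : ∀ a ∈ A, ∀ v, ρ a v = lam a • v) : 2 * fx (ρ x) < finrank K W := by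
  refine of_irr x (fun W _ _ ρ => ∀ a ∈ A, ∀ v, ρ a v = lam a • v) (fun W _ _ ρ U hU h => ⟨fun a ha v =>
    Subtype.ext (by exact h a ha v), fun a ha v => ?_⟩) (fun W _ _ _ _ ρ hI h => ?_) _ W ρ rfl hsc
  · obtain ⟨v, rfl⟩ := U.mkQ_surjective v
    change U.mkQ (ρ a v) = _
    rw [h a ha, map_smul]
  have h' : ∀ a ∈ A, ρ a = lam a • 1 := fun a ha => LinearMap.ext (h a ha)
  obtain ⟨h1, h2⟩ := core ρ (u := x) hAQ hchar (fun a ha => ⟨_, h' a ha⟩) hcomm (fun t ht htA => by
      obtain ⟨g, hg, e⟩ := hrad t ht htA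
      exact ⟨g, hg, fun e' => e (smul_one_inj (U := W) (by rw [← h' _ (hcomm g hg t ht), e', one_smul]))⟩)
    (by rw [normalizer_eq_top]; trivial) (by rw [normalizer_eq_top]; trivial)
    (hcop.coprime_dvd_left (orderOf_dvd_of_pow_eq_one hx)) (fun U hQ hU => hI U fun g => by
      let S : Subgroup G :=
        { carrier := {g | ∀ w ∈ U, ρ g w ∈ U}
          one_mem' := fun w hw => by simpa using hw
          mul_mem' := fun {a b} ha hb w hw => by rw [rho_mul_apply]; exact ha _ (hb w hw)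
          inv_mem' := fun {a} ha w hw => by
            have : ∀ n : ℕ, ∀ w ∈ U, ρ (a ^ n) w ∈ U := fun n => by
              induction n with
              | zero => intro w hw; simpa using hw
              | succ n ih => intro w hw; rw [pow_succ, rho_mul_apply]; exact ih _ (ha w hw)
            rw [show a⁻¹ = a ^ (orderOf a - 1) from (eq_inv_of_mul_eq_one_left (by
              rw [← pow_succ, Nat.sub_add_cancel (orderOf_pos a), pow_orderOf_eq_one])).symm]
            exact this _ w hw }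
      exact (show Q ⊔ zpowers x ≤ S from sup_le hQ (zpowers_le.2 hU)) (hgen ▸ mem_top g))
  have h3 := h2 p (fun i => if i = 0 then Q else B) hp.pos (fun t _ => by simp [hx]) fun i hi t ht e => by
    split_ifs with h0
    · exact ht
    · have := pow_mem_of_not_dvd (cstab A t) (m := 0) hp (by simpa using hx)
        ⟨by rw [normalizer_eq_top]; trivial, e⟩ (by simpa using Nat.not_dvd_of_pos_of_lt (Nat.pos_of_ne_zero h0) hi)
      exact hB t ht (by simpa using this.2)
  have hW : ∀ w ∈ LinearMap.range (ρ x - (1 : K) • 1), ρ x w ∈ LinearMap.range (ρ x - (1 : K) • 1) := by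
    rintro _ ⟨v, rfl⟩
    exact ⟨ρ x v, by simp⟩
  have h4 := finrank_commSub_step (ρ x) 1 (LinearMap.range (ρ x - (1 : K) • 1)).subtype
    (ρ x - (1 : K) • 1).rangeRestrict (Submodule.ker_subtype _) (LinearMap.range_rangeRestrict _) (fun v => rfl)
    ((ρ x).restrict hW) (fun v => rfl)
  rw [LinearMap.ker_rangeRestrict] at h4
  have h6 := sq_finrank_le ((ρ x).restrict hW) (geom_sum_ne_zero' hp.pos) (by
    ext ⟨_, v, rfl⟩
    have e := aeval_intertwine (LinearMap.range (ρ x - (1 : K) • 1)).subtype (S := (ρ x).restrict hW) (T := ρ x)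
      (fun w => rfl) (∑ i ∈ Finset.range p, (X : K[X]) ^ i) ⟨_, v, rfl⟩
    simp only [Submodule.subtype_apply] at e
    rw [e, aeval_geom_sum, one_smul, ← End.mul_apply, geom_sum_mul, ← map_pow, hx, map_one, sub_self]
    rfl)
  have h7 := (ρ x - (1 : K) • 1).finrank_range_add_finrank_ker
  have h9 := natDegree_geom_sum_lt (F := K) hp.pos
  rw [show (∑ i ∈ Finset.range p, A.relIndex (if i = 0 then Q else B)) = (p - 1) * A.relIndex B + A.relIndex Q by
    rw [← sum_ite_zero p _ _ hp.pos]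
    exact Finset.sum_congr rfl fun i _ => by split_ifs <;> rfl, ← h1] at h3
  have e : fx (ρ x) = finrank K (LinearMap.ker (ρ x - (1 : K) • 1)) := by rw [one_smul]
  rw [e]
  refine extra_arith h5 finrank_pos (by omega) h4 ?_ h3 (h1 ▸ h8)
  rw [← h7, Nat.add_sub_cancel]
  exact h6.trans (Nat.mul_le_mul_right _ h9)

end CL.Fgs.FD
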