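/-
Flavell's extension of Wielandt's zipper lemma: a subgroup lying in two maximal subgroups and subnormal in all
but at most one of its maximal overgroups lies in a proper normal subgroup. Consequence (Guralnick-Tracey).
-/
import Cfsg.Agent.Grp.Zipper

set_option autoImplicit false

namespace CL.Fgs

open Subgroup CL.Grp
open scoped Pointwise

variable {G : Type*} [Group G]

theorem isCoatom_conj_smul' {M : Subgroup G} (hM : IsCoatom M) (g : G) :
    IsCoatom (MulAut.conj g • M) :=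
  (OrderIso.isCoatom_iff (MulAut.conj g).mapSubgroup M).2 hM

/-- The hypothesis of Flavell's theorem together with the negation of its conclusion. -/
structure FH (A : Subgroup G) : Prop where
  ncl : ∀ N : Subgroup G, N.Normal → A ≤ N → N = ⊤
  two : ∃ L₁ L₂ : Subgroup G, IsCoatom L₁ ∧ IsCoatom L₂ ∧ L₁ ≠ L₂ ∧ A ≤ L₁ ∧ A ≤ L₂
  uniq : ∀ K K' : Subgroup G, IsCoatom K → IsCoatom K' → A ≤ K → A ≤ K' → ¬ SubnIn A K →
    ¬ SubnIn A K' → K = K'

theorem le_conj_inv_smul {A K : Subgroup G} {g : G} (h : MulAut.conj g • A ≤ K) :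
    A ≤ MulAut.conj g⁻¹ • K := by
  rw [map_inv, ← pointwise_smul_subset_iff]; exact h

theorem subnIn_conj_of_inv {A K : Subgroup G} {g : G} (h : SubnIn A (MulAut.conj g⁻¹ • K)) :
    SubnIn (MulAut.conj g • A) K := by
  have := h.smul (MulAut.conj g)
  rwa [conj_smul_conj_smul, mul_inv_cancel, map_one, one_smul] at this

theorem FH.conj {A : Subgroup G} (h : FH A) (g : G) : FH (MulAut.conj g • A) := by
  refine ⟨fun N hN hle => h.ncl N hN ?_, ?_, fun K K' hK hK' h1 h2 h3 h4 => ?_⟩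
  · have := le_conj_inv_smul hle
    rwa [conj_smul_eq_of_mem_normalizer (by rw [normalizer_eq_top]; trivial)] at this
  · obtain ⟨L₁, L₂, a, b, c, d, e⟩ := h.two
    exact ⟨_, _, isCoatom_conj_smul' a g, isCoatom_conj_smul' b g,
      fun e' => c (MulAction.injective _ e'), pointwise_smul_le_pointwise_smul_iff.2 d,
      pointwise_smul_le_pointwise_smul_iff.2 e⟩
  · exact MulAction.injective (MulAut.conj g⁻¹) (h.uniq _ _ (isCoatom_conj_smul' hK _)
      (isCoatom_conj_smul' hK' _) (le_conj_inv_smul h1) (le_conj_inv_smul h2)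
      (fun s => h3 (subnIn_conj_of_inv s)) (fun s => h4 (subnIn_conj_of_inv s)))

theorem FH.normalizer_eq {A K : Subgroup G} (h : FH A) (hK : IsCoatom K) (hle : A ≤ K) :
    normalizer (K : Set G) = K := by
  rcases (le_normalizer (H := K)).eq_or_lt with e | hlt
  · exact e.symm
  · exact absurd (h.ncl K (normalizer_eq_top_iff.1 (hK.2 _ hlt)) hle) hK.1

theorem not_FH [Finite G] (A₀ : Subgroup G) : ¬ FH A₀ := by
  intro h₀
  obtain ⟨A, hA, hmax⟩ := Set.exists_max_image {A : Subgroup G | FH A} (fun A => Nat.card A)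
    (Set.toFinite _) ⟨A₀, h₀⟩
  set 𝒜 : Set (Subgroup G) := {B | FH B ∧ Nat.card B = Nat.card A} with h𝒜
  have hconj : ∀ B ∈ 𝒜, ∀ g : G, MulAut.conj g • B ∈ 𝒜 := fun B hB g =>
    ⟨hB.1.conj g, (card_conj_smul g B).trans hB.2⟩
  -- (F5)
  have F5 : ∀ B ∈ 𝒜, ∀ C ∈ 𝒜, B ≠ C → ∀ L₁ L₂ : Subgroup G, IsCoatom L₁ → IsCoatom L₂ → L₁ ≠ L₂ →
      B ≤ L₁ ⊓ L₂ → C ≤ L₁ ⊓ L₂ → ∃ K K' : Subgroup G, IsCoatom K ∧ IsCoatom K' ∧ K ≠ K' ∧
        B ⊔ C ≤ K ∧ B ⊔ C ≤ K' ∧ ¬ SubnIn B K ∧ ¬ SubnIn C K' := by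
    intro B hB C hC hne L₁ L₂ h1 h2 h12 hB' hC'
    have hlt : B < B ⊔ C := by
      refine lt_of_le_of_ne le_sup_left fun e => hne ?_
      exact (eq_of_le_of_card_ge (le_sup_right.trans e.symm.le) (by rw [hB.2, hC.2])).symm
    have hnot : ¬ FH (B ⊔ C) := fun hF => by
      have := hmax _ hF
      exact hlt.ne (eq_of_le_of_card_ge hlt.le (by rw [hB.2]; exact this))
    by_contra hcon
    refine hnot ⟨fun N hN hle => hB.1.ncl N hN (le_sup_left.trans hle),
      ⟨L₁, L₂, h1, h2, h12, (sup_le hB' hC').trans inf_le_left, (sup_le hB' hC').trans inf_le_right⟩,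
      fun K K' hK hK' a b c d => ?_⟩
    by_contra hKK
    have c' : ¬ SubnIn B K ∨ ¬ SubnIn C K := by
      by_contra hh; push Not at hh; exact c (hh.1.sup hh.2)
    have d' : ¬ SubnIn B K' ∨ ¬ SubnIn C K' := by
      by_contra hh; push Not at hh; exact d (hh.1.sup hh.2)
    rcases c' with c' | c' <;> rcases d' with d' | d'
    · exact hKK (hB.1.uniq _ _ hK hK' (le_sup_left.trans a) (le_sup_left.trans b) c' d')
    · exact hcon ⟨K, K', hK, hK', hKK, a, b, c', d'⟩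
    · exact hcon ⟨K', K, hK', hK, Ne.symm hKK, b, a, d', c'⟩
    · exact hKK (hC.1.uniq _ _ hK hK' (le_sup_right.trans a) (le_sup_right.trans b) c' d')
  -- two members with the same exceptional overgroup inside two maximal subgroups coincide
  have F2 : ∀ B ∈ 𝒜, ∀ C ∈ 𝒜, ∀ K L : Subgroup G, IsCoatom K → IsCoatom L → K ≠ L →
      B ≤ K ⊓ L → C ≤ K ⊓ L → ¬ SubnIn B K → ¬ SubnIn C K → B = C := by
    intro B hB C hC K L hK hL hKL h1 h2 h3 h4
    by_contra hne
    obtain ⟨K₁, K₂, a, b, c, d, e, f, g⟩ := F5 B hB C hC hne K L hK hL hKL h1 h2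
    exact c ((hB.1.uniq _ _ a hK (le_sup_left.trans d) (h1.trans inf_le_left) f h3).trans
      (hC.1.uniq _ _ hK b (h2.trans inf_le_left) (le_sup_right.trans e) h4 g))
  -- the pair of maximal subgroups with most members in the intersection
  obtain ⟨⟨L₁, L₂⟩, ⟨h1, h2, h12⟩, hmx⟩ := Set.exists_max_image
    {P : Subgroup G × Subgroup G | IsCoatom P.1 ∧ IsCoatom P.2 ∧ P.1 ≠ P.2}
    (fun P => {B ∈ 𝒜 | B ≤ P.1 ⊓ P.2}.ncard) (Set.toFinite _)
    (by obtain ⟨L₁, L₂, a, b, c, -⟩ := hA.two; exact ⟨(L₁, L₂), a, b, c⟩)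
  set S₀ : Set (Subgroup G) := {B ∈ 𝒜 | B ≤ L₁ ⊓ L₂} with hS₀
  have hne : S₀.Nonempty := by
    obtain ⟨M₁, M₂, a, b, c, d, e⟩ := hA.two
    have := hmx (M₁, M₂) ⟨a, b, c⟩
    have h3 : 0 < {B ∈ 𝒜 | B ≤ M₁ ⊓ M₂}.ncard :=
      (Set.ncard_pos (Set.toFinite _)).2 ⟨A, ⟨hA, rfl⟩, le_inf d e⟩
    exact (Set.ncard_pos (Set.toFinite _)).1 (lt_of_lt_of_le h3 this)
  set X : Subgroup G := sSup S₀ with hX
  have hXL : X ≤ L₁ ⊓ L₂ := sSup_le fun B hB => hB.2
  have hS : ∀ K K' : Subgroup G, IsCoatom K → IsCoatom K' → K ≠ K' → X ≤ K → X ≤ K' →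
      ∀ B ∈ 𝒜, B ≤ K ⊓ K' → B ∈ S₀ := by
    intro K K' a b c d e B hB hle
    have hsub : S₀ ⊆ {B ∈ 𝒜 | B ≤ K ⊓ K'} := fun C hC =>
      ⟨hC.1, (le_sSup hC).trans (le_inf d e)⟩
    have := Set.eq_of_subset_of_ncard_le hsub (hmx (K, K') ⟨a, b, c⟩) (Set.toFinite _)
    rw [this]; exact ⟨hB, hle⟩
  have hSX : ∀ B ∈ 𝒜, B ≤ X → B ∈ S₀ := fun B hB hle => ⟨hB, hle.trans hXL⟩
  -- key step
  have key : ∀ K₀ K : Subgroup G, IsCoatom K₀ → IsCoatom K → K ≠ K₀ → normalizer (X : Set G) ≤ K₀ →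
      X ≤ K → ∀ B ∈ S₀, ¬ SubnIn B K := by
    intro K₀ K hK₀ hK hKK hN hXK B' hB' hsub
    have hXK₀ : X ≤ K₀ := le_normalizer.trans hN
    set T : Set (Subgroup G) := {C ∈ 𝒜 | SubnIn C K} with hT
    set T₀ : Set (Subgroup G) := {C ∈ S₀ | SubnIn C K} with hT₀
    have hT₀X : sSup T₀ ≤ X := sSup_le_sSup fun C hC => hC.1
    have claim : K ⊓ normalizer ((sSup T₀ : Subgroup G) : Set G) ≤ normalizer (X : Set G) := by
      intro h hh
      have hg : ∀ g ∈ K ⊓ normalizer ((sSup T₀ : Subgroup G) : Set G), MulAut.conj g • X ≤ X := by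
        intro g hg
        refine conj_smul_sSup_le fun B hB => ?_
        by_cases hBs : SubnIn B K
        · exact (conj_smul_le_of_mem_normalizer (le_sSup (show B ∈ T₀ from ⟨hB, hBs⟩)) hg.2).trans hT₀X
        have hBK : B ≤ K := (le_sSup hB).trans hXK
        have hB'g : MulAut.conj g • B' ∈ S₀ := hSX _ (hconj _ hB'.1 g)
          ((conj_smul_le_of_mem_normalizer (le_sSup (show B' ∈ T₀ from ⟨hB', hsub⟩)) hg.2).trans hT₀X)
        have hne1 : B ≠ B' := fun e => hBs (e ▸ hsub)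
        have hne2 : B ≠ MulAut.conj g • B' := fun e => hBs (e ▸ hsub.conj hg.1)
        obtain ⟨K₁, K', a, b, c, d, e, f, i⟩ := F5 B hB.1 B' hB'.1 hne1 L₁ L₂ h1 h2 h12 hB.2 hB'.2
        obtain ⟨K₂, K'', a', b', c', d', e', f', i'⟩ :=
          F5 B hB.1 _ hB'g.1 hne2 L₁ L₂ h1 h2 h12 hB.2 hB'g.2
        have hK₂ : K₂ = K := hB.1.1.uniq _ _ a' hK (le_sup_left.trans d') hBK f' hBs
        have hK'' : K'' = MulAut.conj g • K' := by
          refine hB'g.1.1.uniq _ _ b' (isCoatom_conj_smul' b g) (le_sup_right.trans e')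
            (pointwise_smul_le_pointwise_smul_iff.2 (le_sup_right.trans e)) i' fun s => i ?_
          have := s.smul (MulAut.conj g)⁻¹
          rwa [inv_smul_smul, inv_smul_smul] at this
        have hBg : MulAut.conj g • B = B := by
          refine F2 _ (hconj _ hB.1 g) _ hB.1 K K'' hK b' (hK₂ ▸ c')
            (le_inf (conj_smul_le_of_mem hBK hg.1) ?_) (le_inf hBK (le_sup_left.trans e')) (fun s => hBs ?_)
            hBs
          · rw [hK'']; exact pointwise_smul_le_pointwise_smul_iff.2 (le_sup_left.trans e)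
          · have := s.conj (inv_mem hg.1)
            rwa [conj_smul_conj_smul, inv_mul_cancel, map_one, one_smul] at this
        rw [hBg]; exact le_sSup hB
      exact (le_normalizer_iff_conj_smul_le.2 hg) hh
    have hTconj : ∀ U ∈ T, ∀ g ∈ K, MulAut.conj g • U ∈ T := fun U hU g hg =>
      ⟨hconj _ hU.1 g, hU.2.conj hg⟩
    have hsub0 : T₀ ⊆ T := fun C hC => ⟨hC.1.1, hC.2⟩
    rcases hsub0.eq_or_ssubset with e | hss
    · have h3 : K ≤ normalizer ((sSup T₀ : Subgroup G) : Set G) := by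
        rw [e]; exact le_normalizer_sSup_of_conj_mem hTconj
      exact hKK ((hK.le_iff_eq hK₀.1).1 (((le_inf le_rfl h3).trans claim).trans hN)).symm
    · obtain ⟨C, hC, hC0, hCn⟩ := exists_mem_le_normalizer_sSup (fun U hU => hU.2) hTconj hss
      exact hC0 ⟨hS K K₀ hK hK₀ hKK hXK hXK₀ C hC.1
        (le_inf hC.2.le (((le_inf hC.2.le hCn).trans claim).trans hN)), hC.2⟩
  obtain ⟨B, hB⟩ := hne
  have hNX : normalizer (X : Set G) ≠ ⊤ := fun e =>
    h1.1 (eq_top_iff.2 ((hB.1.1.ncl X (normalizer_eq_top_iff.1 e) (le_sSup hB)).symm.le.trans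
      (hXL.trans inf_le_left)))
  obtain ⟨K₀, hK₀, hN⟩ := (eq_top_or_exists_le_coatom _).resolve_left hNX
  obtain ⟨K, hK, hKK, hXK⟩ : ∃ K, IsCoatom K ∧ K ≠ K₀ ∧ X ≤ K := by
    by_cases e : L₁ = K₀
    · exact ⟨L₂, h2, fun e' => h12 (e.trans e'.symm), hXL.trans inf_le_right⟩
    · exact ⟨L₁, h1, e, hXL.trans inf_le_left⟩
  have k1 := key K₀ K hK₀ hK hKK hN hXK
  have hN' : normalizer (X : Set G) ≤ K := by
    intro g hg
    have hBK : B ≤ K := (le_sSup hB).trans hXK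
    have hBg : MulAut.conj g • B ∈ S₀ := hSX _ (hconj _ hB.1 g)
      (conj_smul_le_of_mem_normalizer (le_sSup hB) hg)
    rw [← hB.1.1.normalizer_eq hK hBK, mem_normalizer_iff_conj_smul_eq]
    refine hBg.1.1.uniq _ _ (isCoatom_conj_smul' hK g) hK (pointwise_smul_le_pointwise_smul_iff.2 hBK)
      ((le_sSup hBg).trans hXK) (fun s => k1 B hB ?_) (k1 _ hBg)
    have := s.smul (MulAut.conj g)⁻¹
    rwa [inv_smul_smul, inv_smul_smul] at this
  have k2 := key K K₀ hK hK₀ (Ne.symm hKK) hN' (le_normalizer.trans hN)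
  exact hKK (hB.1.1.uniq _ _ hK hK₀ ((le_sSup hB).trans hXK)
    ((le_sSup hB).trans (le_normalizer.trans hN)) (k1 B hB) (k2 B hB))

/-- `H` is the normal closure of `A` in `H`. -/
def SelfGen (A H : Subgroup G) : Prop :=
  ∀ N : Subgroup G, A ≤ N → N ≤ H → H ≤ normalizer (N : Set G) → N = H

theorem SelfGen.le_of_subnIn {A Y H K : Subgroup G} (hY : SelfGen A Y) (hAY : A ≤ Y) (hYK : Y ≤ K)
    (hAH : A ≤ H) (hH : SubnIn H K) : Y ≤ H := by
  have h1 : SubnIn (H ⊓ Y) Y := by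
    have := hH.inf_right Y
    rwa [inf_eq_right.2 hYK] at this
  by_contra hn
  obtain ⟨N, a, b, c⟩ := h1.exists_normal_lt fun e => hn (e.symm.le.trans inf_le_left)
  exact b.ne (hY N ((le_inf hAH hAY).trans a.le) b.le c)

theorem exists_selfGen_subnIn [Finite G] {A K : Subgroup G} (h : A ≤ K) :
    ∃ H, A ≤ H ∧ SubnIn H K ∧ SelfGen A H := by
  obtain ⟨H, hH, hmin⟩ := (wellFounded_lt (α := Subgroup G)).has_min {X | A ≤ X ∧ SubnIn X K}
    ⟨K, h, .refl K⟩
  refine ⟨H, hH.1, hH.2, fun N a b c => ?_⟩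
  by_contra hne
  exact hmin N ⟨a, (SubnIn.of_le_normalizer b c).trans hH.2⟩ (lt_of_le_of_ne b hne)

theorem selfGen_iff {A H : Subgroup G} (h : A ≤ H) :
    normalClosure ((A.subgroupOf H : Subgroup H) : Set H) = ⊤ ↔ SelfGen A H := by
  constructor
  · intro e N a b c
    haveI : (N.subgroupOf H).Normal := (normal_subgroupOf_iff_le_normalizer b).2 c
    have : normalClosure ((A.subgroupOf H : Subgroup H) : Set H) ≤ N.subgroupOf H :=
      normalClosure_le_normal fun x hx => a hx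
    rw [e, top_le_iff, subgroupOf_eq_top] at this
    exact le_antisymm b this
  · intro hs
    set N := normalClosure ((A.subgroupOf H : Subgroup H) : Set H)
    have := hs (N.map H.subtype) (fun x hx => ⟨⟨x, h hx⟩, subset_normalClosure hx, rfl⟩) (map_subtype_le _)
      (by
        rw [← normal_subgroupOf_iff_le_normalizer (map_subtype_le _), subgroupOf,
          comap_map_eq_self_of_injective H.subtype_injective]
        infer_instance)
    refine map_injective H.subtype_injective ?_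
    rw [this, ← MonoidHom.range_eq_map, range_subtype]

/-- Guralnick-Tracey: either the proper self-generating overgroups of `A` generate `G`, or `A` lies in a
unique maximal subgroup. -/
theorem sSup_selfGen_eq_top_or [Finite G] {A : Subgroup G} (hA : normalClosure (A : Set G) = ⊤)
    (hAG : A ≠ ⊤) : sSup {H : Subgroup G | A ≤ H ∧ H ≠ ⊤ ∧ SelfGen A H} = ⊤ ∨
      ∃! M : Subgroup G, IsCoatom M ∧ A ≤ M := by
  set Y := sSup {H : Subgroup G | A ≤ H ∧ H ≠ ⊤ ∧ SelfGen A H}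
  by_cases hY : Y = ⊤
  · exact Or.inl hY
  right
  obtain ⟨M, hM, hYM⟩ := (eq_top_or_exists_le_coatom Y).resolve_left hY
  have hAY : A ≤ Y := le_sSup ⟨le_rfl, hAG, fun N a b _ => le_antisymm b a⟩
  refine ⟨M, ⟨hM, hAY.trans hYM⟩, fun L hL => ?_⟩
  by_contra hLM
  obtain ⟨B, ⟨hAB, hBs, L', hL', hL'M, hBL⟩, hmax⟩ := (wellFounded_gt (α := Subgroup G)).has_min
    {B | A ≤ B ∧ SelfGen A B ∧ ∃ L, IsCoatom L ∧ L ≠ M ∧ SubnIn B L}
    (by obtain ⟨H, a, b, c⟩ := exists_selfGen_subnIn hL.2; exact ⟨H, a, c, L, hL.1, hLM, b⟩)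
  have hBM : B ≤ M := (le_sSup (show B ∈ {H : Subgroup G | A ≤ H ∧ H ≠ ⊤ ∧ SelfGen A H} from
    ⟨hAB, fun e => hL'.1 (eq_top_iff.2 (e.symm.le.trans hBL.le)), hBs⟩)).trans hYM
  have hK : ∀ K, IsCoatom K → B ≤ K → ¬ SubnIn B K → K = M := by
    intro K hK hBK hn
    by_contra hKM
    obtain ⟨H, a, b, c⟩ := exists_selfGen_subnIn (hAB.trans hBK)
    have hle : B ≤ H := hBs.le_of_subnIn hAB hBK a b
    rcases hle.eq_or_lt with e | hlt
    · exact hn (e ▸ b)
    · exact hmax H ⟨a, c, K, hK, hKM, b⟩ hlt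
  refine not_FH B ⟨fun N hN hle => ?_, ⟨L', M, hL', hM, hL'M, hBL.le, hBM⟩,
    fun K K' a b c d e f => (hK K a c e).trans (hK K' b d f).symm⟩
  exact eq_top_iff.2 (hA.symm.le.trans (normalClosure_le_normal (hAB.trans hle)))

end CL.Fgs
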