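/-
Guralnick-Tracey: iterated commutators with a generating automorphism generate the group.
-/
import Cfsg.Agent.Fgs.Flav10

set_option autoImplicit false

namespace CL.Fgs

open Subgroup CL.Grp
open scoped Pointwise

universe u

theorem engel_sup_eq_top (k : ℕ) : ∀ (n : ℕ) (Γ : Type u) [Group Γ] [Finite Γ], Nat.card Γ = n → ∀ a : Γ,
    normalClosure ((zpowers a : Subgroup Γ) : Set Γ) = ⊤ →
    closure (Set.range ((fun c : Γ => c * a * c⁻¹ * a⁻¹)^[k])) ⊔ zpowers a = ⊤ := by
  intro n
  induction n using Nat.strong_induction_on with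
  | _ n ih =>
  intro Γ _ _ hn a ha
  set E := closure (Set.range ((fun c : Γ => c * a * c⁻¹ * a⁻¹)^[k])) ⊔ zpowers a with hE
  by_cases hA : zpowers a = ⊤
  · rw [hE, hA, sup_top_eq]
  rcases sSup_selfGen_eq_top_or ha hA with h | ⟨M, ⟨hM, haM⟩, hu⟩
  · rw [eq_top_iff, ← h]
    refine sSup_le fun H ⟨h1, h2, h3⟩ => ?_
    have haH : a ∈ H := h1 (mem_zpowers a)
    have hlt : Nat.card H < n := by
      rw [← hn, ← card_top (G := Γ)]
      exact lt_of_le_of_ne (card_le_of_le le_top) fun e => h2 (eq_of_le_of_card_ge le_top e.ge)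
    have hz : zpowers (⟨a, haH⟩ : H) = (zpowers a).subgroupOf H := by
      refine map_injective H.subtype_injective ?_
      rw [MonoidHom.map_zpowers, subgroupOf_map_subtype, inf_eq_left.2 h1]; rfl
    have := ih _ hlt H rfl ⟨a, haH⟩ (by rw [hz]; exact (selfGen_iff h1).2 h3)
    have h4 := congrArg (Subgroup.map H.subtype) this
    rw [← MonoidHom.range_eq_map, range_subtype, Subgroup.map_sup, MonoidHom.map_zpowers,
      MonoidHom.map_closure] at h4
    rw [← h4]
    refine sup_le_sup (closure_mono ?_) le_rfl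
    rintro _ ⟨_, ⟨c, rfl⟩, rfl⟩
    refine ⟨c, ?_⟩
    exact ((Function.Semiconj.iterate_right (f := H.subtype)
      (ga := fun c : H => c * ⟨a, haH⟩ * c⁻¹ * (⟨a, haH⟩ : H)⁻¹) (gb := fun c : Γ => c * a * c⁻¹ * a⁻¹)
      (fun _ => rfl) k) c).symm
  · by_contra hne
    obtain ⟨L, hL, hEL⟩ := (eq_top_or_exists_le_coatom E).resolve_left hne
    have hLM : L = M := hu L ⟨hL, le_sup_right.trans hEL⟩
    subst hLM
    have hN : normalizer (L : Set Γ) = L := by
      rcases (le_normalizer (H := L)).eq_or_lt with e | hlt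
      · exact e.symm
      · haveI := normalizer_eq_top_iff.1 (hL.2 _ hlt)
        exact absurd (eq_top_iff.2 (ha.symm.le.trans (normalClosure_le_normal haM))) hL.1
    have step : ∀ c : Γ, c * a * c⁻¹ * a⁻¹ ∈ L → c ∈ L := by
      intro c hc
      have h1 : c * a * c⁻¹ ∈ L := by
        have := mul_mem hc (haM (mem_zpowers a))
        simpa using this
      have h2 : zpowers a ≤ MulAut.conj c⁻¹ • L := by
        refine le_conj_inv_smul ?_
        rw [conj_smul_eq_map, MonoidHom.map_zpowers, zpowers_le]; exact h1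
      have h3 := hu _ ⟨isCoatom_conj_smul' hL c⁻¹, h2⟩
      rw [← hN, ← inv_mem_iff, mem_normalizer_iff_conj_smul_eq]; exact h3
    have all : ∀ j : ℕ, ∀ c : Γ, (fun c : Γ => c * a * c⁻¹ * a⁻¹)^[j] c ∈ L → c ∈ L := by
      intro j
      induction j with
      | zero => exact fun c h => h
      | succ j ihj => intro c h; rw [Function.iterate_succ_apply'] at h; exact ihj c (step _ h)
    exact hL.1 (eq_top_iff.2 fun c _ => all k c (hEL (mem_sup_left
      (Subgroup.subset_closure ⟨c, rfl⟩))))

theorem closure_engel_aut {G : Type u} [Group G] [Finite G] (α : MulAut G)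
    (hG : closure (Set.range (fun c : G => c * (α c)⁻¹)) = ⊤) (k : ℕ) :
    closure (Set.range ((fun c : G => c * (α c)⁻¹)^[k])) = ⊤ := by
  rcases k with _ | k
  · simp
  let Γ := G ⋊[(zpowers α).subtype] zpowers α
  haveI : Finite Γ := Finite.of_equiv _ SemidirectProduct.equivProd.symm
  let a : Γ := SemidirectProduct.inr ⟨α, mem_zpowers α⟩
  have hc : ∀ c : Γ, c * a * c⁻¹ * a⁻¹ = SemidirectProduct.inl (c.left * (α c.left)⁻¹) := by
    intro c
    have h1 : Commute (SemidirectProduct.inr c.right : Γ) a := by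
      refine Commute.map ?_ SemidirectProduct.inr
      obtain ⟨i, hi⟩ := mem_zpowers_iff.1 c.right.2
      refine Subtype.ext ?_
      change (c.right : MulAut G) * α = α * c.right
      rw [← hi]; exact (Commute.self_zpow α i).symm.eq
    have h2 : a * SemidirectProduct.inl c.left⁻¹ * a⁻¹ = SemidirectProduct.inl (α c.left)⁻¹ := by
      rw [← map_inv SemidirectProduct.inr, ← SemidirectProduct.inl_aut]; simp
    calc c * a * c⁻¹ * a⁻¹ = (SemidirectProduct.inl c.left * SemidirectProduct.inr c.right) * a *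
          (SemidirectProduct.inl c.left * SemidirectProduct.inr c.right)⁻¹ * a⁻¹ := by
          rw [SemidirectProduct.inl_left_mul_inr_right]
      _ = SemidirectProduct.inl c.left * (a * SemidirectProduct.inl c.left⁻¹ * a⁻¹) := by
          rw [mul_assoc (SemidirectProduct.inl c.left), h1.eq, map_inv]; group
      _ = _ := by rw [h2, map_mul]
  have hit : ∀ (j : ℕ) (c : Γ), (fun c : Γ => c * a * c⁻¹ * a⁻¹)^[j + 1] c =
      SemidirectProduct.inl ((fun c : G => c * (α c)⁻¹)^[j + 1] c.left) := by
    intro j c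
    induction j with
    | zero => exact hc c
    | succ j ih => rw [Function.iterate_succ_apply', ih, Function.iterate_succ_apply' _ (j + 1), hc]; simp
  have hncl : normalClosure ((zpowers a : Subgroup Γ) : Set Γ) = ⊤ := by
    set N := normalClosure ((zpowers a : Subgroup Γ) : Set Γ)
    have ha : a ∈ N := subset_normalClosure (mem_zpowers a)
    have h1 : (⊤ : Subgroup G) ≤ N.comap SemidirectProduct.inl := by
      rw [← hG, closure_le]
      rintro _ ⟨g, rfl⟩
      have := hc (SemidirectProduct.inl g)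
      rw [SemidirectProduct.left_inl] at this
      change SemidirectProduct.inl _ ∈ N
      rw [← this]
      exact mul_mem ((inferInstance : N.Normal).conj_mem _ ha _) (inv_mem ha)
    refine eq_top_iff.2 fun c _ => ?_
    rw [← SemidirectProduct.inl_left_mul_inr_right c]
    refine mul_mem (h1 trivial) ?_
    obtain ⟨i, hi⟩ := mem_zpowers_iff.1 c.right.2
    have : c.right = ⟨α, mem_zpowers α⟩ ^ i := Subtype.ext (by simp [hi])
    rw [this, map_zpow]; exact zpow_mem ha i
  have main := engel_sup_eq_top (k + 1) _ Γ rfl a hncl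
  set E := closure (Set.range ((fun c : G => c * (α c)⁻¹)^[k + 1])) with hE
  have hinv : ∀ β ∈ zpowers α, ∀ x ∈ E, β x ∈ E := by
    intro β hβ
    have hcomm : ∀ c, β (α c) = α (β c) := by
      obtain ⟨i, rfl⟩ := mem_zpowers_iff.1 hβ
      intro c
      exact congrArg (fun f : MulAut G => f c) (Commute.self_zpow α i).symm.eq
    have : E ≤ E.comap β.toMonoidHom := by
      rw [hE, closure_le]
      rintro _ ⟨c, rfl⟩
      refine subset_closure ⟨β c, ?_⟩
      exact ((Function.Semiconj.iterate_right (f := β) (ga := fun c : G => c * (α c)⁻¹)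
        (gb := fun c : G => c * (α c)⁻¹) (fun c => by simp [hcomm]) (k + 1)) c).symm
    exact fun x hx => this hx
  let W : Subgroup Γ :=
    { carrier := {c | c.left ∈ E}
      one_mem' := one_mem E
      mul_mem' := fun {x y} hx hy => mul_mem hx (hinv _ x.right.2 _ hy)
      inv_mem' := fun {x} hx => hinv _ x.right⁻¹.2 _ (inv_mem hx) }
  have hW : (⊤ : Subgroup Γ) ≤ W := by
    rw [← main]
    refine sup_le ((closure_le _).2 ?_) ((zpowers_le).2 (one_mem E))
    rintro _ ⟨c, rfl⟩
    change _ ∈ E
    rw [hit]; exact subset_closure ⟨c.left, rfl⟩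
  exact eq_top_iff.2 fun g _ => hW (mem_top (SemidirectProduct.inl g))

end CL.Fgs
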