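/-
Z/n-graded Lie rings with trivial zero component (helper94): Kreknin's theorem (derived length
at most `2^(n-1) - 1`) and the Kreknin-Kostrikin nilpotency bound for prime `n`.
Gradings are handled as families of additive subgroups; directness of the sum is not needed.
-/
import Cfsg.Agent.Base

set_option autoImplicit false

namespace CL.Fgs.Lie

variable {L : Type*} [LieRing L] {n : ℕ}

/-- brackets of `U` with `W` land in `X`, degree-wise -/
def BrLe (U W X : ZMod n → AddSubgroup L) : Prop :=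
  ∀ i j, ∀ u ∈ U i, ∀ w ∈ W j, ⁅u, w⁆ ∈ X (i + j)

/-- the bracket of two families -/
def br (U W : ZMod n → AddSubgroup L) (k : ZMod n) : AddSubgroup L :=
  AddSubgroup.closure {x | ∃ i j, i + j = k ∧ ∃ u ∈ U i, ∃ w ∈ W j, ⁅u, w⁆ = x}

variable {U W X V : ZMod n → AddSubgroup L}

theorem brLe_br (U W : ZMod n → AddSubgroup L) : BrLe U W (br U W) := fun i j u hu w hw =>
  AddSubgroup.subset_closure ⟨i, j, rfl, u, hu, w, hw, rfl⟩

theorem br_le_iff : br U W ≤ X ↔ BrLe U W X := by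
  refine ⟨fun h i j u hu w hw => h _ (brLe_br U W i j u hu w hw), fun h k => ?_⟩
  refine (AddSubgroup.closure_le _).2 ?_
  rintro _ ⟨i, j, rfl, u, hu, w, hw, rfl⟩
  exact h i j u hu w hw

theorem BrLe.mono {U' W' X' : ZMod n → AddSubgroup L} (h : BrLe U W X) (h1 : U' ≤ U) (h2 : W' ≤ W)
    (h3 : X ≤ X') : BrLe U' W' X' := fun i j u hu w hw => h3 _ (h i j u (h1 i hu) w (h2 j hw))

theorem br_mono {U' W' : ZMod n → AddSubgroup L} (h1 : U' ≤ U) (h2 : W' ≤ W) :
    br U' W' ≤ br U W := br_le_iff.2 ((brLe_br U W).mono h1 h2 le_rfl)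

theorem mem_of_eq {x : L} {i j : ZMod n} (h : x ∈ X i) (e : i = j) : x ∈ X j := e ▸ h

/-- to check `BrLe (br U W) V X` it is enough to look at generators -/
theorem brLe_br_left (h : ∀ i j k, ∀ u ∈ U i, ∀ w ∈ W j, ∀ v ∈ V k, ⁅⁅u, w⁆, v⁆ ∈ X (i + j + k)) :
    BrLe (br U W) V X := by
  intro m k x hx v hv
  induction hx using AddSubgroup.closure_induction with
  | mem x hx =>
    obtain ⟨i, j, rfl, u, hu, w, hw, rfl⟩ := hx
    exact h i j k u hu w hw v hv
  | zero => rw [zero_lie]; exact zero_mem _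
  | add x y _ _ hx hy => rw [add_lie]; exact add_mem hx hy
  | neg x _ hx => rw [neg_lie]; exact neg_mem hx

theorem brLe_br_right (h : ∀ i j k, ∀ u ∈ U i, ∀ w ∈ W j, ∀ v ∈ V k,
    ⁅v, ⁅u, w⁆⁆ ∈ X (k + (i + j))) : BrLe V (br U W) X := by
  intro k m v hv x hx
  induction hx using AddSubgroup.closure_induction with
  | mem x hx =>
    obtain ⟨i, j, rfl, u, hu, w, hw, rfl⟩ := hx
    exact h i j k u hu w hw v hv
  | zero => rw [lie_zero]; exact zero_mem _
  | add x y _ _ hx hy => rw [lie_add]; exact add_mem hx hy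
  | neg x _ hx => rw [lie_neg]; exact neg_mem hx

/-- the derived family -/
def der (V : ZMod n → AddSubgroup L) : ZMod n → AddSubgroup L := br V V

theorem der_le (hV : BrLe V V V) : der V ≤ V := br_le_iff.2 hV

theorem brLe_der (hV : BrLe V V V) : BrLe (der V) (der V) (der V) :=
  (brLe_br V V).mono (der_le hV) (der_le hV) le_rfl

theorem iter_der_spec (hV : BrLe V V V) (s : ℕ) :
    BrLe (der^[s] V) (der^[s] V) (der^[s] V) ∧ der^[s] V ≤ V := by
  induction s with
  | zero => exact ⟨hV, le_rfl⟩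
  | succ s ih =>
    rw [Function.iterate_succ_apply']
    exact ⟨brLe_der ih.1, (der_le ih.1).trans ih.2⟩

/-- the components of degree at least `k` -/
def trunc (V : ZMod n → AddSubgroup L) (k : ℕ) (j : ZMod n) : AddSubgroup L :=
  if k ≤ j.val then V j else ⊥

/-- the subring generated by the components of degree at least `k` -/
def gen (V : ZMod n → AddSubgroup L) (k : ℕ) : ZMod n → AddSubgroup L :=
  sInf {X | trunc V k ≤ X ∧ BrLe X X X}

theorem mem_gen {k : ℕ} {i : ZMod n} {x : L} :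
    x ∈ gen V k i ↔ ∀ X : ZMod n → AddSubgroup L, trunc V k ≤ X → BrLe X X X → x ∈ X i := by
  simp only [gen, sInf_apply, AddSubgroup.mem_iInf, Subtype.forall, Set.mem_ofPred_eq, and_imp]

theorem gen_le {k : ℕ} (h1 : trunc V k ≤ X) (h2 : BrLe X X X) : gen V k ≤ X :=
  sInf_le ⟨h1, h2⟩

theorem brLe_gen (V : ZMod n → AddSubgroup L) (k : ℕ) : BrLe (gen V k) (gen V k) (gen V k) :=
  fun i j u hu w hw => mem_gen.2 fun X h1 h2 =>
    h2 i j u (mem_gen.1 hu X h1 h2) w (mem_gen.1 hw X h1 h2)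

theorem le_gen {k : ℕ} {j : ZMod n} (h : k ≤ j.val) : V j ≤ gen V k j := fun _ hx =>
  mem_gen.2 fun _ h1 _ => h1 j (by rwa [trunc, if_pos h])

theorem trunc_le_iff {k : ℕ} : trunc V k ≤ X ↔ ∀ j : ZMod n, k ≤ j.val → V j ≤ X j := by
  refine ⟨fun h j hj => ?_, fun h j => ?_⟩
  · have := h j; rwa [trunc, if_pos hj] at this
  · unfold trunc; split_ifs with hj
    exacts [h j hj, bot_le]

theorem brLe_gen_trunc (hV : BrLe V V V) (k : ℕ) : BrLe V (gen V k) (br V (trunc V k)) := by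
  let P : ZMod n → AddSubgroup L := fun v =>
    { carrier := {y | y ∈ V v ∧ ∀ u, ∀ x ∈ V u, ⁅x, y⁆ ∈ br V (trunc V k) (u + v)}
      zero_mem' := ⟨zero_mem _, fun u x _ => by rw [lie_zero]; exact zero_mem _⟩
      add_mem' := fun {a b} ha hb => ⟨add_mem ha.1 hb.1, fun u x hx => by
        rw [lie_add]; exact add_mem (ha.2 u x hx) (hb.2 u x hx)⟩
      neg_mem' := fun {a} ha => ⟨neg_mem ha.1, fun u x hx => by
        rw [lie_neg]; exact neg_mem (ha.2 u x hx)⟩ }
  have h : gen V k ≤ P := by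
    refine gen_le (trunc_le_iff.2 fun j hj y hy => ⟨hy, fun u x hx => ?_⟩) ?_
    · exact brLe_br _ _ u j x hx y (by rwa [trunc, if_pos hj])
    · intro i j a ha b hb
      refine ⟨hV i j a ha.1 b hb.1, fun u x hx => ?_⟩
      have e : ⁅x, ⁅a, b⁆⁆ = ⁅⁅x, a⁆, b⁆ - ⁅⁅x, b⁆, a⁆ := by
        rw [leibniz_lie, ← lie_skew a, sub_eq_add_neg]
      rw [e]
      exact sub_mem (mem_of_eq (hb.2 _ _ (hV u i x hx a ha.1)) (by ring))
        (mem_of_eq (ha.2 _ _ (hV u j x hx b hb.1)) (by ring))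
  exact fun u v x hx y hy => (h v hy).2 u x hx

theorem br_trunc_le [NeZero n] (h0 : V 0 = ⊥) (j : ZMod n) :
    br V (trunc V j.val) j ≤ gen V (j.val + 1) j := by
  refine (AddSubgroup.closure_le _).2 ?_
  rintro _ ⟨a, b, hab, u, hu, w, hw, rfl⟩
  unfold trunc at hw
  split_ifs at hw with hb
  · rcases hb.eq_or_lt with hb | hb
    · have : a = 0 := by
        rw [ZMod.val_injective n hb] at hab
        simpa using hab
      rw [this, h0, AddSubgroup.mem_bot] at hu
      rw [hu, zero_lie]; exact zero_mem _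
    · have ha : j.val + 1 ≤ a.val := by
        have h1 := ZMod.val_add a b
        rw [hab] at h1
        have h2 := ZMod.val_lt b
        by_cases h3 : a.val + b.val < n
        · rw [Nat.mod_eq_of_lt h3] at h1; omega
        · have h4 := ZMod.val_lt a
          rw [Nat.mod_eq_sub_mod (by omega), Nat.mod_eq_of_lt (by omega)] at h1
          omega
      exact mem_of_eq (brLe_gen V _ a b u (le_gen ha hu) w (le_gen hb hw)) hab
  · rw [AddSubgroup.mem_bot.1 hw, lie_zero]; exact zero_mem _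

theorem iter_der_le_gen [NeZero n] (k : ℕ) : ∀ V : ZMod n → AddSubgroup L, BrLe V V V → V 0 = ⊥ →
    der^[2 ^ k - 1] V ≤ gen V (k + 1) := by
  induction k with
  | zero =>
    intro V _ h0 j
    by_cases hj : j = 0
    · subst hj; simp [h0]
    · exact le_gen (Nat.one_le_iff_ne_zero.2 (mt (ZMod.val_eq_zero j).1 hj))
  | succ k ih =>
    intro V hV h0
    have hp : 0 < 2 ^ k := Nat.two_pow_pos k
    have e : 2 ^ (k + 1) - 1 = (2 ^ k - 1) + (2 ^ k - 1 + 1) := by rw [pow_succ]; omega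
    rw [e, Function.iterate_add_apply]
    obtain ⟨hM, hMV⟩ := iter_der_spec hV (2 ^ k - 1 + 1)
    refine (ih _ hM (le_bot_iff.1 (h0 ▸ hMV 0))).trans (gen_le (trunc_le_iff.2 fun j hj => ?_)
      (brLe_gen V _))
    rcases hj.eq_or_lt with hj | hj
    · rw [Function.iterate_succ_apply', hj]
      refine le_trans ?_ (br_trunc_le h0 j)
      refine le_trans (br_mono (iter_der_spec hV _).2 (ih V hV h0) j) ?_
      rw [hj]
      exact br_le_iff.2 (brLe_gen_trunc hV _) j
    · exact (hMV j).trans (le_gen hj)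

/-- **Kreknin's theorem** -/
theorem kreknin [NeZero n] (hV : BrLe V V V) (h0 : V 0 = ⊥) : der^[2 ^ (n - 1) - 1] V = ⊥ := by
  refine le_bot_iff.1 ((iter_der_le_gen _ V hV h0).trans (gen_le (trunc_le_iff.2 fun j hj => ?_) ?_))
  · have := ZMod.val_lt j; omega
  · intro i j u hu w _
    rw [Pi.bot_apply, AddSubgroup.mem_bot] at hu
    rw [hu, zero_lie]; exact zero_mem _

/-- the lower central series of a family -/
def lcs (V : ZMod n → AddSubgroup L) : ℕ → ZMod n → AddSubgroup L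
  | 0 => V
  | k + 1 => br (lcs V k) V

/-- iterated bracket with `V` -/
def brPow (W V : ZMod n → AddSubgroup L) : ℕ → ZMod n → AddSubgroup L
  | 0 => W
  | k + 1 => br (brPow W V k) V

theorem lcs_add (V : ZMod n → AddSubgroup L) (a b : ℕ) : lcs V (a + b) = brPow (lcs V a) V b := by
  induction b with
  | zero => rfl
  | succ b ih => rw [← add_assoc, lcs, ih, brPow]

theorem brPow_mono {W' : ZMod n → AddSubgroup L} (h : W' ≤ W) (k : ℕ) :
    brPow W' V k ≤ brPow W V k := by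
  induction k with
  | zero => exact h
  | succ k ih => exact br_mono ih le_rfl

/-- left-normed bracket along a list of homogeneous elements -/
def it (m : L) (l : List (ZMod n × L)) : L := l.foldl (fun a z => ⁅a, z.2⁆) m

/-- total degree -/
def deg (l : List (ZMod n × L)) : ZMod n := (l.map Prod.fst).sum

theorem it_add (a b : L) (l : List (ZMod n × L)) : it (a + b) l = it a l + it b l := by
  induction l generalizing a b with
  | nil => rfl
  | cons z l ih => simp only [it, List.foldl_cons, add_lie] at ih ⊢; exact ih _ _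

theorem it_mem (hW : BrLe W V W) (l : List (ZMod n × L)) (hl : ∀ z ∈ l, z.2 ∈ V z.1) {w : ZMod n}
    {m : L} (hm : m ∈ W w) : it m l ∈ W (w + deg l) := by
  induction l generalizing m w with
  | nil => simpa [it, deg] using hm
  | cons z l ih =>
    have := ih (fun y hy => hl y (List.mem_cons_of_mem _ hy)) (hW _ _ _ hm _ (hl z (by simp)))
    exact mem_of_eq this (by simp [deg, add_assoc])

theorem it_comm {W' : ZMod n → AddSubgroup L} (hW : BrLe W V W) (hW' : BrLe W' V W')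
    (hc : BrLe W (der V) W') (l : List (ZMod n × L)) (hl : ∀ z ∈ l, z.2 ∈ V z.1) {j : ZMod n}
    {z : L} (hz : z ∈ V j) {w : ZMod n} {m : L} (hm : m ∈ W w) :
    it ⁅m, z⁆ l - ⁅it m l, z⁆ ∈ W' (w + j + deg l) := by
  induction l generalizing m w with
  | nil => simp [it]
  | cons y l ih =>
    have hl' : ∀ y ∈ l, y.2 ∈ V y.1 := fun y hy => hl y (List.mem_cons_of_mem _ hy)
    have hy : y.2 ∈ V y.1 := hl y (by simp)
    have e : ⁅⁅m, z⁆, y.2⁆ = ⁅⁅m, y.2⁆, z⁆ + ⁅m, ⁅z, y.2⁆⁆ := by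
      rw [leibniz_lie m, ← lie_skew z ⁅m, y.2⁆]; abel
    have e2 : it ⁅m, z⁆ (y :: l) - ⁅it m (y :: l), z⁆ =
        (it ⁅⁅m, y.2⁆, z⁆ l - ⁅it ⁅m, y.2⁆ l, z⁆) + it ⁅m, ⁅z, y.2⁆⁆ l := by
      change it ⁅⁅m, z⁆, y.2⁆ l - ⁅it ⁅m, y.2⁆ l, z⁆ = _
      rw [e, it_add]; abel
    rw [e2]
    refine add_mem (mem_of_eq (ih hl' (hW _ _ _ hm _ hy)) (by simp [deg]; ring)) ?_
    exact mem_of_eq (it_mem hW' l hl' (hc _ _ _ hm _ (brLe_br V V _ _ _ hz _ hy)))
      (by simp [deg]; ring)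

/-- subset sums -/
def ss : List (ZMod n) → Finset (ZMod n)
  | [] => {0}
  | a :: l => ss l ∪ (ss l).image (a + ·)

theorem it_mem_of_mem_ss {W' : ZMod n → AddSubgroup L} (hW : BrLe W V W) (hW' : BrLe W' V W')
    (hc : BrLe W (der V) W') (h0 : W 0 = ⊥) (l : List (ZMod n × L)) (hl : ∀ z ∈ l, z.2 ∈ V z.1)
    {w : ZMod n} {m : L} (hm : m ∈ W w) (hw : -w ∈ ss (l.map Prod.fst)) :
    it m l ∈ W' (w + deg l) := by
  induction l generalizing m w with
  | nil =>
    have : w = 0 := by simpa [ss] using hw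
    rw [this, h0, AddSubgroup.mem_bot] at hm
    rw [hm]; exact zero_mem _
  | cons z l ih =>
    have hl' : ∀ y ∈ l, y.2 ∈ V y.1 := fun y hy => hl y (List.mem_cons_of_mem _ hy)
    have hz : z.2 ∈ V z.1 := hl z (by simp)
    change it ⁅m, z.2⁆ l ∈ _
    rcases Finset.mem_union.1 hw with hw | hw
    · have h1 := it_comm hW hW' hc l hl' hz hm
      have h2 := hW' _ _ _ (ih hl' hm hw) _ hz
      rw [← sub_add_cancel (it ⁅m, z.2⁆ l) ⁅it m l, z.2⁆]
      exact add_mem (mem_of_eq h1 (by simp [deg]; ring)) (mem_of_eq h2 (by simp [deg]; ring))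
    · obtain ⟨s, hs, e⟩ := Finset.mem_image.1 hw
      refine mem_of_eq (ih hl' (hW _ _ _ hm _ hz) ?_) (by simp [deg]; ring)
      rw [neg_add, ← e]; simpa using hs

theorem card_ss {p : ℕ} (hp : p.Prime) (l : List (ZMod p)) (hl : ∀ a ∈ l, a ≠ 0) :
    min p (l.length + 1) ≤ (ss l).card := by
  induction l with
  | nil => simp [ss]
  | cons a l ih =>
    have ih := ih fun b hb => hl b (List.mem_cons_of_mem _ hb)
    have ha : a ≠ 0 := hl a (by simp)
    have hne : (ss l).Nonempty := Finset.card_pos.1 (by have := hp.pos; omega)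
    have h := ZMod.cauchy_davenport hp (s := {0, a}) (by simp) hne
    rw [Finset.card_pair ha.symm] at h
    have e : ss (a :: l) = open Pointwise in ({0, a} : Finset (ZMod p)) + ss l := by
      ext x
      simp only [ss, Finset.mem_union, Finset.mem_image, Finset.mem_add, Finset.mem_insert,
        Finset.mem_singleton]
      constructor
      · rintro (h | ⟨y, hy, rfl⟩)
        exacts [⟨0, Or.inl rfl, x, h, zero_add x⟩, ⟨a, Or.inr rfl, y, hy, rfl⟩]
      · rintro ⟨b, rfl | rfl, y, hy, rfl⟩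
        exacts [Or.inl (by simpa using hy), Or.inr ⟨y, hy, rfl⟩]
    rw [e, List.length_cons]
    omega

theorem brPow_le_closure (h0 : V 0 = ⊥) (r : ℕ) (k : ZMod n) :
    brPow W V r k ≤ AddSubgroup.closure {x | ∃ (w : ZMod n) (m : L) (l : List (ZMod n × L)),
      m ∈ W w ∧ (∀ z ∈ l, z.2 ∈ V z.1 ∧ z.1 ≠ 0) ∧ l.length = r ∧ w + deg l = k ∧ it m l = x} := by
  induction r generalizing k with
  | zero =>
    exact fun x hx => AddSubgroup.subset_closure ⟨k, x, [], hx, by simp, rfl, by simp [deg], rfl⟩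
  | succ r ih =>
    refine (AddSubgroup.closure_le _).2 ?_
    rintro _ ⟨i, j, rfl, u, hu, v, hv, rfl⟩
    replace hu := ih i hu
    by_cases hj : j = 0
    · rw [hj, h0, AddSubgroup.mem_bot] at hv
      rw [hv, lie_zero]; exact zero_mem _
    rw [SetLike.mem_coe]
    induction hu using AddSubgroup.closure_induction with
    | mem x hx =>
      obtain ⟨w, m, l, hm, hl, hr, rfl, rfl⟩ := hx
      refine AddSubgroup.subset_closure ⟨w, m, l ++ [(j, v)], hm, ?_, by simp [hr],
        by simp [deg, add_assoc], by simp [it]⟩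
      intro z hz
      rcases List.mem_append.1 hz with hz | hz
      · exact hl z hz
      · rw [List.mem_singleton.1 hz]; exact ⟨hv, hj⟩
    | zero => rw [zero_lie]; exact zero_mem _
    | add x y _ _ hx hy => rw [add_lie]; exact add_mem hx hy
    | neg x _ hx => rw [neg_lie]; exact neg_mem hx

theorem brPow_le_of_prime {p : ℕ} (hp : p.Prime) {V W W' : ZMod p → AddSubgroup L}
    (hW : BrLe W V W) (hW' : BrLe W' V W') (hc : BrLe W (der V) W') (h0 : V 0 = ⊥)
    (hW0 : W 0 = ⊥) : brPow W V (p - 1) ≤ W' := by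
  haveI : NeZero p := ⟨hp.ne_zero⟩
  intro k
  refine (brPow_le_closure h0 _ k).trans ((AddSubgroup.closure_le _).2 ?_)
  rintro _ ⟨w, m, l, hm, hl, hr, rfl, rfl⟩
  refine it_mem_of_mem_ss hW hW' hc hW0 l (fun z hz => (hl z hz).1) hm ?_
  have h := card_ss hp (l.map Prod.fst) (by
    intro a ha
    obtain ⟨z, hz, rfl⟩ := List.mem_map.1 ha
    exact (hl z hz).2)
  rw [List.length_map, hr] at h
  have : ss (l.map Prod.fst) = Finset.univ :=
    Finset.eq_univ_of_card _ (le_antisymm (Finset.card_le_univ _) (by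
      rw [ZMod.card]; have := hp.pos; omega))
  rw [this]; exact Finset.mem_univ _

theorem lcs_spec (hU : BrLe U U U) (hUV : BrLe U V U) (k : ℕ) :
    lcs U k ≤ U ∧ BrLe (lcs U k) V (lcs U k) := by
  induction k with
  | zero => exact ⟨le_rfl, hUV⟩
  | succ k ih =>
    refine ⟨br_le_iff.2 (hU.mono ih.1 le_rfl le_rfl), brLe_br_left fun i j m a ha b hb v hv => ?_⟩
    have e : ⁅⁅a, b⁆, v⁆ = ⁅⁅a, v⁆, b⁆ + ⁅a, ⁅b, v⁆⁆ := by
      rw [leibniz_lie a, ← lie_skew b ⁅a, v⁆]; abel
    rw [e]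
    exact add_mem (mem_of_eq (brLe_br _ _ _ _ _ (ih.2 _ _ _ ha _ hv) _ hb) (by ring))
      (mem_of_eq (brLe_br _ _ _ _ _ ha _ (hUV _ _ _ hb _ hv)) (by ring))

/-- **Kreknin-Kostrikin** -/
theorem lcs_eq_bot_of_der {p : ℕ} (hp : p.Prime) (s : ℕ) : ∀ V : ZMod p → AddSubgroup L,
    BrLe V V V → V 0 = ⊥ → der^[s] V = ⊥ →
      lcs V (∑ i ∈ Finset.range s, (p - 1) ^ i) = ⊥ := by
  induction s with
  | zero => exact fun V _ _ h => h
  | succ s ih =>
    intro V hV h0 hs
    have hd := der_le hV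
    have hd0 : der V 0 = ⊥ := le_bot_iff.1 (h0 ▸ hd 0)
    have h1 := ih (der V) (brLe_der hV) hd0 hs
    have hdV : BrLe (der V) V (der V) := (brLe_br V V).mono hd le_rfl le_rfl
    have key : ∀ i, lcs V (1 + (p - 1) * i) ≤ lcs (der V) i := by
      intro i
      induction i with
      | zero => exact le_rfl
      | succ i ih2 =>
        rw [Nat.mul_succ, ← add_assoc, lcs_add]
        refine (brPow_mono ih2 _).trans (brPow_le_of_prime hp (lcs_spec (brLe_der hV) hdV i).2
          (lcs_spec (brLe_der hV) hdV (i + 1)).2 (brLe_br _ _) h0 ?_)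
        exact le_bot_iff.1 (hd0 ▸ (lcs_spec (brLe_der hV) hdV i).1 0)
    have e : ∑ i ∈ Finset.range (s + 1), (p - 1) ^ i =
        1 + (p - 1) * ∑ i ∈ Finset.range s, (p - 1) ^ i := by
      rw [Finset.sum_range_succ', Finset.mul_sum, add_comm]
      simp [pow_succ']
    rw [e]
    exact le_bot_iff.1 (h1 ▸ key _)

/-- the Higman-Kreknin-Kostrikin bound -/
def hkk (p : ℕ) : ℕ := ∑ i ∈ Finset.range (2 ^ (p - 1) - 1), (p - 1) ^ i

theorem lcs_hkk_eq_bot {p : ℕ} (hp : p.Prime) {V : ZMod p → AddSubgroup L} (hV : BrLe V V V)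
    (h0 : V 0 = ⊥) : lcs V (hkk p) = ⊥ :=
  haveI : NeZero p := ⟨hp.ne_zero⟩
  lcs_eq_bot_of_der hp _ V hV h0 (kreknin hV h0)

theorem lcs_two_eq_bot_of_three {V : ZMod 3 → AddSubgroup L} (hV : BrLe V V V)
    (h0 : V 0 = ⊥) : lcs V 2 = ⊥ := by
  refine le_bot_iff.1 (br_le_iff.2 (brLe_br_left fun i j k a ha b hb c hc => ?_))
  have z : ∀ {i : ZMod 3} {x : L}, x ∈ V i → i = 0 → x = 0 := by
    rintro _ x hx rfl
    rwa [h0, AddSubgroup.mem_bot] at hx
  have h : i = 0 ∨ j = 0 ∨ k = 0 ∨ i + j = 0 ∨ i + j + k = 0 ∨ (i + k = 0 ∧ j + k = 0) :=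
    (by decide : ∀ i j k : ZMod 3,
      i = 0 ∨ j = 0 ∨ k = 0 ∨ i + j = 0 ∨ i + j + k = 0 ∨ (i + k = 0 ∧ j + k = 0)) i j k
  rw [Pi.bot_apply, AddSubgroup.mem_bot]
  rcases h with h | h | h | h | h | ⟨h1, h2⟩
  · rw [z ha h, zero_lie, zero_lie]
  · rw [z hb h, lie_zero, zero_lie]
  · rw [z hc h, lie_zero]
  · rw [z (hV _ _ _ ha _ hb) h, zero_lie]
  · exact z (hV _ _ _ (hV _ _ _ ha _ hb) _ hc) h
  · rw [lie_lie, z (hV _ _ _ ha _ hc) h1, z (hV _ _ _ hb _ hc) h2]; simp

/-- elementwise form of `lcs V c = ⊥` -/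
theorem foldl_mem_iSup_lcs (V : ZMod n → AddSubgroup L) (l : List L) (hl : ∀ y ∈ l, y ∈ ⨆ i, V i)
    (k : ℕ) {x : L} (hx : x ∈ ⨆ i, lcs V k i) :
    l.foldl (fun a z => ⁅a, z⁆) x ∈ ⨆ i, lcs V (k + l.length) i := by
  induction l generalizing k x with
  | nil => exact hx
  | cons y l ih =>
    rw [List.foldl_cons, List.length_cons, show k + (l.length + 1) = k + 1 + l.length by ring]
    refine ih (fun z hz => hl z (List.mem_cons_of_mem _ hz)) _ ?_
    have hy := hl y (by simp)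
    clear hl ih
    induction hx using AddSubgroup.iSup_induction' with
    | hp i x hx =>
      induction hy using AddSubgroup.iSup_induction' with
      | hp j y hy => exact AddSubgroup.mem_iSup_of_mem _ (brLe_br _ _ i j x hx y hy)
      | h1 => rw [lie_zero]; exact zero_mem _
      | hadd a b _ _ ha hb => rw [lie_add]; exact add_mem ha hb
    | h1 => rw [zero_lie]; exact zero_mem _
    | hadd a b _ _ ha hb => rw [add_lie]; exact add_mem ha hb

theorem foldl_eq_zero {c : ℕ} (hc : lcs V c = ⊥) (l : List L) (hl : ∀ y ∈ l, y ∈ ⨆ i, V i)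
    (hlen : l.length = c) {x : L} (hx : x ∈ ⨆ i, V i) : l.foldl (fun a z => ⁅a, z⁆) x = 0 := by
  have := foldl_mem_iSup_lcs V l hl 0 hx
  rw [zero_add, hlen, hc] at this
  simpa using this

end CL.Fgs.Lie
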