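/-
Lie rings with an automorphism of prime order (helper94): extension of scalars by a primitive
`p`-th root of unity and the Higman-Kreknin-Kostrikin theorem modulo the traces.
-/
import Cfsg.Agent.Fgs.LieGraded

set_option autoImplicit false
open TensorProduct Polynomial

namespace CL.Fgs.Lie

universe u

theorem foldl_map_hom {L M : Type*} [LieRing L] [LieRing M] (f : L →+ M)
    (hf : ∀ x y, f ⁅x, y⁆ = ⁅f x, f y⁆) (a : ℕ) (l : List L) (x : L) :
    (l.map fun y => a • f y).foldl (fun b z => ⁅b, z⁆) (f x) =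
      a ^ l.length • f (l.foldl (fun b z => ⁅b, z⁆) x) := by
  induction l using List.reverseRecOn with
  | nil => simp
  | append_singleton l y ih =>
    rw [List.map_append, List.foldl_append, ih, List.foldl_append]
    simp only [List.map_cons, List.map_nil, List.foldl_cons, List.foldl_nil, List.length_append,
      List.length_singleton, hf, nsmul_lie, lie_nsmul, pow_succ, mul_smul]
    rw [smul_comm]

theorem foldl_nsmul {L : Type*} [LieRing L] (a : ℕ) (l : List L) (x : L) :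
    l.foldl (fun b z => ⁅b, z⁆) (a • x) = a • l.foldl (fun b z => ⁅b, z⁆) x := by
  induction l generalizing x with
  | nil => rfl
  | cons y l ih => rw [List.foldl_cons, List.foldl_cons, nsmul_lie, ih]

/-- a commutative ring with a `p`-th root of unity whose powers add up to zero, of which `ℤ` is a
direct summand -/
theorem exists_root_ring {p : ℕ} (hp : p.Prime) : ∃ (A : Type) (_ : CommRing A) (ω : A)
    (r : A →ₗ[ℤ] ℤ), ω ^ p = 1 ∧ ∑ i ∈ Finset.range p, ω ^ i = 0 ∧ r 1 = 1 := by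
  haveI := Fact.mk hp
  have hm : (cyclotomic p ℤ).Monic := cyclotomic.monic p ℤ
  have hs : ∑ i ∈ Finset.range p, (AdjoinRoot.root (cyclotomic p ℤ)) ^ i = 0 := by
    have h := AdjoinRoot.eval₂_root (cyclotomic p ℤ)
    conv_lhs at h => arg 3; rw [cyclotomic_prime]
    simpa [eval₂_finsetSum] using h
  refine ⟨AdjoinRoot (cyclotomic p ℤ), inferInstance, AdjoinRoot.root _,
    (lcoeff ℤ 0).comp (AdjoinRoot.modByMonicHom hm), ?_, hs, ?_⟩
  · have := mul_geom_sum (AdjoinRoot.root (cyclotomic p ℤ)) p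
    rw [hs, mul_zero] at this
    exact (sub_eq_zero.1 this.symm)
  · have h1 : (1 : AdjoinRoot (cyclotomic p ℤ)) = AdjoinRoot.mk _ 1 := (map_one _).symm
    rw [LinearMap.comp_apply, h1, AdjoinRoot.modByMonicHom_mk, (modByMonic_eq_self_iff hm).2]
    · simp
    · rw [degree_one, degree_cyclotomic]
      exact_mod_cast Nat.totient_pos.2 hp.pos

theorem smul_foldl_eq_zero_of_root {p : ℕ} (hp : p.Prime) {A : Type*} [CommRing A] {ω : A}
    (hω : ω ^ p = 1) (hs : ∑ i ∈ Finset.range p, ω ^ i = 0) {M : Type u} [LieRing M]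
    [LieAlgebra A M] (Φ : M →ₗ[A] M) (hΦl : ∀ u w : M, Φ ⁅u, w⁆ = ⁅Φ u, Φ w⁆)
    (hΦp : ∀ v : M, (Φ ^ p) v = v) (N : ℕ)
    (hΦN : ∀ v : M, N • ∑ j ∈ Finset.range p, (Φ ^ j) v = 0) {c : ℕ}
    (hc : ∀ (M : Type u) [LieRing M] (V : ZMod p → AddSubgroup M), BrLe V V V → V 0 = ⊥ →
      lcs V c = ⊥) (x : M) (l : List M) (hl : l.length = c) :
    (p ^ (c + 2) * N) • l.foldl (fun b z => ⁅b, z⁆) x = 0 := by
  classical
  haveI := Fact.mk hp
  let χ : AddChar (ZMod p) A := AddChar.zmodChar p hω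
  have hχ : ∀ j : ZMod p, j ≠ 0 → ∑ i : ZMod p, χ (i * j) = 0 := by
    intro j hj
    refine (Equiv.sum_comp (Equiv.mulRight₀ j hj) χ).trans ?_
    rw [← hs, Finset.sum_range]
    obtain ⟨q, rfl⟩ : ∃ q, p = q + 1 := ⟨p - 1, by have := hp.pos; omega⟩
    rfl
  let V : ZMod p → AddSubgroup M := fun i =>
    { carrier := {v | Φ v = χ i • v}
      zero_mem' := by simp
      add_mem' := fun {a b} ha hb => by
        simp only [Set.mem_ofPred_eq] at ha hb ⊢; rw [map_add, ha, hb, smul_add]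
      neg_mem' := fun {a} ha => by
        simp only [Set.mem_ofPred_eq] at ha ⊢; rw [map_neg, ha, smul_neg] }
  have hV : ∀ i v, v ∈ V i ↔ Φ v = χ i • v := fun _ _ => Iff.rfl
  have hVV : BrLe V V V := by
    intro i j u hu w hw
    rw [hV] at hu hw ⊢
    rw [hΦl, hu, hw, smul_lie, lie_smul, smul_smul, AddChar.map_add_eq_mul]
  have hspan : ∀ v : M, p • v ∈ ⨆ i, V i := by
    intro v
    let π : ZMod p → M := fun i => ∑ j ∈ Finset.range p, χ (-i * j) • (Φ ^ j) v
    have hπ : ∀ i, π i ∈ V i := by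
      intro i
      rw [hV]
      have h1 : ∑ j ∈ Finset.range p, χ (-i * ((j + 1 : ℕ) : ZMod p)) • (Φ ^ (j + 1)) v = π i := by
        have h2 := Finset.sum_range_succ (fun j : ℕ => χ (-i * j) • (Φ ^ j) v) p
        rw [Finset.sum_range_succ'] at h2
        simp only [Nat.cast_zero, mul_zero, pow_zero, Module.End.one_apply, ZMod.natCast_self,
          hΦp] at h2
        exact add_right_cancel h2
      conv_rhs => rw [← h1]
      rw [map_sum, Finset.smul_sum]
      refine Finset.sum_congr rfl fun j _ => ?_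
      rw [map_smul, smul_smul, ← AddChar.map_add_eq_mul, pow_succ', Module.End.mul_apply]
      congr 2
      push_cast; ring
    have hsum : ∑ i, π i = p • v := by
      rw [Finset.sum_comm, Finset.sum_eq_single 0]
      · simp [← Nat.cast_smul_eq_nsmul A]
      · intro j hj hj0
        rw [← Finset.sum_smul]
        have : (-(j : ZMod p)) ≠ 0 := by
          rw [Ne, neg_eq_zero, ZMod.natCast_eq_zero_iff]
          exact Nat.not_dvd_of_pos_of_lt (Nat.pos_of_ne_zero hj0) (Finset.mem_range.1 hj)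
        have h3 := hχ _ this
        simp only [mul_neg, neg_mul] at h3 ⊢
        rw [h3, zero_smul]
      · intro h; exact absurd (Finset.mem_range.2 hp.pos) h
    rw [← hsum]
    exact sum_mem fun i _ => AddSubgroup.mem_iSup_of_mem i (hπ i)
  let I : LieIdeal ℤ M :=
    { carrier := {v | (p * N) • v = 0}
      zero_mem' := by simp
      add_mem' := fun {a b} ha hb => by
        simp only [Set.mem_ofPred_eq] at ha hb ⊢; rw [smul_add, ha, hb, add_zero]
      smul_mem' := fun k a ha => by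
        simp only [Set.mem_ofPred_eq] at ha ⊢; rw [smul_comm, ha, smul_zero]
      lie_mem := fun {a b} hb => by
        simp only [Set.mem_ofPred_eq] at hb ⊢; rw [← lie_nsmul, hb, lie_zero] }
  have hI : ∀ v, v ∈ I ↔ (p * N) • v = 0 := fun _ => Iff.rfl
  let mk : M →+ M ⧸ I := (LieSubmodule.Quotient.mk' I).toLinearMap.toAddMonoidHom
  have hmk : ∀ u w, mk ⁅u, w⁆ = ⁅mk u, mk w⁆ := fun u w => rfl
  have hmk0 : ∀ v, mk v = 0 ↔ v ∈ I := fun v => LieSubmodule.Quotient.mk_eq_zero I
  let V' : ZMod p → AddSubgroup (M ⧸ I) := fun i => (V i).map mk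
  have hV' : BrLe V' V' V' := by
    rintro i j _ ⟨u, hu, rfl⟩ _ ⟨w, hw, rfl⟩
    exact ⟨_, hVV i j u hu w hw, hmk u w⟩
  have hV0 : V' 0 = ⊥ := by
    rw [eq_bot_iff]
    rintro _ ⟨v, hv, rfl⟩
    rw [AddSubgroup.mem_bot, hmk0, hI]
    have h1 : Φ v = v := by simpa using (hV 0 v).1 hv
    have h2 : ∀ j, (Φ ^ j) v = v := fun j => by
      induction j with
      | zero => rfl
      | succ j ih => rw [pow_succ', Module.End.mul_apply, ih, h1]
    have := hΦN v
    simp only [h2, Finset.sum_const, Finset.card_range] at this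
    rw [mul_comm, mul_smul, this]
  have hmem : ∀ y, p • mk y ∈ ⨆ i, V' i := by
    intro y
    rw [← map_nsmul, ← AddSubgroup.map_iSup]
    exact AddSubgroup.mem_map_of_mem _ (hspan _)
  have h := foldl_eq_zero (hc _ V' hV' hV0) (l.map fun y => p • mk y) (by
    intro z hz
    obtain ⟨y, -, rfl⟩ := List.mem_map.1 hz
    exact hmem y) (by rw [List.length_map, hl]) (hmem x)
  rw [foldl_nsmul, foldl_map_hom mk hmk, ← map_nsmul, ← map_nsmul, hmk0, hI, smul_smul,
    smul_smul] at h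
  rw [← h, hl]
  congr 1
  ring

theorem smul_foldl_eq_zero {p : ℕ} (hp : p.Prime) {L : Type u} [LieRing L] (φ : L →+ L)
    (hφ : ∀ x y, φ ⁅x, y⁆ = ⁅φ x, φ y⁆) (hφp : ∀ x, φ^[p] x = x) (N : ℕ)
    (hN : ∀ x, N • ∑ j ∈ Finset.range p, φ^[j] x = 0) {c : ℕ}
    (hc : ∀ (M : Type u) [LieRing M] (V : ZMod p → AddSubgroup M), BrLe V V V → V 0 = ⊥ →
      lcs V c = ⊥) (x : L) (l : List L) (hl : l.length = c) :
    (p ^ (c + 2) * N) • l.foldl (fun b z => ⁅b, z⁆) x = 0 := by
  obtain ⟨A, _, ω, r, hω, hs, hr⟩ := exists_root_ring hp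
  obtain ⟨Φ, hΦ⟩ : ∃ Φ : A ⊗[ℤ] L →ₗ[A] A ⊗[ℤ] L, ∀ (a : A) (y : L), Φ (a ⊗ₜ y) = a ⊗ₜ φ y :=
    ⟨φ.toIntLinearMap.baseChange A, fun a y => rfl⟩
  have hΦi : ∀ (j : ℕ) (a : A) (y : L), (Φ ^ j) (a ⊗ₜ y) = a ⊗ₜ φ^[j] y := by
    intro j a y
    induction j with
    | zero => rfl
    | succ j ih => rw [pow_succ', Module.End.mul_apply, ih, hΦ, Function.iterate_succ_apply']
  have hΦl : ∀ u w : A ⊗[ℤ] L, Φ ⁅u, w⁆ = ⁅Φ u, Φ w⁆ := by
    have la : ∀ a b c : A ⊗[ℤ] L, ⁅a, b + c⁆ = ⁅a, b⁆ + ⁅a, c⁆ := fun a b c =>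
      LieRing.lie_add a b c
    have l0 : ∀ a : A ⊗[ℤ] L, ⁅a, (0 : A ⊗[ℤ] L)⁆ = 0 := fun a => by
      have := la a 0 0
      rw [add_zero] at this
      exact left_eq_add.1 this
    intro u w
    induction u using TensorProduct.induction_on with
    | zero => simp
    | add a b ha hb => rw [add_lie, map_add, map_add, add_lie, ha, hb]
    | tmul a y =>
      induction w using TensorProduct.induction_on with
      | zero => rw [map_zero, l0, l0, map_zero]
      | add a b ha hb => rw [la, map_add, map_add, la, ha, hb]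
      | tmul b z =>
        rw [LieAlgebra.ExtendScalars.bracket_tmul, hΦ, hΦ, hΦ, hφ,
          LieAlgebra.ExtendScalars.bracket_tmul]
  have hΦp : ∀ v : A ⊗[ℤ] L, (Φ ^ p) v = v := by
    intro v
    induction v using TensorProduct.induction_on with
    | zero => simp
    | add a b ha hb => rw [map_add, ha, hb]
    | tmul a y => rw [hΦi, hφp]
  have hΦN : ∀ v : A ⊗[ℤ] L, N • ∑ j ∈ Finset.range p, (Φ ^ j) v = 0 := by
    intro v
    induction v using TensorProduct.induction_on with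
    | zero => simp
    | add a b ha hb => simp only [map_add, Finset.sum_add_distrib, smul_add, ha, hb, add_zero]
    | tmul a y => simp only [hΦi]; rw [← tmul_sum, ← tmul_smul, hN, tmul_zero]
  let f : L →+ A ⊗[ℤ] L := (TensorProduct.mk ℤ A L 1).toAddMonoidHom
  have hf0 : ∀ y, f y = 1 ⊗ₜ y := fun _ => rfl
  have hf : ∀ y z, f ⁅y, z⁆ = ⁅f y, f z⁆ := by
    intro y z
    rw [hf0, hf0, hf0, LieAlgebra.ExtendScalars.bracket_tmul, one_mul]
  have h := smul_foldl_eq_zero_of_root hp hω hs Φ hΦl hΦp N hΦN hc (f x)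
    (l.map fun y => 1 • f y) (by rw [List.length_map, hl])
  rw [foldl_map_hom f hf, one_pow, one_smul, ← map_nsmul, hf0] at h
  have h2 := congrArg (fun v : A ⊗[ℤ] L => TensorProduct.lid ℤ L (r.rTensor L v)) h
  simpa only [LinearMap.rTensor_tmul, hr, lid_tmul, one_smul, map_zero] using h2

end CL.Fgs.Lie
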