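/-
The Lie ring associated with a central filtration of a group (helper94), and the
Higman-Kreknin-Kostrikin theorem for the factors of the lower central series.
-/
import Cfsg.Agent.Fgs.LieAut
import Cfsg.Agent.Grp.Comm1

set_option autoImplicit false
open Subgroup
open scoped commutatorElement DirectSum

namespace CL.Fgs.Lie

universe u

/-- a filtration `G = F 0 ≥ F 1 ≥ ...` with `[F i, F j] ≤ F (i+j+1)` -/
structure IsFilt {G : Type*} [Group G] (F : ℕ → Subgroup G) : Prop where
  zero : F 0 = ⊤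
  anti : Antitone F
  comm : ∀ i j, ⁅F i, F j⁆ ≤ F (i + j + 1)

variable {G : Type u} [Group G] {F : ℕ → Subgroup G}

theorem isFilt_lcs (G : Type u) [Group G] : IsFilt (⊤ : Subgroup G).lowerCentralSeries :=
  ⟨rfl, Subgroup.lowerCentralSeries_antitone _, CL.Grp.commutator_lowerCentralSeries_le⟩

theorem IsFilt.comm_mem (h : IsFilt F) {i j : ℕ} {x y : G} (hx : x ∈ F i) (hy : y ∈ F j) :
    ⁅x, y⁆ ∈ F (i + j + 1) := h.comm i j (commutator_mem_commutator hx hy)

theorem IsFilt.comm_mem_succ (h : IsFilt F) {i : ℕ} {x : G} (hx : x ∈ F i) (g : G) :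
    ⁅g, x⁆ ∈ F (i + 1) := by
  have := h.comm_mem (show g ∈ F 0 from h.zero ▸ mem_top g) hx
  rwa [zero_add] at this

theorem IsFilt.normal (h : IsFilt F) (i : ℕ) : (F i).Normal := ⟨fun x hx g => by
  have := mul_mem (h.anti (Nat.le_succ i) (h.comm_mem_succ hx g)) hx
  simpa [commutatorElement_def] using this⟩

/-- the graded abelian group of a filtration -/
theorem IsFilt.exists_graded (h : IsFilt F) : ∃ (L : Type u) (_ : AddCommGroup L) (ι : ℕ → G → L),
    (∀ i, ∀ x ∈ F i, ∀ y ∈ F i, ι i (x * y) = ι i x + ι i y) ∧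
    (∀ i, ∀ x ∈ F i, ι i x = 0 ↔ x ∈ F (i + 1)) ∧
    (∀ P : L → Prop, P 0 → (∀ i, ∀ x ∈ F i, P (ι i x)) → (∀ a b, P a → P b → P (a + b)) →
      ∀ a, P a) ∧
    (∀ (B : Type u) [AddCommGroup B] (g : ∀ i, F i → B), (∀ i x y, g i (x * y) = g i x + g i y) →
      (∀ i (x : F i), (x : G) ∈ F (i + 1) → g i x = 0) →
        ∃ f : L →+ B, ∀ i (x : F i), f (ι i x) = g i x) := by
  classical
  haveI := h.normal
  letI : ∀ i, CommGroup (F i ⧸ (F (i + 1)).subgroupOf (F i)) := fun i =>
    { QuotientGroup.Quotient.group _ with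
      mul_comm := by
        intro a b
        obtain ⟨a, rfl⟩ := QuotientGroup.mk_surjective a
        obtain ⟨b, rfl⟩ := QuotientGroup.mk_surjective b
        rw [← QuotientGroup.mk_mul, ← QuotientGroup.mk_mul, QuotientGroup.eq, mem_subgroupOf]
        have := h.comm_mem_succ (inv_mem a.2) (b : G)⁻¹
        simpa [commutatorElement_def, mul_assoc] using this }
  let P : ℕ → Type u := fun i => Additive (F i ⧸ (F (i + 1)).subgroupOf (F i))
  let ι : ℕ → G → ⨁ i, P i := fun i x =>
    if hx : x ∈ F i then DirectSum.of P i (Additive.ofMul (QuotientGroup.mk ⟨x, hx⟩)) else 0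
  have hι : ∀ i (x : F i), ι i x = DirectSum.of P i (Additive.ofMul (QuotientGroup.mk x)) :=
    fun i x => dif_pos x.2
  refine ⟨⨁ i, P i, inferInstance, ι, ?_, ?_, ?_, ?_⟩
  · intro i x hx y hy
    rw [hι i ⟨x, hx⟩, hι i ⟨y, hy⟩, ← map_add]
    exact hι i ⟨x * y, mul_mem hx hy⟩
  · intro i x hx
    rw [hι i ⟨x, hx⟩, map_eq_zero_iff _ (DirectSum.of_injective i)]
    exact QuotientGroup.eq_one_iff (N := (F (i + 1)).subgroupOf (F i)) ⟨x, hx⟩
  · intro Q h0 h1 h2 a
    induction a using DirectSum.induction_on with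
    | zero => exact h0
    | add a b ha hb => exact h2 a b ha hb
    | of i a =>
      obtain ⟨x, hx⟩ := QuotientGroup.mk_surjective (Additive.toMul a)
      have : a = Additive.ofMul (QuotientGroup.mk x) := by rw [hx]; rfl
      rw [this, ← hι]
      exact h1 i x x.2
  · intro B _ g h1 h2
    let g' : ∀ i, F i →* Multiplicative B := fun i =>
      MonoidHom.mk' (fun x => Multiplicative.ofAdd (g i x)) (fun x y => by rw [h1]; rfl)
    let g'' : ∀ i, P i →+ B := fun i => MonoidHom.toAdditiveLeft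
      (QuotientGroup.lift _ (g' i) fun x hx => by
        change Multiplicative.ofAdd (g i x) = 1
        rw [h2 i x hx]; rfl)
    refine ⟨DirectSum.toAddMonoid g'', fun i x => ?_⟩
    rw [hι, DirectSum.toAddMonoid_of]
    rfl

/-- the Lie ring of a filtration -/
theorem IsFilt.exists_lieRing (h : IsFilt F) : ∃ (L : Type u) (_ : LieRing L) (ι : ℕ → G → L),
    (∀ i, ∀ x ∈ F i, ∀ y ∈ F i, ι i (x * y) = ι i x + ι i y) ∧
    (∀ i, ∀ x ∈ F i, ι i x = 0 ↔ x ∈ F (i + 1)) ∧
    (∀ P : L → Prop, P 0 → (∀ i, ∀ x ∈ F i, P (ι i x)) → (∀ a b, P a → P b → P (a + b)) →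
      ∀ a, P a) ∧
    (∀ (B : Type u) [AddCommGroup B] (g : ∀ i, F i → B), (∀ i x y, g i (x * y) = g i x + g i y) →
      (∀ i (x : F i), (x : G) ∈ F (i + 1) → g i x = 0) →
        ∃ f : L →+ B, ∀ i (x : F i), f (ι i x) = g i x) ∧
    (∀ i j, ∀ x ∈ F i, ∀ y ∈ F j, ⁅ι i x, ι j y⁆ = ι (i + j + 1) ⁅x, y⁆) := by
  obtain ⟨L, _, ι, hmul, hz, hind, hlift⟩ := h.exists_graded
  have hN := h.normal
  have hext : ∀ {B : Type u} [AddCommGroup B] (f f' : L →+ B),
      (∀ i, ∀ x ∈ F i, f (ι i x) = f' (ι i x)) → f = f' := by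
    intro B _ f f' H
    ext a
    exact hind (fun a => f a = f' a) (by simp) H (fun a b ha hb => by rw [map_add, map_add, ha, hb]) a
  have hconj : ∀ i, ∀ x ∈ F i, ∀ g : G, ι i (g * x * g⁻¹) = ι i x := by
    intro i x hx g
    have h1 := h.comm_mem_succ hx g
    have h2 := h.anti (Nat.le_succ i) h1
    rw [show g * x * g⁻¹ = ⁅g, x⁆ * x by simp [commutatorElement_def], hmul i _ h2 _ hx,
      (hz i _ h2).2 h1, zero_add]
  have hone : ∀ i, ι i 1 = 0 := fun i => (hz i 1 (one_mem _)).2 (one_mem _)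
  have hinner : ∀ i (x : F i), ∃ f : L →+ L, ∀ j (y : F j), f (ι j y) = ι (i + j + 1) ⁅(x : G), y⁆ := by
    intro i x
    refine hlift L (fun j y => ι (i + j + 1) ⁅(x : G), (y : G)⁆) (fun j y z => ?_) (fun j y hy => ?_)
    · have h1 := h.comm_mem x.2 y.2
      have h2 := h.comm_mem x.2 z.2
      rw [coe_mul, commutatorElement_mul_right_eq_mul_conj, mul_assoc, mul_assoc, ← mul_assoc (y : G),
        hmul _ _ h1 _ ((hN _).conj_mem _ h2 _), hconj _ _ h2]
    · exact (hz _ _ (h.comm_mem x.2 y.2)).2 (h.comm_mem (j := j + 1) x.2 hy)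
  choose b hb using hinner
  obtain ⟨B, hB⟩ := hlift (L →+ L) b (fun i x y => hext _ _ fun j z hz' => by
      have h1 := h.comm_mem x.2 hz'
      have h2 := h.comm_mem y.2 hz'
      rw [AddMonoidHom.add_apply, hb i (x * y) j ⟨z, hz'⟩, hb i x j ⟨z, hz'⟩, hb i y j ⟨z, hz'⟩, coe_mul,
        commutatorElement_mul_left_eq_conj_mul, hmul _ _ ((hN _).conj_mem _ h2 _) _ h1,
        hconj _ _ h2, add_comm])
    (fun i x hx => hext _ _ fun j z hz' => by
      rw [hb i x j ⟨z, hz'⟩, AddMonoidHom.zero_apply]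
      refine (hz _ _ (h.comm_mem x.2 hz')).2 ?_
      have := h.comm_mem hx hz'
      rwa [show i + 1 + j + 1 = i + j + 1 + 1 by ring] at this)
  have hBι : ∀ i j, ∀ x ∈ F i, ∀ y ∈ F j, B (ι i x) (ι j y) = ι (i + j + 1) ⁅x, y⁆ :=
    fun i j x hx y hy => by rw [hB i ⟨x, hx⟩, hb i ⟨x, hx⟩ j ⟨y, hy⟩]
  have hskew : ∀ a c : L, B a c + B c a = 0 := by
    intro a c
    refine hind (fun a => B a c + B c a = 0) (by simp) (fun i x hx => ?_) (fun a a' h1 h2 => ?_) a
    · refine hind (fun c => B (ι i x) c + B c (ι i x) = 0) (by simp) (fun j y hy => ?_)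
        (fun c c' h1 h2 => ?_) c
      · have h1 := h.comm_mem hx hy
        have h2 := h.comm_mem hy hx
        rw [add_comm j i] at h2
        rw [hBι i j x hx y hy, hBι j i y hy x hx, add_comm j i, ← hmul _ _ h1 _ h2,
          ← commutatorElement_inv y, inv_mul_cancel, hone]
      · simp only [map_add, AddMonoidHom.add_apply]
        linear_combination (norm := abel) h1 + h2
    · simp only [map_add, AddMonoidHom.add_apply]
      linear_combination (norm := abel) h1 + h2
  have hself : ∀ a : L, B a a = 0 := by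
    intro a
    refine hind (fun a => B a a = 0) (by simp) (fun i x hx => ?_) (fun a c h1 h2 => ?_) a
    · rw [hBι i i x hx x hx, commutatorElement_self, hone]
    · simp only [map_add, AddMonoidHom.add_apply]
      linear_combination (norm := abel) h1 + h2 + hskew a c
  have hjac : ∀ a c d : L, B (B a c) d + B (B c d) a + B (B d a) c = 0 := by
    intro a c d
    refine hind (fun a => B (B a c) d + B (B c d) a + B (B d a) c = 0) (by simp) (fun i x hx => ?_)
      (fun a a' h1 h2 => ?_) a
    · refine hind (fun c => B (B (ι i x) c) d + B (B c d) (ι i x) + B (B d (ι i x)) c = 0) (by simp)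
        (fun j y hy => ?_) (fun c c' h1 h2 => ?_) c
      · refine hind (fun d => B (B (ι i x) (ι j y)) d + B (B (ι j y) d) (ι i x) +
          B (B d (ι i x)) (ι j y) = 0) (by simp) (fun k z hz' => ?_) (fun c c' h1 h2 => ?_) d
        · have m1 := (hN k).conj_mem z hz' y
          have m2 := (hN i).conj_mem x hx z
          have m3 := (hN j).conj_mem y hy x
          have e1 := hBι _ _ _ (h.comm_mem hx hy) _ m1
          have e2 := hBι _ _ _ (h.comm_mem hy hz') _ m2
          have e3 := hBι _ _ _ (h.comm_mem hz' hx) _ m3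
          have n1 := h.comm_mem (h.comm_mem hx hy) m1
          have n2 := h.comm_mem (h.comm_mem hy hz') m2
          have n3 := h.comm_mem (h.comm_mem hz' hx) m3
          rw [hconj _ _ hz'] at e1
          rw [hconj _ _ hx] at e2
          rw [hconj _ _ hy] at e3
          rw [show j + k + 1 + i + 1 = i + j + 1 + k + 1 by ring] at e2 n2
          rw [show k + i + 1 + j + 1 = i + j + 1 + k + 1 by ring] at e3 n3
          rw [hBι i j x hx y hy, hBι j k y hy z hz', hBι k i z hz' x hx, e1, e2, e3,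
            ← hmul _ _ n1 _ n2, ← hmul _ _ (mul_mem n1 n2) _ n3,
            commutatorElement_commutatorElement_conj_mul, hone]
        · simp only [map_add, AddMonoidHom.add_apply]
          linear_combination (norm := abel) h1 + h2
      · simp only [map_add, AddMonoidHom.add_apply]
        linear_combination (norm := abel) h1 + h2
    · simp only [map_add, AddMonoidHom.add_apply]
      linear_combination (norm := abel) h1 + h2
  letI : LieRing L :=
    { bracket := fun a c => B a c
      add_lie := fun a c d => by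
        change B (a + c) d = B a d + B c d
        rw [map_add, AddMonoidHom.add_apply]
      lie_add := fun a c d => map_add (B a) c d
      lie_self := hself
      leibniz_lie := fun a c d => by
        change B a (B c d) = B (B a c) d + B c (B a d)
        have h1 := hjac a c d
        have h2 := hskew a (B c d)
        have h3 := hskew c (B d a)
        have h4 : B c (B a d) + B c (B d a) = 0 := by rw [← map_add, hskew, map_zero]
        linear_combination (norm := abel) h2 - h1 + h3 - h4 }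
  exact ⟨L, this, ι, hmul, hz, hind, hlift, hBι⟩

/-- Higman-Kreknin-Kostrikin for the factors of the lower central series: if the fixed points of
`α` on these factors have exponent dividing `N`, the factors from the `c`-th on have exponent
dividing `p^(c+2) N`. -/
theorem pow_mem_lcs_succ {p : ℕ} (hp : p.Prime) (α : G →* G) (hα : ∀ x, α^[p] x = x) (N : ℕ)
    (hN : ∀ i, ∀ x ∈ (⊤ : Subgroup G).lowerCentralSeries i,
      (α x)⁻¹ * x ∈ (⊤ : Subgroup G).lowerCentralSeries (i + 1) →
        x ^ N ∈ (⊤ : Subgroup G).lowerCentralSeries (i + 1)) {c : ℕ}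
    (hc : ∀ (M : Type u) [LieRing M] (V : ZMod p → AddSubgroup M), BrLe V V V → V 0 = ⊥ →
      lcs V c = ⊥) {i : ℕ} (hi : c ≤ i) {x : G} (hx : x ∈ (⊤ : Subgroup G).lowerCentralSeries i) :
    x ^ (p ^ (c + 2) * N) ∈ (⊤ : Subgroup G).lowerCentralSeries (i + 1) := by
  have h := isFilt_lcs G
  set F := (⊤ : Subgroup G).lowerCentralSeries with hF
  obtain ⟨L, _, ι, hmul, hz, hind, hlift, hbr⟩ := h.exists_lieRing
  have hαF : ∀ i, ∀ x ∈ F i, α x ∈ F i := by
    intro i x hx
    have : (F i).map α ≤ F i := by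
      rw [hF, map_lowerCentralSeries]
      exact lowerCentralSeries_mono i le_top
    exact this ⟨x, hx, rfl⟩
  have hone : ∀ i, ι i 1 = 0 := fun i => (hz i 1 (one_mem _)).2 (one_mem _)
  have hinv : ∀ i, ∀ x ∈ F i, ι i x⁻¹ = -ι i x := fun i x hx => by
    rw [eq_neg_iff_add_eq_zero, ← hmul _ _ (inv_mem hx) _ hx, inv_mul_cancel, hone]
  have hpow : ∀ i, ∀ x ∈ F i, ∀ k : ℕ, ι i (x ^ k) = k • ι i x := fun i x hx k => by
    induction k with
    | zero => simp [hone]
    | succ k ih => rw [pow_succ, hmul _ _ (pow_mem hx k) _ hx, ih, succ_nsmul]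
  obtain ⟨φ, hφ⟩ := hlift L (fun i x => ι i (α x))
    (fun i x y => by rw [coe_mul, map_mul, hmul _ _ (hαF _ _ x.2) _ (hαF _ _ y.2)])
    (fun i x hx => (hz _ _ (hαF _ _ x.2)).2 (hαF _ _ hx))
  have hφ' : ∀ i, ∀ x ∈ F i, φ (ι i x) = ι i (α x) := fun i x hx => hφ i ⟨x, hx⟩
  have hφi : ∀ (j i : ℕ), ∀ x ∈ F i, φ^[j] (ι i x) = ι i (α^[j] x) ∧ α^[j] x ∈ F i := by
    intro j i x hx
    induction j with
    | zero => exact ⟨rfl, hx⟩
    | succ j ih =>
      rw [Function.iterate_succ_apply', Function.iterate_succ_apply', ih.1]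
      exact ⟨hφ' _ _ ih.2, hαF _ _ ih.2⟩
  have hφl : ∀ a b, φ ⁅a, b⁆ = ⁅φ a, φ b⁆ := by
    intro a b
    refine hind (fun a => φ ⁅a, b⁆ = ⁅φ a, φ b⁆) (by simp) (fun i x hx => ?_)
      (fun a a' h1 h2 => by rw [add_lie, map_add, map_add, add_lie, h1, h2]) a
    refine hind (fun b => φ ⁅ι i x, b⁆ = ⁅φ (ι i x), φ b⁆) (by simp) (fun j y hy => ?_)
      (fun a a' h1 h2 => by rw [lie_add, map_add, map_add, lie_add, h1, h2]) b
    rw [hbr _ _ _ hx _ hy, hφ' _ _ (h.comm_mem hx hy), hφ' _ _ hx, hφ' _ _ hy,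
      hbr _ _ _ (hαF _ _ hx) _ (hαF _ _ hy), map_commutatorElement]
  have hφp : ∀ a, φ^[p] a = a := fun a =>
    hind (fun a => φ^[p] a = a) (iterate_map_zero φ p) (fun i x hx => by rw [(hφi p i x hx).1, hα])
      (fun a b h1 h2 => by rw [iterate_map_add, h1, h2]) a
  have hφN : ∀ a, N • ∑ j ∈ Finset.range p, φ^[j] a = 0 := by
    intro a
    refine hind (fun a => N • ∑ j ∈ Finset.range p, φ^[j] a = 0) (by simp [iterate_map_zero])
      (fun i x hx => ?_) (fun a b h1 h2 => by
        simp only [iterate_map_add, Finset.sum_add_distrib, smul_add, h1, h2, add_zero]) a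
    have hb : ∀ k, ∃ b ∈ F i, ∑ j ∈ Finset.range k, φ^[j] (ι i x) = ι i b := by
      intro k
      induction k with
      | zero => exact ⟨1, one_mem _, by simp [hone]⟩
      | succ k ih =>
        obtain ⟨b, hb, e⟩ := ih
        exact ⟨_, mul_mem hb (hφi k i x hx).2, by
          rw [Finset.sum_range_succ, e, (hφi k i x hx).1, hmul _ _ hb _ (hφi k i x hx).2]⟩
    obtain ⟨b, hb, e⟩ := hb p
    have hfix : φ (ι i b) = ι i b := by
      have h2 := Finset.sum_range_succ (fun j => φ^[j] (ι i x)) p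
      rw [Finset.sum_range_succ', hφp, Function.iterate_zero_apply, e] at h2
      refine Eq.trans ?_ (add_right_cancel h2)
      rw [← e, map_sum]
      exact Finset.sum_congr rfl fun j _ => (Function.iterate_succ_apply' _ _ _).symm
    have h3 : (α b)⁻¹ * b ∈ F (i + 1) := by
      rw [← hz _ _ (mul_mem (inv_mem (hαF _ _ hb)) hb), hmul _ _ (inv_mem (hαF _ _ hb)) _ hb,
        hinv _ _ (hαF _ _ hb), ← hφ' _ _ hb, hfix, neg_add_cancel]
    rw [e, ← hpow _ _ hb, hz _ _ (pow_mem hb _)]
    exact hN i b hb h3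
  let T : ℕ → AddSubgroup L := fun k => AddSubgroup.closure
    {v | ∃ (y : L) (l : List L), l.length = k ∧ l.foldl (fun b z => ⁅b, z⁆) y = v}
  have hT : ∀ k, ∀ v ∈ T k, ∀ w : L, ⁅v, w⁆ ∈ T (k + 1) := by
    intro k v hv w
    induction hv using AddSubgroup.closure_induction with
    | mem v hv =>
      obtain ⟨y, l, hl, rfl⟩ := hv
      exact AddSubgroup.subset_closure ⟨y, l ++ [w], by simp [hl], by simp⟩
    | zero => rw [zero_lie]; exact zero_mem _
    | add a b _ _ ha hb => rw [add_lie]; exact add_mem ha hb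
    | neg a _ ha => rw [neg_lie]; exact neg_mem ha
  have hιT : ∀ k, ∀ x ∈ F k, ι k x ∈ T k := by
    intro k
    induction k with
    | zero => exact fun x _ => AddSubgroup.subset_closure ⟨_, [], rfl, rfl⟩
    | succ k ih =>
      intro x hx
      induction hx using closure_induction with
      | mem x hx =>
        obtain ⟨a, ha, b, hb, rfl⟩ := hx
        have := hbr k 0 a ha b hb
        rw [add_zero] at this
        rw [← this]
        exact hT k _ (ih a ha) _
      | one => rw [hone]; exact zero_mem _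
      | mul a b ha hb h1 h2 => rw [hmul _ _ ha _ hb]; exact add_mem h1 h2
      | inv a ha h1 => rw [hinv _ _ ha]; exact neg_mem h1
  have hK : ∀ v ∈ T i, (p ^ (c + 2) * N) • v = 0 := by
    intro v hv
    induction hv using AddSubgroup.closure_induction with
    | mem v hv =>
      obtain ⟨y, l, hl, rfl⟩ := hv
      rw [← List.take_append_drop (i - c) l, List.foldl_append]
      exact smul_foldl_eq_zero hp φ hφl hφp N hφN hc _ _ (by rw [List.length_drop]; omega)
    | zero => exact smul_zero _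
    | add a b _ _ ha hb => rw [smul_add, ha, hb, add_zero]
    | neg a _ ha => rw [smul_neg, ha, neg_zero]
  rw [← hz _ _ (pow_mem hx _), hpow _ _ hx]
  exact hK _ (hιT i x hx)

end CL.Fgs.Lie
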