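/-
Automorphisms of prime order with few fixed points (helper94): the Higman-Kreknin-Kostrikin class
bound and Alperin's bound for the derived length.
-/
import Cfsg.Agent.Fgs.LieGroup
import Cfsg.Agent.Grp.Fpf
import Cfsg.Agent.Grp.CoprimeAct
import Cfsg.Agent.Grp.Fitting
import Cfsg.Agent.Grp.PNilp
import Cfsg.Agent.Grp.PGroupFrattini
import Cfsg.Agent.Grp.PGroupBasic
import Cfsg.Agent.Loc.Chief
import Cfsg.Agent.S0033

set_option autoImplicit false
open Cfsg Subgroup CL.Grp
open scoped commutatorElement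

namespace CL.Fgs.Lie

universe u

variable {G : Type u} [Group G]

/-- the fixed points of an endomorphism -/
abbrev fixOf (α : G →* G) : Subgroup G := α.eqLocus (MonoidHom.id G)

theorem mem_fixOf {α : G →* G} {x : G} : x ∈ fixOf α ↔ α x = x := Iff.rfl

/-- restriction of an endomorphism to an invariant subgroup -/
def resOf (α : G →* G) (H : Subgroup G) (h : ∀ x ∈ H, α x ∈ H) : H →* H :=
  (α.comp H.subtype).codRestrict H fun x => h x x.2

theorem coe_resOf (α : G →* G) (H : Subgroup G) (h : ∀ x ∈ H, α x ∈ H) (x : H) :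
    (resOf α H h x : G) = α x := rfl

theorem resOf_iterate {α : G →* G} {p : ℕ} (hα : ∀ x, α^[p] x = x) (H : Subgroup G)
    (h : ∀ x ∈ H, α x ∈ H) (x : H) : (resOf α H h)^[p] x = x := by
  have : ∀ k, (((resOf α H h)^[k] x : H) : G) = α^[k] x := by
    intro k
    induction k with
    | zero => rfl
    | succ k ih => rw [Function.iterate_succ_apply', Function.iterate_succ_apply', coe_resOf, ih]
  exact Subtype.ext ((this p).trans (hα x))

theorem card_fixOf_resOf_le [Finite G] (α : G →* G) (H : Subgroup G) (h : ∀ x ∈ H, α x ∈ H) :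
    Nat.card (fixOf (resOf α H h)) ≤ Nat.card (fixOf α) :=
  Nat.card_le_card_of_injective
    (fun x => (⟨x.1.1, congrArg Subtype.val (mem_fixOf.1 x.2)⟩ : fixOf α))
    fun _ _ e => Subtype.ext (Subtype.ext (Subtype.mk.inj e))

theorem quot_iterate {α : G →* G} {p : ℕ} (hα : ∀ x, α^[p] x = x) (K : Subgroup G) [K.Normal]
    (h : K ≤ K.comap α) (x : G ⧸ K) : (QuotientGroup.map K K α h)^[p] x = x := by
  obtain ⟨x, rfl⟩ := QuotientGroup.mk_surjective x
  have : ∀ k, (QuotientGroup.map K K α h)^[k] (x : G ⧸ K) = (α^[k] x : G) := by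
    intro k
    induction k with
    | zero => rfl
    | succ k ih => rw [Function.iterate_succ_apply', Function.iterate_succ_apply', ih]; rfl
  rw [this, hα]

/-- an endomorphism has at most as many fixed points on a quotient -/
theorem card_fixOf_quot_le [Finite G] (α : G →* G) (K : Subgroup G) [K.Normal]
    (h : K ≤ K.comap α) :
    Nat.card (fixOf (QuotientGroup.map K K α h)) ≤ Nat.card (fixOf α) := by
  set S := (fixOf (QuotientGroup.map K K α h)).comap (QuotientGroup.mk' K) with hS
  have hmem : ∀ x ∈ S, α x * x⁻¹ ∈ K := by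
    intro x hx
    have e : ((α x : G) : G ⧸ K) = x := hx
    rw [← QuotientGroup.eq_one_iff, QuotientGroup.mk_mul, e, QuotientGroup.mk_inv, mul_inv_cancel]
  have hCS : fixOf α ≤ S := fun x hx => by
    change ((α x : G) : G ⧸ K) = x
    rw [mem_fixOf.1 hx]
  let f : S ⧸ (fixOf α).subgroupOf S → K := fun q => Quotient.liftOn' q
    (fun x => ⟨α x * (x : G)⁻¹, hmem x x.2⟩) fun a b hab => by
      have e : α ((a : G)⁻¹ * b) = (a : G)⁻¹ * b := QuotientGroup.leftRel_apply.1 hab
      rw [map_mul, map_inv, inv_mul_eq_iff_eq_mul] at e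
      exact Subtype.ext (by simp only [e]; group)
  have hf : Function.Injective f := by
    intro a b
    induction a using QuotientGroup.induction_on with
    | H a =>
    induction b using QuotientGroup.induction_on with
    | H b =>
    intro e
    have e' : α a * (a : G)⁻¹ = α b * (b : G)⁻¹ := congrArg Subtype.val e
    refine QuotientGroup.eq.2 ?_
    change α ((a : G)⁻¹ * b) = (a : G)⁻¹ * b
    rw [map_mul, map_inv]
    calc (α a)⁻¹ * α b = (α a)⁻¹ * (α b * (b : G)⁻¹) * b := by group
      _ = (a : G)⁻¹ * b := by rw [← e']; group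
  have h1 : (fixOf α).relIndex S ≤ Nat.card K := Nat.card_le_card_of_injective f hf
  have h2 := card_mul_relIndex hCS
  rw [hS, card_comap_mk', ← hS] at h2
  refine Nat.le_of_mul_le_mul_left ?_ (Nat.card_pos (α := K))
  rw [← h2, mul_comm]
  exact Nat.mul_le_mul_right _ h1

theorem card_le_pow_of_pow_eq_zero {A : Type*} [AddCommGroup A] [Finite A] (T : AddMonoid.End A)
    (k : ℕ) (h : T ^ k = 0) : Nat.card A ≤ Nat.card (AddMonoidHom.ker (T : A →+ A)) ^ k := by
  have key : ∀ j, Nat.card (AddMonoidHom.ker ((T ^ j : AddMonoid.End A) : A →+ A)) ≤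
      Nat.card (AddMonoidHom.ker (T : A →+ A)) ^ j := by
    intro j
    induction j with
    | zero =>
      rw [pow_zero, pow_zero, show AddMonoidHom.ker ((1 : AddMonoid.End A) : A →+ A) = ⊥ from
        AddMonoidHom.ker_id]
      simp
    | succ j ih =>
      set B := AddMonoidHom.ker ((T ^ (j + 1) : AddMonoid.End A) : A →+ A)
      let g : B →+ AddMonoidHom.ker ((T ^ j : AddMonoid.End A) : A →+ A) :=
        (AddMonoidHom.comp (T : A →+ A) B.subtype).codRestrict _ fun x => by
          have := x.2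
          simp only [B, pow_succ] at this
          exact this
      have h1 := AddSubgroup.card_eq_card_quotient_mul_card_addSubgroup g.ker
      rw [Nat.card_congr (QuotientAddGroup.quotientKerEquivRange g).toEquiv] at h1
      have h2 : Nat.card g.range ≤ _ := (AddSubgroup.card_le_card_addGroup _).trans ih
      have h3 : Nat.card g.ker ≤ Nat.card (AddMonoidHom.ker (T : A →+ A)) :=
        Nat.card_le_card_of_injective (fun x => ⟨x.1.1, congrArg Subtype.val x.2⟩)
          fun _ _ e => Subtype.ext (Subtype.ext (Subtype.mk.inj e))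
      rw [h1, pow_succ]
      exact Nat.mul_le_mul h2 h3
  have := key k
  rw [h, show AddMonoidHom.ker ((0 : AddMonoid.End A) : A →+ A) = ⊤ from AddMonoidHom.ker_zero,
    AddSubgroup.card_top] at this
  exact this

/-- an abelian group of exponent `p^e` with an automorphism of order `p` with `m` fixed points has
order at most `m^(pe)` -/
theorem card_le_of_comm [Finite G] {p e : ℕ} (hp : p.Prime) (α : G →* G) (hα : ∀ x, α^[p] x = x)
    (hc : ∀ x y : G, x * y = y * x) (he : ∀ x : G, x ^ p ^ e = 1) :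
    Nat.card G ≤ Nat.card (fixOf α) ^ (p * e) := by
  letI : CommGroup G := { ‹Group G› with mul_comm := hc }
  let a : AddMonoid.End (Additive G) := MonoidHom.toAdditive α
  have ha : a ^ p = 1 := by
    ext x
    rw [AddMonoid.End.coe_pow]
    exact hα x
  have h1 : ∃ r, (a - 1) ^ p = p * r := by
    obtain ⟨r, hr⟩ := ((Commute.one_right a).neg_right).exists_add_pow_prime_eq hp
    rw [ha] at hr
    rcases hp.eq_two_or_odd' with rfl | ho
    · exact ⟨1 + a * -1 * r, by
        rw [sub_eq_add_neg, hr, neg_one_sq, mul_add, mul_one, ← mul_assoc, ← mul_assoc,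
          Nat.cast_ofNat, one_add_one_eq_two]⟩
    · exact ⟨a * -1 * r, by
        rw [sub_eq_add_neg, hr, ho.neg_one_pow, add_neg_cancel, zero_add, ← mul_assoc, ← mul_assoc]⟩
  obtain ⟨r, hr⟩ := h1
  have h2 : (a - 1) ^ (p * e) = 0 := by
    rw [pow_mul, hr, (Nat.cast_commute p r).mul_pow, ← Nat.cast_pow]
    ext x
    rw [AddMonoid.End.coe_mul, Function.comp_apply, AddMonoid.End.natCast_apply]
    exact he _
  have h3 := card_le_pow_of_pow_eq_zero _ _ h2
  have h4 : Nat.card (AddMonoidHom.ker ((a - 1 : AddMonoid.End (Additive G)) :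
      Additive G →+ Additive G)) ≤ Nat.card (fixOf α) :=
    Nat.card_le_card_of_injective
      (fun x => ⟨Additive.toMul x.1, (sub_eq_zero.1 (show a x.1 - x.1 = 0 from x.2) :)⟩)
      fun _ _ e => Subtype.ext (Additive.toMul.injective (Subtype.mk.inj e))
  exact h3.trans (Nat.pow_le_pow_left h4 _)

theorem relIndex_le_of_comm [Finite G] {p e : ℕ} (hp : p.Prime) (α : G →* G)
    (hα : ∀ x, α^[p] x = x) (H K : Subgroup G) [K.Normal] (hH : ∀ x ∈ H, α x ∈ H)
    (hK : ∀ x ∈ K, α x ∈ K) (hc : ⁅H, H⁆ ≤ K) (he : ∀ x ∈ H, x ^ p ^ e ∈ K) :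
    K.relIndex H ≤ Nat.card (fixOf α) ^ (p * e) := by
  have h : K.subgroupOf H ≤ (K.subgroupOf H).comap (resOf α H hH) := fun x hx => hK _ hx
  refine (card_le_of_comm (e := e) hp _ (quot_iterate (resOf_iterate hα H hH) _ h) ?_ ?_).trans
    (Nat.pow_le_pow_left ((card_fixOf_quot_le _ _ h).trans (card_fixOf_resOf_le α H hH)) _)
  · intro a b
    obtain ⟨a, rfl⟩ := QuotientGroup.mk_surjective a
    obtain ⟨b, rfl⟩ := QuotientGroup.mk_surjective b
    rw [← QuotientGroup.mk_mul, ← QuotientGroup.mk_mul, QuotientGroup.eq, mem_subgroupOf]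
    have := hc (commutator_mem_commutator (inv_mem b.2) (inv_mem a.2))
    simpa [commutatorElement_def, mul_assoc] using this
  · intro a
    obtain ⟨a, rfl⟩ := QuotientGroup.mk_surjective a
    rw [← QuotientGroup.mk_pow, QuotientGroup.eq_one_iff]
    exact he a a.2

theorem lcs_invariant (α : G →* G) (i : ℕ) : ∀ x ∈ (⊤ : Subgroup G).lowerCentralSeries i,
    α x ∈ (⊤ : Subgroup G).lowerCentralSeries i := by
  intro x hx
  have : ((⊤ : Subgroup G).lowerCentralSeries i).map α ≤ (⊤ : Subgroup G).lowerCentralSeries i := by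
    rw [map_lowerCentralSeries]
    exact lowerCentralSeries_mono i le_top
  exact this ⟨x, hx, rfl⟩

/-- fixed-point-free case -/
theorem lcs_eq_bot_of_fpf [Finite G] {p : ℕ} (hp : p.Prime) (α : G →* G) (hα : ∀ x, α^[p] x = x)
    (hf : ∀ x, α x = x → x = 1) {c : ℕ}
    (hc : ∀ (M : Type u) [LieRing M] (V : ZMod p → AddSubgroup M), BrLe V V V → V 0 = ⊥ →
      lcs V c = ⊥) : (⊤ : Subgroup G).lowerCentralSeries c = ⊥ := by
  classical
  haveI := Fact.mk hp
  have hinj : Function.Injective α := by
    obtain ⟨q, rfl⟩ : ∃ q, p = q + 1 := ⟨p - 1, by have := hp.pos; omega⟩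
    exact Function.LeftInverse.injective (g := α^[q]) hα
  let φ : MulAut G := MulEquiv.ofBijective α (Finite.injective_iff_bijective.1 hinj)
  have hφ : φ ^ p = 1 := by
    ext x
    have : ∀ k, (φ ^ k) x = α^[k] x := fun k => by
      induction k with
      | zero => rfl
      | succ k ih => rw [pow_succ', MulAut.mul_apply, ih, Function.iterate_succ_apply']; rfl
    rw [this, hα]; rfl
  haveI hnil : Group.IsNilpotent G := by
    by_cases h1 : φ = 1
    · haveI : Subsingleton G := ⟨fun a b => by
        rw [hf a (DFunLike.congr_fun h1 a), hf b (DFunLike.congr_fun h1 b)]⟩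
      infer_instance
    · exact Cfsg.Agent.S0033.result φ hf p hp (orderOf_eq_prime hφ h1)
  have hcop : ¬ p ∣ Nat.card G := by
    intro hd
    haveI := Fintype.ofFinite G
    have hσ : (φ.toEquiv : Equiv.Perm G) ^ p ^ 1 = 1 := by
      rw [pow_one]
      exact (map_pow (MulAut.toPerm G) φ p).symm.trans (by rw [hφ, map_one])
    obtain ⟨b, hb, hb1⟩ := Equiv.Perm.exists_fixed_point_of_prime'
      (by rwa [← Nat.card_eq_fintype_card]) hσ (a := 1) (map_one φ)
    exact hb1 (hf b hb)
  refine eq_bot_of_le_commutator (H := ⊤) (Group.isNilpotent_top.2 inferInstance) le_top fun x hx => ?_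
  have h := pow_mem_lcs_succ hp α hα 1 (fun i y _ hy => by
    rw [pow_one]; exact fpf_mem_of_inv_mul_mem hf _ (lcs_invariant α _) hy) hc le_rfl hx
  rw [mul_one] at h
  have hco : (p ^ (c + 2)).Coprime (orderOf x) :=
    Nat.Coprime.pow_left _ ((Nat.Prime.coprime_iff_not_dvd hp).2 fun h' =>
      hcop (h'.trans (orderOf_dvd_natCard x)))
  exact zpowers_le.2 h (mem_zpowers_pow_iff.2 hco)

/-- P. Hall's lemma on small factors -/
theorem commutator_eq_bot_of_relIndex_le [Finite G] {p : ℕ} [hp : Fact p.Prime] (hG : IsPGroup p G)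
    {M N : Subgroup G} [M.Normal] [N.Normal] {f : ℕ}
    (hN : N ≤ (⊤ : Subgroup G).lowerCentralSeries f) (h : ⁅M, N⁆.relIndex M ≤ p ^ f) :
    ⁅M, N⁆ = ⊥ := by
  haveI := hG.isNilpotent
  have h1 : ∀ (k : ℕ) (M D : Subgroup G) [M.Normal] [D.Normal], D.relIndex M ≤ p ^ k →
      iterCommutator M ⊤ k ≤ D := by
    intro k
    induction k with
    | zero =>
      intro M D _ _ h
      have h0 : D.relIndex M ≠ 0 := index_ne_zero_of_finite
      rw [pow_zero] at h
      exact relIndex_eq_one.1 (show D.relIndex M = 1 by omega)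
    | succ k ih =>
      intro M D _ _ h
      by_cases hMD : M ≤ D
      · exact CL.Loc.iterComm_le_of_le_normalizer hMD le_normalizer_of_normal _
      rw [CL.Loc.iterComm_succ']
      refine ih _ _ ?_
      have hle : ⁅M, (⊤ : Subgroup G)⁆ ≤ M := commutator_le_left _ _
      have e1 : D.relIndex ⁅M, ⊤⁆ * (⁅M, ⊤⁆ ⊔ D).relIndex M = D.relIndex M := by
        rw [← relIndex_sup_right ⁅M, ⊤⁆ D, ← relIndex_sup_right M D,
          ← relIndex_sup_right M (⁅M, ⊤⁆ ⊔ D), ← sup_assoc, sup_eq_left.2 hle]
        exact relIndex_mul_relIndex _ _ _ le_sup_right (sup_le_sup_right hle D)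
      obtain ⟨j, hj⟩ : ∃ j, (⁅M, ⊤⁆ ⊔ D).relIndex M = p ^ j :=
        (hG.to_subgroup M).index ((⁅M, ⊤⁆ ⊔ D).subgroupOf M)
      have hj0 : j ≠ 0 := by
        rintro rfl
        exact hMD (CL.Loc.le_of_le_commutator_sup (H := ⊤) (Group.isNilpotent_top.2 inferInstance) le_top le_top
          (relIndex_eq_one.1 hj))
      have h2 : p ≤ p ^ j := Nat.le_self_pow hj0 p
      rw [← e1, hj, pow_succ] at h
      exact Nat.le_of_mul_le_mul_right ((Nat.mul_le_mul_left _ h2).trans h) hp.out.pos
  have h2 : ∀ (k : ℕ) (M : Subgroup G) [M.Normal],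
      ⁅M, (⊤ : Subgroup G).lowerCentralSeries k⁆ ≤ iterCommutator M ⊤ (k + 1) := by
    intro k
    induction k with
    | zero => intro M _; exact le_rfl
    | succ k ih =>
      intro M _
      haveI : (iterCommutator M ⊤ (k + 1 + 1)).Normal := normalizer_eq_top_iff.1 (top_le_iff.1
        (CL.Loc.le_normalizer_iterComm le_normalizer_of_normal le_normalizer_of_normal _))
      rw [commutator_comm, Subgroup.lowerCentralSeries_succ]
      apply three_subgroups
      · rw [commutator_comm ⊤, CL.Loc.iterComm_succ']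
        exact ih _
      · rw [CL.Loc.iterComm_succ]
        exact commutator_mono (ih M) le_rfl
  refine eq_bot_of_le_commutator (H := ⊤) (Group.isNilpotent_top.2 inferInstance) le_top ?_
  refine (commutator_mono le_rfl hN).trans ((h2 f M).trans ?_)
  rw [CL.Loc.iterComm_succ]
  exact commutator_mono (h1 f M _ h) le_rfl

theorem derivedSeries_add_eq_bot {N : Subgroup G} {a b : ℕ} (h1 : derivedSeries G a ≤ N)
    (h2 : derivedSeries N b = ⊥) : derivedSeries G (a + b) = ⊥ := by
  have : ∀ k, derivedSeries G (a + k) ≤ (derivedSeries N k).map N.subtype := by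
    intro k
    induction k with
    | zero => rwa [derivedSeries_zero, ← MonoidHom.range_eq_map, range_subtype]
    | succ k ih =>
      rw [← add_assoc, derivedSeries_succ, derivedSeries_succ, map_commutator]
      exact commutator_mono ih ih
  exact le_bot_iff.1 ((this b).trans (by rw [h2, Subgroup.map_bot]))

theorem derivedSeries_le_ker {Q : Type*} [Group Q] (f : G →* Q) {a : ℕ}
    (h : derivedSeries Q a = ⊥) : derivedSeries G a ≤ f.ker := by
  rw [← Subgroup.map_eq_bot_iff, eq_bot_iff, ← h]
  exact map_derivedSeries_le_derivedSeries f a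

theorem derivedSeries_eq_bot_of_card_le [Finite G] (hG : Group.IsSolvable G) {B : ℕ}
    (h : Nat.card G ≤ B) : derivedSeries G B = ⊥ := by
  have : ∀ k, derivedSeries G k = ⊥ ∨ Nat.card (derivedSeries G k) + k ≤ Nat.card G := by
    intro k
    induction k with
    | zero => right; simp
    | succ k ih =>
      by_cases h0 : derivedSeries G k = ⊥
      · left; rw [derivedSeries_succ, h0]; simp
      · right
        have := card_lt_card_of_lt (Group.IsSolvable.commutator_lt_of_ne_bot h0)
        rw [derivedSeries_succ]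
        have := ih.resolve_left h0
        omega
  refine (this B).resolve_right fun h' => ?_
  have := Nat.card_pos (α := derivedSeries G B)
  omega

/-- the exponent bound -/
def alpF (p n : ℕ) : ℕ := n * (p * (hkk p + 2 + n))

theorem relIndex_lcs_le [Finite G] {p n : ℕ} [hp : Fact p.Prime] (hG : IsPGroup p G) (α : G →* G)
    (hα : ∀ x, α^[p] x = x) (hn : Nat.card (fixOf α) ≤ p ^ n) :
    ((⊤ : Subgroup G).lowerCentralSeries (hkk p + 1)).relIndex
      ((⊤ : Subgroup G).lowerCentralSeries (hkk p)) ≤ p ^ alpF p n := by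
  have hN : ∀ i, ∀ x ∈ (⊤ : Subgroup G).lowerCentralSeries i,
      (α x)⁻¹ * x ∈ (⊤ : Subgroup G).lowerCentralSeries (i + 1) →
        x ^ p ^ n ∈ (⊤ : Subgroup G).lowerCentralSeries (i + 1) := by
    intro i x _ hx
    set K := (⊤ : Subgroup G).lowerCentralSeries (i + 1)
    have h : K ≤ K.comap α := lcs_invariant α _
    have hx' : (x : G ⧸ K) ∈ fixOf (QuotientGroup.map K K α h) := QuotientGroup.eq.2 hx
    obtain ⟨j, hj⟩ := IsPGroup.iff_card.1
      ((hG.to_quotient K).to_subgroup (fixOf (QuotientGroup.map K K α h)))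
    have hjn : j ≤ n := (Nat.pow_le_pow_iff_right hp.out.one_lt).1
      (hj ▸ (card_fixOf_quot_le α K h).trans hn)
    rw [← QuotientGroup.eq_one_iff, QuotientGroup.mk_pow]
    apply orderOf_dvd_iff_pow_eq_one.1
    exact ((orderOf_dvd_natCard _ hx').trans (hj ▸ pow_dvd_pow p hjn))
  refine (relIndex_le_of_comm (e := hkk p + 2 + n) hp.out α hα _ _ (lcs_invariant α _)
    (lcs_invariant α _) (commutator_mono le_rfl le_top) fun x hx => ?_).trans ?_
  · rw [pow_add]
    exact pow_mem_lcs_succ hp.out α hα _ hN (fun M _ V h1 h2 => lcs_hkk_eq_bot hp.out h1 h2)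
      le_rfl hx
  · rw [alpF, pow_mul p n]
    exact Nat.pow_le_pow_left hn _

/-- Alperin's theorem for `p`-groups -/
theorem derivedSeries_eq_bot_of_isPGroup [Finite G] {p n : ℕ} [hp : Fact p.Prime]
    (hG : IsPGroup p G) (α : G →* G) (hα : ∀ x, α^[p] x = x) (hn : Nat.card (fixOf α) ≤ p ^ n) :
    derivedSeries G (alpF p n + (hkk p + 1)) = ⊥ := by
  set N := (⊤ : Subgroup G).lowerCentralSeries (alpF p n) with hN
  have hNα : ∀ x ∈ N, α x ∈ N := lcs_invariant α _
  have h1 := relIndex_lcs_le (hG.to_subgroup N) (resOf α N hNα) (resOf_iterate hα N hNα)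
    ((card_fixOf_resOf_le α N hNα).trans hn)
  rw [← relIndex_map_map_of_injective _ _ N.subtype_injective, top_subtype_lowerCentralSeries,
    top_subtype_lowerCentralSeries, Subgroup.lowerCentralSeries_succ] at h1
  have h2 := commutator_eq_bot_of_relIndex_le hG le_rfl h1
  refine derivedSeries_add_eq_bot (N := N) (Subgroup.derived_le_lower_central _) ?_
  refine le_bot_iff.1 ((Subgroup.derived_le_lower_central _).trans ?_)
  rw [le_bot_iff, ← map_subtype_inj, top_subtype_lowerCentralSeries, Subgroup.map_bot]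
  exact h2

/-- Alperin's theorem when `O_{p'}(G) = 1` -/
theorem derivedSeries_eq_bot_of_pPrimeCore [Finite G] {p n : ℕ} [hp : Fact p.Prime]
    (hG : Group.IsSolvable G) (h0 : pPrimeCore p G = ⊥) (α : MulAut G) (hα : ∀ x, α^[p] x = x)
    (hn : Nat.card (fixOf (α : G →* G)) ≤ p ^ n) :
    derivedSeries G (((p ^ n) ^ (p * 1)).factorial + (alpF p n + (hkk p + 1))) = ⊥ := by
  classical
  set P := pCore p G with hP
  have hPp : IsPGroup p P := pCore_isPGroup p G
  have hPα : ∀ x ∈ P, (α : G →* G) x ∈ P := fun x hx => (mem_pCore_equiv α).2 hx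
  have hn' := (card_fixOf_resOf_le (α : G →* G) P hPα).trans hn
  have hα' := resOf_iterate (α := (α : G →* G)) hα P hPα
  refine derivedSeries_add_eq_bot (N := P) ?_
    (derivedSeries_eq_bot_of_isPGroup hPp _ hα' hn')
  have hΦ : frattini P ≤ (frattini P).comap (resOf (α : G →* G) P hPα) :=
    map_le_iff_le_comap.1 (map_frattini_le_pGroup hPp _)
  have hV : Nat.card (P ⧸ frattini P) ≤ (p ^ n) ^ (p * 1) :=
    (card_le_of_comm (e := 1) hp.out _ (quot_iterate hα' _ hΦ)
      (isMulCommutative_quotient_frattini hPp).is_comm.comm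
      (fun x => by rw [pow_one]; exact quotient_frattini_pow_eq_one hPp x)).trans
      (Nat.pow_le_pow_left ((card_fixOf_quot_le _ _ hΦ).trans hn') _)
  letI : MulDistribMulAction G P := MulDistribMulAction.compHom P (MulAut.conjNormal (H := P))
  letI := quotAction (A := G) (frattini P) (smul_mem_of_characteristic (frattini P))
  let ρ := MulAction.toPermHom G (P ⧸ frattini P)
  have hker : ρ.rangeRestrict.ker ≤ P := by
    rw [MonoidHom.ker_rangeRestrict]
    refine le_pCore fun g => ?_
    obtain ⟨k, hk⟩ := CL.Grp.exists_pow_orderOf_coprime hp.out (g : G)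
    refine ⟨k, Subtype.ext ?_⟩
    have hg : (g : G) ^ p ^ k ∈ ρ.ker := pow_mem g.2 _
    set h := (g : G) ^ p ^ k
    have hc : ∀ x : P, h • x = x := by
      intro x
      refine act_trivial_of_trivial_mod_frattini (A := zpowers h) ?_ ?_ ⟨h, mem_zpowers h⟩ x
      · obtain ⟨j, hj⟩ := IsPGroup.iff_card.1 (hPp.to_subgroup (frattini P))
        rw [Nat.card_zpowers, hj]; exact hk.pow_right j
      · intro a y
        have := DFunLike.congr_fun (MonoidHom.mem_ker.1 (zpowers_le.2 hg a.2)) (y : P ⧸ frattini P)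
        exact QuotientGroup.eq.1 this.symm
    have hC : h ∈ centralizer (P : Set G) := mem_centralizer_iff.2 fun y hy => by
      have : h * y * h⁻¹ = y := congrArg Subtype.val (hc ⟨y, hy⟩)
      rw [mul_inv_eq_iff_eq_mul] at this
      exact this.symm
    exact eq_one_of_coprime_of_mem hPp (centralizer_pCore_le_of_isSolvable h0 hC) hk
  refine le_trans (derivedSeries_le_ker ρ.rangeRestrict ?_) hker
  refine derivedSeries_eq_bot_of_card_le
    (Group.isSolvable_of_surjective ρ.rangeRestrict_surjective) ?_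
  refine (card_le_card_group _).trans ?_
  rw [Nat.card_perm]
  exact Nat.factorial_le hV

/-- **Alperin's theorem** -/
theorem derivedSeries_eq_bot_of_fix [Finite G] {p n : ℕ} [hp : Fact p.Prime]
    (hG : Group.IsSolvable G) (α : MulAut G) (hα : ∀ x, α^[p] x = x)
    (hn : Nat.card (fixOf (α : G →* G)) = p ^ n) :
    derivedSeries G (((p ^ n) ^ (p * 1)).factorial + (alpF p n + (hkk p + 1)) + hkk p) = ⊥ := by
  set K := pPrimeCore p G with hK
  have hKα : ∀ x ∈ K, (α : G →* G) x ∈ K := fun x hx =>
    smul_mem_of_characteristic (A := MulAut G) K α x hx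
  have hKα' : K ≤ K.comap (α : G →* G) := hKα
  have hq := quot_iterate (α := (α : G →* G)) hα K hKα'
  have hinj : Function.Injective (QuotientGroup.map K K (α : G →* G) hKα') := by
    obtain ⟨q, rfl⟩ : ∃ q, p = q + 1 := ⟨p - 1, by have := hp.out.pos; omega⟩
    exact Function.LeftInverse.injective (g := (QuotientGroup.map K K (α : G →* G) hKα')^[q]) hq
  let β : MulAut (G ⧸ K) := MulEquiv.ofBijective _ (Finite.injective_iff_bijective.1 hinj)
  have h1 := derivedSeries_eq_bot_of_pPrimeCore (n := n) (G := G ⧸ K) inferInstance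
    (pPrimeCore_quotient_pPrimeCore p G) β hq ((card_fixOf_quot_le _ K hKα').trans hn.le)
  refine derivedSeries_add_eq_bot (N := K) ?_ ?_
  · have := derivedSeries_le_ker (QuotientGroup.mk' K) h1
    rwa [QuotientGroup.ker_mk'] at this
  · refine le_bot_iff.1 ((Subgroup.derived_le_lower_central _).trans (le_of_eq ?_))
    refine lcs_eq_bot_of_fpf hp.out (resOf _ K hKα) (resOf_iterate hα K hKα) (fun x hx => ?_)
      fun M _ V h1 h2 => lcs_hkk_eq_bot hp.out h1 h2
    refine Subtype.ext (eq_one_of_coprime_of_mem (P := fixOf (α : G →* G)) (IsPGroup.of_card hn)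
      (congrArg Subtype.val hx) ?_)
    rw [orderOf_coe]
    exact (pPrimeCore_coprime p G).coprime_dvd_left (orderOf_dvd_natCard x)

end CL.Fgs.Lie
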