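import Cfsg.Agent.Base

set_option autoImplicit false

namespace CL.Fgs

open Finset

/-- The regular case of the friendship theorem: in a finite regular graph in which any two distinct
vertices have exactly one common neighbour the degree is at most two. -/
theorem friendship_regular_le_two {V : Type*} [Finite V] [Nonempty V] (adj : V → V → Prop)
    (hsymm : ∀ u v, adj u v → adj v u) (hirr : ∀ v, ¬ adj v v) (k : ℕ)
    (hdeg : ∀ v, Nat.card {w // adj v w} = k) (hone : ∀ u v, u ≠ v → ∃! w, adj u w ∧ adj v w) :
    k ≤ 2 := by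
  classical
  by_contra hk
  have := Fintype.ofFinite V
  obtain ⟨p, hp, hpk⟩ := Nat.exists_prime_and_dvd (n := k - 1) (by omega)
  have : Fact p.Prime := ⟨hp⟩
  have hk1 : (k : ZMod p) = 1 := by
    have h1 : ((k - 1 : ℕ) : ZMod p) = 0 := (ZMod.natCast_eq_zero_iff _ _).2 hpk
    rw [Nat.cast_sub (by omega), Nat.cast_one, sub_eq_zero] at h1
    exact h1
  have hdeg' : ∀ v, (univ.filter (adj v)).card = k := fun v => by
    rw [← hdeg v, Nat.card_eq_fintype_card, Fintype.card_subtype]
  let A : Matrix V V (ZMod p) := Matrix.of fun u v => if adj u v then 1 else 0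
  let J : Matrix V V (ZMod p) := Matrix.of fun _ _ => 1
  have hAA : A * A = J := by
    ext u v
    simp only [A, J, Matrix.mul_apply, Matrix.of_apply, ite_zero_mul_ite_zero, mul_one]
    rw [Finset.sum_boole]
    by_cases huv : u = v
    · subst huv
      rw [← hk1, ← hdeg' u]
      congr 2
      ext w
      simp only [mem_filter, mem_univ, true_and]
      exact ⟨fun h => h.1, fun h => ⟨h, hsymm _ _ h⟩⟩
    · obtain ⟨w, hw, hw'⟩ := hone u v huv
      have : univ.filter (fun x => adj u x ∧ adj x v) = {w} := by
        ext x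
        simp only [mem_filter, mem_univ, true_and, mem_singleton]
        exact ⟨fun h => hw' x ⟨h.1, hsymm _ _ h.2⟩, fun h => h ▸ ⟨hw.1, hsymm _ _ hw.2⟩⟩
      rw [this, card_singleton, Nat.cast_one]
  have hAJ : A * J = J := by
    ext u v
    simp only [A, J, Matrix.mul_apply, Matrix.of_apply, mul_one]
    rw [Finset.sum_boole, hdeg', hk1]
  have hpow : ∀ m : ℕ, A ^ (m + 2) = J := by
    intro m
    induction m with
    | zero => rw [← hAA, zero_add, sq]
    | succ m ih => rw [show m + 1 + 2 = m + 2 + 1 by ring, pow_succ', ih, hAJ]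
  have hn : (Fintype.card V : ZMod p) = 1 := by
    have h1 : J * J = J := by
      calc J * J = A * A * J := by rw [hAA]
        _ = J := by rw [Matrix.mul_assoc, hAJ, hAJ]
    obtain ⟨v⟩ := ‹Nonempty V›
    have h2 := congrFun (congrFun h1 v) v
    simpa [J, Matrix.mul_apply] using h2
  have htr : Matrix.trace A = 0 := by
    simp [A, Matrix.trace, hirr]
  have h3 := ZMod.trace_pow_card A
  obtain ⟨m, hm⟩ : ∃ m, p = m + 2 := ⟨p - 2, by have := hp.two_le; omega⟩
  rw [htr, zero_pow hp.ne_zero] at h3
  have h4 : A ^ p = J := by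
    calc A ^ p = A ^ (m + 2) := congrArg _ hm
      _ = J := hpow m
  rw [h4] at h3
  have h5 : Matrix.trace J = Fintype.card V := by simp [J, Matrix.trace]
  rw [h5, hn] at h3
  exact one_ne_zero h3

end CL.Fgs
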