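/-
A module for a Frobenius group without fixed points of the kernel is free over the complement (any field).
-/
import Cfsg.Agent.Grp.Frob
import Cfsg.Agent.Grp.PNilp
import Cfsg.Agent.Perm.Module

set_option autoImplicit false

namespace CL.FrobFree

open Matrix

/-- a normal basis: the matrix of the conjugates is invertible -/
theorem exists_det_ne_zero {G K : Type*} [Group G] [Fintype G] [DecidableEq G] [Field K] [MulSemiringAction G K]
    [FaithfulSMul G K] : ∃ θ : K, (of fun h g : G => (h * g) • θ).det ≠ 0 := by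
  let L := FixedPoints.subfield G K
  let b := IsGalois.normalBasis L K
  let e := FixedPoints.toAlgAutMulEquiv G K
  refine ⟨b 1, ((isUnit_iff_isUnit_det _).1 (linearIndependent_rows_iff_isUnit.1 ?_)).ne_zero⟩
  rw [Fintype.linearIndependent_iff]
  intro c hc
  have h1 : (∑ h, c h • (e h).toLinearMap : K →ₗ[L] K) = 0 := b.ext fun s => by
    obtain ⟨g, rfl⟩ := e.surjective s
    have := congrFun hc g
    simp only [Finset.sum_apply, Pi.smul_apply, row, of_apply, mul_smul, Pi.zero_apply] at this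
    rw [IsGalois.normalBasis_apply, LinearMap.sum_apply, LinearMap.zero_apply, ← this]
    rfl
  have h2 := (linearIndependent_monoidHom K K).comp (fun h : G => (MulSemiringAction.toRingHom G K h : K →* K))
    fun h g e => FaithfulSMul.eq_of_smul_eq_smul (α := K) fun x => DFunLike.congr_fun e x
  refine Fintype.linearIndependent_iff.1 h2 c (funext fun x => ?_)
  have := LinearMap.congr_fun h1 x
  rw [LinearMap.sum_apply] at this
  rw [Finset.sum_apply]
  exact this

section
variable {k V H : Type*} [Field k] [AddCommGroup V] [Module k V] [Group H] [Fintype H]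

/-- the translates of `W` are independent -/
def Ind (σ : H →* Module.End k V) (W : Submodule k V) : Prop :=
  ∀ w : H → V, (∀ h, w h ∈ W) → ∑ h, σ h (w h) = 0 → ∀ h, w h = 0

/-- `v` lies in the sum of the translates of `W` -/
def Spn (σ : H →* Module.End k V) (W : Submodule k V) (v : V) : Prop :=
  ∃ w : H → V, (∀ h, w h ∈ W) ∧ ∑ h, σ h (w h) = v

theorem Spn.apply {σ : H →* Module.End k V} {W : Submodule k V} {v : V} (h : Spn σ W v) (t : H) :
    Spn σ W (σ t v) := by
  obtain ⟨w, h1, rfl⟩ := h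
  refine ⟨fun g => w (t⁻¹ * g), fun _ => h1 _, ?_⟩
  rw [map_sum, ← Equiv.sum_comp (Equiv.mulLeft t)]
  simp

theorem Spn.add {σ : H →* Module.End k V} {W : Submodule k V} {v u : V} (h : Spn σ W v) (h' : Spn σ W u) :
    Spn σ W (v + u) := by
  obtain ⟨w, h1, rfl⟩ := h
  obtain ⟨w', h2, rfl⟩ := h'
  exact ⟨w + w', fun _ => add_mem (h1 _) (h2 _), by simp [Finset.sum_add_distrib]⟩

variable {R : Type*} [CommRing R] [Module R V] [SMulCommClass R k V]

/-- Galois descent at a maximal ideal -/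
theorem exists_ind (τ : H →* RingAut R) (σ : H →* Module.End k V) (hσ : ∀ h r v, σ h (r • v) = τ h r • σ h v)
    (m : Ideal R) [hm : m.IsMaximal] (hfree : ∀ h ≠ 1, ∃ r, τ h r - r ∉ m) :
    ∃ W : Submodule k V, Ind σ W ∧ ∀ v, (∀ r ∈ m, r • v = 0) → Spn σ W v := by
  classical
  have hτ : ∀ h r, τ h (τ h⁻¹ r) = r := fun h r => by rw [← RingAut.mul_apply, ← map_mul, mul_inv_cancel, map_one]; rfl
  let B : Subgroup H :=
    { carrier := {h | ∀ r, τ h r ∈ m ↔ r ∈ m}
      one_mem' := fun r => by rw [map_one]; rfl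
      mul_mem' := fun {a b} ha hb r => by rw [map_mul]; exact (ha _).trans (hb r)
      inv_mem' := fun {a} ha r => by rw [← ha, hτ] }
  let _ : MulSemiringAction B (R ⧸ m) :=
    { smul := fun h => Ideal.quotientMap m (τ h : R →+* R) fun r hr => (h.2 r).2 hr
      one_smul := by rintro ⟨x⟩; exact congrArg (Ideal.Quotient.mk m) (DFunLike.congr_fun (map_one τ) x)
      mul_smul := by
        rintro a b ⟨x⟩; exact congrArg (Ideal.Quotient.mk m) (DFunLike.congr_fun (map_mul τ a.1 b.1) x)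
      smul_zero := fun _ => map_zero _
      smul_add := fun _ => map_add _
      smul_one := fun _ => map_one _
      smul_mul := fun _ => map_mul _ }
  have hs : ∀ (h : B) (r : R), h • Ideal.Quotient.mk m r = Ideal.Quotient.mk m (τ h r) := fun _ _ => rfl
  let _ := Ideal.Quotient.field m
  have : FaithfulSMul B (R ⧸ m) := ⟨fun {a b} e => by
    by_contra hab
    obtain ⟨r, hr⟩ := hfree (b⁻¹ * a : B) fun e1 => hab (inv_mul_eq_one.1 (Subtype.ext e1)).symm
    exact hr (Ideal.Quotient.eq.1 (by rw [← hs, mul_smul, e, inv_smul_smul]))⟩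
  obtain ⟨θ', hθ⟩ := exists_det_ne_zero (G := B) (K := R ⧸ m)
  obtain ⟨θ, rfl⟩ := Ideal.Quotient.mk_surjective θ'
  set D : Matrix B B R := of fun h g : B => τ (h * g : B) θ with hD
  have hd : D.det ∉ m := fun e => hθ (by
    rw [← Ideal.Quotient.eq_zero_iff_mem, RingHom.map_det] at e
    exact e)
  let U : Submodule R V := Submodule.torsionBySet R V m
  have hU : ∀ v, v ∈ U ↔ ∀ r ∈ m, r • v = 0 := fun v => by simp [U]
  have canc : ∀ r ∉ m, ∃ s : R, ∀ v ∈ U, s • r • v = v := fun r hr => by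
    obtain ⟨s, i, hi, e⟩ := hm.exists_inv hr
    exact ⟨s, fun v hv => by
      conv_rhs => rw [← one_smul R v, ← e, add_smul, (hU v).1 hv i hi, add_zero, mul_smul]⟩
  have hBU : ∀ (h : B), ∀ v ∈ U, σ h v ∈ U := fun h v hv => (hU _).2 fun r hr => by
    rw [← hτ h r, ← hσ, (hU v).1 hv _ ((B.inv_mem h.2 r).2 hr), map_zero]
  obtain ⟨s, hs'⟩ := canc _ hd
  have inj : ∀ u : B → V, (∀ g, u g ∈ U) → (∀ h, ∑ g, D h g • u g = 0) → ∀ g, u g = 0 := fun u hu e i => by
    have e1 : ∑ h, D.adjugate i h • ∑ g, D h g • u g = D.det • u i := by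
      simp only [Finset.smul_sum, smul_smul]
      rw [Finset.sum_comm]
      simp only [← Finset.sum_smul, ← mul_apply, adjugate_mul]
      simp [one_apply, ite_smul]
    rw [← hs' _ (hu i), ← e1]
    simp [e]
  have sur : ∀ y : B → V, (∀ g, y g ∈ U) → ∃ u : B → V, (∀ g, u g ∈ U) ∧ ∀ h, ∑ g, D h g • u g = y h := fun y hy => by
    refine ⟨fun g => ∑ i, D.adjugate g i • s • y i, fun g => U.sum_mem fun i _ => U.smul_mem _ (U.smul_mem _ (hy i)),
      fun h => ?_⟩
    rw [← hs' _ (hy h), smul_comm s]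
    generalize (fun i => s • y i) = z at *
    simp only [Finset.smul_sum, smul_smul (D h _)]
    rw [Finset.sum_comm]
    simp only [← Finset.sum_smul, ← mul_apply, mul_adjugate]
    simp [one_apply, ite_smul]
  let W : Submodule k V :=
    { carrier := {w | ∃ u ∈ U, (∀ h : B, σ h u = u) ∧ θ • u = w}
      zero_mem' := ⟨0, U.zero_mem, fun _ => map_zero _, smul_zero _⟩
      add_mem' := by
        rintro _ _ ⟨u, h1, h2, rfl⟩ ⟨u', h3, h4, rfl⟩
        exact ⟨u + u', U.add_mem h1 h3, fun h => by rw [map_add, h2, h4], smul_add ..⟩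
      smul_mem' := by
        rintro c _ ⟨u, h1, h2, rfl⟩
        exact ⟨c • u, (hU _).2 fun r hr => by rw [smul_comm, (hU u).1 h1 r hr, smul_zero],
          fun h => by rw [map_smul, h2], smul_comm ..⟩ }
  have hWU : ∀ w ∈ W, w ∈ U := by
    rintro _ ⟨u, h1, -, rfl⟩
    exact U.smul_mem _ h1
  have hsum : ∀ f : H → V, (∀ h ∉ B, f h = 0) → ∑ h, f h = ∑ h : B, f h := fun f hf => by
    rw [← Finset.sum_subtype (Finset.univ.filter (· ∈ B)) (by simp) f]
    exact (Finset.sum_subset (Finset.subset_univ _) fun h _ hh => hf h (by simpa using hh)).symm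
  refine ⟨W, fun w hw e h0 => ?_, fun v hv => ?_⟩
  · have e1 : ∑ h, σ h (w (h0 * h)) = 0 := by
      have := congrArg (σ h0⁻¹) e
      rw [map_sum, map_zero, ← Equiv.sum_comp (Equiv.mulLeft h0)] at this
      simpa [← Module.End.mul_apply, ← map_mul] using this
    have e2 : ∀ h ∉ B, ∃ ε ∉ m, τ h⁻¹ ε ∈ m := fun h hh => by
      by_contra hc
      push Not at hc
      have := (Ideal.comap_isMaximal_of_equiv (τ h⁻¹) (p := m)).eq_of_le hm.ne_top fun r hr => by
        by_contra h1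
        exact hc r h1 hr
      exact hh (inv_mem_iff.1 fun r => (SetLike.ext_iff.1 this r))
    choose! ε h1 h2 using e2
    obtain ⟨s1, hs1⟩ := canc (∏ h with h ∉ B, ε h) fun e =>
      (Ideal.IsPrime.prod_mem_iff.1 e).elim fun h hh => h1 h (by simpa using hh.1) hh.2
    have e3 : ∑ h : B, σ h (w (h0 * h)) = 0 := by
      rw [← hs1 _ (U.sum_mem fun h _ => hBU h _ (hWU _ (hw _))), Finset.smul_sum,
        ← hsum (fun h => (∏ h with h ∉ B, ε h) • σ h (w (h0 * h))) fun h hh => by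
          rw [← hτ h (∏ h with h ∉ B, ε h), ← hσ, (hU _).1 (hWU _ (hw _)), map_zero]
          rw [map_prod]
          exact Ideal.prod_mem m (by simpa using hh) (h2 h hh), ← Finset.smul_sum, e1, smul_zero, smul_zero]
    choose u h3 h4 h5 using hw
    have := inj (fun g => u (h0 * g)) (fun _ => h3 _) (fun h => by
      have := congrArg (σ h) e3
      simp only [map_sum, map_zero, ← h5, hσ, h4, ← RingAut.mul_apply, ← map_mul] at this
      exact this) 1
    rw [← h5, show u h0 = 0 by simpa using this, smul_zero]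
  · obtain ⟨u, h1, h2⟩ := sur (fun h => σ h v) fun h => hBU h v ((hU v).2 hv)
    have h3 : ∀ g t : B, σ t (u g) = u g := fun g t => sub_eq_zero.1 (inj (fun g => σ t (u g) - u g)
      (fun g => U.sub_mem (hBU t _ (h1 g)) (h1 g)) (fun h => by
        have := congrArg (σ t) (h2 (t⁻¹ * h))
        simp only [map_sum, hσ, hD, of_apply, ← RingAut.mul_apply, ← map_mul, ← Module.End.mul_apply,
          ← Subgroup.coe_mul, ← mul_assoc, mul_inv_cancel, one_mul] at this
        simp only [smul_sub, Finset.sum_sub_distrib, h2]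
        exact sub_eq_zero.2 this) g)
    refine ⟨fun h => if hh : h ∈ B then θ • u ⟨h, hh⟩ else 0, fun h => ?_, ?_⟩
    · dsimp only
      split_ifs
      · exact ⟨_, h1 _, h3 _, rfl⟩
      · exact W.zero_mem
    · rw [hsum _ fun h hh => by simp only [dif_neg hh, map_zero]]
      simpa [hσ, h3, hD] using h2 1

/-- the same for a commutative algebra of endomorphisms -/
theorem exists_ind_end [FiniteDimensional k V] [Nontrivial V] (σ : H →* Module.End k V)
    (R : Subalgebra k (Module.End k V)) (hc : ∀ x ∈ R, ∀ y ∈ R, x * y = y * x)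
    (hR : ∀ h, ∀ r ∈ R, σ h * r * σ h⁻¹ ∈ R) (hfree : ∀ v ≠ 0, ∀ h ≠ 1, ∃ r ∈ R, (σ h * r * σ h⁻¹) v ≠ r v) :
    ∃ W : Submodule k V, Ind σ W ∧ ∃ M : Set (Module.End k V), M ⊆ R ∧ (∃ v ≠ 0, ∀ r ∈ M, r v = 0) ∧
      ∀ v, (∀ r ∈ M, r v = 0) → Spn σ W v := by
  have hinv : ∀ a, σ a⁻¹ * σ a = 1 := fun a => by rw [← map_mul, inv_mul_cancel, map_one]
  have hinv' : ∀ a, σ a * σ a⁻¹ = 1 := fun a => by rw [← map_mul, mul_inv_cancel, map_one]
  have hcan : ∀ a x, σ a⁻¹ * (σ a * x) = x := fun a x => by rw [← mul_assoc, hinv, one_mul]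
  have hcan' : ∀ a x, σ a * (σ a⁻¹ * x) = x := fun a x => by rw [← mul_assoc, hinv', one_mul]
  let τ : H →* RingAut R :=
    { toFun := fun a =>
        { toFun := fun r => ⟨_, hR a r r.2⟩
          invFun := fun r => ⟨_, hR a⁻¹ r r.2⟩
          left_inv := fun r => Subtype.ext (by simp only [inv_inv, mul_assoc, hcan, hinv, mul_one])
          right_inv := fun r => Subtype.ext (by simp only [inv_inv, mul_assoc, hcan', hinv', mul_one])
          map_mul' := fun r s => Subtype.ext (by simp only [MulMemClass.coe_mul, mul_assoc, hcan])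
          map_add' := fun r s => Subtype.ext (by simp only [AddMemClass.coe_add, mul_add, add_mul]) }
      map_one' := RingEquiv.ext fun r => Subtype.ext (by simp)
      map_mul' := fun a b => RingEquiv.ext fun r => Subtype.ext (by simp [mul_assoc]) }
  have hτ : ∀ a (r : R) v, σ a (r • v) = τ a r • σ a v := fun a r v => by
    change (σ a * r) v = (σ a * r * σ a⁻¹ * σ a) v
    rw [mul_assoc, hinv, mul_one]
  have : IsArtinian R V := isArtinian_of_tower k inferInstance
  obtain ⟨S, hS⟩ := IsAtomic.exists_atom (Submodule R V)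
  have := isSimpleModule_iff_isAtom.2 hS
  obtain ⟨v0, hv0, hv1⟩ := (Submodule.ne_bot_iff S).1 hS.1
  have hv2 : ∀ r ∈ Module.annihilator R S, r • v0 = 0 := fun r hr =>
    congrArg Subtype.val (Module.mem_annihilator.1 hr ⟨v0, hv0⟩)
  let _ : CommRing R := { (inferInstance : Ring R) with mul_comm := fun x y => Subtype.ext (hc _ x.2 _ y.2) }
  have hm : (Module.annihilator R S).IsMaximal := IsSimpleModule.annihilator_isMaximal
  obtain ⟨W, hW, hW'⟩ := exists_ind τ σ hτ (Module.annihilator R S) fun h h1 => by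
    obtain ⟨r, hr, e⟩ := hfree v0 hv1 h h1
    exact ⟨⟨r, hr⟩, fun e1 => e (sub_eq_zero.1 (hv2 _ e1))⟩
  refine ⟨W, hW, Subtype.val '' (Module.annihilator R S : Set R), ?_, ⟨v0, hv1, ?_⟩, fun v hv => hW' v fun r hr =>
    hv _ ⟨r, hr, rfl⟩⟩
  · rintro _ ⟨r, -, rfl⟩; exact r.2
  · rintro _ ⟨r, hr, rfl⟩; exact hv2 r hr

end

section
variable {k A : Type*} [Field k] [Group A] [Finite A] {F H : Subgroup A} [F.Normal] [Fintype H]

/-- the irreducible case -/
theorem free_of_irr {V : Type*} [AddCommGroup V] [Module k V] [FiniteDimensional k V] (ρ : Representation k A V)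
    (hnil : Group.IsNilpotent F) (hFH : ∀ a : A, ∃ f ∈ F, ∃ h ∈ H, f * h = a)
    (hfpf : ∀ h ∈ H, h ≠ 1 → ∀ f ∈ F, f * h = h * f → f = 1) (hne : ∃ f ∈ F, ρ f ≠ 1)
    (hirr : ∀ U : Submodule k V, (∀ a, U ≤ U.comap (ρ a)) → U = ⊥ ∨ U = ⊤) :
    ∃ W : Submodule k V, Ind (ρ.comp H.subtype) W ∧ ∀ v, Spn (ρ.comp H.subtype) W v := by
  classical
  let π : A →* (Module.End k V)ˣ := ρ.toHomUnits
  have hπ : ∀ a, (π a : Module.End k V) = ρ a := fun _ => rfl
  let Z : Subgroup A := F ⊓ (Subgroup.centralizer (F.map π : Set (Module.End k V)ˣ)).comap π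
  have hZ : ∀ z, z ∈ Z ↔ z ∈ F ∧ ∀ f ∈ F, ρ f * ρ z = ρ z * ρ f := fun z =>
    and_congr_right fun _ => ⟨fun h f hf => congrArg Units.val (h _ ⟨f, hf, rfl⟩), fun h => by
      rintro _ ⟨f, hf, rfl⟩; exact Units.ext (h f hf)⟩
  have hZc : ∀ a, ∀ z ∈ Z, a * z * a⁻¹ ∈ Z := fun a z hz => (hZ _).2 ⟨‹F.Normal›.conj_mem _ hz.1 a, fun f hf => by
    have := ((hZ z).1 hz).2 _ (‹F.Normal›.conj_mem' _ hf a)
    rw [← map_mul, ← map_mul] at this ⊢
    calc ρ (f * (a * z * a⁻¹)) = ρ a * ρ (a⁻¹ * f * a * z) * ρ a⁻¹ := by rw [← map_mul, ← map_mul]; group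
      _ = _ := by rw [this, ← map_mul, ← map_mul]; group⟩
  have hZ1 : ∃ z ∈ Z, ρ z ≠ 1 := by
    obtain ⟨f, hf, h1⟩ := hne
    have : Nontrivial (F.map π) := ⟨⟨⟨_, f, hf, rfl⟩, 1, fun e => h1 (congrArg (fun x : F.map π => x.1.1) e)⟩⟩
    have := Group.nilpotent_of_surjective _ (π.subgroupMap_surjective F)
    obtain ⟨⟨⟨_, z, hz, rfl⟩, h2⟩, h3⟩ := Subgroup.ne_bot_iff_exists_ne_one.1 (Group.IsNilpotent.center_ne_bot (F.map π))
    refine ⟨z, (hZ z).2 ⟨hz, fun f hf => ?_⟩, fun e => h3 (Subtype.ext (Subtype.ext (Units.ext e)))⟩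
    exact congrArg (fun x : F.map π => x.1.1) (Subgroup.mem_center_iff.1 h2 ⟨_, f, hf, rfl⟩)
  have hfix : ∀ v, (∀ z ∈ Z, ρ z v = v) → v = 0 := by
    let U : Submodule k V := ⨅ z : Z, LinearMap.eqLocus (ρ z) 1
    have hU : ∀ v, v ∈ U ↔ ∀ z ∈ Z, ρ z v = v := fun v => by simp [U, Submodule.mem_iInf]
    rcases hirr U fun a v hv => (hU _).2 fun z hz => by
      have := (hU v).1 hv _ (hZc a⁻¹ z hz)
      conv_rhs => rw [← this]
      simp [← Module.End.mul_apply, ← map_mul, mul_assoc] with e | e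
    · exact fun v hv => (Submodule.mem_bot k).1 (e ▸ (hU v).2 hv)
    · obtain ⟨z, hz, h1⟩ := hZ1
      exact absurd (LinearMap.ext fun v => (hU v).1 (e ▸ Submodule.mem_top) z hz) h1
  let R := Algebra.adjoin k (ρ '' Z)
  have hFR : ∀ f ∈ F, ∀ r ∈ R, Commute (ρ f) r := fun f hf r hr =>
    Algebra.commute_of_mem_adjoin_of_forall_mem_commute hr (by rintro _ ⟨z, hz, rfl⟩; exact ((hZ z).1 hz).2 f hf)
  have hinv : ∀ a, ρ a⁻¹ * ρ a = 1 := fun a => by rw [← map_mul, inv_mul_cancel, map_one]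
  have hinv' : ∀ a, ρ a * ρ a⁻¹ = 1 := fun a => by rw [← map_mul, mul_inv_cancel, map_one]
  have hcan : ∀ a x, ρ a⁻¹ * (ρ a * x) = x := fun a x => by rw [← mul_assoc, hinv, one_mul]
  have hR : ∀ a, ∀ r ∈ R, ρ a * r * ρ a⁻¹ ∈ R := fun a r hr => by
    induction hr using Algebra.adjoin_induction with
    | mem x hx =>
      obtain ⟨z, hz, rfl⟩ := hx
      exact Algebra.subset_adjoin ⟨_, hZc a z hz, by rw [map_mul, map_mul]⟩
    | algebraMap c => rw [← Algebra.commutes, mul_assoc, hinv', mul_one]; exact R.algebraMap_mem c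
    | add x y _ _ hx hy => rw [mul_add, add_mul]; exact add_mem hx hy
    | mul x y _ _ hx hy => simpa only [mul_assoc, hcan] using mul_mem hx hy
  have : Nontrivial V := by
    obtain ⟨f, -, h1⟩ := hne
    by_contra h
    rw [not_nontrivial_iff_subsingleton] at h
    exact h1 (Subsingleton.elim _ _)
  obtain ⟨W, hW, M, hM, ⟨v0, hv1, hv2⟩, hW'⟩ := exists_ind_end (ρ.comp H.subtype) R
    (fun x hx y hy => congrArg Subtype.val ((Algebra.isMulCommutative_adjoin k (s := ρ '' Z) (by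
      rintro _ ⟨x, hx, rfl⟩ _ ⟨y, hy, rfl⟩; exact ((hZ y).1 hy).2 x hx.1)).is_comm.comm ⟨x, hx⟩ ⟨y, hy⟩))
    (fun h => hR h) fun v0 hv1 h h1 => by
      by_contra hc
      push Not at hc
      have hi : Function.Injective fun z : Z => (⟨z⁻¹ * (h * z * h⁻¹), Z.mul_mem (Z.inv_mem z.2) (hZc h z z.2)⟩ : Z) :=
        fun z y e => by
          have e1 : (z : A)⁻¹ * (h * z * h⁻¹) = (y : A)⁻¹ * (h * y * h⁻¹) := congrArg Subtype.val e
          refine Subtype.ext (mul_inv_eq_one.1 (hfpf h h.2 (fun e => h1 (Subtype.ext e)) _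
            (F.mul_mem y.2.1 (F.inv_mem z.2.1)) ?_)).symm
          rw [Subgroup.coe_inv] at e1
          calc (y : A) * (z : A)⁻¹ * h = y * ((z : A)⁻¹ * (h * z * (h : A)⁻¹)) * h * (z : A)⁻¹ := by group
            _ = _ := by rw [e1]; group
      refine hv1 (hfix v0 fun z hz => ?_)
      obtain ⟨y, e⟩ := Finite.injective_iff_surjective.1 hi ⟨z, hz⟩
      have e1 : (y : A)⁻¹ * (h * y * (h : A)⁻¹) = z := congrArg Subtype.val e
      have e2 : (ρ h * ρ y * ρ (h : A)⁻¹) v0 = ρ y v0 := hc (ρ y) (Algebra.subset_adjoin ⟨y, y.2, rfl⟩)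
      rw [← e1, map_mul, map_mul, map_mul, Module.End.mul_apply, e2, ← Module.End.mul_apply, hinv, Module.End.one_apply]
  let T : Submodule k V := Submodule.span k {x | ∃ h ∈ H, ∃ v, (∀ r ∈ M, r v = 0) ∧ ρ h v = x}
  have hT : T = ⊤ := (hirr T fun a => Submodule.span_le.2 (by
    rintro _ ⟨h, hh, v, hv, rfl⟩
    obtain ⟨f, hf, g, hg, e⟩ := hFH (a * h)
    refine Submodule.subset_span ⟨g, hg, ρ (g⁻¹ * f * g) v, fun r hr => ?_, ?_⟩
    · rw [← Module.End.mul_apply, ← (hFR _ (‹F.Normal›.conj_mem' _ hf g) r (hM hr)).eq, Module.End.mul_apply,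
        hv r hr, map_zero]
    · rw [← Module.End.mul_apply, ← Module.End.mul_apply, ← map_mul, ← map_mul, ← e]
      group)).resolve_left fun e => hv1 ((Submodule.mem_bot k).1
        (e ▸ Submodule.subset_span ⟨1, H.one_mem, v0, hv2, by simp⟩))
  refine ⟨W, hW, fun v => ?_⟩
  have hv : v ∈ T := hT ▸ Submodule.mem_top
  induction hv using Submodule.span_induction with
  | mem x hx =>
    obtain ⟨h, hh, v, hv, rfl⟩ := hx
    exact (hW' v hv).apply ⟨h, hh⟩
  | zero => exact ⟨0, fun _ => W.zero_mem, by simp⟩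
  | add x y _ _ hx hy => exact hx.add hy
  | smul c x _ hx =>
    obtain ⟨w, h1, rfl⟩ := hx
    exact ⟨c • w, fun _ => W.smul_mem _ (h1 _), by simp [Finset.smul_sum]⟩

universe v

/-- induction on the dimension -/
theorem free_of_sum (hnil : Group.IsNilpotent F) (hFH : ∀ a : A, ∃ f ∈ F, ∃ h ∈ H, f * h = a)
    (hfpf : ∀ h ∈ H, h ≠ 1 → ∀ f ∈ F, f * h = h * f → f = 1) {ι : Type*} [Fintype ι] (s : ι → A) (hs : ∀ i, s i ∈ F)
    (hc : (Fintype.card ι : k) ≠ 0) (n : ℕ) : ∀ {V : Type v} [AddCommGroup V] [Module k V] [FiniteDimensional k V]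
      (ρ : Representation k A V), Module.finrank k V = n → (∀ v, ∑ i, ρ (s i) v = 0) →
      ∃ W : Submodule k V, Ind (ρ.comp H.subtype) W ∧ ∀ v, Spn (ρ.comp H.subtype) W v := by
  induction n using Nat.strong_induction_on with
  | _ n ih =>
  intro V _ _ _ ρ hn h0
  by_cases hne : ∃ f ∈ F, ρ f ≠ 1
  swap
  · push Not at hne
    refine ⟨⊥, fun w hw _ h => hw h, fun v => ⟨0, fun _ => Submodule.zero_mem _, ?_⟩⟩
    have := h0 v
    simp only [hne _ (hs _), Module.End.one_apply, Finset.sum_const, Finset.card_univ,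
      ← Nat.cast_smul_eq_nsmul k, smul_eq_zero, hc, false_or] at this
    simp [this]
  by_cases hirr : ∀ U : Submodule k V, (∀ a, U ≤ U.comap (ρ a)) → U = ⊥ ∨ U = ⊤
  · exact free_of_irr ρ hnil hFH hfpf hne hirr
  push Not at hirr
  obtain ⟨U, hU, h1, h2⟩ := hirr
  have e := U.finrank_quotient_add_finrank
  have h3 : Module.finrank k U < Module.finrank k V := Submodule.finrank_lt h2
  have h4 : Module.finrank k U ≠ 0 := fun e => h1 (Submodule.finrank_eq_zero.1 e)
  obtain ⟨W1, a1, a2⟩ := ih _ (hn ▸ h3) (ρ.subrepresentation U hU) rfl fun v => Subtype.ext (by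
    rw [AddSubmonoidClass.coe_finsetSum]; exact h0 v)
  obtain ⟨W2, b1, b2⟩ := ih _ (by omega) (ρ.quotient U hU) rfl fun v => by
    obtain ⟨v, rfl⟩ := U.mkQ_surjective v
    exact (map_sum U.mkQ (fun i => ρ (s i) v) _).symm.trans (by rw [h0, map_zero])
  obtain ⟨t, ht⟩ := U.mkQ.exists_rightInverse_of_surjective U.range_mkQ
  have ht' : ∀ q, U.mkQ (t q) = q := LinearMap.congr_fun ht
  have hq : ∀ (h : H) v, U.mkQ ((ρ.comp H.subtype) h v) = ((ρ.quotient U hU).comp H.subtype) h (U.mkQ v) :=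
    fun _ _ => rfl
  have hu : ∀ (h : H) (u : U), (ρ.comp H.subtype) h u = (((ρ.subrepresentation U hU).comp H.subtype) h u : U) :=
    fun _ _ => rfl
  refine ⟨W1.map U.subtype ⊔ W2.map t, fun w hw e1 => ?_, fun v => ?_⟩
  · have : ∀ h, ∃ u ∈ W1, ∃ q ∈ W2, (u : V) + t q = w h := fun h => by
      obtain ⟨_, ⟨u, c1, rfl⟩, _, ⟨q, c2, rfl⟩, c3⟩ := Submodule.mem_sup.1 (hw h)
      exact ⟨u, c1, q, c2, c3⟩
    choose u c1 q c2 c3 using this
    have c4 : ∀ h, U.mkQ (w h) = q h := fun h => by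
      rw [← c3, map_add, ht', show U.mkQ (u h) = 0 from (Submodule.Quotient.mk_eq_zero U).2 (u h).2, zero_add]
    have c5 := b1 q c2 (by simpa only [map_sum, hq, c4, map_zero] using congrArg U.mkQ e1)
    simp only [c5, map_zero, add_zero] at c3
    have c6 := a1 u c1 (Subtype.ext (by
      rw [AddSubmonoidClass.coe_finsetSum]
      simp only [← c3, hu] at e1
      exact e1))
    intro h
    rw [← c3, c6]; rfl
  · obtain ⟨q, c1, c2⟩ := b2 (U.mkQ v)
    obtain ⟨u, c3, c4⟩ := a2 ⟨v - ∑ h, (ρ.comp H.subtype) h (t (q h)), (Submodule.Quotient.mk_eq_zero U).1 (by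
      change U.mkQ _ = 0
      simp only [map_sub, map_sum, hq, ht', c2, sub_self])⟩
    refine ⟨fun h => u h + t (q h), fun h => Submodule.add_mem_sup ⟨_, c3 h, rfl⟩ ⟨_, c1 h, rfl⟩, ?_⟩
    have c5 := congrArg Subtype.val c4
    rw [AddSubmonoidClass.coe_finsetSum] at c5
    simp only [map_add, Finset.sum_add_distrib, hu, c5, sub_add_cancel]

omit [F.Normal] in
/-- a family of elements of `F`, of size prime to the characteristic, with sum zero -/
theorem exists_sum {V : Type*} [AddCommGroup V] [Module k V] (ρ : Representation k A V) (hnil : Group.IsNilpotent F)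
    (hCF : ∀ v : V, (∀ f ∈ F, ρ f v = v) → v = 0) :
    ∃ N : Subgroup F, (Nat.card N : k) ≠ 0 ∧ ∀ v : V, (∀ n : N, ρ (n : F) v = v) → v = 0 := by
  obtain ⟨p, hp⟩ := CharP.exists k
  rcases CharP.char_is_prime_or_zero k p with h | rfl
  swap
  · have := CharP.charP_to_charZero k
    exact ⟨⊤, Nat.cast_ne_zero.2 Nat.card_pos.ne', fun v hv => hCF v fun f hf => hv ⟨⟨f, hf⟩, trivial⟩⟩
  have := Fact.mk h
  obtain ⟨P⟩ : Nonempty (Sylow p F) := inferInstance
  obtain ⟨N, hN⟩ := Subgroup.exists_right_complement'_of_coprime P.card_coprime_index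
  have h1 : ¬ p ∣ Nat.card N := by rw [← hN.symm.index_eq_card]; exact P.not_dvd_index
  refine ⟨N, fun e => h1 ((CharP.cast_eq_zero_iff k p _).1 e), fun v hv => ?_⟩
  by_contra h0
  let U : Submodule k V := ⨅ n : N, LinearMap.eqLocus (ρ (n : F)) 1
  have hU : ∀ v, v ∈ U ↔ ∀ n : N, ρ (n : F) v = v := fun v => by simp [U, Submodule.mem_iInf]
  obtain ⟨u, h2, h3, h4⟩ := CL.Perm.exists_ne_zero_fixed_of_isPGroup P.isPGroup'
    ((ρ.comp F.subtype).comp (P : Subgroup F).subtype) U (fun g u hu => (hU _).2 fun n => by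
      have e : Commute (n : F) g := CL.Grp.commute_of_coprime_orderOf_of_isNilpotent (by
        obtain ⟨j, hj⟩ := IsPGroup.iff_orderOf.1 P.isPGroup' g
        rw [Subgroup.orderOf_coe, Subgroup.orderOf_coe, hj]
        exact (Nat.Coprime.pow_left j ((h.coprime_iff_not_dvd.2 h1).coprime_dvd_right (orderOf_dvd_natCard n))).symm)
      change (ρ _ * ρ ((g : F) : A)) u = ρ ((g : F) : A) u
      rw [← map_mul, ← Subgroup.coe_mul, e.eq, Subgroup.coe_mul, map_mul, Module.End.mul_apply, (hU u).1 hu])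
    ((Submodule.ne_bot_iff U).2 ⟨v, (hU v).2 hv, h0⟩)
  refine h3 (hCF u fun f hf => ?_)
  obtain ⟨⟨a, b⟩, e⟩ := hN.2 ⟨f, hf⟩
  rw [show f = ((a : F) : A) * ((b : F) : A) from (congrArg Subtype.val e).symm, map_mul, Module.End.mul_apply,
    (hU u).1 h2]
  exact h4 a

end

/-- **The module is free over the complement.** -/
theorem isInternal {k V A : Type*} [Field k] [AddCommGroup V] [Module k V] [FiniteDimensional k V] [Group A] [Finite A]
    [DecidableEq A] (ρ : Representation k A V) (F H : Subgroup A) [F.Normal] (hH : Cfsg.IsFrobeniusComplement H)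
    (hker : Cfsg.frobeniusKernel H = (F : Set A)) (hnil : Group.IsNilpotent F)
    (hCF : ∀ v : V, (∀ f ∈ F, ρ f v = v) → v = 0) :
    ∃ W : Submodule k V, DirectSum.IsInternal (fun h : H => W.map (ρ (h : A))) := by
  classical
  have hm := CL.Grp.isMalnormal_of_frob hH
  have := Fintype.ofFinite H
  obtain ⟨N, h1, h2⟩ := exists_sum ρ hnil hCF
  have := Fintype.ofFinite N
  have hc : F.IsComplement' H := Subgroup.isComplement'_of_card_mul_and_disjoint
    (by rw [← H.index_mul_card, ← hm.card_kernel, hker]; rfl)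
    (Subgroup.disjoint_def.2 fun hx hx' => CL.Grp.eq_one_of_mem_frobeniusKernel_of_mem (hker ▸ hx) hx')
  obtain ⟨W, h3, h4⟩ := free_of_sum hnil (fun a => (hc.2 a).elim fun x e => ⟨_, x.1.2, _, x.2.2, e⟩)
    (fun h hh h1 f hf => hm.eq_one_of_commute hh h1 (hker ▸ hf)) (fun n : N => ((n : F) : A)) (fun n => n.1.2)
    (by rwa [← Nat.card_eq_fintype_card]) _ ρ rfl fun v => h2 _ fun n => by
      rw [map_sum, ← Equiv.sum_comp (Equiv.mulLeft n) fun i : N => ρ (i : F) v]
      simp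
  refine ⟨W, (DirectSum.isInternal_submodule_iff_iSupIndep_and_iSup_eq_top _).2 ⟨?_, eq_top_iff.2 fun v _ => ?_⟩⟩
  · rw [iSupIndep_iff_finsetSum_eq_zero_imp_eq_zero]
    intro s x hx e i hi
    choose! w h5 h6 using hx
    have := h3 (fun h => if h ∈ s then w h else 0) (fun h => by
      split_ifs with hh
      · exact h5 h hh
      · exact W.zero_mem) (by
      rw [← Finset.sum_subset (Finset.subset_univ s) fun h _ hh => by simp only [if_neg hh, map_zero]]
      exact (Finset.sum_congr rfl fun h hh => by simp only [if_pos hh]; exact h6 h hh).trans e) i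
    simp only [if_pos hi] at this
    rw [← h6 i hi, this, map_zero]
  · obtain ⟨w, h5, rfl⟩ := h4 v
    exact Submodule.sum_mem _ fun h _ => Submodule.mem_iSup_of_mem h ⟨_, h5 h, rfl⟩

end CL.FrobFree
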