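/-
Field lemmas for the universal minimal non-`p`-nilpotent group: a finite field generated by a root of unity of
prime order, and coordinates on an irreducible module.
-/
import Cfsg.Agent.Fgs.CycloMod

set_option autoImplicit false

namespace CL.Golf

open Polynomial CL.Fgs

variable {F : Type*} [Field F] {ζ : F} {p q : ℕ}

theorem inv_mem_subring [Finite F] {R : Subring F} {c : F} (hc : c ∈ R) : c⁻¹ ∈ R := by
  by_cases h : c = 0
  · rw [h, inv_zero]; exact R.zero_mem
  have := Fintype.ofFinite F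
  have h1 := FiniteField.pow_card_sub_one_eq_one c h
  have h2 : 1 < Fintype.card F := Fintype.one_lt_card
  have h3 : c ^ (Fintype.card F - 2) * c = 1 := by
    rw [← pow_succ, show Fintype.card F - 2 + 1 = Fintype.card F - 1 by omega, h1]
  rw [← eq_inv_of_mul_eq_one_left h3]
  exact R.pow_mem hc _

theorem card_subring [Finite F] [hp : Fact p.Prime] {a : ℕ} (hF : Nat.card F = p ^ a) (R : Subring F) :
    ∃ m ≤ a, Nat.card R = p ^ m :=
  (Nat.dvd_prime_pow hp.out).1 (hF ▸ AddSubgroup.card_addSubgroup_dvd_card R.toAddSubgroup)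

/-- the field is generated by the root of unity -/
theorem subring_eq_top [Finite F] [hp : Fact p.Prime] (hζ : IsPrimitiveRoot ζ q)
    (hF : Nat.card F = p ^ orderOf (p : ZMod q)) (R : Subring F) (h : ζ ∈ R) (h0 : ζ ≠ 0) : R = ⊤ := by
  obtain ⟨m, hm, hR⟩ := card_subring hF R
  let K : Subfield F := { R with inv_mem' := fun c hc => inv_mem_subring hc }
  have := Fintype.ofFinite K
  have h1 := FiniteField.pow_card_sub_one_eq_one (⟨ζ, h⟩ : K) (fun e => h0 (congrArg Subtype.val e))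
  have hK : Fintype.card K = p ^ m := by rw [← Nat.card_eq_fintype_card]; exact hR
  have h2 : q ∣ p ^ m - 1 := (hζ.pow_eq_one_iff_dvd _).1 (by rw [← hK]; exact congrArg Subtype.val h1)
  have h3 : (p : ZMod q) ^ m = 1 := by
    have := (ZMod.natCast_eq_zero_iff _ _).2 h2
    rwa [Nat.cast_sub (Nat.one_le_pow _ _ hp.out.pos), Nat.cast_pow, Nat.cast_one, sub_eq_zero] at this
  have h4 : m ≠ 0 := by
    rintro rfl
    exact (Fintype.one_lt_card (α := K)).ne' (hK.trans (pow_zero p))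
  have h5 := le_antisymm hm (Nat.le_of_dvd (Nat.pos_of_ne_zero h4) (orderOf_dvd_of_pow_eq_one h3))
  have h6 : R.toAddSubgroup = ⊤ := AddSubgroup.eq_top_of_card_eq _ (by rw [hF, ← h5]; exact hR)
  exact eq_top_iff.2 fun x _ => h6.ge (AddSubgroup.mem_top x)

theorem addSubgroup_eq_top (hR : ∀ R : Subring F, ζ ∈ R → R = ⊤) (A : AddSubgroup F) (h : ∀ t ∈ A, ζ * t ∈ A)
    {t : F} (ht : t ∈ A) (h0 : t ≠ 0) : A = ⊤ := by
  let R : Subring F :=
    { carrier := {c | ∀ t ∈ A, c * t ∈ A}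
      mul_mem' := fun {c d} hc hd t ht => by rw [mul_assoc]; exact hc _ (hd t ht)
      one_mem' := fun t ht => by rwa [one_mul]
      add_mem' := fun {c d} hc hd t ht => by rw [add_mul]; exact add_mem (hc t ht) (hd t ht)
      zero_mem' := fun t _ => by rw [zero_mul]; exact zero_mem A
      neg_mem' := fun {c} hc t ht => by rw [neg_mul]; exact neg_mem (hc t ht) }
  refine eq_top_iff.2 fun x _ => ?_
  have := (hR R h).ge (Subring.mem_top (x / t)) t ht
  rwa [div_mul_cancel₀ _ h0] at this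

/-- a subring containing `ζ + ζ⁻¹` has codimension at most two -/
theorem subring_top_or [Finite F] (hR : ∀ R : Subring F, ζ ∈ R → R = ⊤) (h0 : ζ ≠ 0) (K : Subring F)
    (h : ζ + ζ⁻¹ ∈ K) : K = ⊤ ∨ Nat.card F = Nat.card K * Nat.card K := by
  by_cases hz : ζ ∈ K
  · exact Or.inl (hR K hz)
  right
  let f : K × K →+ F := AddMonoidHom.mk' (fun c => c.1 + ζ * c.2) fun c d => by
    simp only [Prod.fst_add, Prod.snd_add, Subring.coe_add]; ring
  rw [← Nat.card_prod]
  refine (Nat.card_congr (Equiv.ofBijective f ⟨(injective_iff_map_eq_zero f).2 fun c hc => ?_, ?_⟩)).symm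
  · change (c.1 : F) + ζ * c.2 = 0 at hc
    have h2 : (c.2 : F) = 0 := by
      by_contra e
      refine hz ?_
      rw [show ζ = -c.1 * (c.2 : F)⁻¹ by field_simp; linear_combination hc]
      exact K.mul_mem (K.neg_mem c.1.2) (inv_mem_subring c.2.2)
    rw [h2, mul_zero, add_zero] at hc
    exact Prod.ext (Subtype.ext hc) (Subtype.ext h2)
  · rw [← AddMonoidHom.range_eq_top]
    refine addSubgroup_eq_top hR _ ?_ (t := 1) ⟨(1, 0), by simp [f]⟩ one_ne_zero
    rintro _ ⟨c, rfl⟩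
    refine ⟨(-c.2, c.1 + ⟨_, h⟩ * c.2), ?_⟩
    change -(c.2 : F) + ζ * (c.1 + (ζ + ζ⁻¹) * c.2) = ζ * (c.1 + ζ * c.2)
    field_simp
    ring

/-- coordinates on an irreducible module -/
theorem exists_coord [hp : Fact p.Prime] [hq : Fact q.Prime] [Algebra (ZMod p) F] (hζ : IsPrimitiveRoot ζ q)
    (hR : ∀ R : Subring F, ζ ∈ R → R = ⊤) {V : Type*} [AddCommGroup V] [Module (ZMod p) V] [Finite V]
    {φ : Module.End (ZMod p) V} (hφ : φ ^ q = 1) (h1 : φ ≠ 1)
    (hirr : ∀ W : Submodule (ZMod p) V, (∀ w ∈ W, φ w ∈ W) → W = ⊥ ∨ W = ⊤) :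
    ∃ (β : V →+ F) (j : ℕ), Function.Bijective β ∧ ¬ q ∣ j ∧ ∀ v, β (φ v) = ζ ^ j * β v := by
  have hker : ∀ (g : (ZMod p)[X]) (v : V), v ≠ 0 → aeval φ g v = 0 → aeval φ g = 0 := by
    intro g v hv hg
    rcases hirr (LinearMap.ker (aeval φ g)) (fun w hw => by
      rw [LinearMap.mem_ker] at hw ⊢
      rw [← map_aeval_of_comm (β := φ) (fun _ => rfl), hw, map_zero]) with h | h
    · exact absurd ((Submodule.mem_bot _).1 (h ▸ LinearMap.mem_ker.2 hg)) hv
    · exact LinearMap.ker_eq_top.1 h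
  obtain ⟨v, hv⟩ : ∃ v : V, v ≠ 0 := by
    by_contra hc
    push Not at hc
    exact h1 (LinearMap.ext fun v => by rw [hc v, map_zero, map_zero])
  have : Nontrivial V := ⟨v, 0, hv⟩
  have : Module.Finite (ZMod p) V := Module.Finite.of_finite
  have hint : IsIntegral (ZMod p) φ := LinearMap.isIntegral φ
  have hd : (minpoly (ZMod p) φ).map (algebraMap (ZMod p) F) ∣ X ^ q - C 1 := by
    have := map_dvd (algebraMap (ZMod p) F)
      (minpoly.dvd (ZMod p) φ (p := X ^ q - C 1) (by simp [hφ]))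
    simpa using this
  obtain ⟨ξ, hξ⟩ := ((X_pow_sub_one_splits hζ).of_dvd (X_pow_sub_C_ne_zero hq.out.pos 1) hd).exists_eval_eq_zero
    (by rw [degree_map]; exact (minpoly.degree_pos hint).ne')
  have hξq : ξ ^ q = 1 := by
    have := eval_eq_zero_of_dvd_of_eval_eq_zero hd hξ
    simpa [sub_eq_zero] using this
  rw [eval_map_algebraMap] at hξ
  obtain ⟨j, -, rfl⟩ := hζ.eq_pow_of_pow_eq_one hξq
  let ev : (ZMod p)[X] →ₗ[ZMod p] V :=
    (LinearMap.applyₗ v).comp (aeval φ : (ZMod p)[X] →ₐ[ZMod p] Module.End (ZMod p) V).toLinearMap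
  have hev : Function.Surjective ev := by
    rw [← LinearMap.range_eq_top]
    refine (hirr (endCyc φ v) fun w hw => endCyc_le_of_mem hw (mem_endCyc.2 ⟨X, by simp⟩)).resolve_left
      fun h => hv ((Submodule.mem_bot _).1 (h ▸ self_mem_endCyc φ v))
  let β : V →ₗ[ZMod p] F := ((LinearMap.ker ev).liftQ
    (aeval (ζ ^ j) : (ZMod p)[X] →ₐ[ZMod p] F).toLinearMap fun g hg => by
      obtain ⟨c, rfl⟩ := minpoly.dvd _ _ (hker g v hv hg)
      simp [hξ]).comp (ev.quotKerEquivOfSurjective hev).symm.toLinearMap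
  have hβ : ∀ g, β (aeval φ g v) = aeval (ζ ^ j) g := fun g => by
    have : (ev.quotKerEquivOfSurjective hev).symm (aeval φ g v) = Submodule.Quotient.mk g := by
      rw [LinearEquiv.symm_apply_eq]; rfl
    simp only [β, LinearMap.comp_apply, LinearEquiv.coe_coe, this, Submodule.liftQ_apply]
    rfl
  have hc : ∀ w, β (φ w) = ζ ^ j * β w := fun w => by
    obtain ⟨g, rfl⟩ := hev w
    have := hβ (X * g)
    rw [map_mul, map_mul, aeval_X, aeval_X, Module.End.mul_apply, ← hβ] at this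
    exact this
  have hv1 : β v = 1 := by simpa using hβ 1
  have hinj : Function.Injective β := by
    rw [← LinearMap.ker_eq_bot]
    refine (hirr _ fun w hw => ?_).resolve_right fun e => ?_
    · rw [LinearMap.mem_ker] at hw ⊢
      rw [hc, hw, mul_zero]
    · exact one_ne_zero (hv1.symm.trans (e.ge (Submodule.mem_top (x := v))))
  have hj : ¬ q ∣ j := fun e => h1 (LinearMap.ext fun w => hinj (by
    rw [hc, (hζ.pow_eq_one_iff_dvd j).2 e, one_mul]; rfl))
  refine ⟨β.toAddMonoidHom, j, ⟨hinj, fun t => ?_⟩, hj, hc⟩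
  have h2 : ζ ∈ (aeval (ζ ^ j) : (ZMod p)[X] →ₐ[ZMod p] F).range.toSubring := by
    obtain ⟨i, -, hi⟩ := (hζ.pow_of_coprime j ((Nat.Prime.coprime_iff_not_dvd hq.out).2 hj).symm).eq_pow_of_pow_eq_one
      hζ.pow_eq_one
    exact ⟨X ^ i, by simpa using hi⟩
  obtain ⟨g, hg⟩ := (hR _ h2).ge (Subring.mem_top t)
  exact ⟨_, (hβ g).trans hg⟩

end CL.Golf
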