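/-
The order bound for `p`-groups with coordinates, and the structure `Co` describing minimal non-`p`-nilpotent groups.
-/
import Cfsg.Agent.Fgs.Golf1
import Cfsg.Agent.Grp.Schmidt2
import Cfsg.Agent.Grp.SZConj
import Cfsg.Agent.Grp.MinNormal
import Cfsg.Agent.Grp.PGroupBasic

set_option autoImplicit false

namespace CL.Golf

open Subgroup CL.Grp Cfsg
open scoped commutatorElement

variable {F : Type*} [Field F] {ζ : F} {p q r : ℕ}

theorem bound {P : Type*} [Group P] [Finite P] [Finite F] (hR : ∀ R : Subring F, ζ ∈ R → R = ⊤) (h0 : ζ ≠ 0)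
    (π : P → F) (hm : ∀ u v, π (u * v) = π u + π v) (hs : Function.Surjective π)
    (hz : ∀ u, π u = 0 → u ∈ center P) (c : P →* P) (hc : ∀ u, π (c u) = ζ * π u)
    (hcz : ∀ u, π u = 0 → c u = u) (gen : ∀ N : Subgroup P, (∀ u, u * (c u)⁻¹ ∈ N) → N = ⊤) :
    ∃ K : Subring F, ζ + ζ⁻¹ ∈ K ∧ Nat.card P * Nat.card K ≤ Nat.card F * Nat.card F := by
  let π' : P →* Multiplicative F := MonoidHom.mk' (fun u => Multiplicative.ofAdd (π u)) fun u v => by
    rw [hm, ofAdd_add]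
  have hi : ∀ u, π u⁻¹ = -π u := fun u => congrArg Multiplicative.toAdd (map_inv π' u)
  have h1 : ∀ u v, π ⁅u, v⁆ = 0 := fun u v => by
    rw [commutatorElement_def, hm, hm, hm, hi, hi]; ring
  have hl : ∀ u u' v : P, π u = π u' → ⁅u, v⁆ = ⁅u', v⁆ := fun u u' v e => by
    have h2 : ⁅u⁻¹ * u', v⁆ = 1 := commutatorElement_eq_one_iff_mul_comm.2
      (mem_center_iff.1 (hz _ (by rw [hm, hi, ← e, neg_add_cancel])) v).symm
    have := comm_mul_left_of_central (a := u) (b := u⁻¹ * u') (c := v) (h2 ▸ one_mem _)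
    rw [h2, mul_one, mul_inv_cancel_left] at this
    exact this.symm
  have hb : ∀ u u' v v' : P, π u = π u' → π v = π v' → ⁅u, v⁆ = ⁅u', v'⁆ := fun u u' v v' e e' => by
    rw [hl u u' v e, ← commutatorElement_inv, hl v v' u' e', commutatorElement_inv]
  choose s hs using hs
  have hinv : ∀ a b, ⁅s (ζ * a), s (ζ * b)⁆ = ⁅s a, s b⁆ := fun a b => by
    rw [hb _ (c (s a)) _ (c (s b)) (by rw [hc, hs, hs]) (by rw [hc, hs, hs]), ← map_commutatorElement, hcz _ (h1 _ _)]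
  have hinv' : ∀ (n : ℕ) a b, ⁅s (ζ ^ n * a), s (ζ ^ n * b)⁆ = ⁅s a, s b⁆ := fun n a b => by
    induction n with
    | zero => simp
    | succ n ih => rw [pow_succ', mul_assoc, mul_assoc, hinv, ih]
  let γ : Multiplicative F →* P := MonoidHom.mk' (fun t => ⁅s 1, s t.toAdd⁆) fun a b => by
    rw [← comm_mul_right_of_central (hz _ (h1 _ _))]
    exact hb _ _ _ _ rfl (by rw [hm, hs, hs, hs, toAdd_mul])
  have hN : γ.range.Normal := normal_of_le_center' (by rintro _ ⟨t, rfl⟩; exact hz _ (h1 _ _))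
  let A : AddSubgroup F :=
    { carrier := {a | ∀ b, ⁅s a, s b⁆ ∈ γ.range}
      add_mem' := fun {a a'} ha ha' b => by
        rw [hl _ (s a * s a') _ (by rw [hm, hs, hs, hs]), comm_mul_left_of_central (hz _ (h1 _ _))]
        exact mul_mem (ha b) (ha' b)
      zero_mem' := fun b => by
        rw [commutatorElement_eq_one_iff_mul_comm.2 (mem_center_iff.1 (hz _ (hs 0)) _).symm]
        exact one_mem _
      neg_mem' := fun {a} ha b => by
        have h2 := comm_mul_left_of_central (a := s a) (b := s (-a)) (c := s b) (hz _ (h1 _ _))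
        rw [commutatorElement_eq_one_iff_mul_comm.2
          (mem_center_iff.1 (hz _ (by rw [hm, hs, hs, add_neg_cancel])) _).symm] at h2
        rw [eq_inv_of_mul_eq_one_right h2.symm]
        exact inv_mem (ha b) }
  have hA : A = ⊤ := addSubgroup_eq_top hR A (fun a ha b => by
    rw [← mul_inv_cancel_left₀ h0 b, hinv]
    exact ha _) (t := 1) (fun b => ⟨Multiplicative.ofAdd b, rfl⟩) one_ne_zero
  have hQ : ∀ u v : P, (u : P ⧸ γ.range) * v = v * u := fun u v => by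
    rw [← commutatorElement_eq_one_iff_mul_comm]
    refine (map_commutatorElement (QuotientGroup.mk' γ.range) u v).symm.trans ((QuotientGroup.eq_one_iff _).2 ?_)
    rw [hb u (s (π u)) v (s (π v)) (hs _).symm (hs _).symm]
    exact hA.ge (AddSubgroup.mem_top _) _
  let δ : P →* P ⧸ γ.range := MonoidHom.mk' (fun u => (u * (c u)⁻¹ : P)) fun u v => by
    have := hQ (v * (c v)⁻¹) (c u)⁻¹
    simp only [map_mul, mul_inv_rev, QuotientGroup.mk_mul, mul_assoc] at this ⊢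
    rw [this]
  have hδ : δ.range = ⊤ := by
    have := gen (δ.range.comap (QuotientGroup.mk' _)) fun u => ⟨u, rfl⟩
    exact eq_top_iff.2 fun g _ => by
      obtain ⟨u, rfl⟩ := QuotientGroup.mk'_surjective _ g
      exact this.ge (mem_top u)
  have c1 : Nat.card δ.ker = Nat.card γ.range := by
    have e1 := δ.ker.card_mul_index
    rw [index_ker, hδ, card_top, ← γ.range.card_mul_index] at e1
    exact Nat.eq_of_mul_eq_mul_right Nat.card_pos e1
  have c2 : Nat.card π'.ker ≤ Nat.card δ.ker := card_le_of_le fun u hu => by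
    change ((u * (c u)⁻¹ : P) : P ⧸ γ.range) = 1
    rw [hcz u (congrArg Multiplicative.toAdd hu), mul_inv_cancel, QuotientGroup.mk_one]
  have c3 : Nat.card π'.ker * Nat.card F = Nat.card P := by
    rw [← π'.ker.card_mul_index, index_ker, MonoidHom.range_eq_top.2 fun t => ⟨s t.toAdd, congrArg Multiplicative.ofAdd (hs _)⟩,
      card_top]
    rfl
  let U := AddSubgroup.closure ({1} ∪ {t : F | ∃ i j : ℕ, t = ζ ^ i * ζ⁻¹ ^ j + ζ ^ j * ζ⁻¹ ^ i})
  have hU : U ≤ γ.ker.toAddSubgroup' := by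
    refine (AddSubgroup.closure_le _).2 ?_
    rintro _ (rfl | ⟨i, j, rfl⟩)
    · exact commutatorElement_self _
    · change γ (Multiplicative.ofAdd _) = 1
      rw [ofAdd_add, map_mul]
      change ⁅s 1, s (ζ ^ i * ζ⁻¹ ^ j)⁆ * ⁅s 1, s (ζ ^ j * ζ⁻¹ ^ i)⁆ = 1
      rw [← hinv' j 1 (ζ ^ i * _), ← hinv' i 1 (ζ ^ j * _), show ζ ^ j * (ζ ^ i * ζ⁻¹ ^ j) = ζ ^ i * 1 by
        rw [inv_pow]; field_simp, show ζ ^ i * (ζ ^ j * ζ⁻¹ ^ i) = ζ ^ j * 1 by rw [inv_pow]; field_simp,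
        ← commutatorElement_inv, inv_mul_cancel]
  let K : Subring F :=
    { carrier := {c | ∀ t ∈ U, c * t ∈ U}
      mul_mem' := fun {c d} hc hd t ht => by rw [mul_assoc]; exact hc _ (hd t ht)
      one_mem' := fun t ht => by rwa [one_mul]
      add_mem' := fun {c d} hc hd t ht => by rw [add_mul]; exact add_mem (hc t ht) (hd t ht)
      zero_mem' := fun t _ => by rw [zero_mul]; exact zero_mem U
      neg_mem' := fun {c} hc t ht => by rw [neg_mul]; exact neg_mem (hc t ht) }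
  refine ⟨K, fun t ht => ?_, ?_⟩
  · induction ht using AddSubgroup.closure_induction with
    | mem x hx =>
      rcases hx with rfl | ⟨i, j, rfl⟩
      · exact AddSubgroup.subset_closure (Or.inr ⟨1, 0, by simp⟩)
      · convert add_mem (AddSubgroup.subset_closure (Or.inr ⟨i + 1, j, rfl⟩) : _ ∈ U)
          (AddSubgroup.subset_closure (Or.inr ⟨i, j + 1, rfl⟩) : _ ∈ U) using 1
        ring
    | zero => rw [mul_zero]; exact zero_mem _
    | add x y _ _ hx hy => rw [mul_add]; exact add_mem hx hy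
    | neg x _ hx => rw [mul_neg]; exact neg_mem hx
  · have c4 : Nat.card K ≤ Nat.card γ.ker := Nat.card_le_card_of_injective
      (fun c => ⟨Multiplicative.ofAdd c.1, hU (mul_one c.1 ▸ c.2 1 (AddSubgroup.subset_closure (Or.inl rfl)))⟩)
      fun a b e => Subtype.ext (congrArg (fun t : γ.ker => t.1.toAdd) e)
    have c5 : Nat.card γ.ker * Nat.card γ.range = Nat.card F := by
      rw [← index_ker, card_mul_index]; rfl
    rw [← c3, mul_right_comm]
    refine Nat.mul_le_mul_right _ ?_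
    rw [← c5, mul_comm, ← c1]
    exact Nat.mul_le_mul c4 c2

theorem le_pow_of_bound [Finite F] [hp : Fact p.Prime] (hR : ∀ R : Subring F, ζ ∈ R → R = ⊤) (h0 : ζ ≠ 0) {a n : ℕ}
    (hF : Nat.card F = p ^ a) {K : Subring F} (hK : ζ + ζ⁻¹ ∈ K) (h : n * Nat.card K ≤ Nat.card F * Nat.card F) :
    n ≤ p ^ (if a % 2 = 1 then a else 3 * a / 2) := by
  rcases subring_top_or hR h0 K hK with rfl | e
  · rw [Nat.card_congr Subring.topEquiv.toEquiv] at h
    refine (Nat.le_of_mul_le_mul_right h Nat.card_pos).trans (hF ▸ Nat.pow_le_pow_right hp.out.pos ?_)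
    split_ifs <;> omega
  · obtain ⟨m, -, hm⟩ := card_subring hF K
    rw [hF, hm, ← pow_add] at e
    obtain rfl := Nat.pow_right_injective hp.out.two_le e
    rw [hF, hm, ← pow_add, show m + m + (m + m) = 3 * m + m by ring, pow_add] at h
    rw [if_neg (by omega), show 3 * (m + m) / 2 = 3 * m by omega]
    exact Nat.le_of_mul_le_mul_right h (pow_pos hp.out.pos _)

variable {W : Type*} [Group W] {P : Subgroup W} {y : W} {π : W → F}

/-- a `p`-group with a coordinate map to `F` with central kernel, and a `q`-element acting as `ζ` -/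
structure Pre (p q r : ℕ) (ζ : F) (P : Subgroup W) (y : W) (π : W → F) : Prop where
  pg : IsPGroup p P
  ord : orderOf y = q ^ r
  nrm : ∀ u ∈ P, y * u * y⁻¹ ∈ P
  mul : ∀ u ∈ P, ∀ v ∈ P, π (u * v) = π u + π v
  sur : ∀ t, ∃ u ∈ P, π u = t
  cen : ∀ u ∈ P, π u = 0 → (∀ v ∈ P, v * u = u * v) ∧ y * u = u * y
  act : ∀ u ∈ P, π (y * u * y⁻¹) = ζ * π u
  pw : ∀ u ∈ P, y ^ q * u = u * y ^ q

structure Co (p q r : ℕ) (ζ : F) (P : Subgroup W) (y : W) (π : W → F) : Prop extends Pre p q r ζ P y π where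
  gen : ∀ N : Subgroup W, (∀ u ∈ P, ⁅u, y⁆ ∈ N) → P ≤ N

theorem Pre.one (h : Pre p q r ζ P y π) : π 1 = 0 := by
  have := h.mul 1 (one_mem _) 1 (one_mem _)
  rwa [one_mul, left_eq_add] at this

theorem Pre.inv (h : Pre p q r ζ P y π) {u : W} (hu : u ∈ P) : π u⁻¹ = -π u := by
  rw [eq_neg_iff_add_eq_zero, ← h.mul _ (inv_mem hu) _ hu, inv_mul_cancel, h.one]

theorem comm_eq (u y : W) : ⁅u, y⁆ = u * (y * u⁻¹ * y⁻¹) := by
  simp [commutatorElement_def, mul_assoc]

theorem Pre.comm_mem (h : Pre p q r ζ P y π) {u : W} (hu : u ∈ P) : ⁅u, y⁆ ∈ P :=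
  comm_eq u y ▸ mul_mem hu (h.nrm _ (inv_mem hu))

theorem Pre.comm_congr (h : Pre p q r ζ P y π) {u v : W} (hu : u ∈ P) (hv : v ∈ P) (e : π u = π v) :
    ⁅u, y⁆ = ⁅v, y⁆ := by
  have h1 := (h.cen _ (mul_mem (inv_mem hu) hv) (by rw [h.mul _ (inv_mem hu) _ hv, h.inv hu, e, neg_add_cancel])).2
  have h2 : v * y * v⁻¹ = u * y * u⁻¹ := by
    rw [show v * y * v⁻¹ = u * (u⁻¹ * v * y) * v⁻¹ by group, ← h1]; group
  rw [commutatorElement_def, commutatorElement_def, h2]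

theorem Pre.mem_normalizer [Finite W] (h : Pre p q r ζ P y π) : y ∈ normalizer (P : Set W) :=
  mem_normalizer_fintype h.nrm

theorem Pre.act_pow (h : Pre p q r ζ P y π) (n : ℕ) {u : W} (hu : u ∈ P) :
    y ^ n * u * (y ^ n)⁻¹ ∈ P ∧ π (y ^ n * u * (y ^ n)⁻¹) = ζ ^ n * π u := by
  induction n with
  | zero => simpa using hu
  | succ n ih =>
    rw [show y ^ (n + 1) * u * (y ^ (n + 1))⁻¹ = y * (y ^ n * u * (y ^ n)⁻¹) * y⁻¹ by rw [pow_succ']; group]
    exact ⟨h.nrm _ ih.1, by rw [h.act _ ih.1, ih.2, pow_succ', mul_assoc]⟩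

theorem Pre.co (h : Pre p q r ζ P y π) (h1 : ζ ≠ 1) :
    closure {g | ∃ u ∈ P, ⁅u, y⁆ = g} ≤ P ∧ Co p q r ζ (closure {g | ∃ u ∈ P, ⁅u, y⁆ = g}) y π := by
  have hle : closure {g | ∃ u ∈ P, ⁅u, y⁆ = g} ≤ P := (closure_le _).2 (by rintro _ ⟨u, hu, rfl⟩; exact h.comm_mem hu)
  have hs : ∀ t, ∃ u ∈ closure {g | ∃ u ∈ P, ⁅u, y⁆ = g}, π u = t := fun t => by
    obtain ⟨u, hu, e⟩ := h.sur (t / (1 - ζ))
    refine ⟨_, subset_closure ⟨u, hu, rfl⟩, ?_⟩
    rw [comm_eq, h.mul _ hu _ (h.nrm _ (inv_mem hu)), h.act _ (inv_mem hu), h.inv hu, e]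
    have := sub_ne_zero.2 h1.symm
    field_simp
    ring
  refine ⟨hle, ⟨h.pg.to_le hle, h.ord, fun u hu => ?_, fun u hu v hv => h.mul u (hle hu) v (hle hv), hs,
    fun u hu e => ⟨fun v hv => (h.cen u (hle hu) e).1 v (hle hv), (h.cen u (hle hu) e).2⟩,
    fun u hu => h.act u (hle hu), fun u hu => h.pw u (hle hu)⟩, fun N hN => (closure_le _).2 ?_⟩
  · refine (closure_le ((Subgroup.closure _).comap (MulAut.conj y).toMonoidHom)).2 ?_ hu
    rintro _ ⟨u, hu, rfl⟩
    exact subset_closure ⟨_, h.nrm u hu, by simp [commutatorElement_def, mul_assoc]⟩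
  · rintro _ ⟨u, hu, rfl⟩
    obtain ⟨v, hv, e⟩ := hs (π u)
    rw [← h.comm_congr (hle hv) hu e]
    exact hN v hv

theorem Co.comap (h : Co p q r ζ P y π) {G : Type*} [Group G] {ι : G →* W} (hι : Function.Injective ι) {y' : G}
    (hy : ι y' = y) (hP : P ≤ ι.range) : Co p q r ζ (P.comap ι) y' (π ∘ ι) := by
  subst hy
  refine ⟨⟨h.pg.comap_of_injective _ hι, (orderOf_injective _ hι _).symm.trans h.ord, fun u hu => ?_,
    fun u hu v hv => ?_, fun t => ?_, fun u hu e => ⟨fun v hv => hι ?_, hι ?_⟩, fun u hu => ?_, fun u hu => hι ?_⟩,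
    fun N hN u hu => ?_⟩
  · simpa using h.nrm _ hu
  · simpa using h.mul _ hu _ hv
  · obtain ⟨u, hu, e⟩ := h.sur t
    obtain ⟨v, rfl⟩ := hP hu
    exact ⟨v, hu, e⟩
  · simpa using (h.cen _ hu e).1 _ hv
  · simpa using (h.cen _ hu e).2
  · simpa using h.act _ hu
  · simpa using h.pw _ hu
  · obtain ⟨v, hv, e⟩ := h.gen (N.map ι) (fun u hu => by
      obtain ⟨v, rfl⟩ := hP hu
      exact ⟨_, hN v hu, map_commutatorElement _ _ _⟩) hu
    exact hι e ▸ hv

theorem Co.card_le [Finite W] [Finite F] [Fact p.Prime] (h : Co p q r ζ P y π) (hR : ∀ R : Subring F, ζ ∈ R → R = ⊤)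
    (h0 : ζ ≠ 0) {a : ℕ} (hF : Nat.card F = p ^ a) : Nat.card P ≤ p ^ (if a % 2 = 1 then a else 3 * a / 2) := by
  obtain ⟨K, hK, h1⟩ := bound hR h0 (fun u : P => π u) (fun u v => h.mul _ u.2 _ v.2)
    (fun t => by obtain ⟨u, hu, e⟩ := h.sur t; exact ⟨⟨u, hu⟩, e⟩)
    (fun u e => mem_center_iff.2 fun v => Subtype.ext ((h.cen _ u.2 e).1 _ v.2))
    (((MulAut.conj y).toMonoidHom.comp P.subtype).codRestrict P fun u => h.nrm _ u.2) (fun u => h.act _ u.2)
    (fun u e => Subtype.ext (mul_inv_eq_iff_eq_mul.2 (h.cen _ u.2 e).2)) fun N hN => eq_top_iff.2 fun u _ => by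
      obtain ⟨v, hv, e⟩ := h.gen (N.map P.subtype) (fun v hv => ⟨_, hN ⟨v, hv⟩, by
        simp [commutatorElement_def, mul_assoc]⟩) u.2
      exact Subtype.ext e ▸ hv
  exact le_pow_of_bound hR h0 hF hK h1

theorem Pre.coprime [Finite W] [hp : Fact p.Prime] [hq : Fact q.Prime] (h : Pre p q r ζ P y π) (hpq : p ≠ q) :
    (Nat.card P).Coprime (Nat.card (zpowers y)) := by
  obtain ⟨n, hn⟩ := IsPGroup.iff_card.1 h.pg
  rw [hn, Nat.card_zpowers, h.ord]
  exact Nat.Coprime.pow _ _ ((Nat.coprime_primes hp.out hq.out).2 hpq)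

theorem Pre.card_sup [Finite W] [Fact p.Prime] [Fact q.Prime] (h : Pre p q r ζ P y π) (hpq : p ≠ q) :
    Nat.card (P ⊔ zpowers y : Subgroup W) = Nat.card P * q ^ r := by
  rw [card_sup_of_coprime (zpowers_le.2 h.mem_normalizer) (h.coprime hpq), Nat.card_zpowers, h.ord]

theorem Pre.decomp [Finite W] (h : Pre p q r ζ P y π) {g : W} (hg : g ∈ P ⊔ zpowers y) :
    ∃ u ∈ P, ∃ j : ℕ, g = u * y ^ j := by
  rw [← SetLike.mem_coe, coe_mul_of_right_le_normalizer_left _ _ (zpowers_le.2 h.mem_normalizer)] at hg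
  obtain ⟨u, hu, v, hv, rfl⟩ := hg
  obtain ⟨j, rfl⟩ := mem_powers_iff_mem_zpowers.2 hv
  exact ⟨u, hu, j, rfl⟩

theorem mem_center_of_top (top : P ⊔ zpowers y = ⊤) {u : W} (h1 : ∀ v ∈ P, v * u = u * v) (h2 : y * u = u * y) :
    u ∈ center W :=
  mem_center_iff.2 fun g => mem_centralizer_singleton_iff.1 ((top.ge.trans (sup_le
    (fun v hv => mem_centralizer_singleton_iff.2 (h1 v hv)) (zpowers_le.2 (mem_centralizer_singleton_iff.2 h2))))
    (mem_top g))

/-- a group with coordinates is minimal non-`p`-nilpotent -/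
theorem Co.minimal [Finite W] [hp : Fact p.Prime] [hq : Fact q.Prime] (h : Co p q r ζ P y π) (hpq : p ≠ q)
    (hζ : IsPrimitiveRoot ζ q) (hR : ∀ R : Subring F, ζ ∈ R → R = ⊤) (top : P ⊔ zpowers y = ⊤) :
    ¬ HasNormalPComplement p W ∧ ∀ K : Subgroup W, K ≠ ⊤ → HasNormalPComplement p K := by
  have hco : (orderOf y).Coprime p := h.ord ▸ ((Nat.coprime_primes hq.out hp.out).2 hpq.symm).pow_left r
  have hn : P.Normal := normalizer_eq_top_iff.1 (eq_top_iff.2 (top ▸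
    sup_le le_normalizer (zpowers_le.2 h.mem_normalizer)))
  have hz : ∀ u ∈ P, π u = 0 → u ∈ center W := fun u hu e => mem_center_of_top top (h.cen u hu e).1 (h.cen u hu e).2
  refine ⟨fun hc => ?_, fun K hK => ?_⟩
  · obtain ⟨u, hu, e⟩ := h.sur 1
    have h1 := mem_centralizer_of_normalizer_hasNormalPComplement h.pg le_top (HasNormalPComplement.subgroup hc ⊤)
      (mem_top y) h.mem_normalizer hco u hu
    have h2 := h.act u hu
    rw [← h1, mul_inv_cancel_right, e, mul_one] at h2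
    exact hζ.ne_one hq.out.one_lt h2.symm
  suffices Group.IsNilpotent K from hasNormalPComplement_of_isNilpotent
  have hyq : y ^ q ∈ center W := mem_center_of_top top (fun v hv => (h.pw v hv).symm) (Commute.self_pow y q).eq
  by_cases hc : ∀ g ∈ K, ∀ u ∈ P, ∀ j : ℕ, g = u * y ^ j → q ∣ j
  · have := normal_of_le_center' (zpowers_le.2 hyq)
    have h1 : ∀ g : K, ((QuotientGroup.mk' (zpowers (y ^ q))).comp K.subtype) g ∈ P.map (QuotientGroup.mk' _) :=
      fun g => by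
        obtain ⟨u, hu, j, e⟩ := h.decomp (top.ge (mem_top g.1))
        obtain ⟨i, rfl⟩ := hc _ g.2 u hu j e
        refine ⟨u, hu, QuotientGroup.eq.2 ?_⟩
        change u⁻¹ * (g : W) ∈ _
        rw [e, inv_mul_cancel_left, pow_mul]
        exact pow_mem (mem_zpowers _) _
    have := (h.pg.map (QuotientGroup.mk' (zpowers (y ^ q)))).isNilpotent
    refine Subgroup.isNilpotent_of_ker_le_center (MonoidHom.codRestrict _ _ h1) fun g hg => ?_
    have h2 : (g : W) ∈ center W := zpowers_le.2 hyq ((QuotientGroup.eq_one_iff _).1 (congrArg Subtype.val hg))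
    exact mem_center_iff.2 fun x => Subtype.ext (mem_center_iff.1 h2 x)
  push Not at hc
  obtain ⟨g, hg, u, hu, j, rfl, hj⟩ := hc
  by_cases hA : ∀ v ∈ P, v ∈ K → π v = 0
  · have := isCyclic_quotient_of_sup_zpowers top
    have : Group.IsNilpotent (W ⧸ P) := isNilpotent_of_isMulCommutative inferInstance
    refine Subgroup.isNilpotent_of_ker_le_center ((QuotientGroup.mk' P).comp K.subtype) fun g hg => ?_
    exact mem_center_iff.2 fun x => Subtype.ext
      (mem_center_iff.1 (hz _ ((QuotientGroup.eq_one_iff _).1 hg) (hA _ ((QuotientGroup.eq_one_iff _).1 hg) g.2)) x)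
  exfalso
  push Not at hA
  obtain ⟨w, hw, hwK, hw0⟩ := hA
  let A : AddSubgroup F :=
    { carrier := {t | ∃ v ∈ P, v ∈ K ∧ π v = t}
      add_mem' := by
        rintro _ _ ⟨v, hv, hv', rfl⟩ ⟨v', hw, hw', rfl⟩
        exact ⟨_, mul_mem hv hw, mul_mem hv' hw', h.mul _ hv _ hw⟩
      zero_mem' := ⟨1, one_mem _, one_mem _, h.one⟩
      neg_mem' := by
        rintro _ ⟨v, hv, hv', rfl⟩
        exact ⟨_, inv_mem hv, inv_mem hv', h.inv hv⟩ }
  have hjq : j.Coprime q := ((Nat.Prime.coprime_iff_not_dvd hq.out).2 hj).symm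
  have hA : A = ⊤ := addSubgroup_eq_top (ζ := ζ ^ j) (fun R hj => by
    obtain ⟨i, -, hi⟩ := (hζ.pow_of_coprime j hjq).eq_pow_of_pow_eq_one hζ.pow_eq_one
    exact hR R (hi ▸ R.pow_mem hj i)) A (by
      rintro _ ⟨v, hv, hv', rfl⟩
      obtain ⟨h1, h2⟩ := h.act_pow j hv
      refine ⟨u * y ^ j * v * (u * y ^ j)⁻¹, hn.conj_mem _ hv _, mul_mem (mul_mem hg hv') (inv_mem hg), ?_⟩
      rw [show u * y ^ j * v * (u * y ^ j)⁻¹ = u * (y ^ j * v * (y ^ j)⁻¹) * u⁻¹ by group,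
        h.mul _ (mul_mem hu h1) _ (inv_mem hu), h.mul _ hu _ h1, h2, h.inv hu]
      ring) ⟨w, hw, hwK, rfl⟩ hw0
  obtain ⟨v, hv, hvK, e⟩ := hA.ge (AddSubgroup.mem_top (π u))
  have hc := hz _ (mul_mem (inv_mem hv) hu) (by rw [h.mul _ (inv_mem hv) _ hu, h.inv hv, e, neg_add_cancel])
  obtain ⟨n, hn'⟩ := h.pg ⟨_, mul_mem (inv_mem hv) hu⟩
  have h1 : y ^ (j * p ^ n) ∈ K := by
    have := pow_mem (mul_mem (inv_mem hvK) hg) (p ^ n)
    rwa [← mul_assoc, Commute.mul_pow (mem_center_iff.1 hc _).symm, show (v⁻¹ * u) ^ p ^ n = 1 from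
      congrArg Subtype.val hn', one_mul, ← pow_mul] at this
  have hy : y ∈ K := zpowers_le.2 h1 (mem_zpowers_pow_iff.2 (Nat.Coprime.mul_left
    (h.ord ▸ hjq.pow_right r) (hco.symm.pow_left n)))
  refine hK (eq_top_iff.2 (top.ge.trans (sup_le (h.gen K fun u hu => ?_) (zpowers_le.2 hy))))
  obtain ⟨v, hv, hvK, e⟩ := hA.ge (AddSubgroup.mem_top (π u))
  rw [← h.comm_congr hv hu e]
  exact mul_mem (mul_mem (mul_mem hvK hy) (inv_mem hvK)) (inv_mem hy)

end CL.Golf
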