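/-
The universal minimal non-`p`-nilpotent group: coordinates, model and universality.
-/
import Cfsg.Agent.Fgs.Golf2
import Cfsg.Agent.Grp.PGroupFrattini
import Cfsg.Agent.Loc.ElemAb
import Cfsg.Agent.Grp.Frattini
import Cfsg.Agent.Grp.PGroupCyc

set_option autoImplicit false

universe u

namespace CL.Golf

open Subgroup CL.Grp CL.Loc Cfsg
open scoped commutatorElement

variable {F : Type*} [Field F] {ζ : F} {p q r : ℕ}

/-- a minimal non-`p`-nilpotent group has coordinates -/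
theorem exists_co [hp : Fact p.Prime] [hq : Fact q.Prime] [Algebra (ZMod p) F] (hpq : p ≠ q)
    (hζ : IsPrimitiveRoot ζ q) (hR : ∀ R : Subring F, ζ ∈ R → R = ⊤) {X : Type*} [Group X] [Finite X]
    (h1 : ¬ HasNormalPComplement p X) (h2 : ∀ K : Subgroup X, K ≠ ⊤ → HasNormalPComplement p K) {t : ℕ}
    (hX : Nat.card X = p ^ t * q ^ r) :
    ∃ (P : Subgroup X) (y : X) (π : X → F), Pre p q r ζ P y π ∧ P ⊔ zpowers y = ⊤ ∧
      ∀ N : Subgroup X, N.Normal → (∀ u ∈ P, ⁅u, y⁆ ∈ N) → P ≤ N := by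
  classical
  have hM : IsMinimalNonNilpotent X := ⟨fun _ => h1 hasNormalPComplement_of_isNilpotent,
    isNilpotent_of_minimal_not_hasNormalPComplement h1 h2⟩
  obtain ⟨S, q', k, g, hq', hqp, hg, hn, -, hgC⟩ := exists_of_minimal_not_hasNormalPComplement h1 h2
  have hQ := S.2
  replace hgC : g ∉ centralizer ((S : Subgroup X) : Set X) := hgC
  generalize (S : Subgroup X) = Q at *
  obtain ⟨j, hh, hhr⟩ := exists_pow_notMem_pow_prime_mem (p := q') (k := k)
    (by rw [← hg, pow_orderOf_eq_one]; exact one_mem _) hgC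
  obtain ⟨l, -, hl⟩ := (Nat.dvd_prime_pow hq').1 (hg ▸ orderOf_pow_dvd (x := g) (q' ^ j))
  generalize g ^ q' ^ j = h at *
  have hsup : ∀ h : X, (orderOf h).Coprime p → h ∉ centralizer (Q : Set X) → Q ⊔ zpowers h = ⊤ := fun h hco hh => by
    by_contra e
    exact hh (mem_centralizer_of_normalizer_hasNormalPComplement hQ (le_sup_left : Q ≤ Q ⊔ zpowers h)
      (h2 _ e) (mem_sup_right (mem_zpowers h)) (by rw [normalizer_eq_top]; trivial) hco)
  have hco : (orderOf h).Coprime p := hl ▸ ((Nat.coprime_primes hq' hp.out).2 hqp).pow_left l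
  have htop := hsup h hco hh
  obtain ⟨m, hm⟩ := IsPGroup.iff_card.1 hQ
  have hc := card_sup_of_coprime (N := Q) (H := zpowers h) (by rw [normalizer_eq_top]; exact le_top)
    (by rw [hm, Nat.card_zpowers]; exact hco.symm.pow_left m)
  rw [htop, card_top, hX, hm, Nat.card_zpowers, hl] at hc
  have hl0 : l ≠ 0 := by
    rintro rfl
    exact hh (orderOf_eq_one_iff.1 hl ▸ one_mem _)
  obtain rfl : q = q' := by
    rcases (Nat.Prime.dvd_mul hq').1 (hc ▸ Dvd.dvd.mul_left (dvd_pow_self q' hl0) _) with e | e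
    · exact absurd ((Nat.prime_dvd_prime_iff_eq hq' hp.out).1 (hq'.dvd_of_dvd_pow e)) hqp
    · exact ((Nat.prime_dvd_prime_iff_eq hq' hq.out).1 (hq'.dvd_of_dvd_pow e)).symm
  obtain rfl : r = l := by
    have hc2 : ∀ a b : ℕ, (q ^ a).Coprime (p ^ b) := fun a b => Nat.Coprime.pow _ _
      ((Nat.coprime_primes hq' hp.out).2 hqp)
    exact Nat.pow_right_injective hq'.two_le (Nat.dvd_antisymm
      ((hc2 r m).dvd_of_dvd_mul_left (hc ▸ dvd_mul_left _ _)) ((hc2 l t).dvd_of_dvd_mul_left (hc.symm ▸ dvd_mul_left _ _)))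
  have hB : ∀ h : X, (orderOf h).Coprime p → h ∉ centralizer (Q : Set X) → ∀ N : Subgroup X, N.Normal →
      (∀ x ∈ Q, ⁅x, h⁆ ∈ N) → Q ≤ N := fun h hco hh N _ hN => by
    by_contra e
    exact IsMinimalNonNilpotent.not_forall_commutator_mem hM hQ (inf_lt_left.2 e) hco hh
      fun x hx => ⟨commutatorElement_mem_of_normal_left hx h, hN x hx⟩
  have hA : ∀ N : Subgroup X, N.Normal → N ≤ Q → ¬ Q ≤ N → N ≤ center X := fun N _ h1 h2 z hz => by
    have h3 := IsMinimalNonNilpotent.mem_centralizer_of_lt hM hQ (lt_of_le_not_ge h1 h2) hco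
    exact mem_center_of_top htop (fun v hv => (hB h hco hh _ inferInstance
      (fun x _ => commutatorElement_mem_of_normal_right x h3) hv z hz).symm) (h3 z hz).symm
  have hQZ : ¬ Q ≤ center X := fun e => hh fun x hx => (mem_center_iff.1 (e hx) h).symm
  have := (nontrivial_iff_ne_bot Q).2 fun e => hQZ (e ▸ bot_le)
  obtain ⟨c1, c2⟩ := (map_subtype_frattini_le_iff hQ).1 (hA ((frattini Q).map Q.subtype) inferInstance
    (map_subtype_le _) fun e => frattini_ne_top Q (eq_top_iff.2 fun x _ => by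
      obtain ⟨y, hy, e'⟩ := e x.2
      exact Subtype.ext e' ▸ hy))
  let f := QuotientGroup.mk' (center X)
  have hf : ∀ x, f x = 1 ↔ x ∈ center X := QuotientGroup.eq_one_iff
  have hV : IsElementaryAbelian p (Q.map f) := ea_iff.2 ⟨by
    rintro _ ⟨a, ha, rfl⟩ _ ⟨b, hb, rfl⟩
    rw [← commutatorElement_eq_one_iff_mul_comm, ← map_commutatorElement, hf]
    exact c1 (commutator_mem_commutator ha hb), by
    rintro _ ⟨a, ha, rfl⟩
    rw [← map_pow, hf]
    exact c2 a ha⟩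
  have hVn : (Q.map f).Normal := hn.map f (QuotientGroup.mk'_surjective _)
  have hx : f h ∈ normalizer ((Q.map f : Subgroup _) : Set (X ⧸ center X)) := by rw [normalizer_eq_top]; trivial
  obtain ⟨β, i, hβ, hi, hβc⟩ := exists_coord hζ hR (φ := (conjRep hV ⟨f h, hx⟩).toLinearMap) (by
    have : conjRep hV ⟨f h, hx⟩ ^ q = 1 := by
      rw [← map_pow, conjRep_eq_one_iff]
      rintro _ ⟨a, ha, rfl⟩
      change f a * f h ^ q = f h ^ q * f a
      simpa using congrArg f (hhr a ha)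
    exact (map_pow LinearEquiv.automorphismGroup.toLinearMapMonoidHom _ q).symm.trans (by rw [this, map_one]))
    (fun e => hQZ (hB h hco hh _ inferInstance fun a ha => by
      rw [← hf, map_commutatorElement, commutatorElement_eq_one_iff_mul_comm]
      exact (conjRep_eq_one_iff hV ⟨f h, hx⟩).1 (LinearEquiv.toLinearMap_injective e) _ (mem_map_of_mem f ha)))
    fun W hW => by
      have hN : (Q ⊓ (EAMod.grp W).comap f).Normal := normalizer_eq_top_iff.1 (eq_top_iff.2 (htop.ge.trans (sup_le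
        (fun x hx => mem_normalizer_fintype fun n hn' => ⟨hn.conj_mem _ hn'.1 _, by
          have : f n ∈ EAMod.grp W := hn'.2
          change f _ ∈ EAMod.grp W
          rwa [map_mul, map_mul, ea_mul_comm hV (mem_map_of_mem f hx) (mem_map_of_mem f hn'.1), map_inv,
            mul_inv_cancel_right]⟩)
        (zpowers_le.2 (mem_normalizer_fintype fun n hn' => ⟨hn.conj_mem _ hn'.1 _, by
          obtain ⟨w, hw, e⟩ := hn'.2
          exact ⟨_, hW w hw, (val_conjRep hV _ w).trans (by simp [e])⟩⟩)))))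
      by_cases e : Q ≤ Q ⊓ (EAMod.grp W).comap f
      · refine Or.inr (eq_top_iff.2 fun w _ => ?_)
        obtain ⟨a, ha, e'⟩ := EAMod.val_mem hV w
        exact (EAMod.val_mem_grp hV).1 (e' ▸ (e ha).2)
      · refine Or.inl (eq_bot_iff.2 fun w hw => ?_)
        obtain ⟨a, ha, e'⟩ := EAMod.val_mem hV w
        rw [Submodule.mem_bot, ← EAMod.val_eq_one, ← e', hf]
        exact hA _ hN inf_le_left e ⟨ha, w, hw, e'.symm⟩
  let π : X → F := fun u => if hu : u ∈ Q then β (EAMod.mk hV (f u) (mem_map_of_mem f hu)) else 0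
  have hπ : ∀ u (hu : u ∈ Q), π u = β (EAMod.mk hV (f u) (mem_map_of_mem f hu)) := fun u hu => dif_pos hu
  have hiq : i.Coprime q := ((Nat.Prime.coprime_iff_not_dvd hq').2 hi).symm
  have H : Pre p q r (ζ ^ i) Q h π := ⟨hQ, hl, fun u hu => hn.conj_mem u hu h, fun u hu v hv => by
    rw [hπ u hu, hπ v hv, hπ _ (mul_mem hu hv), ← map_add]
    exact congrArg β (EAMod.val_injective hV (map_mul f u v)), fun t => by
    obtain ⟨w, rfl⟩ := hβ.2 t
    obtain ⟨a, ha, e'⟩ := EAMod.val_mem hV w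
    exact ⟨a, ha, (hπ a ha).trans (congrArg β (EAMod.val_injective hV e'))⟩, fun u hu e => by
    have := (hf u).1 ((EAMod.val_eq_one hV).2 (hβ.1 (((hπ u hu).symm.trans e).trans (map_zero β).symm)))
    exact ⟨fun v _ => mem_center_iff.1 this v, mem_center_iff.1 this h⟩, fun u hu => by
    rw [hπ u hu, ← hβc, hπ _ (hn.conj_mem u hu h)]
    exact congrArg β (EAMod.val_injective hV ((val_conjRep hV ⟨f h, hx⟩ _).trans (by simp [EAMod.val_mk])).symm),
    fun u hu => (hhr u hu).symm⟩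
  obtain ⟨n, -, hn'⟩ := (hζ.pow_of_coprime i hiq).eq_pow_of_pow_eq_one hζ.pow_eq_one
  have hnq : n.Coprime q := ((Nat.Prime.coprime_iff_not_dvd hq').2 fun e => hζ.ne_one hq'.one_lt (by
    rw [← hn', ((hζ.pow_of_coprime i hiq).pow_eq_one_iff_dvd n).2 e])).symm
  have ho : orderOf (h ^ n) = orderOf h := (hl ▸ hnq.symm.pow_left r : (orderOf h).Coprime n).orderOf_pow
  have hz : zpowers (h ^ n) = zpowers h := le_antisymm (zpowers_le.2 (pow_mem (mem_zpowers h) n))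
    (zpowers_le.2 (mem_zpowers_pow_iff.2 (hl ▸ hnq.pow_right r)))
  refine ⟨Q, h ^ n, π, ⟨hQ, ho.trans hl, fun u hu => hn.conj_mem u hu _, H.mul, H.sur,
    fun u hu e => ⟨(H.cen u hu e).1, (Commute.pow_left (H.cen u hu e).2 n).eq⟩,
    fun u hu => (H.act_pow n hu).2.trans (by rw [hn']), fun u hu => ?_⟩, hz ▸ htop, hB _ (ho ▸ hco) fun e => hh ?_⟩
  · rw [← pow_mul, mul_comm n, pow_mul]
    exact (Commute.pow_left (H.pw u hu) n).eq
  · exact zpowers_le.2 e (hz.ge (mem_zpowers h))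

/-- universality -/
theorem Co.universal [Finite F] [Fact p.Prime] [hq : Fact q.Prime] (hpq : p ≠ q) (hζ : IsPrimitiveRoot ζ q)
    (hR : ∀ R : Subring F, ζ ∈ R → R = ⊤) {a : ℕ} (hF : Nat.card F = p ^ a)
    {G : Type*} [Group G] [Finite G] {P₀ : Subgroup G} {y₀ : G} {π₀ : G → F} (h₀ : Co p q r ζ P₀ y₀ π₀)
    (top₀ : P₀ ⊔ zpowers y₀ = ⊤) (hc : p ^ (if a % 2 = 1 then a else 3 * a / 2) ≤ Nat.card P₀)
    {X : Type*} [Group X] [Finite X] {P : Subgroup X} {y : X} {π : X → F} (h : Pre p q r ζ P y π)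
    (top : P ⊔ zpowers y = ⊤) (gen : ∀ N : Subgroup X, N.Normal → (∀ u ∈ P, ⁅u, y⁆ ∈ N) → P ≤ N) :
    ∃ φ : G →* X, Function.Surjective φ ∧ φ.ker ≤ center G := by
  let D : Subgroup (G × X) :=
    { carrier := {g | g.1 ∈ P₀ ∧ g.2 ∈ P ∧ π₀ g.1 = π g.2}
      mul_mem' := fun {a b} ha hb => ⟨mul_mem ha.1 hb.1, mul_mem ha.2.1 hb.2.1, by
        rw [Prod.fst_mul, Prod.snd_mul, h₀.mul _ ha.1 _ hb.1, h.mul _ ha.2.1 _ hb.2.1, ha.2.2, hb.2.2]⟩
      one_mem' := ⟨one_mem _, one_mem _, h₀.one.trans h.one.symm⟩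
      inv_mem' := fun {a} ha => ⟨inv_mem ha.1, inv_mem ha.2.1, by
        rw [Prod.fst_inv, Prod.snd_inv, h₀.inv ha.1, h.inv ha.2.1, ha.2.2]⟩ }
  have hD : Pre p q r ζ D (y₀, y) fun g => π₀ g.1 := by
    refine ⟨fun g => ?_, by rw [Prod.orderOf_mk, h₀.ord, h.ord, Nat.lcm_self], fun u hu => ⟨h₀.nrm _ hu.1, h.nrm _ hu.2.1,
      (h₀.act _ hu.1).trans (hu.2.2 ▸ (h.act _ hu.2.1).symm)⟩, fun u hu v hv => h₀.mul _ hu.1 _ hv.1, fun t => ?_,
      fun u hu e => ⟨fun v hv => Prod.ext ((h₀.cen _ hu.1 e).1 _ hv.1) ((h.cen _ hu.2.1 (hu.2.2 ▸ e)).1 _ hv.2.1),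
        Prod.ext (h₀.cen _ hu.1 e).2 (h.cen _ hu.2.1 (hu.2.2 ▸ e)).2⟩, fun u hu => h₀.act _ hu.1,
      fun u hu => Prod.ext (h₀.pw _ hu.1) (h.pw _ hu.2.1)⟩
    · obtain ⟨m, hm⟩ := h₀.pg ⟨_, g.2.1⟩
      obtain ⟨n, hn⟩ := h.pg ⟨_, g.2.2.1⟩
      refine ⟨m + n, Subtype.ext (Prod.ext ?_ ?_)⟩
      · change g.1.1 ^ p ^ (m + n) = 1
        rw [pow_add, pow_mul, show g.1.1 ^ p ^ m = 1 from congrArg Subtype.val hm, one_pow]
      · change g.1.2 ^ p ^ (m + n) = 1
        rw [pow_add, mul_comm, pow_mul, show g.1.2 ^ p ^ n = 1 from congrArg Subtype.val hn, one_pow]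
    · obtain ⟨u, hu, e⟩ := h₀.sur t
      obtain ⟨v, hv, e'⟩ := h.sur t
      exact ⟨(u, v), ⟨hu, hv, e.trans e'.symm⟩, e⟩
  obtain ⟨hle, h₁⟩ := hD.co (hζ.ne_one hq.out.one_lt)
  have hsub : ∀ u ∈ D, ⁅u, (y₀, y)⁆ ∈ Subgroup.closure {g | ∃ u ∈ D, ⁅u, (y₀, y)⁆ = g} := fun u hu =>
    subset_closure ⟨u, hu, rfl⟩
  generalize Subgroup.closure {g | ∃ u ∈ D, ⁅u, (y₀, y)⁆ = g} = P₁ at *
  let Y := P₁ ⊔ zpowers (y₀, y)
  have hy : (y₀, y) ∈ Y := mem_sup_right (mem_zpowers _)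
  let f := (MonoidHom.fst G X).comp Y.subtype
  have hf : Function.Surjective f := MonoidHom.range_eq_top.1 (eq_top_iff.2 (top₀.ge.trans (sup_le
    (h₀.gen _ fun u hu => by
      obtain ⟨v, hv, e⟩ := h.sur (π₀ u)
      exact ⟨⟨_, mem_sup_left (hsub (u, v) ⟨hu, hv, e.symm⟩)⟩, rfl⟩) (zpowers_le.2 ⟨⟨_, hy⟩, rfl⟩))))
  have hb : Function.Bijective f := hf.bijective_of_nat_card_le (by
    rw [h₁.card_sup hpq, ← card_top (G := G), ← top₀, h₀.card_sup hpq]
    exact Nat.mul_le_mul_right _ ((h₁.card_le hR (hζ.ne_zero hq.out.ne_zero) hF).trans hc))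
  let e := MulEquiv.ofBijective f hb
  refine ⟨((MonoidHom.snd G X).comp Y.subtype).comp e.symm.toMonoidHom, ?_, fun g hg => ?_⟩
  · refine Function.Surjective.comp (g := (MonoidHom.snd G X).comp Y.subtype) ?_ e.symm.surjective
    have h3 : P ≤ P₁.map (MonoidHom.snd G X) := by
      have h4 : ∀ u ∈ P, ∃ w ∈ P₁, π w.2 = π u := fun u hu => by
        obtain ⟨w, hw, e⟩ := h₁.sur (π u)
        exact ⟨w, hw, (hle hw).2.2.symm.trans e⟩
      refine gen _ (normalizer_eq_top_iff.1 (eq_top_iff.2 (top.ge.trans (sup_le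
        (fun u hu => mem_normalizer_fintype ?_) (zpowers_le.2 (mem_normalizer_fintype ?_)))))) fun u hu => ?_
      · rintro _ ⟨x, hx, rfl⟩
        obtain ⟨w, hw, e⟩ := h4 u hu
        have h5 := (h.cen _ (mul_mem (inv_mem (hle hw).2.1) hu) (by
          rw [h.mul _ (inv_mem (hle hw).2.1) _ hu, h.inv (hle hw).2.1, e, neg_add_cancel])).1 _ (hle hx).2.1
        refine ⟨_, mul_mem (mul_mem hw hx) (inv_mem hw), ?_⟩
        change w.2 * x.2 * w.2⁻¹ = u * x.2 * u⁻¹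
        rw [show u * x.2 * u⁻¹ = w.2 * (w.2⁻¹ * u * x.2) * u⁻¹ by group, ← h5]
        group
      · rintro _ ⟨x, hx, rfl⟩
        exact ⟨_, h₁.nrm x hx, rfl⟩
      · obtain ⟨v, hv, e⟩ := h₀.sur (π u)
        exact ⟨_, hsub (v, u) ⟨hv, hu, e⟩, rfl⟩
    refine MonoidHom.range_eq_top.1 (eq_top_iff.2 (top.ge.trans (sup_le (fun u hu => ?_)
      (zpowers_le.2 ⟨⟨_, hy⟩, rfl⟩))))
    obtain ⟨w, hw, rfl⟩ := h3 hu
    exact ⟨⟨w, mem_sup_left hw⟩, rfl⟩
  · obtain ⟨g, rfl⟩ := e.surjective g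
    have h3 : g.1.2 = 1 := by simpa using hg
    obtain ⟨u, hu, j, e'⟩ := h₁.decomp g.2
    have h4 : u.2 * y ^ j = 1 := h3 ▸ (congrArg Prod.snd e').symm
    have h5 : y ^ j = 1 := disjoint_def.1 (disjoint_of_coprime_natCard (h.coprime hpq))
      (eq_inv_of_mul_eq_one_right h4 ▸ inv_mem (hle hu).2.1) (pow_mem (mem_zpowers y) j)
    have h6 : y₀ ^ j = 1 := orderOf_dvd_iff_pow_eq_one.1 (h₀.ord ▸ h.ord ▸ orderOf_dvd_of_pow_eq_one h5)
    have h7 : e g = u.1 := (congrArg Prod.fst e').trans (by simp [h6])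
    rw [h5, mul_one] at h4
    have h8 := h₀.cen _ (hle hu).1 ((hle hu).2.2.trans (h4 ▸ h.one))
    exact h7 ▸ mem_center_of_top top₀ h8.1 h8.2

/-- the ambient group of the model -/
@[ext] structure HG (F : Type) (n : ℕ) (e : ZMod n → F) (σ : F → F) : Type u where
  x : F
  z : F
  k : ZMod n

structure Dat {F : Type} [Field F] {n : ℕ} (e : ZMod n → F) (σ : F → F) : Prop where
  e0 : e 0 = 1
  ea : ∀ k l, e (k + l) = e k * e l
  sa : ∀ s t, σ (s + t) = σ s + σ t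
  se : ∀ k t, e k * σ (e k * t) = σ t

section
variable {F : Type} [Field F] {n : ℕ} {e : ZMod n → F} {σ : F → F}

theorem Dat.s0 (h : Dat e σ) : σ 0 = 0 := by
  have := h.sa 0 0
  rwa [add_zero, left_eq_add] at this

instance : Mul (HG.{u} F n e σ) := ⟨fun a b => ⟨a.x + e a.k * b.x, a.z + b.z + a.x * σ (e a.k * b.x), a.k + b.k⟩⟩
instance : One (HG.{u} F n e σ) := ⟨⟨0, 0, 0⟩⟩
instance : Inv (HG.{u} F n e σ) := ⟨fun a => ⟨-(e (-a.k) * a.x), -a.z + a.x * σ a.x, -a.k⟩⟩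

theorem HG.mul_def (a b : HG.{u} F n e σ) :
    a * b = ⟨a.x + e a.k * b.x, a.z + b.z + a.x * σ (e a.k * b.x), a.k + b.k⟩ := rfl

instance [h : Fact (Dat e σ)] : Group (HG.{u} F n e σ) := Group.ofLeftAxioms (fun a b c => by
    refine HG.ext ?_ ?_ (add_assoc _ _ _)
    · simp only [HG.mul_def, h.out.ea]; ring
    · simp only [HG.mul_def, h.out.ea, mul_add, add_mul, h.out.sa, mul_assoc]
      linear_combination b.x * h.out.se a.k (e b.k * c.x))
  (fun a => HG.ext (by change 0 + e 0 * a.x = a.x; rw [h.out.e0]; ring) (by change 0 + a.z + 0 * _ = a.z; ring)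
    (zero_add _))
  fun a => HG.ext (neg_add_cancel _) (by
    change -a.z + a.x * σ a.x + a.z + -(e (-a.k) * a.x) * σ (e (-a.k) * a.x) = 0
    linear_combination -a.x * h.out.se (-a.k) a.x) (neg_add_cancel _)

instance [Finite F] [NeZero n] : Finite (HG.{u} F n e σ) :=
  Finite.of_injective (fun a => (a.x, a.z, a.k)) fun _ _ h => by
    simp only [Prod.mk.injEq] at h
    exact HG.ext h.1 h.2.1 h.2.2

end

theorem exists_model {F : Type} [Field F] [Finite F] {ζ : F} [hp : Fact p.Prime] [hq : Fact q.Prime]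
    (hζ : IsPrimitiveRoot ζ q) {a : ℕ} (hF : Nat.card F = p ^ a) (hr : 1 ≤ r) (σ : F →+ F)
    (hσ : ∀ t, ζ * σ (ζ * t) = σ t) (m : ℕ) (hm : m ≤ Nat.card F * Nat.card (Set.range fun t => σ t - t * σ 1)) :
    ∃ (G : Type u) (_ : Group G) (_ : Finite G) (P : Subgroup G) (y : G) (π : G → F), Co p q r ζ P y π ∧
      P ⊔ zpowers y = ⊤ ∧ m ≤ Nat.card P := by
  have : NeZero (q ^ r) := ⟨pow_ne_zero _ hq.out.ne_zero⟩
  have : Fact (1 < q ^ r) := ⟨Nat.one_lt_pow (by omega) hq.out.one_lt⟩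
  have hqr : ζ ^ q ^ r = 1 := (hζ.pow_eq_one_iff_dvd _).2 (dvd_pow_self q (by omega))
  let e : ZMod (q ^ r) → F := fun k => ζ ^ k.val
  have he : ∀ i : ℕ, e i = ζ ^ i := fun i => by
    simp only [e, ZMod.val_natCast]
    exact (pow_eq_pow_mod i hqr).symm
  have : Fact (Dat e σ) := ⟨by simp [e], fun k l => by
    rw [← ZMod.natCast_zmod_val k, ← ZMod.natCast_zmod_val l, ← Nat.cast_add, he, he, he, pow_add], map_add σ,
    fun k t => by
      simp only [e]
      induction k.val with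
      | zero => simp
      | succ i ih => rw [pow_succ, mul_assoc, mul_right_comm, mul_comm (_ * t), hσ, ih]⟩
  have e0 : e 0 = 1 := this.out.e0
  let κ : HG.{u} F (q ^ r) e σ →* Multiplicative (ZMod (q ^ r)) :=
    MonoidHom.mk' (fun g => Multiplicative.ofAdd g.k) fun _ _ => rfl
  let y : HG.{u} F (q ^ r) e σ := ⟨0, 0, 1⟩
  have hy : ∀ i : ℕ, y ^ i = ⟨0, 0, i⟩ := fun i => by
    induction i with
    | zero => simp; rfl
    | succ i ih => rw [pow_succ, ih, HG.mul_def]; simp [y]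
  have hk : ∀ u ∈ κ.ker, u.k = 0 := fun u hu => hu
  have e1 : e 1 = ζ := by simpa using he 1
  have hcj : ∀ u ∈ κ.ker, y * u * y⁻¹ = ⟨ζ * u.x, u.z, 0⟩ := fun u hu => by
    rw [mul_inv_eq_iff_eq_mul]
    simp [HG.mul_def, y, hk u hu, e1]
  have H : Pre p q r ζ κ.ker y HG.x := by
    refine ⟨IsPGroup.of_card (n := a + a) ?_, orderOf_eq_iff (pow_pos hq.out.pos r) |>.2 ⟨?_, fun i hi h0 e' => ?_⟩,
      fun u hu => Normal.conj_mem inferInstance u hu y, fun u hu v _ => by simp [HG.mul_def, hk u hu, e0],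
      fun t => ⟨⟨t, 0, 0⟩, rfl, rfl⟩, fun u hu e' => ⟨fun v hv => ?_, ?_⟩, fun u hu => by rw [hcj u hu],
      fun u hu => ?_⟩
    · rw [pow_add, ← hF, ← Nat.card_prod]
      exact Nat.card_congr ⟨fun u => (u.1.x, u.1.z), fun t => ⟨⟨t.1, t.2, 0⟩, rfl⟩,
        fun u => Subtype.ext (HG.ext rfl rfl (hk _ u.2).symm), fun _ => rfl⟩
    · rw [hy, ZMod.natCast_self]; rfl
    · rw [hy] at e'
      exact Nat.not_dvd_of_pos_of_lt h0 hi ((ZMod.natCast_eq_zero_iff _ _).1 (congrArg HG.k e'))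
    · simp [HG.mul_def, hk u hu, hk v hv, e', e0, add_comm]
    · simp [HG.mul_def, hk u hu, y, e']
    · simp [hy, HG.mul_def, hk u hu, he, hζ.pow_eq_one]
  obtain ⟨hle, h₁⟩ := H.co (hζ.ne_one hq.out.one_lt)
  generalize Subgroup.closure {g | ∃ u ∈ κ.ker, ⁅u, y⁆ = g} = P at *
  have hyY : y ∈ P ⊔ zpowers y := mem_sup_right (mem_zpowers y)
  refine ⟨(P ⊔ zpowers y : Subgroup _), inferInstance, inferInstance, P.comap (Subgroup.subtype _), ⟨y, hyY⟩, _,
    h₁.comap (subtype_injective _) rfl (by rw [range_subtype]; exact le_sup_left), ?_, hm.trans ?_⟩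
  · apply map_injective (subtype_injective _)
    rw [Subgroup.map_sup, MonoidHom.map_zpowers, map_comap_eq_self (by rw [range_subtype]; exact le_sup_left),
      ← MonoidHom.range_eq_map, range_subtype]
    rfl
  · rw [comap_subtype, card_subgroupOf_of_le le_sup_left, ← Nat.card_prod]
    choose s hs hs' using h₁.sur
    have h2 : ∀ c : Set.range fun t => σ t - t * σ 1, (⟨0, c.1, 0⟩ : HG.{u} F (q ^ r) e σ) ∈ P := by
      rintro ⟨_, t, rfl⟩
      have h3 : s 1 * s t = ⟨0, σ t - t * σ 1, 0⟩ * (s t * s 1) := by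
        simp only [HG.mul_def, hs', hk _ (hle (hs _)), e0]
        refine HG.ext (by simp [add_comm]) (by simp; ring) (by simp)
      rw [← mul_inv_eq_iff_eq_mul] at h3
      exact h3 ▸ mul_mem (mul_mem (hs _) (hs _)) (inv_mem (mul_mem (hs _) (hs _)))
    refine Nat.card_le_card_of_injective (fun c => ⟨_, mul_mem (h2 c.2) (hs c.1)⟩) fun c d e' => ?_
    have h4 := congrArg Subtype.val e'
    have h5 : c.1 = d.1 := by simpa [HG.mul_def, hs', e0] using congrArg HG.x h4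
    simp only [h5, mul_left_inj] at h4
    exact Prod.ext h5 (Subtype.ext (congrArg HG.z h4))

end CL.Golf
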