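/-
Bases of solvable linear groups: the statements of the steps.
-/
import Cfsg.Agent.Base

namespace CL.SL

universe u

section
variable (G : Type*) [Group G] (V : Type*) [AddCommGroup V] [DistribMulAction G V]

/-- an invariant additive subgroup -/
def Inv (Y : AddSubgroup V) : Prop := ∀ g : G, ∀ v ∈ Y, g • v ∈ Y

/-- completely reducible -/
def CR : Prop := ∀ U : AddSubgroup V, Inv G V U → ∃ W : AddSubgroup V, Inv G V W ∧ U ⊓ W = ⊥ ∧ U ⊔ W = ⊤

/-- irreducible (or zero) -/
def Irr : Prop := ∀ U : AddSubgroup V, Inv G V U → U = ⊥ ∨ U = ⊤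

/-- faithful -/
def Faith : Prop := ∀ g : G, (∀ v : V, g • v = v) → g = 1

/-- the cases with a base of size two -/
def Cond : Prop := Odd (Nat.card G) ∨ ¬ 3 ∣ Nat.card G ∨ (Nat.card V).Coprime 6

/-- a base of size `k` (modulo the kernel of the action) -/
def Reg (k : ℕ) : Prop := ∃ x : Fin k → V, ∀ g : G, (∀ i, g • x i = x i) → ∀ v : V, g • v = v

/-- the conclusion of the theorem -/
def Concl : Prop := Reg G V 3 ∧ (Cond G V → Reg G V 2)

/-- every abelian normal subgroup is semiregular on the non-zero vectors -/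
def SemiregAb : Prop :=
  ∀ N : Subgroup G, N.Normal → IsMulCommutative N → ∀ n ∈ N, ∀ v : V, n • v = v → n = 1 ∨ v = 0

end

/-- the theorem (Seress; Dolfi, Vdovin; Halasi-Maroti) -/
def BaseThm : Prop := ∀ (G V : Type u) [Group G] [Finite G] [AddCommGroup V] [Finite V] [DistribMulAction G V],
  Group.IsSolvable G → CR G V → Concl G V

/-- the primitive case -/
def PrimStep : Prop := ∀ (G V : Type u) [Group G] [Finite G] [AddCommGroup V] [Finite V] [DistribMulAction G V],
  Group.IsSolvable G → Irr G V → Faith G V → SemiregAb G V → Concl G V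

/-- the induction hypothesis -/
def IH (n : ℕ) : Prop := ∀ (G V : Type u) [Group G] [Finite G] [AddCommGroup V] [Finite V] [DistribMulAction G V],
  Nat.card G < n → Group.IsSolvable G → Irr G V → Concl G V

/-- the imprimitive case -/
def ImprimStep : Prop := ∀ (G V : Type u) [Group G] [Finite G] [AddCommGroup V] [Finite V] [DistribMulAction G V],
  IH.{u} (Nat.card G) → Group.IsSolvable G → Irr G V → Faith G V → ¬ SemiregAb G V → Concl G V

end CL.SL
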