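/-
Bases of solvable linear groups: consequences of the base theorem.
-/
import Cfsg.Agent.Fgs.SLDefs
import Cfsg.Agent.Grp.Coprime2
import Cfsg.Agent.Grp.Hall2
import Cfsg.Agent.Grp.CoresPi
import Cfsg.Agent.Odd.FT

set_option autoImplicit false
set_option linter.style.haveILetI false
open Cfsg Subgroup CL.Grp
open scoped Pointwise IsMulCommutative

namespace CL.SL

universe u v

/-- the image of the acting group in the symmetric group acts additively -/
@[reducible] def rangeAct (A V : Type*) [Group A] [AddCommGroup V] [DistribMulAction A V] :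
    DistribMulAction (MulAction.toPermHom A V).range V where
  smul_zero := by rintro ⟨_, a, rfl⟩; exact smul_zero a
  smul_add := by rintro ⟨_, a, rfl⟩ x y; exact smul_add a x y

/-- the base theorem for a group in any universe -/
theorem BaseThm.univ (hB : BaseThm.{u}) (A : Type v) (V : Type u) [Group A] [Finite A] [AddCommGroup V] [Finite V]
    [DistribMulAction A V] (hA : Group.IsSolvable A) (h : CR A V) : Concl A V := by
  letI := rangeAct A V
  have e : ∀ U : AddSubgroup V, Inv (MulAction.toPermHom A V).range V U ↔ Inv A V U := fun U =>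
    ⟨fun h a v hv => h ⟨_, a, rfl⟩ v hv, fun h => by rintro ⟨_, a, rfl⟩ v hv; exact h a v hv⟩
  have hs : Group.IsSolvable (MulAction.toPermHom A V).range :=
    Group.isSolvable_of_surjective (MulAction.toPermHom A V).rangeRestrict_surjective
  have hd : Nat.card (MulAction.toPermHom A V).range ∣ Nat.card A :=
    card_dvd_of_surjective _ (MulAction.toPermHom A V).rangeRestrict_surjective
  have r : ∀ k, Reg (MulAction.toPermHom A V).range V k → Reg A V k := fun k ⟨x, hx⟩ =>
    ⟨x, fun a ha v => hx ⟨_, a, rfl⟩ ha v⟩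
  obtain ⟨h3, h2⟩ := hB (MulAction.toPermHom A V).range V hs fun U hU => by
    obtain ⟨W, hW, h'⟩ := h U ((e U).1 hU)
    exact ⟨W, (e W).2 hW, h'⟩
  refine ⟨r 3 h3, fun hc => r 2 (h2 ?_)⟩
  rcases hc with hc | hc | hc
  · exact Or.inl (hc.of_dvd_nat hd)
  · exact Or.inr (Or.inl fun h' => hc (h'.trans hd))
  · exact Or.inr (Or.inr hc)

theorem s4374_of {A : Type u} {V : Type v} (hB : BaseThm.{v}) [Group A] [Finite A]
    [AddCommGroup V] [Finite V] [DistribMulAction A V] [FaithfulSMul A V] (hA : Group.IsSolvable A) (hcr : CR A V) :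
    ∃ v₁ v₂ v₃ : V, ∀ a : A, a • v₁ = v₁ → a • v₂ = v₂ → a • v₃ = v₃ → a = 1 := by
  obtain ⟨x, hx⟩ := (hB.univ A V hA hcr).1
  refine ⟨x 0, x 1, x 2, fun a h0 h1 h2 => FaithfulSMul.eq_of_smul_eq_smul (α := V) fun w => ?_⟩
  rw [one_smul]
  exact hx a (fun i => by fin_cases i <;> assumption) w

theorem s4375_of {A : Type u} {V : Type v} (hB : BaseThm.{v}) [Group A] [Finite A]
    [AddCommGroup V] [Finite V] [DistribMulAction A V] [FaithfulSMul A V] (hA : Odd (Nat.card A)) (hcr : CR A V) :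
    ∃ v w : V, ∀ a : A, a • v = v → a • w = w → a = 1 := by
  obtain ⟨x, hx⟩ := (hB.univ A V (CL.Odd.feit_thompson hA) hcr).2 (Or.inl hA)
  refine ⟨x 0, x 1, fun a h0 h1 => FaithfulSMul.eq_of_smul_eq_smul (α := V) fun w => ?_⟩
  rw [one_smul]
  exact hx a (fun i => by fin_cases i <;> assumption) w

/-- an action on a commutative group, written additively -/
@[reducible] def addAct (A V : Type*) [Group A] [CommGroup V] [MulDistribMulAction A V] :
    DistribMulAction A (Additive V) where
  smul a v := Additive.ofMul (a • v.toMul)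
  one_smul v := congrArg Additive.ofMul (one_smul A v.toMul)
  mul_smul a b v := congrArg Additive.ofMul (mul_smul a b v.toMul)
  smul_zero a := congrArg Additive.ofMul (smul_one a)
  smul_add a x y := congrArg Additive.ofMul (smul_mul' a x.toMul y.toMul)

theorem exists_compl_of_elem {V : Type*} [CommGroup V] {p : ℕ} [Fact p.Prime] (h : ∀ v : V, v ^ p = 1)
    (U : Subgroup V) : ∃ W : Subgroup V, U ⊓ W = ⊥ ∧ U ⊔ W = ⊤ := by
  letI : Module (ZMod p) (Additive V) := AddCommGroup.zmodModule fun v => congrArg Additive.ofMul (h v.toMul)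
  obtain ⟨W, hW⟩ := (AddSubgroup.toZModSubmodule p U.toAddSubgroup).exists_isCompl
  have h1 := (AddSubgroup.toZModSubmodule p).symm.isCompl hW
  have := Subgroup.toAddSubgroup.symm.isCompl h1
  simp only [OrderIso.symm_apply_apply] at this
  exact ⟨_, this.inf_eq_bot, this.sup_eq_top⟩

/-- coprime action on an elementary abelian group -/
theorem base_elem {A : Type u} {V : Type v} (hB : BaseThm.{v}) [Group A] [Finite A] [CommGroup V] [Finite V]
    [MulDistribMulAction A V] (hA : Group.IsSolvable A) (hcop : (Nat.card A).Coprime (Nat.card V)) {p : ℕ}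
    [hp : Fact p.Prime] (h : ∀ v : V, v ^ p = 1) :
    ∃ x y : V, ∀ a : A, a • x = x → a • y = y → ∀ v : V, a • v = v := by
  rcases subsingleton_or_nontrivial V with hV | hV
  · exact ⟨1, 1, fun _ _ _ _ => Subsingleton.elim _ _⟩
  letI := addAct A V
  have hP : IsPGroup p V := fun v => ⟨1, by rw [pow_one, h]⟩
  obtain ⟨n, hn0, hn⟩ := hP.nontrivial_iff_card.1 hV
  have hpA : (Nat.card A).Coprime p := hcop.coprime_dvd_right (hn ▸ dvd_pow_self p hn0.ne')
  have hcr : CR A (Additive V) := fun U hU => by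
    obtain ⟨W, h1, h2⟩ := exists_compl_of_elem h (AddSubgroup.toSubgroup' U)
    obtain ⟨W', hW, h3, h4⟩ := act_exists_invariant_complement (A := A) (U := AddSubgroup.toSubgroup' U)
      (fun a x hx => hU a (Additive.ofMul x) hx) (hcop.coprime_dvd_right (card_subgroup_dvd_card _)) h1 h2
    have := Subgroup.toAddSubgroup.isCompl (isCompl_iff.2 ⟨disjoint_iff.2 h3, codisjoint_iff.2 h4⟩)
    exact ⟨W'.toAddSubgroup, fun a v hv => hW a v.toMul hv, this.inf_eq_bot, this.sup_eq_top⟩
  have hc : Cond A (Additive V) := by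
    by_cases h2 : p = 2
    · exact Or.inl (Nat.coprime_two_right.1 (h2 ▸ hpA))
    by_cases h3 : p = 3
    · exact Or.inr (Or.inl ((Nat.Prime.coprime_iff_not_dvd Nat.prime_three).1 (h3 ▸ hpA.symm)))
    refine Or.inr (Or.inr ?_)
    rw [Nat.card_congr Additive.toMul, hn]
    exact Nat.Coprime.pow_left _ (Nat.Coprime.mul_right (m := 2) (n := 3)
      ((Nat.coprime_primes hp.out Nat.prime_two).2 h2) ((Nat.coprime_primes hp.out Nat.prime_three).2 h3))
  obtain ⟨x, hx⟩ := (hB.univ A (Additive V) hA hcr).2 hc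
  refine ⟨(x 0).toMul, (x 1).toMul, fun a h0 h1 w => ?_⟩
  exact congrArg Additive.toMul (hx a (fun i => by
    fin_cases i
    · exact congrArg Additive.ofMul h0
    · exact congrArg Additive.ofMul h1) (Additive.ofMul w))

/-- coprime action on a `p`-group -/
theorem base_pGroup {A : Type u} {P : Type v} (hB : BaseThm.{v}) [Group A] [Finite A] [Group P] [Finite P]
    [MulDistribMulAction A P] (hA : Group.IsSolvable A) (hcop : (Nat.card A).Coprime (Nat.card P)) {p : ℕ}
    [hp : Fact p.Prime] (hP : IsPGroup p P) :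
    ∃ x y : P, ∀ a : A, a • x = x → a • y = y → ∀ v : P, a • v = v := by
  have hi : ∀ a : A, ∀ x ∈ frattini P, a • x ∈ frattini P := smul_mem_of_characteristic _
  letI := quotAction (frattini P) hi
  have := isMulCommutative_quotient_frattini hP
  obtain ⟨x, y, h⟩ := base_elem (V := P ⧸ frattini P) hB hA
    (hcop.coprime_dvd_right (card_quotient_dvd_card _)) (quotient_frattini_pow_eq_one hP)
  obtain ⟨x, rfl⟩ := QuotientGroup.mk_surjective x
  obtain ⟨y, rfl⟩ := QuotientGroup.mk_surjective y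
  refine ⟨x, y, fun a hx hy v => ?_⟩
  have ha := h a (congrArg QuotientGroup.mk hx) (congrArg QuotientGroup.mk hy)
  refine act_trivial_of_trivial_mod_frattini (A := MulAction.stabilizer A (fun q : P ⧸ frattini P => q)) (K := P)
    ((hcop.coprime_dvd_left (card_subgroup_dvd_card _)).coprime_dvd_right (card_subgroup_dvd_card _))
    (fun b k => ?_) ⟨a, funext ha⟩ v
  exact QuotientGroup.eq.1 (congrFun b.2 (k : P ⧸ frattini P)).symm

theorem card_le_eq_sum {L X : Type*} [PartialOrder L] [Fintype L] [DecidableLT L] [Finite X] (s : X → L) (B : L) :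
    Nat.card {x // B ≤ s x} =
      Nat.card {x // s x = B} + ∑ C ∈ Finset.univ.filter (B < ·), Nat.card {x // s x = C} := by
  classical
  have := Fintype.ofFinite X
  simp only [Nat.card_eq_fintype_card, Fintype.card_subtype]
  rw [Finset.card_eq_sum_card_fiberwise (f := s) (t := insert B (Finset.univ.filter (B < ·)))
    (fun x hx => by simpa [eq_comm, le_iff_eq_or_lt] using hx), Finset.sum_insert (by simp)]
  congr 1
  · congr 1; ext x; simp +contextual [eq_comm, le_of_eq]
  · refine Finset.sum_congr rfl fun C hC => ?_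
    congr 1; ext x
    simp only [Finset.mem_filter, Finset.mem_univ, true_and, and_iff_right_iff_imp] at hC ⊢
    rintro rfl; exact hC.le

/-- Moebius inversion in a finite partial order -/
theorem card_fiber_eq {L X Y : Type*} [PartialOrder L] [Finite L] [Finite X] [Finite Y] (s : X → L) (t : Y → L)
    (h : ∀ B, Nat.card {x // B ≤ s x} = Nat.card {y // B ≤ t y}) (B : L) :
    Nat.card {x // s x = B} = Nat.card {y // t y = B} := by
  classical
  have := Fintype.ofFinite L
  induction B using WellFoundedGT.induction with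
  | ind B ih =>
    have e := h B
    rw [card_le_eq_sum, card_le_eq_sum, Finset.sum_congr rfl fun C hC => ih C (Finset.mem_filter.1 hC).2] at e
    exact Nat.add_right_cancel e

theorem s4372_of {A : Type u} {K : Type v} (hB : BaseThm.{v}) [Group A] [Finite A] [Group K] [Finite K]
    [MulDistribMulAction A K] [FaithfulSMul A K] (hA : Group.IsSolvable A)
    (hcop : (Nat.card A).Coprime (Nat.card K)) : ∃ x y : K, ∀ a : A, a • x = x → a • y = y → a = 1 := by
  classical
  have hS : ∀ p : (Nat.card K).primeFactors, ∃ P : Subgroup K, IsSylowIn p P ⊤ ∧ (∀ a : A, ∀ x ∈ P, a • x ∈ P) ∧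
      (∀ B : Subgroup A, Nat.card (P ⊓ FixedPoints.subgroup B K : Subgroup K) =
        (p : ℕ) ^ (Nat.card (FixedPoints.subgroup B K)).factorization p) ∧
      ∃ x y : P, ∀ a : A, a • (x : K) = x → a • (y : K) = y → ∀ v ∈ P, a • v = v := fun p => by
    have := Fact.mk (Nat.prime_of_mem_primeFactors p.2)
    obtain ⟨P, hP⟩ := act_exists_sylow (A := A) (K := K) p hcop (Or.inl hA)
    refine ⟨P, isSylowIn_top P, hP, fun B => (act_isSylowIn_inf_fixedPoints (A := B)
      (hcop.coprime_dvd_left (card_subgroup_dvd_card B)) (Or.inl inferInstance) P fun b => hP b).card_eq_pow, ?_⟩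
    letI := subAction (P : Subgroup K) hP
    obtain ⟨x, y, h⟩ := base_pGroup (A := A) (P := P) hB hA
      (hcop.coprime_dvd_right (card_subgroup_dvd_card _)) P.isPGroup'
    exact ⟨x, y, fun a hx hy v hv => congrArg Subtype.val (h a (Subtype.ext hx) (Subtype.ext hy) ⟨v, hv⟩)⟩
  choose P hP hinv hcard x y hxy using hS
  let s : K × K → Subgroup A := fun z => MulAction.stabilizer A z.1 ⊓ MulAction.stabilizer A z.2
  let t : (∀ p, P p × P p) → Subgroup A := fun f => ⨅ p, s ((f p).1, (f p).2)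
  have e := card_fiber_eq s t (fun B => by
    let F := FixedPoints.subgroup B K
    have m : ∀ z : K × K, B ≤ s z ↔ z.1 ∈ F ∧ z.2 ∈ F := fun z =>
      ⟨fun h => ⟨fun b => (h b.2).1, fun b => (h b.2).2⟩, fun h b hb => ⟨h.1 ⟨b, hb⟩, h.2 ⟨b, hb⟩⟩⟩
    have e1 : {z // B ≤ s z} ≃ F × F :=
      (Equiv.subtypeEquivRight m).trans (Equiv.subtypeProdEquivProd (p := (· ∈ F)) (q := (· ∈ F)))
    have e2 : {f // B ≤ t f} ≃ ∀ p, (P p ⊓ F : Subgroup K) × (P p ⊓ F : Subgroup K) :=
      { toFun := fun f p => (⟨(f.1 p).1, (f.1 p).1.2, ((m _).1 (f.2.trans (iInf_le _ p))).1⟩,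
          ⟨(f.1 p).2, (f.1 p).2.2, ((m _).1 (f.2.trans (iInf_le _ p))).2⟩)
        invFun := fun g => ⟨fun p => (⟨(g p).1, (g p).1.2.1⟩, ⟨(g p).2, (g p).2.2.1⟩),
          le_iInf fun p => (m _).2 ⟨(g p).1.2.2, (g p).2.2.2⟩⟩
        left_inv := fun _ => rfl
        right_inv := fun _ => rfl }
    rw [Nat.card_congr e1, Nat.card_congr e2, Nat.card_pi, Nat.card_prod]
    simp only [Nat.card_prod, F, hcard, Finset.prod_mul_distrib]
    have : ∏ p : (Nat.card K).primeFactors, (p : ℕ) ^ (Nat.card (FixedPoints.subgroup B K)).factorization p =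
        Nat.card (FixedPoints.subgroup B K) := by
      rw [Finset.prod_coe_sort (Nat.card K).primeFactors
        fun p => p ^ (Nat.card (FixedPoints.subgroup B K)).factorization p]
      conv_rhs => rw [← Nat.prod_factorization_pow_eq_self (Nat.card_pos (α := FixedPoints.subgroup B K)).ne']
      refine (Finsupp.prod_of_support_subset _ ?_ _ fun _ _ => pow_zero _).symm
      rw [Nat.support_factorization]
      exact Nat.primeFactors_mono (card_subgroup_dvd_card _) Nat.card_pos.ne'
    rw [this]) ⊥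
  have hne : Nonempty {f // t f = ⊥} := ⟨fun p => (x p, y p), eq_bot_iff.2 fun a ha => by
    have h1 : (⊤ : Subgroup K) ≤ FixedPoints.subgroup (zpowers a) K :=
      le_of_forall_exists_isSylowIn_le fun p hp hd => by
        rw [card_top] at hd
        have hm := Nat.mem_primeFactors.2 ⟨hp, hd, Nat.card_pos.ne'⟩
        refine ⟨P ⟨p, hm⟩, hP ⟨p, hm⟩, fun v hv b => ?_⟩
        have := mem_iInf.1 ha ⟨p, hm⟩
        exact (zpowers_le.2 (show a ∈ MulAction.stabilizer A v from hxy _ a this.1 this.2 v hv)) b.2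
    exact FaithfulSMul.eq_of_smul_eq_smul (α := K) fun w => by
      rw [one_smul]; exact h1 (mem_top w) ⟨a, mem_zpowers a⟩⟩
  have hpos : 0 < Nat.card {z // s z = ⊥} := by rw [e]; exact Nat.card_pos
  obtain ⟨⟨z, hz⟩⟩ := (Nat.card_pos_iff.1 hpos).1
  exact ⟨z.1, z.2, fun a h1 h2 => (eq_bot_iff.1 hz) ⟨h1, h2⟩⟩

theorem s4621_of {F : Type*} {V : Type v} {G : Type u} (hB : BaseThm.{v}) [Field F] [AddCommGroup V] [Module F V]
    [Finite V] [Group G] [Finite G] [hG : Group.IsSolvable G] (ρ : Representation F G V)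
    (hfaith : Function.Injective ρ) (hcop : (Nat.card G).Coprime (Nat.card V)) :
    ∃ x y : V, ∀ g : G, ρ g x = x → ρ g y = y → g = 1 := by
  letI : MulDistribMulAction G (Multiplicative V) :=
    { smul := fun g v => Multiplicative.ofAdd (ρ g v.toAdd)
      one_smul := fun v => congrArg Multiplicative.ofAdd (by rw [map_one]; rfl)
      mul_smul := fun a b v => congrArg Multiplicative.ofAdd (by rw [map_mul]; rfl)
      smul_one := fun a => congrArg Multiplicative.ofAdd (map_zero (ρ a))
      smul_mul := fun a x y => congrArg Multiplicative.ofAdd (map_add (ρ a) x.toAdd y.toAdd) }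
  have : FaithfulSMul G (Multiplicative V) := ⟨fun h => hfaith (LinearMap.ext fun v =>
    congrArg Multiplicative.toAdd (h (Multiplicative.ofAdd v)))⟩
  obtain ⟨x, y, h⟩ := s4372_of (A := G) (K := Multiplicative V) hB hG (by rwa [Nat.card_congr Multiplicative.toAdd])
  exact ⟨x.toAdd, y.toAdd, fun g h1 h2 => h g (congrArg Multiplicative.ofAdd h1) (congrArg Multiplicative.ofAdd h2)⟩

/-! ### intersections of Hall subgroups -/

/-- `n` is a power of a prime in `π` or a `π'`-number -/
def PiNum (π : Set ℕ) (n : ℕ) : Prop := (∃ p ∈ π, p.Prime ∧ ∃ k, n = p ^ k) ∨ ∀ q : ℕ, q.Prime → q ∣ n → q ∉ π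

theorem PiNum.of_dvd {π : Set ℕ} {m n : ℕ} (h : PiNum π n) (hd : m ∣ n) : PiNum π m := by
  rcases h with ⟨p, hp, hp', k, rfl⟩ | h
  · obtain ⟨j, -, rfl⟩ := (Nat.dvd_prime_pow hp').1 hd
    exact Or.inl ⟨p, hp, hp', j, rfl⟩
  · exact Or.inr fun q hq h' => h q hq (h'.trans hd)

/-- `π`-solvable, in the form of steps -/
def Steps (π : Set ℕ) (G : Type*) [Group G] : Prop :=
  ∀ N : Subgroup G, N.Normal → N ≠ ⊤ → ∃ M : Subgroup G, M.Normal ∧ N < M ∧ PiNum π (N.relIndex M)

variable {G : Type u} [Group G] {π : Set ℕ}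

theorem Steps.quotient (h : Steps π G) (O : Subgroup G) [O.Normal] : Steps π (G ⧸ O) := fun N hN htop => by
  have hs := QuotientGroup.mk'_surjective O
  obtain ⟨M, hM, hlt, hn⟩ := h (N.comap (QuotientGroup.mk' O)) inferInstance fun e =>
    htop (comap_injective hs (e.trans (comap_top _).symm))
  refine ⟨M.map (QuotientGroup.mk' O), hM.map _ hs, lt_of_le_not_ge ?_ fun hle => hlt.not_ge (map_le_iff_le_comap.1 hle),
    relIndex_comap N _ M ▸ hn⟩
  exact (map_comap_eq_self_of_surjective hs N).ge.trans (map_mono hlt.le)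

theorem Steps.induct [Finite G] (h : Steps π G) (Q : Subgroup G → Prop) (h0 : Q ⊥)
    (hs : ∀ N M : Subgroup G, N.Normal → M.Normal → N ≤ M → PiNum π (N.relIndex M) → Q N → Q M) : Q ⊤ := by
  have : ∀ N : Subgroup G, N.Normal → Q N → Q ⊤ := fun N => by
    induction N using WellFoundedGT.induction with
    | ind N ih =>
      intro hN hQ
      by_cases e : N = ⊤
      · exact e ▸ hQ
      obtain ⟨M, hM, hlt, hn⟩ := h N hN e
      exact ih M hlt hM (hs N M hN hM hlt.le hn hQ)
  exact this ⊥ inferInstance h0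

theorem relIndex_inf_dvd (H : Subgroup G) {N M : Subgroup G} [N.Normal] (h : N ≤ M) :
    (H ⊓ N).relIndex (H ⊓ M) ∣ N.relIndex M := by
  have : H ⊓ N = N ⊓ (H ⊓ M) := by rw [inf_left_comm, inf_eq_left.2 h]
  rw [this, inf_relIndex_right, ← relIndex_sup_left]
  exact Dvd.intro _ (relIndex_mul_relIndex _ _ _ le_sup_left (sup_le h inf_le_right))

theorem Steps.solvable [Finite G] (h : Steps π G) {H : Subgroup G} (hH : IsPiSubgroup π H) : Group.IsSolvable H := by
  have := h.induct (fun N => Group.IsSolvable (H ⊓ N : Subgroup G)) (by rw [inf_bot_eq]; infer_instance)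
    fun N M _ _ hle hn hQ => by
      have hle' : H ⊓ N ≤ H ⊓ M := inf_le_inf_left _ hle
      have : ((H ⊓ N).subgroupOf (H ⊓ M)).Normal := by
        have : H ⊓ N = N ⊓ (H ⊓ M) := by rw [inf_left_comm, inf_eq_left.2 hle]
        rw [this, inf_subgroupOf_right]; infer_instance
      refine (Group.isSolvable_iff_subgroup_quotient ((H ⊓ N).subgroupOf (H ⊓ M))).2
        ⟨Group.isSolvable_of_surjective (f := (subgroupOfEquivOfLe hle').symm.toMonoidHom)
          (subgroupOfEquivOfLe hle').symm.surjective, ?_⟩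
      rcases hn.of_dvd (relIndex_inf_dvd H hle) with ⟨p, -, hp, k, hk⟩ | hk
      · refine isSolvable_of_forall_prime_eq p _ fun q hq hd => ?_
        rw [← index_eq_card, ← relIndex, hk] at hd
        exact (Nat.prime_dvd_prime_iff_eq hq hp).1 (hq.dvd_of_dvd_pow hd)
      · exact isSolvable_of_forall_prime_eq 0 _ fun q hq hd => absurd
          (hH q hq (hd.trans ((card_quotient_dvd_card _).trans (card_dvd_of_le inf_le_left)))) (hk q hq hd)
  rwa [inf_top_eq] at this

/-- Hall-Higman -/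
theorem Steps.centralizer_le [Finite G] (h : Steps π G) (h0 : piCore π G = ⊥) :
    centralizer (piCore πᶜ G : Set G) ≤ piCore πᶜ G := by
  set K := piCore πᶜ G
  set C := centralizer (K : Set G)
  have hK := piCore_isPiSubgroup πᶜ G
  have := h.induct (fun N => C ⊓ N ≤ K) (by simp) fun N M _ _ hle hn hQ => by
    have hle' : C ⊓ N ≤ C ⊓ M := inf_le_inf_left _ hle
    have e : Nat.card (C ⊓ N : Subgroup G) * (C ⊓ N).relIndex (C ⊓ M) = Nat.card (C ⊓ M : Subgroup G) := by
      rw [← Nat.card_congr (subgroupOfEquivOfLe hle').toEquiv]; exact card_mul_index _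
    rcases hn.of_dvd (relIndex_inf_dvd C hle) with ⟨p, hpπ, hp, k, hk⟩ | hk
    · have := Fact.mk hp
      obtain ⟨S, hS⟩ := exists_isSylowIn p (C ⊓ M)
      have h1 : C ⊓ M ≤ normalizer (S : Set G) := fun g hg => by
        obtain ⟨z, hz, s, hs, rfl⟩ := hS.exists_mul_eq_of_relIndex_pow hk hg
        exact mul_mem (centralizer_le_normalizer _ fun y hy => ((hS.le hy).1 z (hQ hz)).symm) (le_normalizer hs)
      have h2 : S.Normal := normalizer_eq_top_iff.1 (eq_top_iff.2 fun g _ => by
        obtain ⟨n, hn, hg⟩ := hS.frattini (H := ⊤) (by rw [normalizer_eq_top]) (mem_top g)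
        simpa using mul_mem (inv_mem (h1 hn)) hg)
      have h3 : S = ⊥ := eq_bot_iff.2 (h0 ▸ le_piCore (isPiSubgroup_of_isPGroup hS.isPGroup hpπ))
      intro g hg
      obtain ⟨z, hz, s, hs, rfl⟩ := hS.exists_mul_eq_of_relIndex_pow hk hg
      rw [h3, mem_bot] at hs
      rw [hs, mul_one]; exact hQ hz
    · refine le_piCore fun q hq hd => ?_
      rw [← e] at hd
      exact (hq.dvd_mul.1 hd).elim (fun h' => hK q hq (h'.trans (card_dvd_of_le hQ))) (hk q hq)
  rwa [inf_top_eq] at this

theorem Steps.hall_inf_bot [Finite G] (hB : BaseThm.{u}) (h : Steps π G) (h0 : piCore π G = ⊥) {H : Subgroup G}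
    (hH : IsPiSubgroup π H) : ∃ x y : G, H ⊓ MulAut.conj x • H ⊓ MulAut.conj y • H = ⊥ := by
  have hn : H ≤ normalizer (piCore πᶜ G : Set G) := by rw [normalizer_eq_top]; exact le_top
  have hcop := coprime_card_of_isPiSubgroup hH (piCore_isPiSubgroup πᶜ G) disjoint_compl_right
  have hd : H ⊓ piCore πᶜ G = ⊥ := inf_eq_bot_of_coprime hcop
  letI := conjAction hn
  have : FaithfulSMul H (piCore πᶜ G) := ⟨fun {a b} hab => by
    have : ((b⁻¹ * a : H) : G) ∈ H ⊓ piCore πᶜ G := ⟨(b⁻¹ * a).2, h.centralizer_le h0 fun k hk => by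
      have e : (b⁻¹ * a) • (⟨k, hk⟩ : piCore πᶜ G) = ⟨k, hk⟩ := by rw [mul_smul, hab, inv_smul_smul]
      exact (mul_inv_eq_iff_eq_mul.1 (congrArg Subtype.val e)).symm⟩
    rw [hd, mem_bot, OneMemClass.coe_eq_one, inv_mul_eq_one] at this
    exact this.symm⟩
  obtain ⟨x, y, hxy⟩ := s4372_of (A := H) (K := piCore πᶜ G) hB (h.solvable hH) hcop
  have key : ∀ (z : piCore πᶜ G) (a : H), (a : G) ∈ MulAut.conj (z : G) • H → a • z = z := fun z a ha => by
    have h1 : (z : G)⁻¹ * a * z * (a : G)⁻¹ ∈ H ⊓ piCore πᶜ G :=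
      mem_inf.2 ⟨mul_mem ((mem_conj_smul_iff _ _ _).1 ha) (inv_mem a.2), by
        simpa only [mul_assoc] using mul_mem (inv_mem z.2) ((piCore_normal πᶜ G).conj_mem _ z.2 a)⟩
    rw [hd, mem_bot, mul_assoc, mul_assoc, inv_mul_eq_one, ← mul_assoc] at h1
    exact Subtype.ext h1.symm
  exact ⟨x, y, eq_bot_iff.2 fun g hg => congrArg Subtype.val
    (hxy ⟨g, hg.1.1⟩ (key x _ hg.1.2) (key y _ hg.2))⟩

theorem s4373_of (hB : BaseThm.{u}) [Finite G] (π : Set ℕ)
    (hsolv : (∃ (n : ℕ) (N : Fin (n + 1) → Subgroup G), N 0 = ⊥ ∧ N (Fin.last n) = ⊤ ∧ Monotone N ∧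
      (∀ i, (N i).Normal) ∧
      ∀ i : Fin n, (∃ p ∈ π, p.Prime ∧ ∃ k : ℕ, (N i.castSucc).relIndex (N i.succ) = p ^ k) ∨
        (∀ q : ℕ, q.Prime → q ∣ (N i.castSucc).relIndex (N i.succ) → q ∉ π))) (H : Subgroup G)
    (hH : IsPiHall π H) : ∃ x y : G, H ⊓ MulAut.conj x • H ⊓ MulAut.conj y • H = piCore π G := by
  have h : Steps π G := fun M hM htop => by
    obtain ⟨n, N, h0, h1, -, hn, hf⟩ := hsolv
    obtain ⟨i, -, hlt, hd⟩ := exists_step_of_normal_series h0 h1 M htop
    have := hn i.succ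
    exact ⟨_, inferInstance, hlt, PiNum.of_dvd (hf i) hd⟩
  obtain ⟨x, y, hxy⟩ := (h.quotient (piCore π G)).hall_inf_bot hB (piCore_quotient_piCore π G)
    (isPiSubgroup_map hH.1 (QuotientGroup.mk' _))
  obtain ⟨x, rfl⟩ := QuotientGroup.mk'_surjective _ x
  obtain ⟨y, rfl⟩ := QuotientGroup.mk'_surjective _ y
  have hO : piCore π G ≤ H := by
    rw [isPiHall_eq_of_le hH (isPiSubgroup_sup hH.1 (piCore_isPiSubgroup π G)
      (by rw [normalizer_eq_top]; exact le_top)) le_sup_left]
    exact le_sup_right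
  have hc : ∀ z : G, piCore π G ≤ MulAut.conj z • H := fun z g hg =>
    (mem_conj_smul_iff _ _ _).2 (hO (by simpa using (piCore_normal π G).conj_mem _ hg z⁻¹))
  have hm : ∀ {z g : G}, g ∈ MulAut.conj z • H → QuotientGroup.mk' (piCore π G) g ∈
      MulAut.conj (QuotientGroup.mk' (piCore π G) z) • H.map (QuotientGroup.mk' _) := fun hg =>
    (mem_conj_smul_iff _ _ _).2 ⟨_, (mem_conj_smul_iff _ _ _).1 hg, by simp⟩
  refine ⟨x, y, le_antisymm (fun g hg => ?_) (le_inf (le_inf hO (hc x)) (hc y))⟩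
  exact (QuotientGroup.eq_one_iff g).1 ((eq_bot_iff.1 hxy) ⟨⟨mem_map_of_mem _ hg.1.1, hm hg.1.2⟩, hm hg.2⟩)

end CL.SL
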