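/-
Bases of solvable linear groups: the group `E` of symplectic type over a cyclic normal subgroup `U`.
-/
import Cfsg.Agent.Fgs.SLDefs
import Cfsg.Agent.Odd.Defs
import Cfsg.Agent.Grp.MinNormal
import Cfsg.Agent.Grp.ExtraHall

set_option autoImplicit false

open Subgroup CL.Odd CL.Grp
open scoped commutatorElement

namespace CL.SL

universe u

variable {G : Type u} [Group G] {U E A B T : Subgroup G} {a b c g s t u : G}

/-- `E / U` is a maximal abelian normal subgroup of `G / U` that centralises the cyclic group `U`. -/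
structure GS (U E : Subgroup G) : Prop where
  nU : U.Normal
  nE : E.Normal
  le : U ≤ E
  cyc : IsCyclic U
  comm : ∀ a ∈ E, ∀ b ∈ E, ⁅a, b⁆ ∈ U
  cent : ∀ u ∈ U, ∀ a ∈ E, u * a = a * u
  self : ∀ g : G, (∀ a ∈ E, g * a = a * g) → g ∈ U
  abn : ∀ A : Subgroup G, A.Normal → U ≤ A → A ≤ E → (∀ a ∈ A, ∀ b ∈ A, a * b = b * a) → A ≤ U

/-- `g t g⁻¹ = t * dl g t` -/
def dl (g t : G) : G := t⁻¹ * (g * t * g⁻¹)

theorem conj_eq_dl (g t : G) : g * t * g⁻¹ = t * dl g t := by simp [dl]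

theorem dl_mul (g a b : G) : dl g (a * b) = b⁻¹ * dl g a * b * dl g b := by simp only [dl]; group

theorem dl_one (g : G) : dl g 1 = 1 := by simp [dl]

theorem dl_inv (g a : G) : dl g a⁻¹ = a * (dl g a)⁻¹ * a⁻¹ := by simp only [dl]; group

theorem comm_of_dl (h : dl g t = 1) : g * t = t * g := by
  have := conj_eq_dl g t
  rw [h, mul_one] at this
  rw [← this]; simp [this, mul_inv_eq_iff_eq_mul.1 this]

theorem dl_of_comm (h : g * t = t * g) : dl g t = 1 := by simp [dl, h]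

theorem comm_iff : ⁅a, b⁆ = 1 ↔ a * b = b * a := commutatorElement_eq_one_iff_mul_comm

theorem mul_eq_comm (a b : G) : a * b = ⁅a, b⁆ * (b * a) := by simp [commutatorElement_def, mul_assoc]

theorem exists_period [Finite G] (T : Subgroup G) (t : G) : ∃ n : ℕ, ∀ k : ℕ, t ^ k ∈ T ↔ n ∣ k := by
  classical
  have hex : ∃ n : ℕ, 0 < n ∧ t ^ n ∈ T := ⟨_, orderOf_pos t, by simp⟩
  obtain ⟨h1, h2⟩ := Nat.find_spec hex
  refine ⟨Nat.find hex, fun k => ⟨fun hk => Nat.dvd_of_mod_eq_zero ?_, ?_⟩⟩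
  · by_contra h0
    refine Nat.find_min hex (Nat.mod_lt k h1) ⟨Nat.pos_of_ne_zero h0, ?_⟩
    rw [← Nat.div_add_mod k (Nat.find hex), pow_add, pow_mul] at hk
    exact (T.mul_mem_cancel_left (pow_mem h2 _)).1 hk
  · rintro ⟨j, rfl⟩
    rw [pow_mul]; exact pow_mem h2 j

namespace GS

variable (h : GS U E)
include h

theorem dl_mem (g : G) (ht : t ∈ E) : dl g t ∈ E := E.mul_mem (E.inv_mem ht) (h.nE.conj_mem _ ht g)

theorem conj_cent (hu : u ∈ U) (ha : a ∈ E) : a * u * a⁻¹ = u := by rw [← h.cent u hu a ha]; simp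

theorem comm_mul_right (ha : a ∈ E) (hb : b ∈ E) (hc : c ∈ E) : ⁅a, b * c⁆ = ⁅a, b⁆ * ⁅a, c⁆ := by
  rw [← h.conj_cent (h.comm a ha c hc) hb]; simp only [commutatorElement_def]; group

theorem comm_mul_left (ha : a ∈ E) (hb : b ∈ E) (hc : c ∈ E) : ⁅a * b, c⁆ = ⁅a, c⁆ * ⁅b, c⁆ := by
  rw [h.cent _ (h.comm a ha c hc) _ (h.le (h.comm b hb c hc)), ← h.conj_cent (h.comm b hb c hc) ha]
  simp only [commutatorElement_def]; group

theorem comm_pow_right (ha : a ∈ E) (hb : b ∈ E) (n : ℕ) : ⁅a, b ^ n⁆ = ⁅a, b⁆ ^ n := by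
  induction n with
  | zero => simp
  | succ n ih => rw [pow_succ, h.comm_mul_right ha (pow_mem hb n) hb, ih, pow_succ]

theorem comm_pow_left (ha : a ∈ E) (hb : b ∈ E) (n : ℕ) : ⁅a ^ n, b⁆ = ⁅a, b⁆ ^ n := by
  induction n with
  | zero => simp
  | succ n ih => rw [pow_succ, h.comm_mul_left (pow_mem ha n) ha hb, ih, pow_succ]

theorem comm_inv_left (ha : a ∈ E) (hb : b ∈ E) : ⁅a⁻¹, b⁆ = ⁅a, b⁆⁻¹ := by
  rw [eq_inv_iff_mul_eq_one, ← h.comm_mul_left (E.inv_mem ha) ha hb]; simp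

theorem comm_inv_right (ha : a ∈ E) (hb : b ∈ E) : ⁅a, b⁻¹⁆ = ⁅a, b⁆⁻¹ := by
  rw [eq_inv_iff_mul_eq_one, ← h.comm_mul_right ha (E.inv_mem hb) hb]; simp

theorem comm_U_left (hu : u ∈ U) (ha : a ∈ E) : ⁅u, a⁆ = 1 := comm_iff.2 (h.cent u hu a ha)

theorem comm_U_right (ha : a ∈ E) (hu : u ∈ U) : ⁅a, u⁆ = 1 := comm_iff.2 (h.cent u hu a ha).symm

theorem mul_pow (ha : a ∈ E) (hb : b ∈ E) (n : ℕ) : (a * b) ^ n = a ^ n * b ^ n * ⁅b, a⁆ ^ n.choose 2 := by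
  induction n with
  | zero => simp
  | succ n ih =>
    have h1 := h.comm b hb a ha
    rw [pow_succ, ih, Nat.choose_succ_succ' n 1, Nat.choose_one_right, pow_add ⁅b, a⁆, mul_assoc (a ^ n * b ^ n),
      h.cent _ (pow_mem h1 _) _ (E.mul_mem ha hb), ← mul_assoc, ← mul_assoc, mul_assoc (a ^ n), mul_eq_comm (b ^ n) a,
      h.comm_pow_left hb ha, h.cent _ (pow_mem h1 n) _ (E.mul_mem ha (pow_mem hb n)), mul_assoc (a ^ n),
      mul_assoc (a * b ^ n), h.cent _ (pow_mem h1 n) _ hb, pow_succ, pow_succ]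
    simp only [mul_assoc]

theorem mul_U_pow (ha : a ∈ E) (hu : u ∈ U) (n : ℕ) : (a * u) ^ n = a ^ n * u ^ n :=
  Commute.mul_pow (h.cent u hu a ha).symm n

theorem normal_in (hA : U ≤ A) (hAE : A ≤ E) (ht : t ∈ E) (ha : a ∈ A) : t * a * t⁻¹ ∈ A := by
  have : t * a * t⁻¹ = ⁅t, a⁆ * a := by simp [commutatorElement_def]
  exact this ▸ A.mul_mem (hA (h.comm t ht a (hAE ha))) ha

theorem normal_in' (hA : U ≤ A) (hAE : A ≤ E) (ht : t ∈ E) (ha : a ∈ A) : t⁻¹ * a * t ∈ A := by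
  simpa using h.normal_in hA hAE (E.inv_mem ht) ha

theorem mem_U_of_comm (ht : t ∈ E) (hc : ∀ a ∈ E, ⁅t, a⁆ = 1) : t ∈ U := h.self t fun a ha => comm_iff.1 (hc a ha)

theorem pow_card_mem [Finite G] (ht : t ∈ E) : t ^ Nat.card U ∈ U :=
  h.mem_U_of_comm (pow_mem ht _) fun a ha => by
    rw [h.comm_pow_left ht ha]
    exact congrArg Subtype.val (pow_card_eq_one' (x := (⟨_, h.comm t ht a ha⟩ : U)))

theorem mem_of_fixed (hs : s ∈ E) (hf : ∀ g, dl g s ∈ U) : s ∈ U := by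
  haveI := h.nU
  have key : ∀ x ∈ zpowers s ⊔ U, ∃ k : ℤ, ∃ u ∈ U, s ^ k * u = x := fun x hx => by
    obtain ⟨_, ⟨k, rfl⟩, u, hu, e⟩ := (mem_sup_of_le_normalizer (le_normalizer_of_normal)).1 hx
    exact ⟨k, u, hu, e⟩
  refine h.abn (zpowers s ⊔ U) ⟨fun x hx g => ?_⟩ le_sup_right (sup_le (zpowers_le.2 hs) h.le) (fun x hx y hy => ?_)
    (mem_sup_left (mem_zpowers s))
  · obtain ⟨k, u, hu, rfl⟩ := key x hx
    have : g * (s ^ k * u) * g⁻¹ = (g * s * g⁻¹) ^ k * (g * u * g⁻¹) := by rw [conj_zpow]; group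
    rw [this, conj_eq_dl g s]
    exact mul_mem (zpow_mem (mul_mem (mem_sup_left (mem_zpowers s)) (mem_sup_right (hf g))) k)
      (mem_sup_right (h.nU.conj_mem u hu g))
  · obtain ⟨k, u, hu, rfl⟩ := key x hx
    obtain ⟨l, w, hw, rfl⟩ := key y hy
    have c1 : Commute s u := (h.cent u hu s hs).symm
    have c2 : Commute s w := (h.cent w hw s hs).symm
    exact ((((Commute.refl s).zpow_zpow k l).mul_right (c2.zpow_left k)).mul_left
      ((c1.symm.zpow_right l).mul_right (h.cent u hu w (h.le hw))))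

section Finite
variable [Finite G]

theorem exists_emb : ∃ ψ : G → ℂˣ, (∀ u ∈ U, ∀ w ∈ U, ψ (u * w) = ψ u * ψ w) ∧ ∀ u ∈ U, ψ u = 1 → u = 1 := by
  classical
  haveI := h.cyc
  haveI : NeZero (Nat.card U) := ⟨Nat.card_pos.ne'⟩
  let e : U ≃* rootsOfUnity (Nat.card U) ℂ := mulEquivOfCyclicCardEq (Complex.card_rootsOfUnity _).symm
  refine ⟨fun u => if hu : u ∈ U then (e ⟨u, hu⟩ : ℂˣ) else 1, fun u hu w hw => ?_, fun u hu h1 => ?_⟩
  · simp only [dif_pos hu, dif_pos hw, dif_pos (U.mul_mem hu hw)]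
    rw [← Subgroup.coe_mul, ← map_mul]; rfl
  · simp only [dif_pos hu, OneMemClass.coe_eq_one, EmbeddingLike.map_eq_one_iff] at h1
    exact congrArg Subtype.val h1

theorem exists_pair (hA : A ≤ E) (hB : B ≤ E) : ∃ (W : Type u) (_ : CommGroup W) (_ : Finite W) (π : B →* W)
    (Φ : A →* (W →* ℂˣ)) (ψ : G → ℂˣ), Function.Surjective π ∧ π.ker = (C[A]).subgroupOf B ∧
      Φ.ker = (C[B]).subgroupOf A ∧ (∀ a b, Φ a (π b) = ψ ⁅(a : G), (b : G)⁆) ∧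
      (∀ u ∈ U, ∀ w ∈ U, ψ (u * w) = ψ u * ψ w) ∧ ∀ u ∈ U, ψ u = 1 → u = 1 := by
  obtain ⟨ψ, h1, h2⟩ := h.exists_emb
  have h0 : ψ 1 = 1 := by simpa using h1 1 U.one_mem 1 U.one_mem
  have hU : U ≤ C[A] := fun u hu => mem_centralizer_iff.2 fun a ha => (h.cent u hu a (hA ha)).symm
  haveI hn : ((C[A]).subgroupOf B).Normal := ⟨fun x hx y => by
    have : (y : G) * x * (y : G)⁻¹ = ⁅(y : G), (x : G)⁆ * x := by simp [commutatorElement_def]
    rw [mem_subgroupOf] at hx ⊢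
    exact (show ((y * x * y⁻¹ : B) : G) = _ from this) ▸ mul_mem (hU (h.comm _ (hB y.2) _ (hB x.2))) hx⟩
  letI : CommGroup (B ⧸ (C[A]).subgroupOf B) := { (inferInstance : Group _) with
    mul_comm := fun x y => by
      obtain ⟨x, rfl⟩ := QuotientGroup.mk_surjective x
      obtain ⟨y, rfl⟩ := QuotientGroup.mk_surjective y
      rw [← QuotientGroup.mk_mul, ← QuotientGroup.mk_mul, QuotientGroup.eq, mem_subgroupOf]
      have : (((x * y)⁻¹ * (y * x) : B) : G) = ⁅(y : G)⁻¹, (x : G)⁻¹⁆ := by simp [commutatorElement_def, mul_assoc]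
      exact this ▸ hU (h.comm _ (E.inv_mem (hB y.2)) _ (E.inv_mem (hB x.2))) }
  let φ : A → B →* ℂˣ := fun a => MonoidHom.mk' (fun b => ψ ⁅(a : G), (b : G)⁆) fun b c => by
    rw [Subgroup.coe_mul, h.comm_mul_right (hA a.2) (hB b.2) (hB c.2),
      h1 _ (h.comm _ (hA a.2) _ (hB b.2)) _ (h.comm _ (hA a.2) _ (hB c.2))]
  let Φ : A →* (B ⧸ (C[A]).subgroupOf B →* ℂˣ) := MonoidHom.mk' (fun a => QuotientGroup.lift _ (φ a) fun b hb => by
      have : ⁅(a : G), (b : G)⁆ = 1 := comm_iff.2 (mem_centralizer_iff.1 (mem_subgroupOf.1 hb) a a.2)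
      simp [φ, this, h0]) fun a c => by
    ext b
    simp [φ, h.comm_mul_left (hA a.2) (hA c.2) (hB b.2),
      h1 _ (h.comm _ (hA a.2) _ (hB b.2)) _ (h.comm _ (hA c.2) _ (hB b.2))]
  refine ⟨B ⧸ (C[A]).subgroupOf B, inferInstance, inferInstance, QuotientGroup.mk' _, Φ, ψ, QuotientGroup.mk'_surjective _,
    QuotientGroup.ker_mk' _, ?_, fun a b => rfl, h1, h2⟩
  ext a
  rw [MonoidHom.mem_ker, mem_subgroupOf, mem_centralizer_iff]
  refine ⟨fun e b hb => (comm_iff.1 (h2 _ (h.comm _ (hA a.2) _ (hB hb)) ?_)).symm, fun e => ?_⟩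
  · exact DFunLike.congr_fun e (QuotientGroup.mk' _ ⟨b, hb⟩)
  · ext b
    have : ⁅(a : G), (b : G)⁆ = 1 := comm_iff.2 (e b b.2).symm
    simp [Φ, φ, this, h0]

omit h in
theorem card_hom (W : Type*) [CommGroup W] [Finite W] : Nat.card (W →* ℂˣ) = Nat.card W := by
  haveI : NeZero (Monoid.exponent W) := ⟨Monoid.exponent_ne_zero_of_finite⟩
  exact CommGroup.card_monoidHom_of_hasEnoughRootsOfUnity W ℂ

theorem pair_le (hA : A ≤ E) (hB : B ≤ E) : (C[B]).relIndex A ≤ (C[A]).relIndex B := by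
  obtain ⟨W, _, _, π, Φ, ψ, h1, h2, h3, -⟩ := h.exists_pair hA hB
  haveI : Finite (W →* ℂˣ) := Nat.finite_of_card_ne_zero (by rw [card_hom]; exact Nat.card_pos.ne')
  rw [relIndex, relIndex, ← h2, ← h3, index_ker, index_ker, MonoidHom.range_eq_top.2 h1, card_top, ← card_hom W]
  exact card_le_card_group _

theorem exists_eq_comm (φ : G → G) (h1 : ∀ a ∈ E, φ a ∈ U) (h2 : ∀ a ∈ E, ∀ b ∈ E, φ (a * b) = φ a * φ b)
    (h3 : ∀ u ∈ U, φ u = 1) : ∃ s ∈ E, ∀ a ∈ E, φ a = ⁅s, a⁆ := by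
  obtain ⟨W, _, _, π, Φ, ψ, k1, k2, k3, k4, k5, k6⟩ := h.exists_pair le_rfl le_rfl
  haveI : Finite (W →* ℂˣ) := Nat.finite_of_card_ne_zero (by rw [card_hom]; exact Nat.card_pos.ne')
  have h0 : ψ 1 = 1 := by simpa using k5 1 U.one_mem 1 U.one_mem
  have hs : Φ.range = ⊤ := by
    rw [← card_eq_iff_eq_top, ← index_ker, k3, ← k2, index_ker, MonoidHom.range_eq_top.2 k1, card_top, card_hom]
  let χ : E →* ℂˣ := MonoidHom.mk' (fun a => ψ (φ a)) fun a b => by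
    rw [Subgroup.coe_mul, h2 _ a.2 _ b.2, k5 _ (h1 _ a.2) _ (h1 _ b.2)]
  obtain ⟨s, e⟩ := MonoidHom.range_eq_top.1 hs (π.liftOfSurjective k1 ⟨χ, fun a ha => by
    rw [k2, mem_subgroupOf, mem_centralizer_iff] at ha
    simp [χ, h3 _ (h.self a fun b hb => (ha b hb).symm), h0]⟩)
  refine ⟨s, s.2, fun a ha => ?_⟩
  have e1 := DFunLike.congr_fun e (π ⟨a, ha⟩)
  rw [k4, MonoidHom.liftOfRightInverse_comp_apply] at e1
  have e2 := k5 _ (U.mul_mem (h1 a ha) (U.inv_mem (h.comm s s.2 a ha))) _ (h.comm s s.2 a ha)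
  rw [inv_mul_cancel_right, e1] at e2
  exact mul_inv_eq_one.1 (k6 _ (U.mul_mem (h1 a ha) (U.inv_mem (h.comm s s.2 a ha))) (by simpa [χ] using e2.symm))

theorem mem_E_of_dl (h1 : ∀ a ∈ E, dl g a ∈ U) (h2 : ∀ u ∈ U, dl g u = 1) : g ∈ E := by
  obtain ⟨s, hs, e⟩ := h.exists_eq_comm (dl g) h1 (fun a ha b hb => by
    rw [dl_mul, mul_assoc b⁻¹, h.cent _ (h1 a ha) b hb, inv_mul_cancel_left]) h2
  have : s⁻¹ * g ∈ U := h.self _ fun a ha => by
    have e1 := conj_eq_dl g a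
    rw [e a ha, ← h.cent _ (h.comm s hs a ha) a ha, commutatorElement_def] at e1
    calc s⁻¹ * g * a = s⁻¹ * (g * a * g⁻¹) * g := by group
      _ = _ := by rw [e1]; group
  simpa using E.mul_mem hs (h.le this)

/-- the double centraliser -/
theorem mem_of_comm_cent (hT : U ≤ T) (hTE : T ≤ E) (ht : t ∈ E) (hc : ∀ q ∈ E ⊓ C[T], t * q = q * t) : t ∈ T := by
  have hCE : ∀ {A : Subgroup G}, U ≤ A → A ≤ E → (C[E]).relIndex A = U.relIndex A := fun {A} h1 h2 => by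
    rw [← inf_relIndex_right, ← inf_relIndex_right U]
    congr 1
    exact le_antisymm (fun x hx => ⟨h.self x fun a ha => (mem_centralizer_iff.1 hx.1 a ha).symm, hx.2⟩)
      fun x hx => ⟨mem_centralizer_iff.2 fun a ha => (h.cent x hx.1 a ha).symm, hx.2⟩
  have hA : E ⊓ C[E ⊓ C[T]] ≤ E := inf_le_left
  have hTA : T ≤ E ⊓ C[E ⊓ C[T]] := fun x hx =>
    ⟨hTE hx, mem_centralizer_iff.2 fun q hq => (mem_centralizer_iff.1 hq.2 x hx).symm⟩
  have h1 := h.pair_le hA le_rfl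
  have h2 := h.pair_le le_rfl hTE
  have h3 : (C[E ⊓ C[E ⊓ C[T]]]).relIndex E ≤ (C[T]).relIndex E := by
    rw [← inf_relIndex_right C[T]]
    refine relIndex_le_of_le_left (fun q hq => mem_centralizer_iff.2 fun x hx =>
      (mem_centralizer_iff.1 hx.2 q ⟨hq.2, hq.1⟩).symm) (index_ne_zero_of_finite)
  rw [hCE (hT.trans hTA) hA] at h1
  rw [hCE hT hTE] at h2
  have h4 := relIndex_mul_relIndex U T _ hT hTA
  have h5 : U.relIndex T ≠ 0 := index_ne_zero_of_finite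
  have h6 : T.relIndex (E ⊓ C[E ⊓ C[T]]) ≠ 0 := index_ne_zero_of_finite
  have h7 : T.relIndex (E ⊓ C[E ⊓ C[T]]) = 1 := by
    have := (h1.trans h3).trans h2
    rw [← h4] at this
    nlinarith [Nat.pos_of_ne_zero h5, Nat.pos_of_ne_zero h6]
  exact relIndex_eq_one.1 h7 ⟨ht, mem_centralizer_iff.2 fun q hq => (hc q hq).symm⟩

theorem pow_eq_one {n : ℕ} (h1 : ∀ t ∈ E, t ^ n ∈ U) (h2 : ∀ s ∈ E, ∀ t ∈ E, ⁅s, t⁆ ^ n.choose 2 = 1)
    (h3 : ∀ u ∈ U, u ^ n = 1) (ht : t ∈ E) : t ^ n = 1 := by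
  obtain ⟨s, hs, e⟩ := h.exists_eq_comm (fun a => a ^ n) h1 (fun a ha b hb => by
    rw [h.mul_pow ha hb, h2 b hb a ha, mul_one]) h3
  have : s ∈ U := h.mem_of_fixed hs fun g => h.mem_U_of_comm (h.dl_mem g hs) fun a ha => by
    have ha' : g⁻¹ * a * g ∈ E := by simpa using h.nE.conj_mem a ha g⁻¹
    have e1 : ⁅g * s * g⁻¹, a⁆ = g * ⁅s, g⁻¹ * a * g⁆ * g⁻¹ := by simp only [commutatorElement_def]; group
    rw [← e _ ha', ← conj_pow, conj_eq_dl g s, h.comm_mul_left hs (h.dl_mem g hs) ha, ← e a ha] at e1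
    simpa [mul_assoc] using e1
  rw [e t ht, h.comm_U_left this ht]

theorem exists_sqfree : ∃ m : ℕ, Squarefree m ∧ ∀ t ∈ E, t ^ m ∈ U := by
  classical
  have hex : ∃ m : ℕ, 0 < m ∧ ∀ t ∈ E, t ^ m ∈ U := ⟨_, Nat.card_pos, fun t ht => h.pow_card_mem ht⟩
  obtain ⟨h1, h2⟩ := Nat.find_spec hex
  refine ⟨_, Nat.squarefree_iff_prime_squarefree.2 fun r hr ⟨j, e⟩ => ?_, h2⟩
  have hj : 0 < j := Nat.pos_of_ne_zero fun h0 => by simp [h0] at e
  let A : Subgroup G :=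
    { carrier := {x | ∃ t ∈ E, ∃ u ∈ U, t ^ (r * j) * u = x}
      one_mem' := ⟨1, E.one_mem, 1, U.one_mem, by simp⟩
      mul_mem' := by
        rintro _ _ ⟨a, ha, u, hu, rfl⟩ ⟨b, hb, w, hw, rfl⟩
        refine ⟨a * b, E.mul_mem ha hb, _, U.mul_mem (U.mul_mem (U.inv_mem (pow_mem (h.comm b hb a ha)
          ((r * j).choose 2))) hu) hw, ?_⟩
        rw [h.mul_pow ha hb, mul_assoc (a ^ _) u, ← mul_assoc u, h.cent u hu _ (pow_mem hb _)]; group
      inv_mem' := by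
        rintro _ ⟨a, ha, u, hu, rfl⟩
        exact ⟨a⁻¹, E.inv_mem ha, u⁻¹, U.inv_mem hu, by rw [← h.cent u hu _ (pow_mem ha _)]; group⟩ }
  have : A ≤ U := h.abn A ⟨by
      rintro _ ⟨a, ha, u, hu, rfl⟩ g
      exact ⟨_, h.nE.conj_mem a ha g, _, h.nU.conj_mem u hu g, by rw [conj_pow]; group⟩⟩
    (fun u hu => ⟨1, E.one_mem, u, hu, by simp⟩)
    (by rintro _ ⟨a, ha, u, hu, rfl⟩; exact E.mul_mem (pow_mem ha _) (h.le hu)) (by
      rintro _ ⟨a, ha, u, hu, rfl⟩ _ ⟨b, hb, w, hw, rfl⟩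
      have ha' := pow_mem ha (r * j)
      have hb' := pow_mem hb (r * j)
      rw [← comm_iff, h.comm_mul_left ha' (h.le hu) (E.mul_mem hb' (h.le hw)), h.comm_U_left hu (E.mul_mem hb' (h.le hw)),
        h.comm_mul_right ha' hb' (h.le hw), h.comm_U_right ha' hw, h.comm_pow_right ha' hb, ← h.comm_pow_left ha' hb,
        ← pow_mul, show r * j * (r * j) = r * r * j * j by ring, ← e, pow_mul, h.comm_U_left (pow_mem (h2 a ha) j) hb]
      simp)
  refine Nat.find_min hex (m := r * j) ?_ ⟨Nat.mul_pos hr.pos hj, fun t ht => this ⟨t, ht, 1, U.one_mem, mul_one _⟩⟩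
  rw [e, mul_assoc]
  exact lt_mul_of_one_lt_left (Nat.mul_pos hr.pos hj) hr.one_lt

theorem exists_pow_eq_one {r : ℕ} (hr : r.Prime) (h2 : r ≠ 2 ∨ 4 ∣ Nat.card U) (ht : t ∈ E) (htr : t ^ r ∈ U) :
    ∃ u ∈ U, (t * u) ^ r = 1 := by
  have hN : ∀ u ∈ U, u ^ Nat.card U = 1 := fun u hu => congrArg Subtype.val (pow_card_eq_one' (x := (⟨u, hu⟩ : U)))
  by_cases hd : r ∣ Nat.card U
  swap
  · refine ⟨t⁻¹, U.inv_mem (h.mem_U_of_comm ht fun a ha => ?_), by simp⟩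
    have h1 : ⁅t, a⁆ ^ r = 1 := by rw [← h.comm_pow_left ht ha, h.comm_U_left htr ha]
    have := pow_gcd_eq_one.2 ⟨h1, hN _ (h.comm t ht a ha)⟩
    rwa [(hr.coprime_iff_not_dvd.2 hd), pow_one] at this
  obtain ⟨N, hN'⟩ := hd
  obtain ⟨c, hc, e⟩ : ∃ c : ℕ, r.Coprime c ∧ t ^ (c * Nat.card U) = 1 := by
    by_cases h3 : r = 2
    · subst h3
      obtain ⟨M, hM⟩ := h2.resolve_left (by simp)
      obtain ⟨m, hm, hm'⟩ := h.exists_sqfree
      refine ⟨1, by simp, ?_⟩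
      rw [one_mul]
      refine h.pow_eq_one (fun t ht => h.pow_card_mem ht) (fun a ha b hb => ?_) hN ht
      have k1 : orderOf ⁅a, b⁆ ∣ m :=
        orderOf_dvd_of_pow_eq_one (by rw [← h.comm_pow_left ha hb, h.comm_U_left (hm' a ha) hb])
      have k2 : orderOf ⁅a, b⁆ ∣ (2 * M) ^ 2 :=
        (orderOf_dvd_of_pow_eq_one (hN _ (h.comm a ha b hb))).trans ⟨M, by rw [hM]; ring⟩
      refine orderOf_dvd_iff_pow_eq_one.1 (((hm.squarefree_of_dvd k1).dvd_pow_iff_dvd two_ne_zero).1 k2 |>.trans ?_)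
      rw [Nat.choose_two_right, hM]
      exact ⟨4 * M - 1, by rw [show 4 * M * (4 * M - 1) = 2 * (2 * M * (4 * M - 1)) by ring]; simp⟩
    · refine ⟨2, (Nat.coprime_primes hr Nat.prime_two).2 h3, h.pow_eq_one (fun t ht => ?_) (fun a ha b hb => ?_)
        (fun u hu => by rw [mul_comm, pow_mul, hN u hu, one_pow]) ht⟩
      · rw [mul_comm, pow_mul]; exact pow_mem (h.pow_card_mem ht) 2
      · rw [Nat.choose_two_right, mul_assoc, Nat.mul_div_cancel_left _ two_pos, pow_mul, hN _ (h.comm a ha b hb), one_pow]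
  haveI := h.cyc
  obtain ⟨⟨z, hz⟩, hz'⟩ := IsCyclic.exists_monoid_generator (α := U)
  obtain ⟨k, hk⟩ := hz' ⟨_, htr⟩
  replace hk : z ^ k = t ^ r := congrArg Subtype.val hk
  have ho : orderOf z = Nat.card U := by
    rw [← orderOf_eq_card_of_forall_mem_powers hz', ← Subgroup.orderOf_coe]
  have hN0 : 0 < N := Nat.pos_of_ne_zero fun h0 => by simp [h0, Nat.card_pos.ne'] at hN'
  have : r * N ∣ k * c * N := by
    rw [← hN', ← ho, orderOf_dvd_iff_pow_eq_one, mul_assoc, pow_mul, hk, ← pow_mul, ← e, hN']; congr 1; ring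
  obtain ⟨l, rfl⟩ := hc.dvd_of_dvd_mul_right (Nat.dvd_of_mul_dvd_mul_right hN0 this)
  refine ⟨(z ^ l)⁻¹, U.inv_mem (pow_mem hz l), ?_⟩
  rw [h.mul_U_pow ht (U.inv_mem (pow_mem hz l)), ← hk, inv_pow, ← pow_mul, mul_comm l, mul_inv_cancel]

/-- passing from elements of prime order modulo `U` to all elements -/
theorem pow_mem_of_primes {S : Subgroup G} (hS : S ≤ E) (hT : U ≤ T) {c : ℕ} (hc : c ≠ 0)
    (H : ∀ r : ℕ, r.Prime → ¬ r ∣ c → ∀ t ∈ S, t ^ r ∈ U → t ∈ T) (ht : t ∈ S) : t ^ c ∈ T := by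
  classical
  obtain ⟨m, hm, hm'⟩ := h.exists_sqfree
  obtain ⟨n, hn⟩ := exists_period T t
  have h1 : n ∣ m := (hn m).1 (hT (hm' t (hS ht)))
  have h2 : ∀ r : ℕ, r.Prime → r ∣ n → r ∣ c := fun r hr hd => by
    by_contra hn'
    obtain ⟨j, e⟩ := hd.trans h1
    have := (hn j).1 (H r hr hn' _ (pow_mem ht j) (by rw [← pow_mul, mul_comm, ← e]; exact hm' t (hS ht)))
    exact hr.one_lt.ne' (Nat.isUnit_iff.1 (hm r (e ▸ Nat.mul_dvd_mul_left r (hd.trans this))))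
  refine (hn c).2 ?_
  rw [← Nat.prod_primeFactors_of_squarefree (hm.squarefree_of_dvd h1)]
  refine (Finset.prod_dvd_prod_of_subset _ c.primeFactors _ fun r hr => ?_).trans (Nat.prod_primeFactors_dvd c)
  exact Nat.mem_primeFactors.2 ⟨Nat.prime_of_mem_primeFactors hr,
    h2 r (Nat.prime_of_mem_primeFactors hr) (Nat.dvd_of_mem_primeFactors hr), hc⟩

theorem exists_partner {r : ℕ} (hr : r.Prime) {d : G} (hd : d ∈ E) (hdU : d ∉ U) (hdr : d ^ r ∈ U) :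
    ∃ t ∈ E, t ^ r ∈ U ∧ ⁅d, t⁆ ≠ 1 := by
  obtain ⟨m, hm, hm'⟩ := h.exists_sqfree
  obtain ⟨s, hs, h1⟩ : ∃ s ∈ E, ⁅d, s⁆ ≠ 1 := by
    by_contra h0
    push Not at h0
    exact hdU (h.mem_U_of_comm hd h0)
  have h2 : orderOf ⁅d, s⁆ = r :=
    haveI := Fact.mk hr
    orderOf_eq_prime (by rw [← h.comm_pow_left hd hs, h.comm_U_left hdr hs]) h1
  obtain ⟨j, e⟩ : r ∣ m := by
    rw [← h2, orderOf_dvd_iff_pow_eq_one, ← h.comm_pow_right hd hs, h.comm_U_right hd (hm' s hs)]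
  refine ⟨s ^ j, pow_mem hs j, by rw [← pow_mul, mul_comm, ← e]; exact hm' s hs, fun h3 => ?_⟩
  rw [h.comm_pow_right hd hs, ← orderOf_dvd_iff_pow_eq_one, h2] at h3
  exact hr.one_lt.ne' (Nat.isUnit_iff.1 (hm r (e ▸ Nat.mul_dvd_mul_left r h3)))

theorem exists_pow_eq {r : ℕ} (hr : r.Prime) {z x : G} (hz : z ∈ U) (hz1 : z ≠ 1) (hzr : z ^ r = 1) (hx : x ∈ U)
    (hxr : x ^ r = 1) : ∃ j < r, x = z ^ j := by
  haveI := Fact.mk hr
  have ho := orderOf_eq_prime hzr hz1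
  have := mem_zpowers_of_isCyclic_of_pow_eq_one h.cyc hz ho hx hxr
  rw [← mem_powers_iff_mem_zpowers] at this
  obtain ⟨k, rfl⟩ := this
  exact ⟨k % r, Nat.mod_lt _ hr.pos, by rw [← ho, pow_mod_orderOf]⟩

end Finite

end GS

end CL.SL
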