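/-
Bases of solvable linear groups: the set-up of the primitive case and the weight spaces of a subgroup `D` of `E`.
-/
import Cfsg.Agent.Fgs.SLGrp
import Cfsg.Agent.Grp.FrobPartition

set_option autoImplicit false

open Subgroup CL.Odd CL.Grp
open scoped commutatorElement

namespace CL.SL

universe u

variable {G : Type u} [Group G] {V : Type*} [AddCommGroup V] [DistribMulAction G V] {p : ℕ} {U E D : Subgroup G}
  {a b c g s t u : G} {v w : V}

structure Setup (V : Type*) [AddCommGroup V] [DistribMulAction G V] (p : ℕ) (U E : Subgroup G) : Prop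
    extends GS U E where
  hp : p.Prime
  pv : ∀ v : V, p • v = 0
  cop : ¬ p ∣ Nat.card E
  fpf : ∀ u ∈ U, ∀ v : V, u • v = v → u = 1 ∨ v = 0

theorem exists_gs [Finite G] (hs : Group.IsSolvable G)
    (hc : ∀ N : Subgroup G, N.Normal → IsMulCommutative N → IsCyclic N) :
    ∃ U E : Subgroup G, GS U E ∧ IsMulCommutative U := by
  obtain ⟨U, -, ⟨nU, cU⟩, mU⟩ := Finite.exists_le_maximal (a := (⊥ : Subgroup G))
    (p := fun A : Subgroup G => A.Normal ∧ ∀ a ∈ A, ∀ b ∈ A, a * b = b * a) ⟨inferInstance, by simp⟩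
  obtain ⟨E, -, ⟨nE, le, comm, cent⟩, mE⟩ := Finite.exists_le_maximal (a := U)
    (p := fun A : Subgroup G => A.Normal ∧ U ≤ A ∧ (∀ a ∈ A, ∀ b ∈ A, ⁅a, b⁆ ∈ U) ∧ ∀ u ∈ U, ∀ a ∈ A, u * a = a * u)
    ⟨nU, le_rfl, fun a ha b hb => by rw [comm_iff.2 (cU a ha b hb)]; exact U.one_mem, cU⟩
  have hU : IsMulCommutative U := ⟨⟨fun a b => Subtype.ext (cU a a.2 b b.2)⟩⟩
  have abn : ∀ A : Subgroup G, A.Normal → U ≤ A → (∀ a ∈ A, ∀ b ∈ A, a * b = b * a) → A ≤ U :=
    fun A h1 h2 h3 => mU ⟨h1, h3⟩ h2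
  refine ⟨U, E, ⟨nU, nE, le, hc U nU hU, comm, cent, fun g hg => ?_, fun A h1 h2 _ h3 => abn A h1 h2 h3⟩, hU⟩
  by_contra hgU
  have hUC : U ≤ C[E] := fun u hu => mem_centralizer_iff.2 fun a ha => (cent u hu a ha).symm
  obtain ⟨M, hM, hle⟩ := exists_isMinNormal_le ((C[E]).map (QuotientGroup.mk' U))
    (hN := Normal.map inferInstance _ (QuotientGroup.mk'_surjective U)) fun h0 =>
      hgU ((QuotientGroup.eq_one_iff g).1 (mem_bot.1 (h0 ▸ mem_map_of_mem (QuotientGroup.mk' U)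
        (mem_centralizer_iff.2 fun a ha => (hg a ha).symm))))
  haveI := hM.normal
  have hc := hM.isMulCommutative_of_isSolvable inferInstance
  set D := M.comap (QuotientGroup.mk' U)
  have hD : D ≤ C[E] := by
    refine (comap_mono hle).trans ?_
    rw [comap_map_eq, QuotientGroup.ker_mk', sup_eq_left.2 hUC]
  have hDc : ∀ d ∈ D, ∀ a ∈ E, a * d = d * a := fun d hd a ha => mem_centralizer_iff.1 (hD hd) a ha
  have hUD : U ≤ D := fun u hu => by rw [mem_comap, QuotientGroup.mk'_apply, (QuotientGroup.eq_one_iff u).2 hu]; exact one_mem _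
  have key : ∀ x ∈ E ⊔ D, ∃ a ∈ E, ∃ d ∈ D, a * d = x := fun x hx =>
    (mem_sup_of_le_normalizer le_normalizer_of_normal).1 hx
  have hDE : E ⊔ D ≤ E := mE ⟨inferInstance, le.trans le_sup_left, fun x hx y hy => by
      obtain ⟨a, ha, d, hd, rfl⟩ := key x hx
      obtain ⟨b, hb, e, he, rfl⟩ := key y hy
      rw [← QuotientGroup.eq_one_iff, ← QuotientGroup.mk'_apply, map_commutatorElement, comm_iff, map_mul, map_mul]
      have c1 : Commute (QuotientGroup.mk' U a) (QuotientGroup.mk' U b) := by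
        rw [commute_iff_eq, ← comm_iff, ← map_commutatorElement]; exact (QuotientGroup.eq_one_iff _).2 (comm a ha b hb)
      have c2 : Commute (QuotientGroup.mk' U d) (QuotientGroup.mk' U e) :=
        congrArg Subtype.val (hc.is_comm.comm (⟨_, hd⟩ : M) ⟨_, he⟩)
      exact (c1.mul_right (Commute.map (hDc e he a ha) _)).mul_left
        ((Commute.map (hDc d hd b hb) _).symm.mul_right c2), fun u hu x hx => by
      obtain ⟨a, ha, d, hd, rfl⟩ := key x hx
      exact Commute.mul_right (cent u hu a ha) (hDc d hd u (le hu))⟩ le_sup_left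
  have := abn D inferInstance hUD fun a ha b hb => hDc b hb a (hDE (mem_sup_right ha))
  refine hM.ne_bot (eq_bot_iff.2 fun m hm => ?_)
  obtain ⟨m, rfl⟩ := QuotientGroup.mk'_surjective U m
  exact (QuotientGroup.eq_one_iff m).2 (this hm)

theorem exists_setup [Finite G] [Finite V] [Nontrivial V] (hs : Group.IsSolvable G) (hi : Irr G V)
    (ha : SemiregAb G V) : ∃ (p : ℕ) (U E : Subgroup G), Setup V p U E := by
  obtain ⟨U, E, h, hU⟩ := exists_gs hs fun N hN hc => by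
    letI : MulDistribMulAction N (Multiplicative V) :=
      { smul := fun n v => Multiplicative.ofAdd ((n : G) • v.toAdd)
        one_smul := fun v => congrArg Multiplicative.ofAdd (one_smul G v.toAdd)
        mul_smul := fun a b v => congrArg Multiplicative.ofAdd (mul_smul (a : G) (b : G) v.toAdd)
        smul_mul := fun a v w => congrArg Multiplicative.ofAdd (smul_add (a : G) v.toAdd w.toAdd)
        smul_one := fun a => congrArg Multiplicative.ofAdd (smul_zero (a : G)) }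
    exact isCyclic_of_comm_of_fpf_action (V := Multiplicative V) fun a h1 v hv =>
      (ha N hN hc a a.2 v.toAdd (congrArg Multiplicative.toAdd hv)).resolve_left fun h => h1 (Subtype.ext h)
  obtain ⟨p, hp, hd⟩ := Nat.exists_prime_and_dvd (Finite.one_lt_card (α := V)).ne'
  haveI := Fact.mk hp
  obtain ⟨v, hv⟩ := exists_prime_addOrderOf_dvd_card' p hd
  have pv : (nsmulAddMonoidHom p : V →+ V).ker = ⊤ := (hi _ fun g v hv => by
    rw [AddMonoidHom.mem_ker, nsmulAddMonoidHom_apply] at hv ⊢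
    rw [smul_comm, hv, smul_zero]).resolve_left fun h0 => by
      have : v ∈ (nsmulAddMonoidHom p : V →+ V).ker := by simp [← hv]
      rw [h0, AddSubgroup.mem_bot] at this
      rw [this, addOrderOf_zero] at hv
      exact hp.one_lt.ne hv
  have fpf := ha U h.nU hU
  have key : ∀ u ∈ U, u ^ p = 1 → u = 1 := fun u hu h1 => by
    have hP : IsPGroup p (zpowers u) := by
      rintro ⟨_, k, rfl⟩
      refine ⟨1, Subtype.ext (show (u ^ k) ^ p ^ 1 = 1 from ?_)⟩
      rw [pow_one, ← zpow_natCast, zpow_comm, zpow_natCast, h1, one_zpow]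
    obtain ⟨w, hw, h0⟩ := hP.exists_fixed_point_of_prime_dvd_card_of_fixed_point V hd (a := 0) fun x => smul_zero _
    exact (fpf u hu w (hw ⟨u, mem_zpowers u⟩)).resolve_right h0.symm
  refine ⟨p, U, E, h, hp, fun v => (eq_top_iff.1 pv (AddSubgroup.mem_top v) :), fun hE => ?_, fpf⟩
  obtain ⟨⟨t, ht⟩, ho⟩ := exists_prime_orderOf_dvd_card' p hE
  rw [← Subgroup.orderOf_coe] at ho
  have h1 : t ^ p = 1 := ho ▸ pow_orderOf_eq_one t
  have := key t (h.mem_U_of_comm ht fun a ha => key _ (h.comm t ht a ha) (by rw [← h.comm_pow_left ht ha, h1]; simp)) h1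
  simp only [this, orderOf_one] at ho
  exact hp.one_lt.ne ho

theorem Setup.prod (h : Setup V p U E) : Setup (V × V) p U E :=
  ⟨h.toGS, h.hp, fun v => Prod.ext (h.pv v.1) (h.pv v.2), h.cop, fun u hu v hv =>
    or_iff_not_imp_left.2 fun h1 => Prod.ext ((h.fpf u hu _ (congrArg Prod.fst hv)).resolve_left h1)
      ((h.fpf u hu _ (congrArg Prod.snd hv)).resolve_left h1)⟩

/-- `v` is fixed by `D` -/
def Fx (D : Subgroup G) (v : V) : Prop := ∀ d ∈ D, d • v = v

/-- `v` lies in the weight space `s C_V(D)` -/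
def In (D : Subgroup G) (s : G) (v : V) : Prop := Fx D (s⁻¹ • v)

theorem Fx.zero : Fx D (0 : V) := fun _ _ => smul_zero _

theorem Fx.add (h : Fx D v) (h' : Fx D w) : Fx D (v + w) := fun d hd => by rw [smul_add, h d hd, h' d hd]

theorem Fx.neg (h : Fx D v) : Fx D (-v) := fun d hd => by rw [smul_neg, h d hd]

theorem Fx.anti {D' : Subgroup G} (h : Fx D v) (hD : D' ≤ D) : Fx D' v := fun d hd => h d (hD hd)

theorem Fx.smul (h : Fx D v) (hg : g ∈ N[D]) : Fx D (g • v) := fun d hd => by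
  have := h _ ((mem_normalizer_iff''.1 hg d).1 hd)
  rwa [mul_smul, mul_smul, inv_smul_eq_iff] at this

theorem Fx.smulc (h : Fx D v) (hg : g ∈ C[D]) : Fx D (g • v) := h.smul (centralizer_le_normalizer _ hg)

theorem Fx.blk (h : Fx D v) (s : G) : In D s (s • v) := by rwa [In, inv_smul_smul]

theorem Fx.blk1 (h : Fx D v) : In D 1 v := by rwa [In, inv_one, one_smul]

theorem In.smul (h : In D s v) (t : G) : In D (t * s) (t • v) := by rwa [In, mul_inv_rev, mul_smul, inv_smul_smul]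

theorem In.conj (h : In D s v) (hg : g ∈ N[D]) : In D (g * s * g⁻¹) (g • v) := by
  have := Fx.smul h hg
  rwa [In, mul_inv_rev, mul_inv_rev, inv_inv, mul_smul, mul_smul, inv_smul_smul]

theorem In.of (h : In D s v) (hc : t⁻¹ * s ∈ C[D]) : In D t v := by
  have := Fx.smulc h hc
  rwa [mul_smul, smul_inv_smul] at this

open Classical in
/-- `|D|` times the projection on the weight space `s C_V(D)` -/
noncomputable def pr [Finite G] (D : Subgroup G) (s : G) : V →+ V :=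
  letI := Fintype.ofFinite D
  AddMonoidHom.mk' (fun v => s • ∑ d : D, (d : G) • s⁻¹ • v) fun v w => by simp [Finset.sum_add_distrib]

theorem In.pr_eq [Finite G] (h : In D s v) : pr D s v = Nat.card D • v := by
  letI := Fintype.ofFinite D
  have : ∀ d : D, (d : G) • s⁻¹ • v = s⁻¹ • v := fun d => h d d.2
  simp only [pr, AddMonoidHom.mk'_apply, this, Finset.sum_const, Finset.card_univ, Nat.card_eq_fintype_card]
  rw [smul_comm, smul_inv_smul]

theorem conj_mem_cent (hg : g ∈ N[D]) : g * s * g⁻¹ ∈ C[D] ↔ s ∈ C[D] := by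
  have := normal_subgroupOf_centralizer_normalizer (D : Set G)
  refine ⟨fun h => ?_, fun h => this.conj_mem ⟨s, centralizer_le_normalizer _ h⟩ h ⟨g, hg⟩⟩
  simpa [mem_subgroupOf, mul_assoc] using this.conj_mem ⟨_, centralizer_le_normalizer _ h⟩ h ⟨g, hg⟩⁻¹

theorem smul_ne (g : G) (hv : v ≠ 0) : g • v ≠ 0 := fun h => hv ((smul_eq_zero_iff_eq g).1 h)

theorem eq_one_of_inf (hDU : D ⊓ U = ⊥) (h1 : a ∈ D) (h2 : a ∈ U) : a = 1 := mem_bot.1 (hDU ▸ mem_inf.2 ⟨h1, h2⟩)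

namespace Setup

variable (h : Setup V p U E)
include h

theorem eq_zero_of_nsmul {n : ℕ} (hn : ¬ p ∣ n) (e : n • v = 0) : v = 0 := by
  have := Nat.dvd_gcd (addOrderOf_dvd_of_nsmul_eq_zero (h.pv v)) (addOrderOf_dvd_of_nsmul_eq_zero e)
  rwa [(h.hp.coprime_iff_not_dvd.2 hn), Nat.dvd_one, AddMonoid.addOrderOf_eq_one_iff] at this

theorem cancel (hD : D ≤ E) (e : Nat.card D • v = Nat.card D • w) : v = w :=
  sub_eq_zero.1 (h.eq_zero_of_nsmul (fun h1 => h.cop (h1.trans (card_dvd_of_le hD))) (by rw [smul_sub, e, sub_self]))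

theorem eq_one (hu : u ∈ U) (hv : v ≠ 0) (e : u • v = v) : u = 1 := (h.fpf u hu v e).resolve_right hv

theorem U_le_cent (hD : D ≤ E) : U ≤ E ⊓ C[D] := fun u hu =>
  ⟨h.le hu, mem_centralizer_iff.2 fun d hd => (h.cent u hu d (hD hd)).symm⟩

theorem smul_U (hu : u ∈ U) (ht : t ∈ E) (v : V) : u • t • v = t • u • v := by
  rw [← mul_smul, h.cent u hu t ht, mul_smul]

variable [Finite G]

theorem pr_out (hD : D ≤ E) (hs : s ∈ E) (ht : t ∈ E) (hv : In D t v) (hc : s⁻¹ * t ∉ C[D]) : pr D s v = 0 := by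
  letI := Fintype.ofFinite D
  rw [mem_centralizer_iff] at hc
  push Not at hc
  obtain ⟨d, hd, hne⟩ := hc
  have hst := E.mul_mem (E.inv_mem hs) ht
  have hz := h.comm d (hD hd) _ hst
  have e : d • s⁻¹ • v = ⁅d, s⁻¹ * t⁆ • s⁻¹ • v := by
    have := hv d hd
    rw [← smul_inv_smul t v, ← mul_smul s⁻¹, ← mul_smul d, mul_eq_comm, mul_smul, mul_smul, this]
  have : ⁅d, s⁻¹ * t⁆ • ∑ x : D, (x : G) • s⁻¹ • v = ∑ x : D, (x : G) • s⁻¹ • v := by
    rw [Finset.smul_sum, ← Equiv.sum_comp (Equiv.mulRight (⟨d, hd⟩ : D)) fun x : D => (x : G) • s⁻¹ • v]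
    exact Finset.sum_congr rfl fun x _ => by rw [h.smul_U hz (hD x.2), ← e, ← mul_smul]; rfl
  simp only [pr, AddMonoidHom.mk'_apply]
  rw [(h.fpf _ hz _ this).resolve_left (mt comm_iff.1 hne), smul_zero]

theorem pr_sum (hD : D ≤ E) {ι : Type*} [Fintype ι] {t : ι → G} {η : ι → V} (ht : ∀ i, t i ∈ E)
    (hη : ∀ i, In D (t i) (η i)) (inj : ∀ i j, (t i)⁻¹ * t j ∈ C[D] → i = j) (hs : s ∈ E) :
    (∃ i, s⁻¹ * t i ∈ C[D] ∧ pr D s (∑ i, η i) = Nat.card D • η i) ∨
      ((∀ i, s⁻¹ * t i ∉ C[D]) ∧ pr D s (∑ i, η i) = 0) := by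
  rw [map_sum]
  by_cases hi : ∃ i, s⁻¹ * t i ∈ C[D]
  · obtain ⟨i, hi⟩ := hi
    refine .inl ⟨i, hi, ?_⟩
    rw [Finset.sum_eq_single i (fun j _ hj => h.pr_out hD hs (ht j) (hη j) fun hc => hj (inj j i ?_)) (by simp),
      ((hη i).of hi).pr_eq]
    simpa [mul_assoc] using mul_mem (inv_mem hc) hi
  · push Not at hi
    exact .inr ⟨hi, Finset.sum_eq_zero fun i _ => h.pr_out hD hs (ht i) (hη i) (hi i)⟩

theorem rep_unique (hD : D ≤ E) {ι κ : Type*} [Fintype ι] [Fintype κ] {t : ι → G} {η : ι → V} {t' : κ → G} {η' : κ → V}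
    (ht : ∀ i, t i ∈ E) (hη : ∀ i, In D (t i) (η i)) (inj : ∀ i j, (t i)⁻¹ * t j ∈ C[D] → i = j)
    (ht' : ∀ i, t' i ∈ E) (hη' : ∀ i, In D (t' i) (η' i)) (inj' : ∀ i j, (t' i)⁻¹ * t' j ∈ C[D] → i = j)
    (e : ∑ i, η i = ∑ j, η' j) (i : ι) (hi : η i ≠ 0) : ∃ j, (t i)⁻¹ * t' j ∈ C[D] ∧ η i = η' j := by
  obtain ⟨k, hk, e1⟩ | ⟨h1, -⟩ := h.pr_sum hD ht hη inj (ht i)
  · obtain rfl := inj _ _ hk
    obtain ⟨j, hj, e2⟩ | ⟨-, e2⟩ := h.pr_sum hD ht' hη' inj' (ht i)
    · exact ⟨j, hj, h.cancel hD (by rw [← e1, e, e2])⟩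
    · exact (hi (h.cancel hD (by rw [← e1, e, e2, smul_zero]))).elim
  · exact (h1 i (by simp)).elim

theorem fix_conj (hD : D ≤ E) {ι : Type*} [Fintype ι] {t : ι → G} {η : ι → V} (ht : ∀ i, t i ∈ E)
    (hη : ∀ i, In D (t i) (η i)) (inj : ∀ i j, (t i)⁻¹ * t j ∈ C[D] → i = j) (hg : g ∈ N[D])
    (e : g • ∑ i, η i = ∑ i, η i) (i : ι) (hi : η i ≠ 0) :
    ∃ j, (g * t i * g⁻¹)⁻¹ * t j ∈ C[D] ∧ g • η i = η j := by
  rw [Finset.smul_sum] at e
  refine h.rep_unique hD (fun i => h.nE.conj_mem _ (ht i) g) (fun i => (hη i).conj hg) (fun i j hc => inj i j ?_) ht hη inj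
    e i (smul_ne g hi)
  rw [← conj_mem_cent hg]
  simpa [mul_assoc] using hc

theorem fix_mul (hD : D ≤ E) {ι : Type*} [Fintype ι] {t : ι → G} {η η' : ι → V} (ht : ∀ i, t i ∈ E)
    (hη : ∀ i, In D (t i) (η i)) (hη' : ∀ i, In D (t i) (η' i)) (inj : ∀ i j, (t i)⁻¹ * t j ∈ C[D] → i = j) (hg : g ∈ E)
    (e : g • ∑ i, η i = ∑ i, η' i) (i : ι) (hi : η i ≠ 0) : ∃ j, (g * t i)⁻¹ * t j ∈ C[D] ∧ g • η i = η' j := by
  rw [Finset.smul_sum] at e
  exact h.rep_unique hD (fun i => E.mul_mem hg (ht i)) (fun i => (hη i).smul g)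
    (fun i j hc => inj i j (by simpa [mul_assoc] using hc)) ht hη' inj e i (smul_ne g hi)

omit [Finite G] in
theorem comm_of_mem (hD : D ≤ E) (hDU : D ⊓ U = ⊥) (ha : a ∈ E) (hb : b ∈ E) (h1 : dl g a ∈ D) (h2 : dl g b ∈ D)
    (h3 : dl g (a * b) ∈ D) : dl g a * b = b * dl g a := by
  rw [dl_mul, D.mul_mem_cancel_right h2, show b⁻¹ * dl g a * b = ⁅b⁻¹, dl g a⁆ * dl g a by simp [commutatorElement_def],
    D.mul_mem_cancel_right h1] at h3
  have := comm_iff.1 (eq_one_of_inf hDU h3 (h.comm _ (E.inv_mem hb) _ (hD h1)))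
  exact (Commute.inv_left_iff.1 this).symm

omit [Finite G] in
theorem final (hD : D ≤ E) (hDU : D ⊓ U = ⊥) (hv : v ≠ 0) (hg : g • v = v) (H : ∀ t ∈ E, dl g t ∈ D) : g = 1 := by
  refine h.eq_one (h.self g fun a ha => comm_of_dl (eq_one_of_inf hDU (H a ha) (h.self _ fun b hb => ?_))) hv hg
  exact h.comm_of_mem hD hDU ha hb (H a ha) (H b hb) (H _ (E.mul_mem ha hb))

end Setup

theorem norm_of_fix (hE : E.Normal) (hD : D ≤ E) (h1 : Fx D v) (h2 : ∀ t ∈ E, t • v = v → t ∈ D) (hg : g • v = v) :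
    g ∈ N[D] := by
  have key : ∀ g : G, g • v = v → ∀ d ∈ D, g * d * g⁻¹ ∈ D := fun g hg d hd => h2 _ (hE.conj_mem d (hD hd) g) (by
    rw [mul_smul, mul_smul, inv_smul_eq_iff.2 hg.symm, h1 d hd, hg])
  refine mem_normalizer_iff.2 fun d => ⟨key g hg d, fun hd => ?_⟩
  simpa [mul_assoc] using key g⁻¹ (inv_smul_eq_iff.2 hg.symm) _ hd

theorem smul_smul_dl (g t : G) (v : V) : g • t • v = t • dl g t • g • v := by
  rw [← mul_smul t, ← conj_eq_dl, ← mul_smul, ← mul_smul]; simp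

end CL.SL
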