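/-
Bases of solvable linear groups: a rigid colouring of a finite abelian group with four colours.
-/
import Cfsg.Agent.Fgs.SLGrp

set_option autoImplicit false

open Subgroup CL.Odd CL.Grp
open scoped commutatorElement

namespace CL.SL

universe u

section Col

variable {Ω : Type*} [CommGroup Ω]

/-- the properties of the colouring -/
structure Col (c : Ω → Fin 4) : Prop where
  rigid : ∀ φ : Ω →* Ω, Function.Injective φ → (∀ ω ≠ 1, c (φ ω) = c ω) → ∀ ω, φ ω = ω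
  gen1 : ∀ A : Subgroup Ω, (∀ ω ≠ 1, c ω = 0 ∨ c ω = 1 → ω ∈ A) → A = ⊤
  gen2 : ∀ A : Subgroup Ω, (∀ ω ≠ 1, c ω = 0 ∨ c ω = 2 → ω ∈ A) → A = ⊤
  three : ∀ e, c e = 3 → ∃ a b d, e = a * b * d ∧ ∀ x ∈ [a, b, d, a * b, b * d, a * d], c x ≠ 3
  one : c 1 ≠ 3
  two : (∃ ω : Ω, ω ^ 2 ≠ 1) → ∃ ω ≠ 1, c ω = 2

theorem exists_chain [Finite Ω] {x : Ω} (hx : x ≠ 1) : ∃ (n : ℕ) (e : ℕ → Ω), 1 ≤ n ∧ e 0 = x ∧
    (∀ j < n, e j ∉ closure (e '' Set.Iio j)) ∧ closure (e '' Set.Iio n) = ⊤ := by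
  let S : Set ℕ := {n | 1 ≤ n ∧ ∃ e : ℕ → Ω, e 0 = x ∧ ∀ j < n, e j ∉ closure (e '' Set.Iio j)}
  have hS : S.Finite := (Set.finite_Iic (Nat.card Ω)).subset fun n ⟨_, e, _, h⟩ => by
    have : Function.Injective fun i : Fin n => e i := fun i j hij => by
      by_contra hne
      wlog hlt : i < j generalizing i j
      · exact this j i hij.symm (Ne.symm hne) (lt_of_le_of_ne (not_lt.1 hlt) (Ne.symm hne))
      exact h j j.2 (subset_closure ⟨i, hlt, hij⟩)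
    simpa using Nat.card_le_card_of_injective _ this
  obtain ⟨n, ⟨h1, e, h2, h3⟩, hm⟩ := hS.exists_maximal ⟨1, le_rfl, fun _ => x, rfl, fun j hj => by
    obtain rfl : j = 0 := by omega
    simpa using hx⟩
  refine ⟨n, e, h1, h2, h3, eq_top_iff.2 fun y _ => by_contra fun hy => ?_⟩
  have key : ∀ j ≤ n, Function.update e n y '' Set.Iio j = e '' Set.Iio j := fun j hj =>
    Set.image_congr fun i hi => Function.update_of_ne (lt_of_lt_of_le hi hj).ne _ _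
  have := hm (y := n + 1) ⟨by omega, Function.update e n y, by rwa [Function.update_of_ne (by omega)], fun j hj => by
    rw [key j (by omega)]
    obtain rfl | hj := (Nat.lt_succ_iff.1 hj).eq_or_lt
    · rwa [Function.update_self]
    · rw [Function.update_of_ne hj.ne]; exact h3 j hj⟩ (by omega)
  omega

theorem exists_col (Ω : Type*) [CommGroup Ω] [Finite Ω] : ∃ c : Ω → Fin 4, Col c := by
  classical
  obtain h0 | h0 := subsingleton_or_nontrivial Ω
  · exact ⟨fun _ => 2, fun φ _ _ ω => Subsingleton.elim _ _, fun A _ => Subsingleton.elim _ _,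
      fun A _ => Subsingleton.elim _ _, fun e h => by simp at h, by simp, fun ⟨ω, h⟩ => (h (Subsingleton.elim _ _)).elim⟩
  obtain ⟨x, hx, hx2⟩ : ∃ x : Ω, x ≠ 1 ∧ (x ^ 2 = 1 → ∀ ω : Ω, ω ^ 2 = 1) := by
    by_cases h : ∀ ω : Ω, ω ^ 2 = 1
    · obtain ⟨x, hx⟩ := exists_ne (1 : Ω)
      exact ⟨x, hx, fun _ => h⟩
    · push Not at h
      obtain ⟨x, hx⟩ := h
      exact ⟨x, by rintro rfl; simp at hx, fun h => (hx h).elim⟩
  obtain ⟨n, e, hn, rfl, he, htop⟩ := exists_chain hx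
  set H : ℕ → Subgroup Ω := fun j => closure (e '' Set.Iio j) with hH
  have mono : ∀ {i j}, i ≤ j → H i ≤ H j := fun hij => closure_mono (Set.image_mono (Set.Iio_subset_Iio hij))
  have mem : ∀ {i j}, i < j → e i ∈ H j := fun hij => subset_closure ⟨_, hij, rfl⟩
  set P : ℕ → Ω := fun j => ∏ i ∈ Finset.range j, e i with hP
  have hPs : ∀ j, P (j + 1) = P j * e j := fun j => Finset.prod_range_succ _ _
  have Pm : ∀ j, P j ∈ H j := fun j => prod_mem fun i hi => mem (Finset.mem_range.1 hi)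
  have lev : ∀ {i j a b}, i < n → j < n → a ∈ H i → b ∈ H j → a * e i = b * e j → i = j := fun {i j a b} hi hj ha hb h => by
    by_contra hne
    wlog hlt : i < j generalizing i j a b
    · exact this hj hi hb ha h.symm (Ne.symm hne) (by omega)
    exact he j hj (((H j).mul_mem_cancel_left hb).1 (h ▸ mul_mem (mono hlt.le ha) (mem hlt)))
  have ne1 : ∀ {i a}, i < n → a ∈ H i → a * e i ≠ 1 := fun {i a} hi ha h =>
    he i hi (((H i).mul_mem_cancel_left ha).1 (h ▸ one_mem _))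
  have en : ∀ {i}, i < n → e i ≠ 1 := fun hi => by simpa using ne1 hi (one_mem _)
  have einj : ∀ {i j}, i < n → j < n → e i = e j → i = j := fun hi hj h =>
    lev hi hj (one_mem _) (one_mem _) (by simpa using h)
  have Pe : ∀ {i j}, i < n → 1 ≤ j → j < n → P (j + 1) ≠ e i := fun {i j} hi h1 hj h => by
    rw [hPs, ← one_mul (e i)] at h
    obtain rfl := lev hj hi (Pm _) (one_mem _) h
    obtain ⟨k, rfl⟩ := Nat.exists_eq_add_of_le' h1
    exact ne1 (by omega) (Pm k) (hPs k ▸ mul_right_cancel h)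
  have top : ∀ A : Subgroup Ω, (∀ j < n, e j ∈ A) → A = ⊤ := fun A h =>
    eq_top_iff.2 (htop ▸ (closure_le _).2 (by rintro _ ⟨j, hj, rfl⟩; exact h j hj))
  set c0 : Fin 4 := if n = 1 then 0 else if n = 2 ∧ e 0 ^ 2 = 1 then 2 else 3 with hc0
  set c : Ω → Fin 4 := fun ω => if ω = e 0 then c0 else if ∃ j, 1 ≤ j ∧ j < n ∧ ω = e j then 0 else
    if ∃ j, 1 ≤ j ∧ j < n ∧ ω = P (j + 1) then 1 else 2 with hc
  have c_e0 : c (e 0) = c0 := by simp [hc]
  have c_e : ∀ {j}, 1 ≤ j → j < n → c (e j) = 0 := fun {j} h1 h2 => by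
    simp only [hc]
    rw [if_neg fun h => by have := einj h2 hn h; omega, if_pos ⟨j, h1, h2, rfl⟩]
  have c_P : ∀ {j}, 1 ≤ j → j < n → c (P (j + 1)) = 1 := fun {j} h1 h2 => by
    simp only [hc]
    rw [if_neg (Pe hn h1 h2), if_neg fun ⟨i, _, hi, h⟩ => Pe hi h1 h2 h, if_pos ⟨j, h1, h2, rfl⟩]
  have c_2 : ∀ {ω}, (∀ j < n, ω ≠ e j) → (∀ j, 1 ≤ j → j < n → ω ≠ P (j + 1)) → c ω = 2 := fun h1 h2 => by
    simp only [hc]
    rw [if_neg (h1 0 hn), if_neg fun ⟨i, _, hi, h⟩ => h1 i hi h, if_neg fun ⟨i, h0, hi, h⟩ => h2 i h0 hi h]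
  have of0 : ∀ {ω}, ω ≠ e 0 → c ω = 0 → ∃ j, 1 ≤ j ∧ j < n ∧ ω = e j := fun h1 h2 => by
    simp only [hc, if_neg h1] at h2; split_ifs at h2 with h3 h4 <;> first | exact h3 | simp at h2
  have of1 : ∀ {ω}, ω ≠ e 0 → c ω = 1 → ∃ j, 1 ≤ j ∧ j < n ∧ ω = P (j + 1) := fun h1 h2 => by
    simp only [hc, if_neg h1] at h2; split_ifs at h2 with h3 h4 <;> first | exact h4 | simp at h2
  have of3 : ∀ {ω}, ω ≠ e 0 → c ω ≠ 3 := fun h1 h2 => by
    simp only [hc, if_neg h1] at h2; split_ifs at h2 with h3 h4 <;> simp at h2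
  have P2 : P 2 = e 0 * e 1 := by simp [hP, Finset.prod_range_succ]
  have cinv : e 0 ^ 2 ≠ 1 → c (e 0)⁻¹ = 2 := fun h => by
    have k : (e 0)⁻¹ ∈ H 1 := inv_mem (mem one_pos)
    refine c_2 (fun j hj h1 => ?_) fun j h1 hj h2 => he j hj (((H j).mul_mem_cancel_left (Pm j)).1 (hPs j ▸ h2 ▸ mono h1 k))
    obtain rfl | h2 := Nat.eq_zero_or_pos j
    · exact h (by rw [sq]; nth_rw 1 [← h1]; simp)
    · exact he j hj (h1 ▸ mono h2 k)
  have c3 : c0 = 3 → 2 ≤ n ∧ (e 0 ^ 2 = 1 → 3 ≤ n) := fun h => by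
    rw [hc0] at h
    split_ifs at h with h1 h2 <;> try simp at h
    exact ⟨by omega, fun h3 => by have : n ≠ 2 := fun h4 => h2 ⟨h4, h3⟩; omega⟩
  refine ⟨c, fun φ hφ h => ?_, fun A h => top A ?_, fun A h => top A ?_, fun x h => ?_, of3 hx.symm,
    fun ⟨ω, h⟩ => ⟨_, inv_ne_one.2 hx, cinv fun h1 => h (hx2 h1 ω)⟩⟩
  · have f0 : φ (e 0) = e 0 := by
      by_contra hne
      have h1 := (h _ hx).trans c_e0
      rw [hc0] at h1
      split_ifs at h1 with h2 h3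
      · obtain ⟨j, _, _, -⟩ := of0 hne h1; omega
      · obtain ⟨rfl, h3⟩ := h3
        have h4 : ∀ ω : Ω, ω * ω = 1 := fun ω => sq ω ▸ hx2 h3 ω
        let A : Subgroup Ω :=
          { carrier := {1, e 0, e 1, e 0 * e 1}
            one_mem' := by simp
            mul_mem' := by
              rintro a b (rfl | rfl | rfl | rfl) (rfl | rfl | rfl | rfl) <;>
                simp [h4, ← mul_assoc, mul_comm (e 1), mul_right_comm (e 0) (e 1) (e 0)] <;> simp [h4, mul_assoc]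
            inv_mem' := fun {a} ha => by rwa [inv_eq_of_mul_eq_one_right (h4 a)] }
        have : φ (e 0) ∈ A := top A (fun j hj => by interval_cases j <;> simp [A, ← SetLike.mem_coe]) ▸ mem_top _
        rcases this with h5 | h5 | h5 | h5
        · exact hx (hφ (h5.trans φ.map_one.symm))
        · exact hne h5
        · rw [h5, c_e le_rfl one_lt_two] at h1; simp at h1
        · rw [h5, ← P2, c_P le_rfl one_lt_two] at h1; simp at h1
      · exact of3 hne h1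
    have key : ∀ j < n, φ (e j) = e j := fun j => Nat.strong_induction_on j fun j ih hj => by
      obtain rfl | h1 := Nat.eq_zero_or_pos j
      · exact f0
      have fx : ∀ a ∈ H j, φ a = a := fun a ha =>
        (closure_le (φ.eqLocus (MonoidHom.id Ω))).2 (by rintro _ ⟨i, hi, rfl⟩; exact ih i hi (lt_trans hi hj)) ha
      obtain ⟨m, -, hm, e1⟩ := of0 (fun h2 => by have := einj hj hn (hφ (h2.trans f0.symm)); omega)
        ((h _ (en hj)).trans (c_e h1 hj))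
      have hjm : j ≤ m := not_lt.1 fun h2 => by have := einj hj hm (hφ (e1.trans (fx _ (mem h2)).symm)); omega
      obtain ⟨l, -, hl, e2⟩ := of1 (fun h2 => Pe hn h1 hj (hφ (h2.trans f0.symm)))
        ((h _ (hPs j ▸ ne1 hj (Pm j))).trans (c_P h1 hj))
      rw [hPs, hPs, map_mul, fx _ (Pm j), e1] at e2
      obtain rfl := lev hm hl (mono hjm (Pm j)) (Pm _) e2
      obtain rfl | h2 := hjm.eq_or_lt
      · exact e1
      obtain ⟨k, rfl⟩ := Nat.exists_eq_add_of_lt h2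
      exact (he _ (by omega) (((H _).mul_mem_cancel_left (Pm _)).1
        (hPs _ ▸ mul_right_cancel e2 ▸ mono (Nat.le_add_right j k) (Pm j)))).elim
    exact fun ω => show ω ∈ φ.eqLocus (MonoidHom.id Ω) from top (φ.eqLocus (MonoidHom.id Ω)) key ▸ mem_top _
  · have h1 : ∀ j, 1 ≤ j → j < n → e j ∈ A := fun j h1 hj => h _ (en hj) (.inl (c_e h1 hj))
    intro j hj
    obtain rfl | h2 := Nat.eq_zero_or_pos j
    · by_cases h3 : n = 1
      · exact h _ hx (.inl (by rw [c_e0, hc0, if_pos h3]))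
      · have h4 : 1 < n := by omega
        exact (A.mul_mem_cancel_right (h1 1 le_rfl h4)).1
          (P2 ▸ h _ (hPs 1 ▸ ne1 h4 (Pm 1)) (.inr (c_P le_rfl h4)))
    · exact h1 j h2 hj
  · have h1 : ∀ j, 1 ≤ j → j < n → e j ∈ A := fun j h1 hj => h _ (en hj) (.inl (c_e h1 hj))
    intro j hj
    obtain rfl | h2 := Nat.eq_zero_or_pos j
    swap
    · exact h1 j h2 hj
    by_cases h3 : c0 = 3
    swap
    · refine h _ hx ?_
      rw [c_e0]
      rw [hc0] at h3 ⊢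
      split_ifs at h3 ⊢ <;> simp at h3 ⊢
    by_cases h4 : e 0 ^ 2 = 1
    · have h5 : 2 < n := (c3 h3).2 h4
      refine (A.mul_mem_cancel_right (h1 2 one_le_two h5)).1 (h _ (ne1 h5 (mem two_pos)) (.inr (c_2 (fun j hj h6 => ?_)
        fun j h6 hj h7 => ?_)))
      · rw [← one_mul (e j)] at h6
        obtain rfl := lev h5 hj (mem two_pos) (one_mem _) h6
        exact hx (mul_right_cancel h6)
      · rw [hPs] at h7
        obtain rfl := lev h5 hj (mem two_pos) (Pm _) h7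
        exact en (by omega : 1 < n) (by simpa [P2] using mul_right_cancel h7)
    · exact inv_mem_iff.1 (h _ (inv_ne_one.2 hx) (.inr (cinv h4)))
  · obtain rfl : x = e 0 := by_contra fun h1 => of3 h1 h
    obtain ⟨h1, h2⟩ := c3 (c_e0 ▸ h)
    suffices ∃ a b d : Ω, e 0 = a * b * d ∧ (a ≠ 1 ∧ b ≠ 1 ∧ d ≠ 1) ∧ a ≠ e 0 ∧ b ≠ e 0 ∧ d ≠ e 0 by
      obtain ⟨a, b, d, k, ⟨k1, k2, k3⟩, k4, k5, k6⟩ := this
      refine ⟨a, b, d, k, fun y hy => of3 ?_⟩
      simp only [List.mem_cons, List.not_mem_nil, or_false] at hy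
      rcases hy with rfl | rfl | rfl | rfl | rfl | rfl <;> try assumption
      · simpa [k] using k3
      · simpa [k, mul_assoc] using k1
      · simpa [k, mul_right_comm a b d] using k2
    have h3 : e 1 ≠ e 0 := fun h => by have := einj h1 hn h; omega
    by_cases h4 : e 0 ^ 2 = 1
    · have h5 := h2 h4
      refine ⟨e 1, e 2, P 3, ?_, ⟨en h1, en h5, hPs 2 ▸ ne1 h5 (Pm 2)⟩, h3, fun h => by have := einj h5 hn h; omega,
        Pe hn one_le_two h5⟩
      rw [hPs, P2, show e 1 * e 2 * (e 0 * e 1 * e 2) = e 0 * e 1 ^ 2 * e 2 ^ 2 by simp only [sq]; ac_rfl, hx2 h4, hx2 h4]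
      simp
    · refine ⟨(e 0)⁻¹, e 0 * e 1, e 0 * (e 1)⁻¹, by simp [mul_comm, mul_left_comm], ⟨inv_ne_one.2 hx, ne1 h1 (mem one_pos),
        fun h => h3 (mul_inv_eq_one.1 h).symm⟩, fun h => h4 (by rw [sq]; nth_rw 1 [← h]; simp), by simpa using en h1,
        by simpa using en h1⟩

end Col

variable {G : Type u} [Group G] {U E Q : Subgroup G}

/-- the colouring of `E / Q` -/
structure GCol (E Q : Subgroup G) (c : G → Fin 4) : Prop where
  coset : ∀ t ∈ E, ∀ q ∈ Q, c (t * q) = c t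
  rigid : ∀ g ∈ N[Q], (∀ t ∈ E, t ∉ Q → c (g * t * g⁻¹) = c t) → ∀ t ∈ E, dl g t ∈ Q
  gen1 : ∀ A : Subgroup G, Q ≤ A → (∀ t ∈ E, t ∉ Q → c t = 0 ∨ c t = 1 → t ∈ A) → E ≤ A
  gen2 : ∀ A : Subgroup G, Q ≤ A → (∀ t ∈ E, t ∉ Q → c t = 0 ∨ c t = 2 → t ∈ A) → E ≤ A
  three : ∀ e ∈ E, c e = 3 → ∃ a ∈ E, ∃ b ∈ E, ∃ d ∈ E, e = a * b * d ∧ ∀ x ∈ [a, b, d, a * b, b * d, a * d], c x ≠ 3
  two : (∃ t ∈ E, t ^ 2 ∉ Q) → ∃ t ∈ E, t ∉ Q ∧ c t = 2

theorem GS.exists_gcol [Finite G] (h : GS U E) (hQ : U ≤ Q) (hQE : Q ≤ E) : ∃ c, GCol E Q c := by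
  classical
  haveI hn : (Q.subgroupOf E).Normal := ⟨fun x hx y => h.normal_in hQ hQE y.2 hx⟩
  letI : CommGroup (E ⧸ Q.subgroupOf E) := { (inferInstance : Group _) with
    mul_comm := fun x y => by
      obtain ⟨x, rfl⟩ := QuotientGroup.mk_surjective x
      obtain ⟨y, rfl⟩ := QuotientGroup.mk_surjective y
      rw [← QuotientGroup.mk_mul, ← QuotientGroup.mk_mul, QuotientGroup.eq, mem_subgroupOf]
      have : (((x * y)⁻¹ * (y * x) : E) : G) = ⁅(y : G)⁻¹, (x : G)⁻¹⁆ := by simp [commutatorElement_def, mul_assoc]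
      exact this ▸ hQ (h.comm _ (E.inv_mem y.2) _ (E.inv_mem x.2)) }
  obtain ⟨c, hc⟩ := exists_col (E ⧸ Q.subgroupOf E)
  set π := QuotientGroup.mk' (Q.subgroupOf E)
  have hπ : ∀ t : E, π t = 1 ↔ (t : G) ∈ Q := fun t => QuotientGroup.eq_one_iff t
  have hπ' : ∀ {s t : E}, π s = π t → (s : G)⁻¹ * t ∈ Q := fun {s t} e =>
    (hπ (s⁻¹ * t)).1 (by rw [map_mul, map_inv, e, inv_mul_cancel])
  have sj : Function.Surjective π := QuotientGroup.mk'_surjective _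
  set C : G → Fin 4 := fun t => if ht : t ∈ E then c (π ⟨t, ht⟩) else 0 with hC
  have hC' : ∀ t : E, C t = c (π t) := fun t => dif_pos t.2
  have gen : ∀ (P : Fin 4 → Prop), (∀ A : Subgroup _, (∀ ω ≠ 1, P (c ω) → ω ∈ A) → A = ⊤) →
      ∀ A : Subgroup G, Q ≤ A → (∀ t ∈ E, t ∉ Q → P (C t) → t ∈ A) → E ≤ A := fun P H A h1 h2 t ht => by
    obtain ⟨s, hs, e⟩ : π ⟨t, ht⟩ ∈ (A.subgroupOf E).map π := H ((A.subgroupOf E).map π) (fun ω h3 h4 => by
      obtain ⟨s, rfl⟩ := sj ω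
      exact mem_map_of_mem π (K := A.subgroupOf E) (h2 s s.2 (mt (hπ s).2 h3) (hC' s ▸ h4))) ▸ mem_top _
    simpa using A.mul_mem hs (h1 (hπ' e))
  refine ⟨C, fun t ht q hq => ?_, fun g hg H t ht => ?_, gen (fun i => i = 0 ∨ i = 1) hc.gen1,
    gen (fun i => i = 0 ∨ i = 2) hc.gen2, fun e he h3 => ?_, fun ⟨t, ht, h2⟩ => ?_⟩
  · refine (hC' (⟨t, ht⟩ * ⟨q, hQE hq⟩)).trans ?_
    rw [map_mul, (hπ ⟨q, _⟩).2 hq, mul_one, hC' ⟨t, ht⟩]
  · haveI := h.nE
    have := hc.rigid (QuotientGroup.map (Q.subgroupOf E) (Q.subgroupOf E) (MulAut.conjNormal g : MulAut E).toMonoidHom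
      fun x hx => (mem_normalizer_iff.1 hg x).1 hx)
      ((injective_iff_map_eq_one _).2 fun ω h1 => by
        obtain ⟨s, rfl⟩ := sj ω
        exact (hπ s).2 ((mem_normalizer_iff.1 hg s).2 ((hπ _).1 h1))) (fun ω h1 => by
        obtain ⟨s, rfl⟩ := sj ω
        exact (hC' (MulAut.conjNormal g s)).symm.trans ((H s s.2 (mt (hπ s).2 h1)).trans (hC' s))) (π ⟨t, ht⟩)
    exact hπ' this.symm
  · obtain ⟨a, b, d, e1, e2⟩ := hc.three _ ((hC' ⟨e, he⟩).symm.trans h3)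
    obtain ⟨a, rfl⟩ := sj a
    obtain ⟨b, rfl⟩ := sj b
    have e3 : d = π ((a * b)⁻¹ * ⟨e, he⟩) := by rw [map_mul, e1, map_inv, map_mul]; group
    refine ⟨a, a.2, b, b.2, _, ((a * b)⁻¹ * ⟨e, he⟩).2, by simp [mul_assoc], ?_⟩
    simpa only [List.forall_mem_cons, ← Subgroup.coe_mul, hC', map_mul π a, map_mul π b, ← e3, List.not_mem_nil,
      IsEmpty.forall_iff, implies_true] using e2
  · obtain ⟨ω, h1, h3⟩ := hc.two ⟨π ⟨t, ht⟩, fun h => h2 ((hπ (⟨t, ht⟩ ^ 2)).1 (by rw [map_pow, h]))⟩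
    obtain ⟨s, rfl⟩ := sj ω
    exact ⟨s, s.2, mt (hπ s).2 h1, (hC' s).trans h3⟩

end CL.SL
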