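/-
Bases of solvable linear groups: the monomial argument.
-/
import Cfsg.Agent.Fgs.SLBlock
import Cfsg.Agent.Fgs.SLCol

set_option autoImplicit false

open Subgroup CL.Odd CL.Grp
open scoped commutatorElement

namespace CL.SL

universe u

variable {G : Type u} [Group G] {V : Type*} [AddCommGroup V] [DistribMulAction G V] {p : ℕ} {U E D R T : Subgroup G}
  {a b g s t u : G} {v w x y₁ : V} {κ : Fin 4 → V} {c : G → Fin 4}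

/-- the elements `t` of `E` with `[t, g] ∈ T` -/
def GS.dls (h : GS U E) (g : G) (hT : U ≤ T) (hTE : T ≤ E) : Subgroup G where
  carrier := {t | t ∈ E ∧ dl g t ∈ T}
  one_mem' := ⟨E.one_mem, by rw [dl_one]; exact T.one_mem⟩
  mul_mem' := fun {a b} ha hb => ⟨E.mul_mem ha.1 hb.1, by
    rw [dl_mul]; exact T.mul_mem (h.normal_in' hT hTE hb.1 ha.2) hb.2⟩
  inv_mem' := fun {a} ha => ⟨E.inv_mem ha.1, by rw [dl_inv]; exact h.normal_in hT hTE ha.1 (T.inv_mem ha.2)⟩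

/-- the stabiliser in `E` of the `U`-orbit of `v` -/
def GS.lst (h : GS U E) (v : V) : Subgroup G where
  carrier := {t | t ∈ E ∧ ∃ u ∈ U, t • v = u • v}
  one_mem' := ⟨E.one_mem, 1, U.one_mem, rfl⟩
  mul_mem' := by
    rintro a b ⟨ha, u, hu, e1⟩ ⟨hb, w, hw, e2⟩
    exact ⟨E.mul_mem ha hb, w * u, U.mul_mem hw hu, by rw [mul_smul, e2, ← mul_smul, ← h.cent w hw a ha, mul_smul, e1, mul_smul]⟩
  inv_mem' := by
    rintro a ⟨ha, u, hu, e⟩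
    refine ⟨E.inv_mem ha, u⁻¹, U.inv_mem hu, ?_⟩
    rw [inv_smul_eq_iff, ← mul_smul, ← h.cent _ (U.inv_mem hu) a ha, mul_smul, e, inv_smul_smul]

theorem GS.le_lst (h : GS U E) (v : V) : U ≤ h.lst v := fun u hu => ⟨h.le hu, u, hu, rfl⟩

theorem GS.lst_le (h : GS U E) (v : V) : h.lst v ≤ E := fun _ ht => ht.1

theorem dl_mul_mem (ha : dl g a ∈ D) (hb : b ∈ C[D]) (hb' : dl g b ∈ D) : dl g (a * b) ∈ D := by
  rw [dl_mul, mul_assoc b⁻¹, mem_centralizer_iff.1 hb _ ha, inv_mul_cancel_left]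
  exact D.mul_mem ha hb'

theorem dl_smul (h1 : g • v = v) (h2 : g • t • v = t • v) : dl g t • v = v := by
  rwa [smul_smul_dl, h1, smul_left_cancel_iff] at h2

theorem norm_cent (hE : E.Normal) (hg : g ∈ N[D]) : g ∈ N[E ⊓ C[D]] :=
  mem_normalizer_iff.2 fun t => ⟨fun ht => ⟨hE.conj_mem t ht.1 g, (conj_mem_cent hg).2 ht.2⟩,
    fun ht => ⟨by simpa [mul_assoc] using hE.conj_mem _ ht.1 g⁻¹, (conj_mem_cent hg).1 ht.2⟩⟩

namespace Setup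

variable [Finite G] (h : Setup V p U E)
include h

theorem main1 (hD : D ≤ E) (hR : R ≤ E) (hRQ : ∀ t ∈ E, ∃ ρ ∈ R, ρ⁻¹ * t ∈ C[D]) (hx : Fx D x)
    (hx' : ∀ t ∈ E, t • x = x → t ∈ D) (hy : Fx D y₁) (hκ : ∀ i, Fx D (κ i)) (h0 : ∀ i, κ i = 0 → i = 3)
    (hinv : ∀ g : G, g • x = x → g • y₁ = y₁ → ∀ q ∈ E ⊓ C[D], ∀ i j, κ i ≠ 0 → q • g • κ i = κ j → i = j) :
    ∃ (y : V) (c : G → Fin 4), GCol E (E ⊓ C[D]) c ∧ ∀ g : G, g • x = x → g • y = y → g • y₁ = y₁ ∧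
      (∀ t ∈ E, dl g t ∈ C[D]) ∧
      ∀ t ∈ E, t ∉ C[D] → κ (c t) ≠ 0 → ∃ ρ ∈ R, ρ⁻¹ * t ∈ C[D] ∧ dl g ρ • g • κ (c t) = κ (c t) := by
  classical
  obtain ⟨c, hc⟩ := h.exists_gcol (h.U_le_cent hD) inf_le_left
  letI := Fintype.ofFinite (E ⧸ (C[D]).subgroupOf E)
  obtain ⟨r, hr, hr'⟩ : ∃ r : E ⧸ (C[D]).subgroupOf E → G, (∀ ω, r ω ∈ R) ∧ ∀ t : E, (r t)⁻¹ * t ∈ C[D] := by
    choose f h1 h2 using hRQ
    refine ⟨fun ω => f _ ω.out.2, fun ω => h1 _ _, fun t => ?_⟩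
    have := QuotientGroup.eq.1 (QuotientGroup.out_eq' (t : E ⧸ (C[D]).subgroupOf E))
    simpa [mul_assoc] using mul_mem (h2 _ (t : E ⧸ (C[D]).subgroupOf E).out.2) this
  have hE := fun ω => hR (hr ω)
  have inj : ∀ i j, (r i)⁻¹ * r j ∈ C[D] → i = j := fun i j hij => by
    obtain ⟨i, rfl⟩ := QuotientGroup.mk_surjective i
    obtain ⟨j, rfl⟩ := QuotientGroup.mk_surjective j
    refine QuotientGroup.eq.2 (mem_subgroupOf.2 ?_)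
    simpa [mul_assoc] using mul_mem (mul_mem (inv_mem (hr' i)) hij) (hr' j)
  set η : E ⧸ (C[D]).subgroupOf E → V := fun ω => if r ω ∈ C[D] then y₁ else r ω • κ (c (r ω)) with hη'
  have hη : ∀ ω, In D (r ω) (η ω) := fun ω => by
    simp only [hη']
    split_ifs with h1
    exacts [hy.blk1.of (by simpa using h1), (hκ _).blk _]
  have cc : ∀ {s t}, s ∈ E → t ∈ E → s⁻¹ * t ∈ C[D] → c t = c s := fun {s t} hs ht h1 => by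
    simpa using hc.coset s hs _ ⟨E.mul_mem (E.inv_mem hs) ht, h1⟩
  have k1 : ∀ g : G, g • x = x → g • ∑ i, η i = ∑ i, η i → g • y₁ = y₁ := fun g h1 h2 => by
    obtain rfl | h3 := eq_or_ne y₁ 0
    · exact smul_zero g
    have hg := norm_of_fix h.nE hD hx hx' h1
    have h4 : r (1 : E) ∈ C[D] := by simpa using hr' 1
    obtain ⟨j, h5, h6⟩ := h.fix_conj hD hE hη inj hg h2 (1 : E) (by simpa [hη', h4] using h3)
    rw [mul_mem_cancel_left (inv_mem ((conj_mem_cent hg).2 h4))] at h5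
    simpa [hη', h4, h5] using h6
  have k2 : ∀ g : G, g • x = x → g • ∑ i, η i = ∑ i, η i → ∀ t (ht : t ∈ E), t ∉ C[D] → κ (c t) ≠ 0 →
      c (g * t * g⁻¹) = c t ∧ ∃ j, (g * r (⟨t, ht⟩ : E) * g⁻¹)⁻¹ * r j ∈ C[D] ∧
        g • r (⟨t, ht⟩ : E) • κ (c t) = r j • κ (c t) := fun g h1 h2 t ht h3 h4 => by
    have hg := norm_of_fix h.nE hD hx hx' h1
    have h5 := hr' ⟨t, ht⟩
    have h6 : r (⟨t, ht⟩ : E) ∉ C[D] := fun h6 => h3 ((mul_mem_cancel_left (inv_mem h6)).1 h5)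
    have h7 := cc (hE _) ht h5
    obtain ⟨j, h8, h9⟩ := h.fix_conj hD hE hη inj hg h2 (⟨t, ht⟩ : E) (by
      simp only [hη', if_neg h6]; exact smul_ne _ (h7 ▸ h4))
    have h10 : r j ∉ C[D] := fun h10 => h6 ((conj_mem_cent hg).1 (inv_mem_iff.1 ((mul_mem_cancel_right h10).1 h8)))
    simp only [hη', if_neg h6, if_neg h10, ← h7] at h9
    have h11 := h.nE.conj_mem _ (hE (⟨t, ht⟩ : E)) g
    have h12 : c t = c (r j) := hinv g h1 (k1 g h1 h2) _ (inv_mem ⟨E.mul_mem (E.inv_mem h11) (hE j), h8⟩) _ _ h4 (by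
      rw [mul_inv_rev, inv_inv, mul_smul, inv_smul_eq_iff, ← h9, mul_smul, mul_smul, inv_smul_smul])
    refine ⟨?_, j, h8, h12 ▸ h9⟩
    rw [h12]
    refine cc (hE j) (h.nE.conj_mem t ht g) ?_
    simpa [mul_assoc] using mul_mem (inv_mem h8) ((conj_mem_cent hg).2 h5)
  refine ⟨∑ i, η i, c, hc, fun g h1 h2 => ?_⟩
  have hg := norm_of_fix h.nE hD hx hx' h1
  have k3 : ∀ t ∈ E, dl g t ∈ C[D] := fun t ht => (hc.rigid g (norm_cent h.nE hg) (fun t ht h3 => by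
    have h4 : t ∉ C[D] := fun h4 => h3 ⟨ht, h4⟩
    by_cases h5 : κ (c t) = 0
    · by_contra h6
      refine h6 ?_
      simpa [mul_assoc] using (k2 g⁻¹ (inv_smul_eq_iff.2 h1.symm) (inv_smul_eq_iff.2 h2.symm) _ (h.nE.conj_mem t ht g)
        (mt (conj_mem_cent hg).1 h4) fun h7 => h6 ((h0 _ h7).trans (h0 _ h5).symm)).1.symm
    · exact (k2 g h1 h2 t ht h4 h5).1) t ht).2
  refine ⟨k1 g h1 h2, k3, fun t ht h3 h4 => ⟨_, hr _, hr' ⟨t, ht⟩, ?_⟩⟩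
  obtain ⟨-, j, h5, h6⟩ := k2 g h1 h2 t ht h3 h4
  obtain rfl := inj (⟨t, ht⟩ : E) j (by simpa [dl, mul_assoc] using mul_mem (k3 _ (hE (⟨t, ht⟩ : E))) h5)
  rwa [smul_smul_dl, smul_left_cancel_iff] at h6

theorem main2 (hD : D ≤ E) (hDU : D ⊓ U = ⊥) (hx' : ∀ t ∈ E, t • κ 0 = κ 0 → t ∈ D) (hκ : ∀ i, Fx D (κ i))
    (h0 : ∀ i, κ i = 0 → i = 3) (reg : ∀ q ∈ C[D], q ∈ h.lst (κ 1) → q ∈ h.lst (κ 2) → q ∈ h.lst (κ 0))
    (hc : GCol E (E ⊓ C[D]) c) (hQ : ∀ q ∈ E ⊓ C[D], g • q • κ 0 = q • κ 0) (hg : ∀ i ≠ 3, g • κ i = κ i)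
    (k1 : ∀ t ∈ E, dl g t ∈ C[D])
    (k2 : ∀ t ∈ E, t ∉ C[D] → κ (c t) ≠ 0 → ∃ ρ ∈ E, ρ⁻¹ * t ∈ C[D] ∧ dl g ρ • g • κ (c t) = κ (c t)) : g = 1 := by
  have g0 := hg 0 (by decide)
  have kQ : ∀ q ∈ E ⊓ C[D], dl g q ∈ D := fun q hq => hx' _ (h.dl_mem g hq.1) (dl_smul g0 (hQ q hq))
  have kD : ∀ i, D ≤ h.lst (κ i) := fun i d hd => ⟨hD hd, 1, U.one_mem, by rw [hκ i d hd, one_smul]⟩
  have k3 : ∀ t ∈ E, t ∉ C[D] → c t ≠ 3 → ∃ ρ ∈ E, ρ⁻¹ * t ∈ C[D] ∧ dl g ρ • κ (c t) = κ (c t) := fun t ht h1 h2 => by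
    simpa only [hg _ h2] using k2 t ht h1 (mt (h0 _) h2)
  have k4 : ∀ i ≠ 3, ∀ t ∈ E, t ∉ E ⊓ C[D] → c t = 0 ∨ c t = i → t ∈ h.dls g (h.le_lst (κ i)) (h.lst_le _) :=
    fun i hi t ht h1 h2 => by
      obtain ⟨ρ, h3, h4, h5⟩ := k3 t ht (fun h => h1 ⟨ht, h⟩) (by rcases h2 with h2 | h2 <;> rw [h2] <;> [decide; exact hi])
      have h6 := E.mul_mem (E.inv_mem h3) ht
      rw [← mul_inv_cancel_left ρ t]
      refine mul_mem ⟨h3, ?_⟩ ⟨h6, kD i (kQ _ ⟨h6, h4⟩)⟩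
      rcases h2 with h2 | h2 <;> rw [h2] at h5
      exacts [kD i (hx' _ (h.dl_mem g h3) h5), ⟨h.dl_mem g h3, 1, U.one_mem, by rw [h5, one_smul]⟩]
  have k5 : ∀ t ∈ E, dl g t ∈ h.lst (κ 0) := fun t ht => reg _ (k1 t ht)
    (hc.gen1 (h.dls g (h.le_lst (κ 1)) (h.lst_le _)) (fun q hq => ⟨hq.1, kD 1 (kQ q hq)⟩) (k4 1 (by decide)) ht).2
    (hc.gen2 (h.dls g (h.le_lst (κ 2)) (h.lst_le _)) (fun q hq => ⟨hq.1, kD 2 (kQ q hq)⟩) (k4 2 (by decide)) ht).2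
  have k6 : ∀ t ∈ E, c t ≠ 3 → dl g t ∈ D := fun t ht h1 => by
    by_cases h2 : t ∈ C[D]
    · exact kQ t ⟨ht, h2⟩
    obtain ⟨ρ, h3, h4, h5⟩ := k3 t ht h2 h1
    obtain ⟨h6, u, hu, e⟩ := k5 ρ h3
    have h7 := hx' _ (E.mul_mem (E.inv_mem (h.le hu)) h6) (by rw [mul_smul, e, inv_smul_smul])
    have h8 := hκ (c t) _ h7
    rw [mul_smul, h5] at h8
    rw [h.eq_one (U.inv_mem hu) (mt (h0 _) h1) h8, one_mul] at h7
    rw [← mul_inv_cancel_left ρ t]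
    exact dl_mul_mem h7 h4 (kQ _ ⟨E.mul_mem (E.inv_mem h3) ht, h4⟩)
  refine h.final hD hDU (mt (h0 0) (by decide)) g0 fun t ht => ?_
  by_cases h1 : c t = 3
  swap
  · exact k6 t ht h1
  obtain ⟨a, ha, b, hb, d, hd, rfl, H⟩ := hc.three t ht h1
  simp only [List.forall_mem_cons] at H
  obtain ⟨H1, H2, H3, H4, H5, H6, -⟩ := H
  have e1 := h.comm_of_mem hD hDU ha hb (k6 a ha H1) (k6 b hb H2) (k6 _ (E.mul_mem ha hb) H4)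
  have e2 := h.comm_of_mem hD hDU hb hd (k6 b hb H2) (k6 d hd H3) (k6 _ (E.mul_mem hb hd) H5)
  have e3 := h.comm_of_mem hD hDU ha hd (k6 a ha H1) (k6 d hd H3) (k6 _ (E.mul_mem ha hd) H6)
  rw [dl_mul, dl_mul, mul_assoc b⁻¹, e1, inv_mul_cancel_left, mul_assoc d⁻¹, mul_assoc (dl g a), e2, ← mul_assoc (dl g a), e3,
    mul_assoc d, inv_mul_cancel_left]
  exact D.mul_mem (D.mul_mem (k6 a ha H1) (k6 b hb H2)) (k6 d hd H3)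

theorem main (hD : D ≤ E) (hDU : D ⊓ U = ⊥) {k₁ k₂ : V} (X : AddSubgroup V) (hX : ∀ q ∈ E ⊓ C[D], ∀ v ∈ X, q • v ∈ X)
    (hXD : ∀ v ∈ X, Fx D v) (hx : x ∈ X) (h1 : k₁ ∈ X) (h2 : k₂ ∈ X) (n0 : x ≠ 0) (n1 : k₁ ≠ 0) (n2 : k₂ ≠ 0)
    (hx' : ∀ t ∈ E, t • x = x → t ∈ D) (hy : Fx D y₁) (pin : ∀ g : G, g • x = x → g • y₁ = y₁ → ∀ v ∈ X, g • v = v)
    (o1 : ∀ q ∈ E ⊓ C[D], q • x ≠ k₁) (o2 : ∀ q ∈ E ⊓ C[D], q • x ≠ k₂) (o3 : ∀ q ∈ E ⊓ C[D], q • k₁ ≠ k₂)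
    (reg : ∀ q ∈ C[D], q ∈ h.lst k₁ → q ∈ h.lst k₂ → q ∈ h.lst x) : ∃ y : V, ∀ g : G, g • x = x → g • y = y → g = 1 := by
  have hκ : ∀ i, ![x, k₁, k₂, 0] i ∈ X := fun i => by fin_cases i <;> simp [*, X.zero_mem]
  have h0 : ∀ i, ![x, k₁, k₂, 0] i = 0 → i = 3 := fun i => by fin_cases i <;> simp [*]
  obtain ⟨y, c, hc, H⟩ := h.main1 (κ := ![x, k₁, k₂, 0]) hD le_rfl (fun t ht => ⟨t, ht, by simp⟩) (hXD x hx) hx' hy
    (fun i => hXD _ (hκ i)) h0 fun g g1 g2 q hq i j hi e => by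
      rw [pin g g1 g2 _ (hκ i)] at e
      have e' := (inv_smul_eq_iff.2 e.symm)
      have hj : ![x, k₁, k₂, 0] j ≠ 0 := e ▸ smul_ne q hi
      have := o1 q hq; have := o2 q hq; have := o3 q hq
      have := o1 _ (inv_mem hq); have := o2 _ (inv_mem hq); have := o3 _ (inv_mem hq)
      fin_cases i <;> fin_cases j <;> first | rfl | contradiction
  refine ⟨y, fun g g1 g2 => ?_⟩
  obtain ⟨g3, k1, k2⟩ := H g g1 g2
  exact h.main2 (κ := ![x, k₁, k₂, 0]) hD hDU hx' (fun i => hXD _ (hκ i)) h0 reg hc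
    (fun q hq => pin g g1 g3 _ (hX q hq x hx)) (fun i _ => pin g g1 g3 _ (hκ i)) k1 k2

end Setup

end CL.SL
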