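/-
Bases of solvable linear groups: a vector with a maximal stabiliser in `E`; bases of size three.
-/
import Cfsg.Agent.Fgs.SLMono

set_option autoImplicit false

open Subgroup CL.Odd CL.Grp
open scoped commutatorElement

namespace CL.SL

universe u

variable {G : Type u} [Group G] {V : Type*} [AddCommGroup V] [DistribMulAction G V] {p r : ℕ} {U E D Q : Subgroup G}
  {a b g q s t u z : G} {v w ξ η : V}

/-- the additive span of the `Q`-orbit of `ξ` -/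
def span (Q : Subgroup G) (ξ : V) : AddSubgroup V := AddSubgroup.closure {v | ∃ q ∈ Q, q • ξ = v}

theorem smul_mem_span (hq : q ∈ Q) : q • ξ ∈ span Q ξ := AddSubgroup.subset_closure ⟨q, hq, rfl⟩

theorem self_mem_span : ξ ∈ span Q ξ := by simpa using smul_mem_span (ξ := ξ) Q.one_mem

theorem span_mono {Q' : Subgroup G} (h : Q ≤ Q') : span Q ξ ≤ span Q' ξ :=
  AddSubgroup.closure_mono fun _ ⟨q, hq, e⟩ => ⟨q, h hq, e⟩

theorem span_smul (hq : q ∈ Q) (hv : v ∈ span Q ξ) : q • v ∈ span Q ξ :=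
  (AddSubgroup.closure_le ((span Q ξ).comap (DistribSMul.toAddMonoidHom V q))).2 (by
    rintro _ ⟨s, hs, rfl⟩
    exact (show q • s • ξ ∈ span Q ξ from mul_smul q s ξ ▸ smul_mem_span (Q.mul_mem hq hs))) hv

theorem span_fix (h : ∀ q ∈ Q, g • q • ξ = q • ξ) (hv : v ∈ span Q ξ) : g • v = v :=
  (AddSubgroup.closure_le ((DistribSMul.toAddMonoidHom V g).eqLocus (AddMonoidHom.id V))).2 (by
    rintro _ ⟨s, hs, rfl⟩; exact h s hs) hv

theorem span_fx (hQ : Q ≤ C[D]) (h : Fx D ξ) (hv : v ∈ span Q ξ) : Fx D v := fun d hd =>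
  span_fix (fun q hq => h.smulc (hQ hq) d hd) hv

theorem smul_geom {n : ℕ} (ha : a ^ n = 1) (v : V) :
    a • ∑ k ∈ Finset.range n, a ^ k • v = ∑ k ∈ Finset.range n, a ^ k • v := by
  have := Finset.sum_range_succ' (fun k => a ^ k • v) n
  rw [Finset.sum_range_succ, ha, pow_zero, add_left_inj] at this
  rw [Finset.smul_sum, this]
  exact Finset.sum_congr (by rfl) fun k _ => by rw [← mul_smul, pow_succ']

/-- the elements `q` of `C_E(D)` with `[q, g] ∈ D` -/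
def dlc (g : G) (E D : Subgroup G) : Subgroup G where
  carrier := {q | q ∈ E ⊓ C[D] ∧ dl g q ∈ D}
  one_mem' := ⟨one_mem _, by rw [dl_one]; exact D.one_mem⟩
  mul_mem' := fun ha hb => ⟨mul_mem ha.1 hb.1, dl_mul_mem ha.2 hb.1.2 hb.2⟩
  inv_mem' := fun {a} ha => ⟨inv_mem ha.1, by
    rw [dl_inv, ← mem_centralizer_iff.1 ha.1.2 _ (D.inv_mem ha.2), mul_inv_cancel_right]; exact D.inv_mem ha.2⟩

/-- `D` is the stabiliser in `E` of every non-zero vector that it fixes -/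
structure Mx (E D : Subgroup G) (ξ : V) : Prop where
  ne : ξ ≠ 0
  le : D ≤ E
  fx : Fx D ξ
  max : ∀ η : V, η ≠ 0 → Fx D η → ∀ t ∈ E, t • η = η → t ∈ D

theorem exists_mx [Finite G] [Nontrivial V] (E : Subgroup G) : ∃ (D : Subgroup G) (ξ : V), Mx E D ξ := by
  obtain ⟨v, hv⟩ := exists_ne (0 : V)
  obtain ⟨D, -, ⟨h1, ξ, h2, h3⟩, hm⟩ := Finite.exists_le_maximal (a := (⊥ : Subgroup G))
    (p := fun D : Subgroup G => D ≤ E ∧ ∃ ξ : V, ξ ≠ 0 ∧ Fx D ξ) ⟨bot_le, v, hv, fun d hd => by simp [mem_bot.1 hd]⟩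
  exact ⟨D, ξ, h2, h1, h3, fun η h4 h5 t ht e => hm (y := E ⊓ MulAction.stabilizer G η)
    ⟨inf_le_left, η, h4, fun d hd => hd.2⟩ (fun d hd => ⟨h1 hd, h5 d hd⟩) ⟨ht, e⟩⟩

theorem Mx.of (m : Mx E D ξ) (h1 : η ≠ 0) (h2 : Fx D η) : Mx E D η := ⟨h1, m.le, h2, m.max⟩

theorem Mx.mem (m : Mx E D ξ) (ht : t ∈ E) (e : t • ξ = ξ) : t ∈ D := m.max ξ m.ne m.fx t ht e

theorem Mx.norm (m : Mx E D ξ) (hE : E.Normal) (e : g • ξ = ξ) : g ∈ N[D] :=
  norm_of_fix hE m.le m.fx (fun _ => m.mem) e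

namespace Setup

variable (h : Setup V p U E)
include h

theorem neg_of_sq (hz : z ∈ U) (h1 : z ≠ 1) (h2 : z ^ 2 = 1) (v : V) : z • v = -v :=
  eq_neg_of_add_eq_zero_left ((h.fpf z hz (z • v + v) (by rw [smul_add, ← mul_smul, ← sq, h2, one_smul, add_comm])).resolve_left h1)

variable (m : Mx E D ξ)
include m

theorem disj : D ⊓ U = ⊥ := eq_bot_iff.2 fun d hd => h.eq_one hd.2 m.ne (m.fx d hd.1)

theorem le_cent : D ≤ C[D] := fun d hd => mem_centralizer_iff.2 fun e he => comm_iff.1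
  (eq_one_of_inf (h.disj m) (mul_mem (mul_mem (mul_mem he hd) (inv_mem he)) (inv_mem hd)) (h.comm e (m.le he) d (m.le hd)))

omit m in
theorem mem_sup_iff : t ∈ D ⊔ U ↔ ∃ d ∈ D, ∃ u ∈ U, d * u = t :=
  haveI := h.nU
  mem_sup_of_le_normalizer le_normalizer_of_normal

theorem sup_le_cent : D ⊔ U ≤ E ⊓ C[D] := sup_le (le_inf m.le (h.le_cent m)) (h.U_le_cent m.le)

theorem lst_eq : h.lst ξ = D ⊔ U := by
  refine le_antisymm (fun t ⟨ht, u, hu, e⟩ => ?_) (sup_le (fun d hd => ⟨m.le hd, 1, U.one_mem, by rw [m.fx d hd, one_smul]⟩)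
    (h.le_lst ξ))
  have := m.mem (E.mul_mem (E.inv_mem (h.le hu)) ht) (by rw [mul_smul, e, inv_smul_smul])
  simpa using mul_mem (mem_sup_right hu : u ∈ D ⊔ U) (mem_sup_left this)

theorem comm_sup (ht : t ∈ D ⊔ U) (hq : q ∈ E ⊓ C[D]) : t * q = q * t := by
  obtain ⟨d, hd, u, hu, rfl⟩ := h.mem_sup_iff.1 ht
  exact Commute.mul_left (mem_centralizer_iff.1 hq.2 d hd) (h.cent u hu q hq.1)

theorem le_dlc (e : g • ξ = ξ) : D ≤ dlc g E D := fun d hd => ⟨⟨m.le hd, h.le_cent m hd⟩,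
  D.mul_mem (D.inv_mem hd) ((mem_normalizer_iff.1 (m.norm h.nE e) d).1 hd)⟩

variable [Finite G]

theorem mem_of_pow_eq_one (hr : r.Prime) (hq : q ∈ E ⊓ C[D]) (e : q ^ r = 1) : q ∈ D ⊔ U := by
  by_cases hU : q ∈ U
  · exact mem_sup_right hU
  obtain ⟨s, hs, -, h1⟩ := h.exists_partner hr hq.1 hU (e ▸ U.one_mem)
  have hz := h.comm q hq.1 s hs
  have h2 : ⁅q, s⁆ ^ r = 1 := by rw [← h.comm_pow_left hq.1 hs, e]; simp
  generalize ⁅q, s⁆ = z at h1 hz h2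
  haveI := Fact.mk hr
  have ho := orderOf_eq_prime h2 h1
  have key : ∑ k ∈ Finset.range r, ∑ j ∈ Finset.range r, (q * z ^ k) ^ j • ξ = r • ξ := by
    rw [Finset.sum_comm, Finset.sum_eq_single 0 (fun j hj h0 => ?_) (by simp [hr.ne_zero])]
    · simp
    simp only [h.mul_U_pow hq.1 (pow_mem hz _), mul_smul, ← Finset.smul_sum, ← pow_mul, mul_comm _ j]
    simp only [pow_mul]
    rw [(h.fpf _ (pow_mem hz j) _ (smul_geom (by rw [← pow_mul, mul_comm, pow_mul, h2, one_pow]) ξ)).resolve_left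
      (pow_ne_one_of_lt_orderOf h0 (ho ▸ Finset.mem_range.1 hj)), smul_zero]
  obtain ⟨k, -, h3⟩ := Finset.exists_ne_zero_of_sum_ne_zero (key.trans_ne fun h0 => m.ne (h.eq_zero_of_nsmul
    (fun hd => h.cop (hd.trans (ho ▸ orderOf_dvd_natCard E (h.le hz)))) h0))
  have h4 : q * z ^ k ∈ E ⊓ C[D] := mul_mem hq (h.U_le_cent m.le (pow_mem hz k))
  have := m.max _ h3 (fun d hd => by
    rw [Finset.smul_sum]; exact Finset.sum_congr rfl fun j _ => m.fx.smulc (pow_mem h4.2 j) d hd) _ h4.1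
    (smul_geom (by rw [h.mul_U_pow hq.1 (pow_mem hz k), e, ← pow_mul, mul_comm k, pow_mul, h2]; simp) ξ)
  exact (mul_mem_cancel_right (mem_sup_right (pow_mem hz k))).1 (mem_sup_left this)

theorem mem_of_pow_mem (hr : r.Prime) (h2 : r ≠ 2 ∨ 4 ∣ Nat.card U) (hq : q ∈ E ⊓ C[D]) (e : q ^ r ∈ U) :
    q ∈ D ⊔ U := by
  obtain ⟨u, hu, e⟩ := h.exists_pow_eq_one hr h2 hq.1 e
  exact (mul_mem_cancel_right (mem_sup_right hu)).1 (h.mem_of_pow_eq_one m hr (mul_mem hq (h.U_le_cent m.le hu)) e)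

theorem sq_mem (hq : q ∈ E ⊓ C[D]) : q ^ 2 ∈ D ⊔ U :=
  h.pow_mem_of_primes inf_le_left le_sup_right two_ne_zero
    (fun r hr h2 t ht e => h.mem_of_pow_mem m hr (.inl (by rintro rfl; simp at h2)) ht e) hq

theorem mem_of_four (h4 : 4 ∣ Nat.card U) (hq : q ∈ E ⊓ C[D]) : q ∈ D ⊔ U := by
  simpa using h.pow_mem_of_primes inf_le_left le_sup_right one_ne_zero
    (fun r hr _ t ht e => h.mem_of_pow_mem m hr (.inr h4) ht e) hq

theorem card_eq_two_mul (hq : q ∈ E ⊓ C[D]) (h1 : q ∉ D ⊔ U) : ∃ k, Nat.card U = 2 * (2 * k + 1) := by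
  obtain ⟨k, e | e⟩ := Nat.even_or_odd' (Nat.card U)
  · obtain ⟨l, rfl | rfl⟩ := Nat.even_or_odd' k
    · exact (h1 (h.mem_of_four m ⟨l, by rw [e]; ring⟩ hq)).elim
    · exact ⟨l, e⟩
  · have : q ^ (2 * k + 1) ∈ D ⊔ U := mem_sup_right (e ▸ h.pow_card_mem hq.1)
    rw [pow_succ, pow_mul, mul_mem_cancel_left (pow_mem (h.sq_mem m hq) k)] at this
    exact (h1 this).elim

theorem exists_norm (hq : q ∈ E ⊓ C[D]) (h1 : q ∉ D ⊔ U) :
    ∃ i ∈ E ⊓ C[D], i⁻¹ * q ∈ D ⊔ U ∧ i ^ 2 ∈ U ∧ i ^ 2 ≠ 1 ∧ (i ^ 2) ^ 2 = 1 := by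
  obtain ⟨k, e⟩ := h.card_eq_two_mul m hq h1
  have h2 := h.pow_card_mem hq.1
  have h3 : (q ^ (2 * k + 1) ^ 2)⁻¹ * q ∈ D ⊔ U := by
    rw [show (2 * k + 1) ^ 2 = 1 + 2 * (2 * k ^ 2 + 2 * k) by ring, pow_add, pow_mul]
    simpa using pow_mem (h.sq_mem m hq) _
  have h4 : (q ^ (2 * k + 1) ^ 2) ^ 2 = (q ^ Nat.card U) ^ (2 * k + 1) := by rw [e, ← pow_mul, ← pow_mul]; congr 1; ring
  refine ⟨_, pow_mem hq _, h3, h4 ▸ pow_mem h2 _, fun h5 => h1 ?_, ?_⟩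
  · exact (mul_mem_cancel_left (inv_mem (h.mem_of_pow_eq_one m Nat.prime_two (pow_mem hq _) h5))).1 h3
  · rw [h4, ← pow_mul, mul_comm, ← e]
    exact congrArg Subtype.val (pow_card_eq_one' (x := (⟨_, h2⟩ : U)))

omit m in
theorem eq_invol (hz : z ∈ U) (h1 : z ≠ 1) (h2 : z ^ 2 = 1) (hu : u ∈ U) (h3 : u ≠ 1) (h4 : u ^ 2 = 1) : u = z := by
  obtain ⟨j, hj, rfl⟩ := h.exists_pow_eq Nat.prime_two hz h1 h2 hu h4
  interval_cases j <;> simp at h3 ⊢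

theorem comm_eq_invol (hz : z ∈ U) (h1 : z ≠ 1) (h2 : z ^ 2 = 1) (ha : a ∈ E ⊓ C[D]) (hb : b ∈ E ⊓ C[D]) (e1 : a ^ 2 = z)
    (e2 : b ^ 2 = z) (hn : a * b ∉ D ⊔ U) : ⁅b, a⁆ = z ∧ (a * b) ^ 2 = z := by
  have e3 : (a * b) ^ 2 = ⁅b, a⁆ := by rw [h.mul_pow ha.1 hb.1, e1, e2, ← sq, h2]; simp
  have := h.eq_invol hz h1 h2 (h.comm b hb.1 a ha.1) (fun h0 => hn (h.mem_of_pow_eq_one m Nat.prime_two (mul_mem ha hb)
    (e3.trans h0))) (by rw [← h.comm_pow_left hb.1 ha.1, e2, h.comm_U_left hz ha.1])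
  exact ⟨this, e3.trans this⟩

theorem quat : E ⊓ C[D] ≤ D ⊔ U ∨ ∃ i ∈ E ⊓ C[D], ∃ j ∈ E ⊓ C[D], ∃ z ∈ U, z ≠ 1 ∧ z ^ 2 = 1 ∧ i ^ 2 = z ∧ j ^ 2 = z ∧
    ⁅j, i⁆ = z ∧ (∃ k, Nat.card U = 2 * (2 * k + 1)) ∧
      ∀ q ∈ E ⊓ C[D], ∃ ρ ∈ [1, i, j, i * j], ρ⁻¹ * q ∈ D ⊔ U := by
  refine or_iff_not_imp_left.2 fun h0 => ?_
  obtain ⟨q, hq, h1⟩ := SetLike.not_le_iff_exists.1 h0
  obtain ⟨i, hi, i1, i2, i3, i4⟩ := h.exists_norm m hq h1
  have hT := (h.sup_le_cent m).trans inf_le_left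
  have i5 : i ∉ D ⊔ U := fun h2 => h1 ((mul_mem_cancel_left (inv_mem h2)).1 i1)
  obtain ⟨s, hs, h2⟩ : ∃ s ∈ E ⊓ C[D], i * s ≠ s * i := by
    by_contra h2
    push Not at h2
    exact i5 (h.mem_of_comm_cent le_sup_right hT hi.1 fun s hs => h2 s ⟨hs.1, centralizer_le (SetLike.coe_subset_coe.2 le_sup_left) hs.2⟩)
  obtain ⟨j, hj, j1, j2, j3, j4⟩ := h.exists_norm m hs fun h3 => h2 (h.comm_sup m h3 hi).symm
  have j5 := h.eq_invol i2 i3 i4 j2 j3 j4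
  obtain ⟨k1, k2⟩ := h.comm_eq_invol m i2 i3 i4 hi hj rfl j5 fun h3 => h2 (by
    have : Commute i (i⁻¹ * (i * j * (j⁻¹ * s))) :=
      (Commute.refl i).inv_right.mul_right (h.comm_sup m (mul_mem h3 j1) hi).symm
    simpa [mul_assoc] using this.eq)
  refine ⟨i, hi, j, hj, _, i2, i3, i4, rfl, j5, k1, h.card_eq_two_mul m hq h1, fun l hl => ?_⟩
  by_contra h3
  simp only [List.mem_cons, List.not_mem_nil, or_false, exists_eq_or_imp, exists_eq_left, not_or, inv_one, one_mul] at h3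
  obtain ⟨n, hn, n1, n2, n3, n4⟩ := h.exists_norm m hl h3.1
  have n5 := h.eq_invol i2 i3 i4 n2 n3 n4
  have key : ∀ a ∈ E ⊓ C[D], a ^ 2 = i ^ 2 → a⁻¹ * l ∉ D ⊔ U → ⁅n, a⁆ = i ^ 2 := fun a ha e h4 =>
    (h.comm_eq_invol m i2 i3 i4 ha hn e n5 fun h5 => h4 (by
      simpa [← e, sq, mul_assoc] using mul_mem (mul_mem (inv_mem (mem_sup_right (e ▸ i2) : a ^ 2 ∈ D ⊔ U)) h5) n1)).1
  have := key _ (mul_mem hi hj) k2 h3.2.2.2
  rw [h.comm_mul_right hn.1 hi.1 hj.1, key i hi rfl h3.2.1, key j hj j5 h3.2.2.1] at this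
  exact i3 (mul_eq_left.1 this)

theorem pin : ∃ η : V, Mx E D η ∧ ∃ a ∈ E ⊓ C[D], ∀ g : G, g • η = η → g • a • η = a • η → E ⊓ C[D] ≤ dlc g E D := by
  haveI := h.cyc
  obtain ⟨⟨u, hu⟩, hu'⟩ := IsCyclic.exists_generator (α := U)
  have hU : ∀ A : Subgroup G, u ∈ A → U ≤ A := fun A hA w hw => by
    obtain ⟨k, e⟩ := hu' ⟨w, hw⟩
    exact (show u ^ k = w from congrArg Subtype.val e) ▸ zpow_mem hA k
  obtain h1 | ⟨i, hi, j, hj, z, hz, z1, z2, i2, j2, ij, ⟨k, hk⟩, cov⟩ := h.quat m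
  · exact ⟨ξ, m, u, h.U_le_cent m.le hu, fun g e1 e2 => h1.trans (sup_le (h.le_dlc m e1)
      (hU _ ⟨h.U_le_cent m.le hu, m.mem (h.dl_mem g (h.le hu)) (dl_smul e1 e2)⟩))⟩
  haveI := Fact.mk h.hp
  obtain ⟨α, β, hα, hβ⟩ : ∃ α β : ℕ, ¬ p ∣ α ∧ p ∣ α ^ 2 + β ^ 2 + 1 := by
    obtain ⟨x, y, e⟩ := ZMod.sq_add_sq p (-1)
    wlog hx : x ≠ 0 generalizing x y
    · exact this y x (add_comm (x ^ 2) _ ▸ e) (by rintro rfl; simp [not_not.1 hx] at e)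
    exact ⟨x.val, y.val, by rwa [← ZMod.natCast_eq_zero_iff, ZMod.natCast_zmod_val],
      by rw [← ZMod.natCast_eq_zero_iff]; simp [e]⟩
  have ii : ∀ v : V, i • i • v = -v := fun v => by rw [← mul_smul, ← sq, i2, h.neg_of_sq hz z1 z2]
  have jj : ∀ v : V, j • j • v = -v := fun v => by rw [← mul_smul, ← sq, j2, h.neg_of_sq hz z1 z2]
  have ji : ∀ v : V, j • i • v = -(i • j • v) := fun v => by
    rw [← mul_smul, mul_eq_comm, ij, mul_smul, h.neg_of_sq hz z1 z2, mul_smul]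
  have hp0 : ∀ v : V, (α ^ 2 + β ^ 2 + 1) • v = 0 := fun v => by
    obtain ⟨c, e⟩ := hβ
    rw [e, mul_nsmul, h.pv, nsmul_zero]
  obtain ⟨η, hη, e⟩ : ∃ η : V, Mx E D η ∧ α • i • η + β • j • η + i • j • η = 0 := by
    by_cases h0 : α • i • ξ + β • j • ξ + i • j • ξ = 0
    · exact ⟨ξ, m, h0⟩
    refine ⟨_, m.of h0 fun d hd => ?_, ?_⟩
    · simp only [smul_add, smul_comm d α, smul_comm d β, m.fx.smulc hi.2 d hd, m.fx.smulc hj.2 d hd,
        (m.fx.smulc hj.2).smulc hi.2 d hd]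
    · simp only [smul_add, smul_comm i α, smul_comm i β, smul_comm j α, smul_comm j β, ji, ii, jj, smul_neg, neg_neg]
      generalize i • j • ξ = x₁
      generalize i • ξ = x₂, j • ξ = x₃
      linear_combination (norm := module) -hp0 ξ
  have hu2 := h.U_le_cent m.le (pow_mem hu 2)
  refine ⟨η, hη, i * u ^ 2, mul_mem hi hu2, fun g e1 e2 q hq => ?_⟩
  have k1 : i * u ^ 2 ∈ dlc g E D := ⟨mul_mem hi hu2, hη.mem (h.dl_mem g (mul_mem hi hu2).1) (dl_smul e1 e2)⟩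
  have u0 : u ^ (2 * (2 * k + 1)) = 1 := hk ▸ congrArg Subtype.val (pow_card_eq_one' (x := (⟨u, hu⟩ : U)))
  have k2 : i ∈ dlc g E D := by
    have := pow_mem (pow_mem k1 (2 * k + 1)) (2 * k + 1)
    rwa [h.mul_U_pow hi.1 (pow_mem hu 2), ← pow_mul u, u0, mul_one, ← pow_mul,
      show (2 * k + 1) * (2 * k + 1) = 2 * (2 * (k * k + k)) + 1 by ring, pow_succ, pow_mul, i2, pow_mul, z2, one_pow,
      one_mul] at this
  have k3 : U ≤ dlc g E D := hU _ (by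
    have k4 : u ^ (2 * k + 1) ∈ dlc g E D := by
      by_cases h0 : u ^ (2 * k + 1) = 1
      · exact h0 ▸ one_mem _
      · rw [h.eq_invol hz z1 z2 (pow_mem hu _) h0 (by rw [← pow_mul, mul_comm, u0]), ← i2]; exact pow_mem k2 2
    rwa [pow_succ, pow_mul, mul_mem_cancel_left (pow_mem ((mul_mem_cancel_left k2).1 k1) k)] at k4)
  have hg := hη.norm h.nE e1
  have gi : ∀ v : V, Fx D v → g • i • v = i • g • v := fun v hv => by rw [smul_smul_dl, hv.smul hg _ k2.2]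
  have k4 : j ∈ dlc g E D := ⟨hj, hη.mem (h.dl_mem g hj.1) (dl_smul e1 (by
    have e3 := congrArg (g • ·) e
    simp only [smul_add, smul_comm g α, smul_comm g β, gi _ hη.fx, gi _ (hη.fx.smulc hj.2), e1, smul_zero] at e3
    have e4 : β • (g • j • η - j • η) + i • (g • j • η - j • η) = 0 := by
      rw [smul_sub i, smul_sub, ← sub_eq_zero.2 (e3.trans e.symm)]; abel
    have e5 := congrArg (i • ·) e4
    simp only [smul_add, smul_comm i β, ii, smul_zero] at e5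
    refine sub_eq_zero.1 (h.eq_zero_of_nsmul (n := α ^ 2) (mt h.hp.dvd_of_dvd_pow hα) ?_)
    generalize g • j • η - j • η = w at e4 e5 ⊢
    generalize i • w = w' at e4 e5
    linear_combination (norm := module) hp0 w - β • e4 + e5))⟩
  obtain ⟨ρ, h1, h2⟩ := cov q hq
  refine (mul_mem_cancel_left (inv_mem ?_)).1 (sup_le (h.le_dlc hη e1) k3 h2)
  simp only [List.mem_cons, List.not_mem_nil, or_false] at h1
  rcases h1 with rfl | rfl | rfl | rfl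
  exacts [one_mem _, k2, k4, mul_mem k2 k4]

end Setup

theorem Mx.fix_of_dlc (m : Mx E D ξ) (e : g • ξ = ξ) (hq : q ∈ dlc g E D) : g • q • ξ = q • ξ := by
  rw [smul_smul_dl, e, m.fx _ hq.2]

theorem Setup.reg3 [Finite G] [Nontrivial V] (h : Setup V p U E) :
    ∃ a b c : V, ∀ g : G, g • a = a → g • b = b → g • c = c → g = 1 := by
  obtain ⟨D, ξ, m⟩ := exists_mx (V := V) E
  obtain ⟨η, m, a, ha, H⟩ := h.pin m
  have n := m.ne
  have s1 : η ∈ span (E ⊓ C[D]) η := self_mem_span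
  obtain ⟨y, hy⟩ := h.prod.main (x := (η, 0)) (y₁ := (a • η, 0)) (k₁ := (0, η)) (k₂ := (η, η)) m.le (h.disj m)
    ((span (E ⊓ C[D]) η).prod (span (E ⊓ C[D]) η)) (fun q hq v hv => ⟨span_smul hq hv.1, span_smul hq hv.2⟩)
    (fun v hv d hd => Prod.ext (span_fx inf_le_right m.fx hv.1 d hd) (span_fx inf_le_right m.fx hv.2 d hd))
    ⟨s1, zero_mem _⟩ ⟨zero_mem _, s1⟩ ⟨s1, s1⟩ (by simp [n]) (by simp [n]) (by simp [n])
    (fun t ht e => m.mem ht (congrArg Prod.fst e)) (fun d hd => Prod.ext (m.fx.smulc ha.2 d hd) (smul_zero d))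
    (fun g e1 e2 v hv => by
      have := fun q hq => m.fix_of_dlc (congrArg Prod.fst e1) (H g (congrArg Prod.fst e1) (congrArg Prod.fst e2) (x := q) hq)
      exact Prod.ext (span_fix this hv.1) (span_fix this hv.2))
    (fun q _ e => n ((congrArg Prod.snd e).symm.trans (smul_zero q)))
    (fun q _ e => n ((congrArg Prod.snd e).symm.trans (smul_zero q)))
    (fun q _ e => n ((congrArg Prod.fst e).symm.trans (smul_zero q)))
    fun q _ ⟨h1, u, hu, e⟩ _ => ⟨h1, u, hu, Prod.ext (congrArg Prod.snd e) ((smul_zero q).trans (smul_zero u).symm)⟩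
  exact ⟨η, y.1, y.2, fun g e1 e2 e3 => hy g (Prod.ext e1 (smul_zero g)) (Prod.ext e2 e3)⟩

end CL.SL
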