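/-
Bases of solvable linear groups: bases of size two obtained by splitting off one hyperbolic pair.
-/
import Cfsg.Agent.Fgs.SLMax

set_option autoImplicit false

open Subgroup CL.Odd CL.Grp
open scoped commutatorElement

namespace CL.SL

universe u

variable {G : Type u} [Group G] {V : Type*} [AddCommGroup V] [DistribMulAction G V] {p r n : ℕ} {U E D : Subgroup G}
  {a b d g q s t u z : G} {v w x ξ η : V} {f : Fin n → V}

/-- a base of size two -/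
def Base2 (G : Type*) [Group G] (V : Type*) [AddCommGroup V] [DistribMulAction G V] : Prop :=
  ∃ x y : V, ∀ g : G, g • x = x → g • y = y → g = 1

/-- an element `t` of prime order that does not centralise `D` -/
structure Pl (E D : Subgroup G) (r : ℕ) (t d : G) : Prop where
  hr : r.Prime
  ht : t ∈ E
  pow : t ^ r = 1
  hd : d ∈ D
  ne : ⁅d, t⁆ ≠ 1

/-- `a • η` determines the action on `C_E(D)` -/
def Pin (E D : Subgroup G) (η : V) (a : G) : Prop :=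
  a ∈ E ⊓ C[D] ∧ ∀ g : G, g • η = η → g • a • η = a • η → E ⊓ C[D] ≤ dlc g E D

/-- `∑ tⁱ fᵢ` -/
def tv (t : G) (f : Fin n → V) : V := ∑ i : Fin n, t ^ (i : ℕ) • f i

theorem mem_cent1 : a ∈ C1[t] ↔ t * a = a * t := by simp [mem_centralizer_iff]

theorem self_mem_cent : t ∈ C[D ⊓ C1[t]] := mem_centralizer_iff.2 fun _ hd => (mem_cent1.1 hd.2).symm

theorem cent_le_cent : C[D] ≤ C[D ⊓ C1[t]] := centralizer_le (SetLike.coe_subset_coe.2 inf_le_left)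

theorem tv_mem (ht : t ∈ E) (hf : ∀ i, f i ∈ span (E ⊓ C[D]) ξ) : tv t f ∈ span (E ⊓ C[D ⊓ C1[t]]) ξ :=
  sum_mem fun i _ => span_smul (pow_mem (mem_inf.2 ⟨ht, self_mem_cent⟩) _) (span_mono (inf_le_inf_left E cent_le_cent) (hf i))

/-- the stabiliser of the coset `t C(D)` -/
def cst (D : Subgroup G) (t : G) : Subgroup G where
  carrier := {g | g ∈ N[D] ∧ dl g t ∈ C[D]}
  one_mem' := ⟨one_mem _, by simp [dl]⟩
  mul_mem' := fun {a b} ha hb => ⟨mul_mem ha.1 hb.1, by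
    simpa [dl, mul_assoc] using mul_mem ha.2 ((conj_mem_cent ha.1).2 hb.2)⟩
  inv_mem' := fun {a} ha => ⟨inv_mem ha.1, (conj_mem_cent ha.1).1 (by simpa [dl, mul_assoc] using inv_mem ha.2)⟩

theorem mem_of_pow_mem_coprime [Finite G] {A : Subgroup G} {k : ℕ} (hk : k.Coprime (Nat.card G)) (h : g ^ k ∈ A) : g ∈ A := by
  obtain ⟨j, e⟩ := exists_pow_eq_self_of_coprime (hk.coprime_dvd_right (orderOf_dvd_natCard g))
  exact e ▸ pow_mem h j

theorem eq_of_orbits (hE : E.Normal) (n0 : ∀ q ∈ E, q • x ≠ ξ) (n1 : ∀ q ∈ E, q • x ≠ η) (n2 : ∀ q ∈ E, q • ξ ≠ η)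
    (g1 : g • x = x) (g2 : g • ξ = ξ) (hq : q ∈ E) (i j : Fin 4) (hi : ![x, ξ, η, 0] i ≠ 0)
    (e : q • g • ![x, ξ, η, 0] i = ![x, ξ, η, 0] j) : i = j := by
  have hj := e ▸ smul_ne q (smul_ne g hi)
  have h4 := hE.conj_mem _ (E.inv_mem hq) g⁻¹
  have e' := inv_smul_eq_iff.2 (inv_smul_eq_iff.2 e.symm)
  fin_cases i <;> fin_cases j <;> first | rfl | exact (hi rfl).elim | exact (hj rfl).elim | exfalso
  · exact n0 q hq (g1 ▸ e)
  · exact n1 q hq (g1 ▸ e)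
  · exact n0 _ (E.inv_mem hq) (inv_smul_eq_iff.2 (g2 ▸ e.symm))
  · exact n2 q hq (g2 ▸ e)
  · exact n1 _ h4 (by rw [mul_smul, mul_smul, inv_inv, g1]; exact e')
  · exact n2 _ h4 (by rw [mul_smul, mul_smul, inv_inv, g2]; exact e')

namespace Setup

variable (h : Setup V p U E) (m : Mx E D ξ)
include h m

theorem chi_eq (hd : d ∈ D) (ha : a ∈ E) (hb : b ∈ E) (hc : a⁻¹ * b ∈ C[D]) : ⁅d, a⁆ = ⁅d, b⁆ := by
  rw [← mul_inv_cancel_left a b, h.comm_mul_right (m.le hd) ha (E.mul_mem (E.inv_mem ha) hb),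
    comm_iff.2 (mem_centralizer_iff.1 hc d hd), mul_one]

theorem mem_cent_of_fix (hd : d ∈ D) (ht : t ∈ E) (h1 : η ≠ 0) (h2 : Fx D η) (e : d • t • η = t • η) : d ∈ C1[t] := by
  have h3 := m.max η h1 h2 _ (E.mul_mem (E.mul_mem (E.inv_mem ht) (m.le hd)) ht) (by rw [mul_smul, mul_smul, e, inv_smul_smul])
  rw [show t⁻¹ * d * t = ⁅t⁻¹, d⁆ * d by simp [commutatorElement_def], D.mul_mem_cancel_right hd] at h3
  exact mem_cent1.2 (Commute.inv_left_iff.1 (comm_iff.1 (eq_one_of_inf (h.disj m) h3 (h.comm _ (E.inv_mem ht) d (m.le hd)))))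

theorem normal_cent (ht : t ∈ E) (hq : q ∈ E ⊓ C[D]) : t⁻¹ * q * t ∈ E ⊓ C[D] :=
  h.normal_in' (h.U_le_cent m.le) inf_le_left ht hq

variable [Finite G]

theorem base_of_dlc (hp : Pin E D ξ a) (hD : E ≤ C[D]) : Base2 G V :=
  ⟨ξ, a • ξ, fun g e1 e2 => h.final m.le (h.disj m) m.ne e1 fun _ ht => (hp.2 g e1 e2 ⟨ht, hD ht⟩).2⟩

variable (l : Pl E D r t d)
include l

theorem order : orderOf ⁅d, t⁆ = r :=
  haveI := Fact.mk l.hr
  orderOf_eq_prime (by rw [← h.comm_pow_right (m.le l.hd) l.ht, l.pow]; simp) l.ne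

theorem modEq {i j : ℕ} (e : ⁅d, t⁆ ^ i = ⁅d, t⁆ ^ j) : i ≡ j [MOD r] := h.order m l ▸ pow_eq_pow_iff_modEq.1 e

theorem inj (hn : n ≤ r) (i j : Fin n) (hc : (t ^ (i : ℕ))⁻¹ * t ^ (j : ℕ) ∈ C[D]) : i = j := by
  have := h.chi_eq m l.hd (pow_mem l.ht _) (pow_mem l.ht _) hc
  rw [h.comm_pow_right (m.le l.hd) l.ht, h.comm_pow_right (m.le l.hd) l.ht] at this
  exact Fin.ext ((h.modEq m l this).eq_of_lt_of_lt (i.2.trans_le hn) (j.2.trans_le hn))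

theorem not_mem : t ∉ C[D] := fun hc => l.ne (comm_iff.2 (mem_centralizer_iff.1 hc d l.hd))

theorem exists_pow (hs : s ∈ E ⊓ C[D ⊓ C1[t]]) : ∃ j : ℕ, (t ^ j)⁻¹ * s ∈ C[D] := by
  have hd := m.le l.hd
  have hz := h.comm d hd t l.ht
  have h1 : ⁅d, t⁆ ^ r = 1 := h.order m l ▸ pow_orderOf_eq_one _
  have h2 : d ^ r ∈ D ⊓ C1[t] := ⟨pow_mem l.hd r, mem_cent1.2 (comm_iff.1 (by rw [h.comm_pow_left hd l.ht, h1])).symm⟩
  obtain ⟨j, -, e⟩ := h.exists_pow_eq l.hr hz l.ne h1 (h.comm d hd s hs.1) (by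
    rw [← h.comm_pow_left hd hs.1, comm_iff.2 (mem_centralizer_iff.1 hs.2 _ h2)])
  refine ⟨j, mem_centralizer_iff.2 fun c hc => ?_⟩
  obtain ⟨k, -, e'⟩ := h.exists_pow_eq l.hr hz l.ne h1 (h.comm c (m.le hc) t l.ht) (by
    rw [← h.comm_pow_right (m.le hc) l.ht, l.pow]; simp)
  have h3 := E.mul_mem (E.inv_mem (pow_mem l.ht j)) hs.1
  have h4 : (d ^ k)⁻¹ * c ∈ D ⊓ C1[t] := ⟨D.mul_mem (D.inv_mem (pow_mem l.hd k)) hc, mem_cent1.2 (comm_iff.1 (by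
    rw [h.comm_mul_left (inv_mem (pow_mem hd k)) (m.le hc) l.ht, h.comm_inv_left (pow_mem hd k) l.ht,
      h.comm_pow_left hd l.ht, e', inv_mul_cancel])).symm⟩
  have h5 : Commute d ((t ^ j)⁻¹ * s) := comm_iff.1 (by
    rw [h.comm_mul_right hd (inv_mem (pow_mem l.ht j)) hs.1, h.comm_inv_right hd (pow_mem l.ht j),
      h.comm_pow_right hd l.ht, e, inv_mul_cancel])
  rw [← mul_inv_cancel_left (d ^ k) c]
  exact (h5.pow_left k).mul_left (mem_centralizer_iff.1 (mul_mem (inv_mem (pow_mem self_mem_cent j)) hs.2) _ h4)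

theorem dl_mem_of (e1 : E ⊓ C[D] ≤ dlc g E D) (e2 : dl g t ∈ D ⊓ C1[t]) (hs : s ∈ E ⊓ C[D ⊓ C1[t]]) : dl g s ∈ D := by
  obtain ⟨j, hj⟩ := h.exists_pow m l hs
  rw [← mul_inv_cancel_left (t ^ j) s]
  exact dl_mul_mem (pow_mem (show t ∈ dlc g E (D ⊓ C1[t]) from ⟨⟨l.ht, self_mem_cent⟩, e2⟩) j).2.1 hj
    (e1 ⟨E.mul_mem (E.inv_mem (pow_mem l.ht j)) hs.1, hj⟩).2

theorem span_fix_of (e : g • ξ = ξ) (e1 : E ⊓ C[D] ≤ dlc g E D) (e2 : dl g t ∈ D ⊓ C1[t])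
    (hv : v ∈ span (E ⊓ C[D ⊓ C1[t]]) ξ) : g • v = v :=
  span_fix (fun s hs => by rw [smul_smul_dl, e, m.fx _ (h.dl_mem_of m l e1 e2 hs)]) hv

theorem tv_conj (hn : n ≤ r) (hf : ∀ i, Fx D (f i)) (hg : g ∈ N[D]) (e : g • tv t f = tv t f) (i : Fin n) (hi : f i ≠ 0) :
    ∃ j : Fin n, (g * t ^ (i : ℕ) * g⁻¹)⁻¹ * t ^ (j : ℕ) ∈ C[D] ∧ g • t ^ (i : ℕ) • f i = t ^ (j : ℕ) • f j :=
  h.fix_conj m.le (fun _ => pow_mem l.ht _) (fun i => (hf i).blk _) (h.inj m l hn) hg e i (smul_ne _ hi)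

theorem tv_mul (hn : n ≤ r) (hf : ∀ i, Fx D (f i)) (hs : s ∈ E) (e : s • tv t f = tv t f) (i : Fin n) (hi : f i ≠ 0) :
    ∃ j : Fin n, (s * t ^ (i : ℕ))⁻¹ * t ^ (j : ℕ) ∈ C[D] ∧ s • t ^ (i : ℕ) • f i = t ^ (j : ℕ) • f j :=
  h.fix_mul m.le (fun _ => pow_mem l.ht _) (fun i => (hf i).blk _) (fun i => (hf i).blk _) (h.inj m l hn) hs e i (smul_ne _ hi)

theorem tv_diag (hn : n ≤ r) (hf : ∀ i, Fx D (f i)) (hg : g ∈ cst D t) (e : g • tv t f = tv t f) (i : Fin n)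
    (hi : f i ≠ 0) : g • t ^ (i : ℕ) • f i = t ^ (i : ℕ) • f i := by
  obtain ⟨j, h1, h2⟩ := h.tv_conj m l hn hf hg.1 e i hi
  have := (pow_mem (show t ∈ h.dls g (h.U_le_cent m.le) inf_le_left from ⟨l.ht, h.dl_mem g l.ht, hg.2⟩) i).2.2
  obtain rfl := h.inj m l hn i j (by simpa [dl, mul_assoc] using mul_mem this h1)
  exact h2

omit [Finite G] l in
theorem mem_cst (ht : t ∈ E) (hq : q ∈ E ⊓ C[D]) : q ∈ cst D t :=
  ⟨centralizer_le_normalizer _ hq.2, by simpa [dl, mul_assoc] using (C[D]).mul_mem (h.normal_cent m ht hq).2 ((C[D]).inv_mem hq.2)⟩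

theorem tv_ne (hn : n + 1 ≤ r) {f : Fin (n + 1) → V} (hf : ∀ i, Fx D (f i)) (h0 : f 0 ≠ 0) : tv t f ≠ 0 := fun e => by
  obtain ⟨j, -⟩ := h.rep_unique (κ := Empty) m.le (fun _ => pow_mem l.ht _) (fun i => (hf i).blk _) (h.inj m l hn)
    (t' := fun _ => 1) (η' := fun _ => 0) (by simp) (by simp) (by simp) (e.trans (by simp)) 0 (smul_ne _ h0)
  exact j.elim

theorem mem_of_diag (hn : n + 2 ≤ r) {f : Fin (n + 2) → V} (hf : ∀ i, Fx D (f i)) (h0 : f 0 ≠ 0) (h1 : f 1 ≠ 0)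
    (hq : q ∈ E ⊓ C[D]) (e : q • tv t f = tv t f) : q ∈ D ⊓ C1[t] := by
  have k := h.tv_diag m l hn hf (h.mem_cst m l.ht hq) e
  have h2 := m.max _ h0 (hf 0) q hq.1 (by simpa using k 0 h0)
  exact ⟨h2, h.mem_cent_of_fix m h2 l.ht h1 (hf 1) (by simpa using k 1 h1)⟩

omit h m [Finite G] in
theorem smul_full : t • tv t (fun _ : Fin r => ξ) = tv t fun _ : Fin r => ξ := by
  simpa only [tv, Finset.sum_range] using smul_geom l.pow ξ

theorem ne_full (hv : ∀ s ∈ E, s • v = v → s ∈ C[D]) (hq : q ∈ E) : q • v ≠ tv t fun _ : Fin r => ξ := fun e => by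
  have h1 := E.mul_mem (E.mul_mem (E.inv_mem hq) l.ht) hq
  have := h.normal_cent m (E.inv_mem hq) ⟨h1, hv _ h1 (by rw [mul_smul, mul_smul, e, smul_full l, ← e, inv_smul_smul])⟩
  exact h.not_mem m l (by simpa [mul_assoc] using this.2)

theorem ne_base (hx : ∀ s ∈ E, s • x = x → s ∈ D ⊓ C1[t]) (hq : q ∈ E) : q • x ≠ ξ := fun e => by
  have hd := m.le l.hd
  have := mem_cent1.1 (hx _ (E.mul_mem (E.mul_mem (E.inv_mem hq) hd) hq) (by
    rw [mul_smul, mul_smul, e, m.fx d l.hd, ← e, inv_smul_smul])).2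
  rw [show q⁻¹ * d * q = ⁅q⁻¹, d⁆ * d by simp [commutatorElement_def], eq_comm, ← comm_iff,
    h.comm_mul_left (h.le (h.comm _ (E.inv_mem hq) d hd)) hd l.ht, h.comm_U_left (h.comm _ (E.inv_mem hq) d hd) l.ht,
    one_mul] at this
  exact l.ne this

theorem full_ne : tv t (fun _ : Fin r => ξ) ≠ 0 := by
  obtain ⟨k, rfl⟩ := Nat.exists_eq_add_of_le' l.hr.pos
  exact h.tv_ne m l le_rfl (fun _ => m.fx) m.ne

theorem lst_full (hx : Fx (D ⊓ C1[t]) x) (h1 : q ∈ h.lst ξ) (h2 : q ∈ h.lst (tv t fun _ : Fin r => ξ)) : q ∈ h.lst x := by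
  obtain ⟨k, rfl⟩ := Nat.exists_eq_add_of_le' l.hr.two_le
  obtain ⟨hq, u, hu, e⟩ := h2
  rw [h.lst_eq m] at h1
  have := h.mem_of_diag m l le_rfl (fun _ => m.fx) m.ne m.ne (h.sup_le_cent m (mul_mem (inv_mem (mem_sup_right hu)) h1))
    (by rw [mul_smul, e, inv_smul_smul])
  exact ⟨hq, u, hu, by rw [← inv_smul_eq_iff, ← mul_smul, hx _ this]⟩

theorem peel (h1 : x ∈ span (E ⊓ C[D ⊓ C1[t]]) ξ) (h2 : x ≠ 0)
    (reg : D ⊓ C1[t] ≠ ⊥ → ∀ s ∈ E, s • x = x → s ∈ D ⊓ C1[t])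
    (pin : ∀ g : G, g • x = x → g • ξ = ξ → E ⊓ C[D] ≤ dlc g E D ∧ dl g t ∈ D ⊓ C1[t]) : Base2 G V := by
  by_cases h0 : D ⊓ C1[t] = ⊥
  · exact ⟨x, ξ, fun g e1 e2 => h.final m.le (h.disj m) m.ne e2 fun s hs => h.dl_mem_of m l (pin g e1 e2).1 (pin g e1 e2).2
      ⟨hs, by simp [h0, mem_centralizer_iff]⟩⟩
  have fx := m.fx.anti (inf_le_left : D ⊓ C1[t] ≤ D)
  exact ⟨x, h.main (inf_le_left.trans m.le) (eq_bot_iff.2 (h.disj m ▸ inf_le_inf_right U inf_le_left)) _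
    (fun q hq v hv => span_smul hq hv) (fun v hv => span_fx inf_le_right fx hv) h1 self_mem_span
    (tv_mem l.ht fun _ => self_mem_span) h2 m.ne (h.full_ne m l) (reg h0) fx
    (fun g e1 e2 v hv => h.span_fix_of m l e2 (pin g e1 e2).1 (pin g e1 e2).2 hv) (fun q hq => h.ne_base m l (reg h0) hq.1)
    (fun q hq => h.ne_full m l (fun s hs e => h.le_cent m (reg h0 s hs e).1) hq.1)
    (fun q hq => h.ne_full m l (fun s hs e => h.le_cent m (m.mem hs e)) hq.1)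
    fun q _ => h.lst_full m l (span_fx inf_le_right fx h1)⟩

theorem pin0 (hp : Pin E D ξ a) (hn : n + 1 ≤ r) {f : Fin (n + 1) → V} (hf : ∀ i, Fx D (f i)) (h0 : f 0 = a • ξ)
    (e1 : g • tv t f = tv t f) (e2 : g • ξ = ξ) : E ⊓ C[D] ≤ dlc g E D := by
  obtain ⟨j, h1, h2⟩ := h.tv_conj m l hn hf (m.norm h.nE e2) e1 0 (h0 ▸ smul_ne a m.ne)
  obtain rfl := h.inj m l hn 0 j (by simpa using h1)
  exact hp.2 g e2 (by simpa [h0] using h2)

theorem pin2 (hp : Pin E D ξ a) (h1 : η ∈ span (E ⊓ C[D]) ξ) (h2 : η ≠ 0) (e1 : g • tv t ![a • ξ, η] = tv t ![a • ξ, η])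
    (e2 : g • ξ = ξ) : E ⊓ C[D] ≤ dlc g E D ∧ dl g t ∈ D := by
  have fη := span_fx inf_le_right m.fx h1
  have hf : ∀ i, Fx D (![a • ξ, η] i) := fun i => by fin_cases i; exacts [m.fx.smulc hp.1.2, fη]
  have k := h.pin0 m l hp l.hr.two_le hf rfl e1 e2
  have hg := m.norm h.nE e2
  obtain ⟨j, h3, h4⟩ := h.tv_conj m l l.hr.two_le hf hg e1 1 h2
  fin_cases j
  · exact (h.not_mem m l ((conj_mem_cent hg).1 (inv_mem_iff.1 (by simpa using h3)))).elim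
  exact ⟨k, m.max η h2 fη _ (h.dl_mem g l.ht) (dl_smul (span_fix (fun q hq => m.fix_of_dlc e2 (k hq)) h1) (by simpa using h4))⟩

theorem reg2 (h0 : v ≠ 0) (h1 : w ≠ 0) (f0 : Fx D v) (f1 : Fx D w)
    (hb : r ≠ 2 ∨ ∀ q ∈ E ⊓ C[D], (t * q) • tv t ![v, w] = tv t ![v, w] → q • v ≠ w)
    (hs : s ∈ E) (e : s • tv t ![v, w] = tv t ![v, w]) : s ∈ D ⊓ C1[t] := by
  have hf : ∀ i, Fx D (![v, w] i) := fun i => by fin_cases i; exacts [f0, f1]
  obtain ⟨j, h2, h3⟩ := h.tv_mul m l l.hr.two_le hf hs e 0 h0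
  fin_cases j
  · exact h.mem_of_diag m l l.hr.two_le hf h0 h1 ⟨hs, by simpa using h2⟩ e
  simp only [Fin.val_zero, pow_zero, mul_one, one_smul, pow_one] at h2 h3
  obtain hb | hb := hb
  · obtain ⟨j, h4, -⟩ := h.tv_mul m l l.hr.two_le hf hs e 1 h1
    have := h.chi_eq m l.hd (E.mul_mem hs (pow_mem l.ht _)) (pow_mem l.ht _) h4
    rw [h.comm_mul_right (m.le l.hd) hs (pow_mem l.ht _), h.chi_eq m l.hd hs l.ht h2, h.comm_pow_right (m.le l.hd) l.ht,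
      h.comm_pow_right (m.le l.hd) l.ht, ← pow_succ'] at this
    have h5 := (h.modEq m l this).eq_of_lt_of_lt (lt_of_le_of_ne l.hr.two_le hb.symm) (j.2.trans_le l.hr.two_le)
    exact absurd j.2 (by simp [← h5])
  · refine (hb (t⁻¹ * s) ⟨E.mul_mem (E.inv_mem l.ht) hs, by simpa using inv_mem h2⟩ (by simpa using e) ?_).elim
    rw [mul_smul, inv_smul_eq_iff]; exact h3

theorem neg_absurd (hp2 : p ≠ 2) (hr2 : r ≠ 2) (hs : s ∈ E) (h1 : s ^ r ∈ D) (h2 : (t ^ 2)⁻¹ * s ∈ C[D]) :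
    s • ξ ≠ t ^ 2 • -ξ := fun e => by
  obtain ⟨k, hk⟩ := l.hr.odd_of_ne_two hr2
  have h3 := E.mul_mem (E.inv_mem (pow_mem l.ht 2)) hs
  rw [← inv_smul_eq_iff, ← mul_smul] at e
  rw [← mul_inv_cancel_left (t ^ 2) s] at h1
  generalize (t ^ 2)⁻¹ * s = c at h1 h3 e
  have h4 : (t ^ 2) ^ r = 1 := by rw [← pow_mul, mul_comm, pow_mul, l.pow, one_pow]
  rw [h.mul_pow (pow_mem l.ht 2) h3, h4, Nat.choose_two_right, Nat.mul_div_assoc _ ⟨k, by omega⟩, pow_mul,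
    ← h.comm_pow_right h3 (pow_mem l.ht 2), h4] at h1
  have h5 : ∀ j : ℕ, (c ^ 2) ^ j • ξ = ξ := fun j => MulAction.mem_stabilizer_iff.1 (pow_mem (MulAction.mem_stabilizer_iff.2
    (by rw [sq, mul_smul, e, smul_neg, e, neg_neg])) j)
  have h6 := m.fx _ h1
  simp only [commutatorElement_one_right, one_pow, mul_one, one_mul, hk, pow_succ', pow_mul, mul_smul, h5, e] at h6
  exact m.ne (h.eq_zero_of_nsmul (n := 2) (mt (Nat.prime_dvd_prime_iff_eq h.hp Nat.prime_two).1 hp2)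
    (by rw [two_nsmul]; nth_rw 1 [← h6]; simp))

theorem pin3 (hp : Pin E D ξ a) (hr2 : r ≠ 2) (h1 : η ∈ span (E ⊓ C[D]) ξ) (h2 : η ≠ 0)
    (H : 5 ≤ r ∨ (η = -ξ ∧ p ≠ 2) ∨ (Odd (Nat.card G) ∧ r = 3)) (e1 : g • tv t ![a • ξ, ξ, η] = tv t ![a • ξ, ξ, η])
    (e2 : g • ξ = ξ) : E ⊓ C[D] ≤ dlc g E D ∧ dl g t ∈ D ⊓ C1[t] := by
  have fη := span_fx inf_le_right m.fx h1
  have hf : ∀ i, Fx D (![a • ξ, ξ, η] i) := fun i => by fin_cases i; exacts [m.fx.smulc hp.1.2, m.fx, fη]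
  have h3 : 3 ≤ r := lt_of_le_of_ne l.hr.two_le hr2.symm
  have k := h.pin0 m l hp h3 hf rfl e1 e2
  have hg := m.norm h.nE e2
  have ht' := h.nE.conj_mem t l.ht g
  have hd := m.le l.hd
  obtain ⟨j, h4, h5⟩ := h.tv_conj m l h3 hf hg e1 1 m.ne
  fin_cases j
  · exact (h.not_mem m l ((conj_mem_cent hg).1 (inv_mem_iff.1 (by simpa using h4)))).elim
  · have h6 := m.mem (h.dl_mem g l.ht) (dl_smul e2 (by simpa using h5))
    have h7 := h.tv_diag m l h3 hf ⟨hg, h.le_cent m h6⟩ e1 2 h2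
    refine ⟨k, h6, h.mem_cent_of_fix m h6 l.ht h2 fη ?_⟩
    simpa [sq, mul_smul, smul_smul_dl g t, span_fix (fun q hq => m.fix_of_dlc e2 (k hq)) h1, fη _ h6] using h7
  exfalso
  simp only [Fin.val_one, pow_one] at h4 h5
  have h6 := h.chi_eq m l.hd ht' (pow_mem l.ht 2) h4
  obtain H | ⟨rfl, H⟩ | ⟨H, rfl⟩ := H
  · obtain ⟨j, h7, -⟩ := h.tv_conj m l h3 hf hg e1 2 h2
    have := h.chi_eq m l.hd (h.nE.conj_mem _ (pow_mem l.ht _) g) (pow_mem l.ht _) h7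
    rw [← conj_pow, h.comm_pow_right hd ht', h6, h.comm_pow_right hd l.ht, h.comm_pow_right hd l.ht, ← pow_mul] at this
    have h8 := (h.modEq m l this).eq_of_lt_of_lt H (j.2.trans_le h3)
    exact absurd j.2 (by simp [← h8])
  · refine h.neg_absurd m l H hr2 ht' (by rw [conj_pow, l.pow]; simp) (by simpa using inv_mem h4) ?_
    rw [mul_smul, mul_smul, inv_smul_eq_iff.2 e2.symm]; exact h5
  · have h7 : (t ^ 2)⁻¹ * (g * t * g⁻¹) ∈ E ⊓ C[D] := ⟨E.mul_mem (E.inv_mem (pow_mem l.ht 2)) ht', by simpa using inv_mem h4⟩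
    have h8 : t⁻¹ = t ^ 2 := inv_eq_of_mul_eq_one_right (by rw [← pow_succ', l.pow])
    rw [← h8, inv_inv] at h7
    have h9 : g ^ 2 ∈ cst D t := ⟨pow_mem hg 2, by
      simpa [dl, sq, mul_assoc] using
        (C[D]).mul_mem ((C[D]).inv_mem (h.normal_cent m l.ht h7).2) ((conj_mem_cent hg).2 h7.2)⟩
    have := h.chi_eq m l.hd l.ht ht' (mem_of_pow_mem_coprime (Nat.coprime_two_left.2 H) h9).2
    rw [h6, h.comm_pow_right hd l.ht, ← pow_one ⁅d, t⁆, ← pow_mul] at this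
    exact absurd (h.modEq m l this) (by decide)

theorem reg_three (hr2 : r ≠ 2) (h0 : v ≠ 0) (h1 : η ≠ 0) (f0 : Fx D v) (f1 : Fx D η) (H : 5 ≤ r ∨ (η = -ξ ∧ p ≠ 2))
    (hs : s ∈ E) (e : s • tv t ![v, ξ, η] = tv t ![v, ξ, η]) : s ∈ D ⊓ C1[t] := by
  have hf : ∀ i, Fx D (![v, ξ, η] i) := fun i => by fin_cases i; exacts [f0, m.fx, f1]
  have h3 : 3 ≤ r := lt_of_le_of_ne l.hr.two_le hr2.symm
  obtain ⟨k, hk⟩ := l.hr.odd_of_ne_two hr2
  have hd := m.le l.hd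
  have kp : ∀ {s} (hs : s ∈ E) (i j : ℕ), (t ^ i)⁻¹ * s ∈ C[D] → (t ^ (i * j))⁻¹ * s ^ j ∈ C[D] := fun {s} hs i j h4 => by
    have h5 := E.mul_mem (E.inv_mem (pow_mem l.ht i)) hs
    rw [← mul_inv_cancel_left (t ^ i) s, h.mul_pow (pow_mem l.ht i) h5, pow_mul, mul_assoc, inv_mul_cancel_left]
    exact mul_mem (pow_mem h4 j) (h.U_le_cent m.le (pow_mem (h.comm _ h5 _ (pow_mem l.ht i)) _)).2
  have key : ∀ s ∈ E, s • tv t ![v, ξ, η] = tv t ![v, ξ, η] → t⁻¹ * s ∉ C[D] := fun s hs e h4 => by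
    have h5 := h.chi_eq m l.hd l.ht hs h4
    have h6 : ∀ i j : Fin 3, (s * t ^ (i : ℕ))⁻¹ * t ^ (j : ℕ) ∈ C[D] → i + 1 ≡ j [MOD r] := fun i j h6 => by
      have := h.chi_eq m l.hd (E.mul_mem hs (pow_mem l.ht _)) (pow_mem l.ht _) h6
      rw [h.comm_mul_right hd hs (pow_mem l.ht _), ← h5, h.comm_pow_right hd l.ht, h.comm_pow_right hd l.ht,
        ← pow_succ'] at this
      exact h.modEq m l this
    obtain H | ⟨rfl, H⟩ := H
    · obtain ⟨j, h7, -⟩ := h.tv_mul m l h3 hf hs e 2 h1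
      have h8 := (h6 2 j h7).eq_of_lt_of_lt (by simp; omega) (j.2.trans_le h3)
      exact absurd j.2 (by simp [← h8])
    obtain ⟨j, h7, h8⟩ := h.tv_mul m l h3 hf hs e 1 m.ne
    obtain rfl : j = 2 := Fin.ext ((h6 1 j h7).eq_of_lt_of_lt h3 (j.2.trans_le h3)).symm
    have h9 : s ^ r ∈ D := (h.mem_of_diag m l h3 hf h0 m.ne ⟨pow_mem hs r, by simpa [l.pow] using kp hs 1 r (by simpa)⟩
      (MulAction.mem_stabilizer_iff.1 (pow_mem (MulAction.mem_stabilizer_iff.2 e) r))).1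
    refine h.neg_absurd m l H hr2 (E.mul_mem hs l.ht) ?_ (by simpa using inv_mem h7) (by simpa [mul_smul] using h8)
    rwa [h.mul_pow hs l.ht, l.pow, Nat.choose_two_right, Nat.mul_div_assoc _ ⟨k, by omega⟩, pow_mul,
      ← h.comm_pow_left l.ht hs, l.pow, commutatorElement_one_left, one_pow, mul_one, mul_one]
  obtain ⟨j, h2, -⟩ := h.tv_mul m l h3 hf hs e 0 h0
  fin_cases j
  · exact h.mem_of_diag m l h3 hf h0 m.ne ⟨hs, by simpa using h2⟩ e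
  · exact (key s hs e (by simpa using inv_mem h2)).elim
  · refine (key _ (pow_mem hs (k + 1)) (MulAction.mem_stabilizer_iff.1 (pow_mem (MulAction.mem_stabilizer_iff.2 e) _)) ?_).elim
    have := kp hs 2 (k + 1) (by simpa using inv_mem h2)
    rwa [show 2 * (k + 1) = r + 1 by omega, pow_succ, l.pow, one_mul] at this

theorem base_odd (hp : Pin E D ξ a) (hr2 : r ≠ 2) (H : 5 ≤ r ∨ p ≠ 2 ∨ (Odd (Nat.card G) ∧ r = 3 ∧ D ⊓ C1[t] = ⊥)) :
    Base2 G V := by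
  have h1 : -ξ ∈ span (E ⊓ C[D]) ξ := neg_mem self_mem_span
  have h2 := neg_ne_zero.2 m.ne
  have h3 : 3 ≤ r := lt_of_le_of_ne l.hr.two_le hr2.symm
  have hf : ∀ i, ![a • ξ, ξ, -ξ] i ∈ span (E ⊓ C[D]) ξ := fun i => by
    fin_cases i; exacts [smul_mem_span hp.1, self_mem_span, h1]
  exact h.peel m l (tv_mem l.ht hf) (h.tv_ne m l h3 (fun i => span_fx inf_le_right m.fx (hf i)) (smul_ne a m.ne))
    (fun h0 s => h.reg_three m l hr2 (smul_ne a m.ne) h2 (m.fx.smulc hp.1.2) (span_fx inf_le_right m.fx h1) (by tauto))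
    fun g => h.pin3 m l hp hr2 h1 h2 (by tauto)

theorem base_two (hp : Pin E D ξ a) (hr : r = 2) (h1 : η ∈ span (E ⊓ C[D]) ξ) (h2 : η ≠ 0)
    (hb : D ⊓ C1[t] ≠ ⊥ → ∀ q ∈ E ⊓ C[D], (t * q) • tv t ![a • ξ, η] = tv t ![a • ξ, η] → q • a • ξ ≠ η) : Base2 G V := by
  subst hr
  have hf : ∀ i, ![a • ξ, η] i ∈ span (E ⊓ C[D]) ξ := fun i => by fin_cases i; exacts [smul_mem_span hp.1, h1]
  refine h.peel m l (tv_mem l.ht hf) (h.tv_ne m l le_rfl (fun i => span_fx inf_le_right m.fx (hf i)) (smul_ne a m.ne))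
    (fun h0 s => h.reg2 m l (smul_ne a m.ne) h2 (m.fx.smulc hp.1.2) (span_fx inf_le_right m.fx h1) (.inr (hb h0)))
    fun g e1 e2 => ?_
  obtain ⟨k1, k2⟩ := h.pin2 m l hp h1 h2 e1 e2
  have h3 : (t * dl g t) ^ 2 = 1 := by rw [← conj_eq_dl, conj_pow, l.pow]; simp
  rw [h.mul_pow l.ht (m.le k2), l.pow, one_mul, Nat.choose_self, pow_one, mul_eq_one_iff_inv_eq] at h3
  exact ⟨k1, k2, mem_cent1.2 (comm_iff.1 (eq_one_of_inf (h.disj m) (h3 ▸ inv_mem (pow_mem k2 2))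
    (h.comm _ (m.le k2) t l.ht))).symm⟩

theorem base_three (hp : Pin E D ξ a) (hr2 : r ≠ 2) (hE : Odd (Nat.card G)) (h0 : D ⊓ C1[t] ≠ ⊥) : Base2 G V := by
  have h3 : 3 ≤ r := lt_of_le_of_ne l.hr.two_le hr2.symm
  have hf : ∀ i, ![a • ξ, ξ] i ∈ span (E ⊓ C[D]) ξ := fun i => by fin_cases i; exacts [smul_mem_span hp.1, self_mem_span]
  have x1 := tv_mem l.ht hf
  have x2 := h.tv_ne m l l.hr.two_le (fun i => span_fx inf_le_right m.fx (hf i)) (smul_ne a m.ne)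
  have reg := fun s => h.reg2 (s := s) m l (smul_ne a m.ne) m.ne (m.fx.smulc hp.1.2) m.fx (.inl hr2)
  have pin := fun g => h.pin2 (g := g) m l hp self_mem_span m.ne
  generalize tv t ![a • ξ, ξ] = x at x1 x2 reg pin
  have fx := m.fx.anti (inf_le_left : D ⊓ C1[t] ≤ D)
  have hD := inf_le_left.trans m.le (a := D ⊓ C1[t])
  have hκ : ∀ i, ![x, ξ, tv t fun _ : Fin r => ξ, 0] i ∈ span (E ⊓ C[D ⊓ C1[t]]) ξ := fun i => by
    fin_cases i; exacts [x1, self_mem_span, tv_mem l.ht fun _ => self_mem_span, zero_mem _]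
  have hκ' := fun i => span_fx inf_le_right fx (hκ i)
  have k0 : ∀ i, ![x, ξ, tv t fun _ : Fin r => ξ, 0] i = 0 → i = 3 := fun i => by
    fin_cases i <;> simp [x2, m.ne, h.full_ne m l]
  obtain ⟨y, c, hc, H⟩ := h.main1 hD le_rfl (fun t ht => ⟨t, ht, by simp⟩) (hκ' 0) reg fx hκ' k0
    fun g g1 g2 q hq => eq_of_orbits h.nE (fun q => h.ne_base m l reg)
      (fun q => h.ne_full m l fun s hs e => h.le_cent m (reg s hs e).1)
      (fun q => h.ne_full m l fun s hs e => h.le_cent m (m.mem hs e)) g1 g2 hq.1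
  refine ⟨x, y, fun g g1 g2 => ?_⟩
  obtain ⟨g3, k1, k2⟩ := H g g1 g2
  obtain ⟨k3, k4⟩ := pin g g1 g3
  have hg := m.norm h.nE g3
  have k5 : E ⊓ C[D ⊓ C1[t]] ≤ h.dls g (h.U_le_cent m.le) inf_le_left := fun s hs => by
    obtain ⟨j, hj⟩ := h.exists_pow m l hs
    have h4 := E.mul_mem (E.inv_mem (pow_mem l.ht j)) hs.1
    rw [← mul_inv_cancel_left (t ^ j) s]
    exact mul_mem (pow_mem (show t ∈ h.dls g (h.U_le_cent m.le) inf_le_left from ⟨l.ht, m.le k4, h.le_cent m k4⟩) j)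
      ⟨h4, h.sup_le_cent m (mem_sup_left (k3 ⟨h4, hj⟩).2)⟩
  have k6 := hc.gen1 _ k5 fun s hs h4 h5 => by
    obtain ⟨ρ, h6, h7, h8⟩ := k2 s hs (fun h => h4 ⟨hs, h⟩) (fun h => by rw [k0 _ h] at h5; simp at h5)
    rw [← mul_inv_cancel_left ρ s]
    refine mul_mem ⟨h6, h.sup_le_cent m (mem_sup_left ?_)⟩ (k5 ⟨E.mul_mem (E.inv_mem h6) hs, h7⟩)
    rcases h5 with h5 | h5 <;> rw [h5] at h8
    exacts [(reg _ (h.dl_mem g h6) (by simpa [g1] using h8)).1, m.mem (h.dl_mem g h6) (by simpa [g3] using h8)]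
  obtain ⟨s, hs, h4, h5⟩ := hc.two (by
    by_contra h4
    push Not at h4
    refine h0 (eq_bot_iff.2 fun c hc => eq_one_of_inf (h.disj m) hc.1 (h.self _ fun b hb => ?_))
    exact mem_centralizer_iff.1 (mem_of_pow_mem_coprime (Nat.coprime_two_left.2 hE) (h4 b hb)).2 _ hc)
  obtain ⟨ρ, h6, -, h8⟩ := k2 s hs (fun h => h4 ⟨hs, h⟩) (fun h => by rw [k0 _ h] at h5; simp at h5)
  rw [h5, ← mul_smul] at h8
  have h7 := (k6 h6).2
  have k7 := fun i => h.tv_diag m l le_rfl (fun _ => m.fx) (mul_mem (h.mem_cst m l.ht h7) ⟨hg, h.le_cent m k4⟩) h8 i m.ne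
  have h9 := m.mem h7.1 (by simpa [mul_smul, g3] using k7 ⟨0, by omega⟩)
  have gt : g • t • ξ = t • ξ := by rw [smul_smul_dl, g3, m.fx _ k4]
  have h10 := h.mem_cent_of_fix m h9 l.ht m.ne m.fx (by simpa [mul_smul, gt] using k7 ⟨1, by omega⟩)
  have h11 : g • t ^ 2 • ξ = t ^ 2 • ξ := by
    have := (k7 ⟨2, by omega⟩).trans ((fx.smulc (pow_mem self_mem_cent 2)) _ ⟨h9, h10⟩).symm
    rwa [mul_smul, smul_left_cancel_iff] at this
  have h12 : dl g t ∈ D ⊓ C1[t] := ⟨k4, h.mem_cent_of_fix m k4 l.ht m.ne m.fx (by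
    rwa [sq, mul_smul, smul_smul_dl, gt, smul_left_cancel_iff] at h11)⟩
  have hfix := fun v => h.span_fix_of (v := v) m l g3 k3 h12
  exact h.main2 hD (eq_bot_iff.2 (h.disj m ▸ inf_le_inf_right U inf_le_left)) reg hκ' k0
    (fun q _ => h.lst_full m l (hκ' 0)) hc (fun q hq => hfix _ (span_smul hq x1)) (fun i _ => hfix _ (hκ i)) k1 k2

end Setup

end CL.SL
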