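/-
Bases of solvable linear groups: two hyperbolic pairs of involutions, when the order of the group is prime to three.
-/
import Cfsg.Agent.Fgs.SLPeel

set_option autoImplicit false

open Subgroup CL.Odd CL.Grp
open scoped commutatorElement

namespace CL.SL

universe u

variable {G : Type u} [Group G] {V : Type*} [AddCommGroup V] [DistribMulAction G V] {p : ℕ} {U E D : Subgroup G}
  {a d g k q s t u z ta tb da db : G} {v x ξ η : V} {f f' : Fin 2 × Fin 2 → V}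

/-- two orthogonal hyperbolic pairs of involutions -/
structure Hyp (E : Subgroup G) (z ta tb da db : G) : Prop where
  z1 : z ≠ 1
  m1 : ta ∈ E
  m2 : tb ∈ E
  m3 : da ∈ E
  m4 : db ∈ E
  s1 : ta ^ 2 = 1
  s2 : tb ^ 2 = 1
  s3 : da ^ 2 = 1
  s4 : db ^ 2 = 1
  c12 : ⁅ta, tb⁆ = 1
  c34 : ⁅da, db⁆ = 1
  c31 : ⁅da, ta⁆ = z
  c42 : ⁅db, tb⁆ = z
  c32 : ⁅da, tb⁆ = 1
  c41 : ⁅db, ta⁆ = 1

/-- the elements `s^i t^j` -/
def wd (s t : G) (i : Fin 2 × Fin 2) : G := s ^ (i.1 : ℕ) * t ^ (i.2 : ℕ)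

/-- `∑ sⁱ tʲ fᵢⱼ` -/
def bv (s t : G) (f : Fin 2 × Fin 2 → V) : V := ∑ i, wd s t i • f i

/-- the supports of the four colours -/
def sp (c : Fin 4) (i : Fin 2 × Fin 2) : Bool := ![decide (i ≠ 1), decide (i.2 = 0), decide (i.1 = 0), decide (i = 0)] c

theorem wd_mem {A : Subgroup G} (hs : s ∈ A) (ht : t ∈ A) (i : Fin 2 × Fin 2) : wd s t i ∈ A :=
  A.mul_mem (pow_mem hs _) (pow_mem ht _)

theorem comm_symm (e : ⁅s, t⁆ = 1) : ⁅t, s⁆ = 1 := comm_iff.2 (comm_iff.1 e).symm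

theorem self_mem_cent2 : s ∈ C[D ⊓ C1[s] ⊓ C1[t]] := mem_centralizer_iff.2 fun _ hd => (mem_cent1.1 hd.1.2).symm

theorem cent_le_cent2 : C[D] ≤ C[D ⊓ C1[s] ⊓ C1[t]] := cent_le_cent.trans cent_le_cent

theorem exists_mx_le [Finite G] {A : Subgroup G} (hA : A ≤ E) (hv : v ≠ 0) (hx : Fx A v) :
    ∃ (D : Subgroup G) (ξ : V), A ≤ D ∧ Mx E D ξ := by
  obtain ⟨D, h0, ⟨h1, ξ, h2, h3⟩, hm⟩ := Finite.exists_le_maximal (a := A)
    (p := fun D : Subgroup G => D ≤ E ∧ ∃ ξ : V, ξ ≠ 0 ∧ Fx D ξ) ⟨hA, v, hv, hx⟩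
  exact ⟨D, ξ, h0, h2, h1, h3, fun η h4 h5 t ht e => hm (y := E ⊓ MulAction.stabilizer G η)
    ⟨inf_le_left, η, h4, fun d hd => hd.2⟩ (fun d hd => ⟨h1 hd, h5 d hd⟩) ⟨ht, e⟩⟩

namespace GS

variable (h : GS U E)
include h

theorem comm_dl (hU : ∀ u ∈ U, dl g u = 1) (hs : s ∈ E) (ht : t ∈ E) (hc : ⁅dl g s, dl g t⁆ = 1) :
    ⁅dl g s, t⁆ * ⁅s, dl g t⁆ = 1 := by
  have e := map_commutatorElement (MulAut.conj g) s t
  simp only [MulAut.conj_apply, conj_eq_dl] at e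
  rw [hU _ (h.comm s hs t ht), h.comm_mul_left hs (h.dl_mem g hs) (E.mul_mem ht (h.dl_mem g ht)),
    h.comm_mul_right hs ht (h.dl_mem g ht), h.comm_mul_right (h.dl_mem g hs) ht (h.dl_mem g ht), hc, mul_one, mul_one,
    mul_assoc, left_eq_mul] at e
  rw [← h.cent _ (h.comm s hs _ (h.dl_mem g ht)) _ (h.le (h.comm _ (h.dl_mem g hs) t ht)), e]

theorem rl_mul {s' t' : G} (hD : D ≤ E) (hs : s ∈ E) (hs' : s' ∈ E) (ht : t ∈ E) (h1 : s⁻¹ * s' ∈ C[D])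
    (h2 : t⁻¹ * t' ∈ C[D]) : (s * t)⁻¹ * (s' * t') ∈ C[D] := by
  have := (h.normal_in' (A := E ⊓ C[D]) (fun u hu => ⟨h.le hu, mem_centralizer_iff.2 fun d hd =>
    (h.cent u hu d (hD hd)).symm⟩) inf_le_left ht ⟨E.mul_mem (E.inv_mem hs) hs', h1⟩).2
  simpa [mul_assoc] using (C[D]).mul_mem this h2

theorem three_cycle [Finite G] (h3 : ¬ 3 ∣ Nat.card G) (hD : D ≤ E) (hk : k ∈ N[D]) (hs : s ∈ E) (ht : t ∈ E)
    (h2 : t ^ 2 = 1) (e1 : (k * s * k⁻¹)⁻¹ * t ∈ C[D]) (e2 : (k * t * k⁻¹)⁻¹ * (s * t) ∈ C[D]) : s ∈ C[D] := by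
  have hU : ∀ t ∈ E, ⁅t, s⁆ ∈ C[D] := fun t ht =>
    mem_centralizer_iff.2 fun d hd => (h.cent _ (h.comm _ ht s hs) d (hD hd)).symm
  have e3 := h.rl_mul hD (h.nE.conj_mem s hs k) ht (h.nE.conj_mem t ht k) e1 e2
  rw [← mul_assoc t, mul_eq_comm t s, mul_assoc ⁅t, s⁆, mul_assoc s, ← sq, h2, mul_one, h.cent _ (h.comm t ht s hs) s hs,
    ← mul_assoc, mul_mem_cancel_right (hU t ht)] at e3
  have h4 : k ^ 3 ∈ cst D s := ⟨pow_mem hk 3, by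
    simpa [dl, mul_assoc, pow_succ] using inv_mem (mul_mem (mul_mem ((conj_mem_cent hk).2 ((conj_mem_cent hk).2 e1))
      ((conj_mem_cent hk).2 e2)) e3)⟩
  have h5 := (mem_of_pow_mem_coprime ((Nat.Prime.coprime_iff_not_dvd Nat.prime_three).2 h3) h4).2
  refine (mul_mem_cancel_left (hU _ (E.inv_mem ht))).1 ?_
  simpa [dl, mul_assoc, commutatorElement_def] using
    mul_mem (mul_mem (inv_mem e1) ((conj_mem_cent hk).2 (mul_mem h5 e1))) e2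

end GS

namespace Hyp

variable (h : GS U E) (H : Hyp E z ta tb da db)
include h H

theorem zU : z ∈ U := H.c31 ▸ h.comm _ H.m3 _ H.m1

theorem z2 : z ^ 2 = 1 := by rw [← H.c31, ← h.comm_pow_left H.m3 H.m1, H.s3]; simp

theorem dual : Hyp E z da db ta tb := by
  have e : z⁻¹ = z := inv_eq_of_mul_eq_one_right ((sq z).symm.trans (H.z2 h))
  exact ⟨H.z1, H.m3, H.m4, H.m1, H.m2, H.s3, H.s4, H.s1, H.s2, H.c34, H.c12,
    by rw [← commutatorElement_inv, H.c31, e], by rw [← commutatorElement_inv, H.c42, e], comm_symm H.c41, comm_symm H.c32⟩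

omit h in
theorem swap : Hyp E z tb ta db da :=
  ⟨H.z1, H.m2, H.m1, H.m4, H.m3, H.s2, H.s1, H.s4, H.s3, comm_symm H.c12, comm_symm H.c34, H.c42, H.c31, H.c41, H.c32⟩

theorem shear : Hyp E z ta (ta * tb) (da * db) db := by
  have e : z * z = 1 := (sq z).symm.trans (H.z2 h)
  refine ⟨H.z1, H.m1, E.mul_mem H.m1 H.m2, E.mul_mem H.m3 H.m4, H.m4, H.s1, ?_, ?_, H.s4, ?_, ?_, ?_, ?_, ?_, H.c41⟩
  · simp [h.mul_pow H.m1 H.m2, H.s1, H.s2, comm_symm H.c12]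
  · simp [h.mul_pow H.m3 H.m4, H.s3, H.s4, comm_symm H.c34]
  · simp [h.comm_mul_right H.m1 H.m1 H.m2, H.c12]
  · simp [h.comm_mul_left H.m3 H.m4 H.m4, H.c34]
  · simp [h.comm_mul_left H.m3 H.m4 H.m1, H.c31, H.c41]
  · simp [h.comm_mul_right H.m4 H.m1 H.m2, H.c41, H.c42]
  · simp [h.comm_mul_left H.m3 H.m4 (E.mul_mem H.m1 H.m2), h.comm_mul_right H.m3 H.m1 H.m2,
      h.comm_mul_right H.m4 H.m1 H.m2, H.c31, H.c32, H.c41, H.c42, e]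

theorem chi1 (i : Fin 2 × Fin 2) : ⁅da, wd ta tb i⁆ = z ^ (i.1 : ℕ) := by
  rw [wd, h.comm_mul_right H.m3 (pow_mem H.m1 _) (pow_mem H.m2 _), h.comm_pow_right H.m3 H.m1, h.comm_pow_right H.m3 H.m2,
    H.c31, H.c32, one_pow, mul_one]

theorem chi2 (i : Fin 2 × Fin 2) : ⁅db, wd ta tb i⁆ = z ^ (i.2 : ℕ) := by
  rw [wd, h.comm_mul_right H.m4 (pow_mem H.m1 _) (pow_mem H.m2 _), h.comm_pow_right H.m4 H.m1, h.comm_pow_right H.m4 H.m2,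
    H.c41, H.c42, one_pow, one_mul]

theorem z_inj {i j : Fin 2} (e : z ^ (i : ℕ) = z ^ (j : ℕ)) : i = j := by
  have := H.z1
  fin_cases i <;> fin_cases j <;> simp_all

omit h in
theorem wd_add (i j : Fin 2 × Fin 2) : wd ta tb (i + j) = wd ta tb i * wd ta tb j := by
  have c : Commute ta tb := comm_iff.1 H.c12
  simp only [wd, Prod.fst_add, Prod.snd_add, Fin.val_add]
  rw [← pow_eq_pow_mod _ H.s1, ← pow_eq_pow_mod _ H.s2, pow_add, pow_add, (c.pow_pow _ _).mul_mul_mul_comm]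

theorem dec [Finite G] (hs : s ∈ E) : ∃ i, (wd ta tb i)⁻¹ * s ∈ C1[da] ⊓ C1[db] := by
  obtain ⟨i, hi, e1⟩ := h.exists_pow_eq Nat.prime_two (H.zU h) H.z1 (H.z2 h) (h.comm _ H.m3 s hs)
    (by rw [← h.comm_pow_left H.m3 hs, H.s3]; simp)
  obtain ⟨j, hj, e2⟩ := h.exists_pow_eq Nat.prime_two (H.zU h) H.z1 (H.z2 h) (h.comm _ H.m4 s hs)
    (by rw [← h.comm_pow_left H.m4 hs, H.s4]; simp)
  have hw := wd_mem H.m1 H.m2 (⟨i, hi⟩, ⟨j, hj⟩)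
  exact ⟨(⟨i, hi⟩, ⟨j, hj⟩), mem_cent1.2 (comm_iff.1 (by
      rw [h.comm_mul_right H.m3 (E.inv_mem hw) hs, h.comm_inv_right H.m3 hw, H.chi1 h, e1, inv_mul_cancel])),
    mem_cent1.2 (comm_iff.1 (by
      rw [h.comm_mul_right H.m4 (E.inv_mem hw) hs, h.comm_inv_right H.m4 hw, H.chi2 h, e2, inv_mul_cancel]))⟩

end Hyp

namespace Setup

variable [Finite G] (h : Setup V p U E) (m : Mx E D ξ) (H : Hyp E z ta tb da db) (h3 : da ∈ D) (h4 : db ∈ D)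
include h m H h3 h4

omit [Finite G] in
theorem wd_inj (i j : Fin 2 × Fin 2) (hc : (wd ta tb i)⁻¹ * wd ta tb j ∈ C[D]) : i = j := by
  have e1 := h.chi_eq m h3 (wd_mem H.m1 H.m2 i) (wd_mem H.m1 H.m2 j) hc
  have e2 := h.chi_eq m h4 (wd_mem H.m1 H.m2 i) (wd_mem H.m1 H.m2 j) hc
  rw [H.chi1 h.toGS, H.chi1 h.toGS] at e1
  rw [H.chi2 h.toGS, H.chi2 h.toGS] at e2
  exact Prod.ext (H.z_inj h.toGS e1) (H.z_inj h.toGS e2)

theorem dec_D (hd : d ∈ D) : ∃ i, (wd da db i)⁻¹ * d ∈ D ⊓ C1[ta] ⊓ C1[tb] := by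
  obtain ⟨i, hi⟩ := (H.dual h.toGS).dec h.toGS (m.le hd)
  exact ⟨i, ⟨D.mul_mem (D.inv_mem (wd_mem h3 h4 i)) hd, hi.1⟩, hi.2⟩

theorem cent_of (h1 : s ∈ C[D ⊓ C1[ta] ⊓ C1[tb]]) (h2 : s ∈ C1[da] ⊓ C1[db]) : s ∈ C[D] :=
  mem_centralizer_iff.2 fun d hd => by
    obtain ⟨i, hi⟩ := h.dec_D m H h3 h4 hd
    rw [← mul_inv_cancel_left (wd da db i) d]
    exact Commute.mul_left (mem_cent1.1 (wd_mem (mem_cent1.2 (mem_cent1.1 h2.1).symm)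
      (mem_cent1.2 (mem_cent1.1 h2.2).symm) i)).symm (mem_centralizer_iff.1 h1 _ hi)

omit [Finite G] h m H h3 h4 in
theorem wd_cent (i : Fin 2 × Fin 2) : wd ta tb i ∈ C[D ⊓ C1[ta] ⊓ C1[tb]] := wd_mem self_mem_cent2 self_mem_cent i

theorem dec_Q (hs : s ∈ E ⊓ C[D ⊓ C1[ta] ⊓ C1[tb]]) : ∃ i, (wd ta tb i)⁻¹ * s ∈ E ⊓ C[D] := by
  obtain ⟨i, hi⟩ := H.dec h.toGS hs.1
  exact ⟨i, E.mul_mem (E.inv_mem (wd_mem H.m1 H.m2 i)) hs.1,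
    h.cent_of m H h3 h4 (Subgroup.mul_mem _ (inv_mem (wd_cent i)) hs.2) hi⟩

theorem bv_conj (hf : ∀ i, Fx D (f i)) (hg : g ∈ N[D]) (e : g • bv ta tb f = bv ta tb f) (i : Fin 2 × Fin 2)
    (hi : f i ≠ 0) : ∃ j, (g * wd ta tb i * g⁻¹)⁻¹ * wd ta tb j ∈ C[D] ∧ g • wd ta tb i • f i = wd ta tb j • f j :=
  h.fix_conj m.le (wd_mem H.m1 H.m2) (fun i => (hf i).blk _) (h.wd_inj m H h3 h4) hg e i (smul_ne _ hi)

theorem bv_mul (hf : ∀ i, Fx D (f i)) (hf' : ∀ i, Fx D (f' i)) (h0 : f 0 ≠ 0) (hs : s ∈ E)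
    (e : s • bv ta tb f = bv ta tb f') : ∃ k, s⁻¹ * wd ta tb k ∈ C[D] ∧
      ∀ i, f i ≠ 0 → s • wd ta tb i • f i = wd ta tb (k + i) • f' (k + i) := by
  have key := fun i hi => h.fix_mul m.le (wd_mem H.m1 H.m2) (fun i => (hf i).blk _) (fun i => (hf' i).blk _)
    (h.wd_inj m H h3 h4) hs e i (smul_ne _ hi)
  obtain ⟨k, hk, -⟩ := key 0 h0
  replace hk : s⁻¹ * wd ta tb k ∈ C[D] := by simpa [wd] using hk
  refine ⟨k, hk, fun i hi => ?_⟩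
  obtain ⟨j, h1, h2⟩ := key i hi
  obtain rfl := h.wd_inj m H h3 h4 (k + i) j (by
    have := h.rl_mul m.le hs (wd_mem H.m1 H.m2 k) (wd_mem H.m1 H.m2 i) hk (t' := wd ta tb i) (by simp)
    simpa [H.wd_add, mul_assoc] using mul_mem (inv_mem this) h1)
  exact h2

theorem bv_ne (hf : ∀ i, Fx D (f i)) (h0 : f 0 ≠ 0) : bv ta tb f ≠ 0 := fun e => by
  obtain ⟨k, -, h1⟩ := h.bv_mul (f' := fun _ => 0) m H h3 h4 hf (fun _ => Fx.zero) h0 E.one_mem (by rw [e]; simp [bv])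
  exact h0 (by simpa [wd] using h1 0 h0)

omit [Finite G] h H h3 h4 m in
theorem bv_fx (hf : ∀ i, Fx D (f i)) : Fx (D ⊓ C1[ta] ⊓ C1[tb]) (bv ta tb f) := fun d hd => by
  rw [bv, Finset.smul_sum]
  exact Finset.sum_congr rfl fun i _ => ((hf i).anti (inf_le_left.trans inf_le_left)).smulc (wd_cent i) d hd

theorem bv_reg (hf : ∀ i, Fx D (f i)) (h0 : ∀ i, f i = 0 ↔ i = 1) (hs : s ∈ E) (e : s • bv ta tb f = bv ta tb f) :
    s ∈ D ⊓ C1[ta] ⊓ C1[tb] := by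
  have n : ∀ i ≠ 1, f i ≠ 0 := fun i hi => mt (h0 i).1 hi
  obtain ⟨k, -, h1⟩ := h.bv_mul m H h3 h4 hf hf (n 0 (by decide)) hs e
  obtain rfl : k = 0 := (by decide : ∀ k : Fin 2 × Fin 2, (∀ i ≠ 1, k + i ≠ 1) → k = 0) k fun i hi h2 => by
    have := h1 i (n i hi)
    rw [(h0 _).2 h2, smul_zero] at this
    exact smul_ne _ (smul_ne _ (n i hi)) this
  have h2 := m.max _ (n 0 (by decide)) (hf 0) s hs (by simpa [wd] using h1 0 (n 0 (by decide)))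
  exact ⟨⟨h2, h.mem_cent_of_fix m h2 H.m1 (n (1, 0) (by decide)) (hf _) (by simpa [wd] using h1 _ (n (1, 0) (by decide)))⟩,
    h.mem_cent_of_fix m h2 H.m2 (n (0, 1) (by decide)) (hf _) (by simpa [wd] using h1 _ (n (0, 1) (by decide)))⟩

omit [Finite G] H h3 h4 in
theorem dl_cent (ht : t ∈ E) (h2 : t ^ 2 = 1) (hd : dl g t ∈ D) : ⁅dl g t, t⁆ = 1 := by
  have h3 : (t * dl g t) ^ 2 = 1 := by rw [← conj_eq_dl, conj_pow, h2]; simp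
  rw [h.mul_pow ht (m.le hd), h2, one_mul, Nat.choose_self, pow_one, mul_eq_one_iff_inv_eq] at h3
  exact eq_one_of_inf (h.disj m) (h3 ▸ inv_mem (pow_mem hd 2)) (h.comm _ (m.le hd) t ht)

theorem pin4 (hp : Pin E D ξ a)
    (ns : ∀ g : G, g • ξ = ξ → (g * ta * g⁻¹)⁻¹ * tb ∈ C[D] → (g * tb * g⁻¹)⁻¹ * ta ∈ C[D] → False)
    (hf : ∀ i, Fx D (f i)) (h0 : ∀ i, f i = 0 ↔ i = 1) (f0 : f 0 = a • ξ) (e1 : g • bv ta tb f = bv ta tb f)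
    (e2 : g • ξ = ξ) : E ⊓ C[D] ≤ dlc g E D ∧ ∀ i ≠ 1, g • wd ta tb i • f i = wd ta tb i • f i := by
  have hg := m.norm h.nE e2
  have k := fun i (hi : i ≠ 1) => h.bv_conj m H h3 h4 hf hg e1 i (mt (h0 i).1 hi)
  have inj : ∀ {i i' j}, (g * wd ta tb i * g⁻¹)⁻¹ * wd ta tb j ∈ C[D] → (g * wd ta tb i' * g⁻¹)⁻¹ * wd ta tb j ∈ C[D] →
      i = i' := fun {i i' j} h1 h2 => h.wd_inj m H h3 h4 i i' ((conj_mem_cent hg).1 (by
    simpa [mul_assoc] using mul_mem h1 (inv_mem h2)))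
  have nz : ∀ {i j}, i ≠ 1 → g • wd ta tb i • f i = wd ta tb j • f j → j ≠ 1 := fun {i j} hi e hj =>
    smul_ne _ (smul_ne _ (mt (h0 i).1 hi)) (by rw [e, (h0 j).2 hj, smul_zero])
  obtain ⟨j0, a0, b0⟩ := k 0 (by decide)
  obtain ⟨j1, a1, b1⟩ := k (1, 0) (by decide)
  obtain ⟨j2, a2, b2⟩ := k (0, 1) (by decide)
  obtain rfl := h.wd_inj m H h3 h4 0 j0 (by simpa [wd] using a0)
  obtain ⟨rfl, rfl⟩ := (by decide : ∀ j1 j2 : Fin 2 × Fin 2, j1 ≠ 1 → j2 ≠ 1 → j1 ≠ 0 → j2 ≠ 0 → j1 ≠ j2 →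
      ¬ (j1 = (0, 1) ∧ j2 = (1, 0)) → j1 = (1, 0) ∧ j2 = (0, 1)) j1 j2 (nz (by decide) b1) (nz (by decide) b2)
    (fun e => absurd (inj a0 (e ▸ a1)) (by decide)) (fun e => absurd (inj a0 (e ▸ a2)) (by decide))
    (fun e => absurd (inj a2 (e ▸ a1)) (by decide))
    (fun e => ns g e2 (by simpa [wd, e.1] using a1) (by simpa [wd, e.2] using a2))
  refine ⟨hp.2 g e2 (by simpa [wd, f0] using b0), fun i hi => ?_⟩
  rcases (by decide : ∀ i : Fin 2 × Fin 2, i ≠ 1 → i = 0 ∨ i = (1, 0) ∨ i = (0, 1)) i hi with rfl | rfl | rfl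
  exacts [b0, b1, b2]

theorem col_mul (hs : s ∈ E) {i j : Fin 4}
    (e : s • bv ta tb (fun l => if sp i l then ξ else 0) = bv ta tb fun l => if sp j l then ξ else 0) :
    ∃ k, s⁻¹ * wd ta tb k ∈ C[D] ∧ ∀ l, sp i l → sp j (k + l) ∧ s • wd ta tb l • ξ = wd ta tb (k + l) • ξ := by
  have hf : ∀ i l, Fx D (if sp i l then ξ else 0) := fun i l => by split_ifs; exacts [m.fx, Fx.zero]
  obtain ⟨k, h1, h2⟩ := h.bv_mul m H h3 h4 (hf i) (hf j) (by simpa [(by decide : ∀ i, sp i 0) i] using m.ne) hs e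
  refine ⟨k, h1, fun l hl => ?_⟩
  have := h2 l (by simpa [hl] using m.ne)
  by_cases h5 : sp j (k + l)
  · exact ⟨h5, by simpa [hl, h5] using this⟩
  · exact absurd (by simpa [hl, h5] using this) (smul_ne s (smul_ne (wd ta tb l) m.ne))

theorem siegel (hp : Pin E D ξ a)
    (ns : ∀ g : G, g • ξ = ξ → (g * ta * g⁻¹)⁻¹ * tb ∈ C[D] → (g * tb * g⁻¹)⁻¹ * ta ∈ C[D] → False) :
    Base2 G V ∨ ∃ g : G, (∀ d ∈ D, dl g d = 1) ∧ dl g ta = db ∧ dl g tb = da := by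
  refine or_iff_not_imp_right.2 fun hn => ?_
  obtain ⟨f, hf, h0, f0, f1⟩ : ∃ f : Fin 2 × Fin 2 → V, (∀ i, Fx D (f i)) ∧ (∀ i, f i = 0 ↔ i = 1) ∧ f 0 = a • ξ ∧
      ∀ i ≠ 0, i ≠ 1 → f i = ξ := by
    refine ⟨fun i => if i = 1 then 0 else if i = 0 then a • ξ else ξ, fun i => ?_, fun i => ?_, rfl,
      fun i h1 h2 => by simp [h1, h2]⟩ <;> dsimp only <;> split_ifs with h1
    exacts [Fx.zero, m.fx.smulc hp.1.2, m.fx, by simp [h1], by simp [h1, smul_ne a m.ne], by simp [h1, m.ne]]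
  have hκ : ∀ i l, Fx D (if sp i l then ξ else 0) := fun i l => by split_ifs; exacts [m.fx, Fx.zero]
  have n0 := fun i => h.bv_ne m H h3 h4 (hκ i) (by simpa [(by decide : ∀ i, sp i 0) i] using m.ne)
  have tr := fun {s} hs {i j} => h.col_mul (s := s) (i := i) (j := j) m H h3 h4 hs
  have pin : ∀ g : G, g • bv ta tb f = bv ta tb f → g • ξ = ξ → E ⊓ C[D] ≤ dlc g E D ∧ dl g ta ∈ D ∧ dl g tb ∈ D ∧
      ∀ i, g • bv ta tb (fun l => if sp i l then ξ else 0) = bv ta tb fun l => if sp i l then ξ else 0 := fun g e1 e2 => by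
    obtain ⟨k1, k2⟩ := h.pin4 m H h3 h4 hp ns hf h0 f0 e1 e2
    have k3 : ∀ l ≠ 1, g • wd ta tb l • ξ = wd ta tb l • ξ := fun l hl => by
      by_cases h1 : l = 0
      · simpa [h1, wd] using e2
      · exact f1 l h1 hl ▸ k2 l hl
    refine ⟨k1, m.mem (h.dl_mem g H.m1) (dl_smul e2 (by simpa [wd] using k3 (1, 0) (by decide))),
      m.mem (h.dl_mem g H.m2) (dl_smul e2 (by simpa [wd] using k3 (0, 1) (by decide))), fun i => ?_⟩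
    rw [bv, Finset.smul_sum]
    refine Finset.sum_congr rfl fun l _ => ?_
    split_ifs with h1
    exacts [k3 l ((by decide : ∀ i l, sp i l → l ≠ 1) i l h1), by simp]
  have hD2 : D ⊓ C1[ta] ⊓ C1[tb] ≤ D := inf_le_left.trans inf_le_left
  obtain ⟨y, c, hc, K⟩ := h.main1 (R := E ⊓ (C1[da] ⊓ C1[db])) (hD2.trans m.le) inf_le_left (fun t ht => by
      obtain ⟨i, hi⟩ := H.dec h.toGS ht
      refine ⟨_, ⟨E.mul_mem (E.inv_mem (wd_mem H.m1 H.m2 i)) ht, hi⟩, ?_⟩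
      simpa using (h.normal_in' (h.U_le_cent (hD2.trans m.le)) inf_le_left ht ⟨wd_mem H.m1 H.m2 i, wd_cent i⟩).2)
    (bv_fx hf) (fun s => h.bv_reg m H h3 h4 hf h0) (m.fx.anti hD2) (fun i => bv_fx (hκ i)) (fun i e => (n0 i e).elim)
    fun g g1 g2 q hq i j _ e => by
      rw [(pin g g1 g2).2.2.2] at e
      obtain ⟨k, -, h1⟩ := tr hq.1 e
      obtain ⟨k', -, h2⟩ := tr (E.inv_mem hq.1) (inv_smul_eq_iff.2 e.symm)
      exact (by decide : ∀ i j k k', (∀ l, sp i l → sp j (k + l)) → (∀ l, sp j l → sp i (k' + l)) → i = j) i j k k'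
        (fun l hl => (h1 l hl).1) fun l hl => (h2 l hl).1
  refine ⟨bv ta tb f, y, fun g g1 g2 => ?_⟩
  obtain ⟨g3, k1, k2⟩ := K g g1 g2
  obtain ⟨k3, ka, kb, k4⟩ := pin g g1 g3
  simp only [k4] at k2
  have gen : ∀ n, n = 1 ∨ n = 2 → ∀ A : Subgroup G, E ⊓ C[D ⊓ C1[ta] ⊓ C1[tb]] ≤ A →
      (∀ t ∈ E, t ∉ E ⊓ C[D ⊓ C1[ta] ⊓ C1[tb]] → c t = 0 ∨ c t = n → t ∈ A) → E ≤ A := by
    rintro n (rfl | rfl); exacts [hc.gen1, hc.gen2]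
  have kD : D ≤ E ⊓ C[D] := le_inf m.le (h.le_cent m)
  have k5 : E ⊓ C[D ⊓ C1[ta] ⊓ C1[tb]] ≤ h.dls g (h.U_le_cent m.le) inf_le_left := fun s hs => by
    obtain ⟨i, hi⟩ := h.dec_Q m H h3 h4 hs
    rw [← mul_inv_cancel_left (wd ta tb i) s]
    exact Subgroup.mul_mem _ (wd_mem (by exact ⟨H.m1, kD ka⟩) (by exact ⟨H.m2, kD kb⟩) i) ⟨hi.1, kD (k3 hi).2⟩
  have k6 : ∀ n, n = 1 ∨ n = 2 → ∀ e ∈ D, (∀ i k, i = 0 ∨ i = n → (∀ l, sp i l → sp i (k + l)) → ⁅e, wd ta tb k⁆ = 1) →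
      ∀ t ∈ E, dl g t ∈ C1[e] := fun n hn e he h1 t ht => by
    have hT : U ≤ E ⊓ C1[e] := fun u hu => ⟨h.le hu, mem_cent1.2 (h.cent u hu e (m.le he)).symm⟩
    have h2 : E ⊓ C[D ⊓ C1[ta] ⊓ C1[tb]] ≤ h.dls g hT inf_le_left := fun s hs =>
      ⟨hs.1, (k5 hs).2.1, mem_cent1.2 (mem_centralizer_iff.1 (k5 hs).2.2 e he)⟩
    refine (gen n hn _ h2 (fun t ht h5 h6 => ?_) ht).2.2
    obtain ⟨ρ, h7, h8, h9⟩ := k2 t ht (fun h => h5 ⟨ht, h⟩) (n0 _)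
    obtain ⟨k, h10, h11⟩ := tr (h.dl_mem g h7.1) h9
    rw [← mul_inv_cancel_left ρ t]
    refine mul_mem ⟨h7.1, h.dl_mem g h7.1, mem_cent1.2 (comm_iff.1 ?_)⟩ (h2 ⟨E.mul_mem (E.inv_mem h7.1) ht, h8⟩)
    rw [h.chi_eq m he (h.dl_mem g h7.1) (wd_mem H.m1 H.m2 k) h10, h1 _ k h6 fun l hl => (h11 l hl).1]
  have k7 : ∀ t ∈ E, dl g t ∈ C[D] := fun t ht => h.cent_of m H h3 h4 (k1 t ht)
    ⟨k6 2 (by simp) da h3 (fun i k h1 h2 => by rw [H.chi1 h.toGS, (by decide : ∀ i k, i = 0 ∨ i = 2 →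
        (∀ l, sp i l → sp i (k + l)) → k.1 = 0) i k h1 h2, Fin.val_zero, pow_zero]) t ht,
      k6 1 (by simp) db h4 (fun i k h1 h2 => by rw [H.chi2 h.toGS, (by decide : ∀ i k, i = 0 ∨ i = 1 →
        (∀ l, sp i l → sp i (k + l)) → k.2 = 0) i k h1 h2, Fin.val_zero, pow_zero]) t ht⟩
  have hU : ∀ u ∈ U, dl g u = 1 := fun u hu => eq_one_of_inf (h.disj m) (k3 (h.U_le_cent m.le hu)).2
    (U.mul_mem (U.inv_mem hu) (h.nU.conj_mem u hu g))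
  have cD : ∀ {d s}, d ∈ D → s ∈ C[D] → ⁅d, s⁆ = 1 := fun hd hs => comm_iff.2 (mem_centralizer_iff.1 hs _ hd)
  have rep : ∀ t ∈ E, t ∉ C[D ⊓ C1[ta] ⊓ C1[tb]] → ∃ ρ ∈ E ⊓ (C1[da] ⊓ C1[db]), ρ⁻¹ * t ∈ C[D ⊓ C1[ta] ⊓ C1[tb]] ∧
      dl g ρ ∈ D ∧ ∀ l, sp (c t) l → ⁅dl g ρ, wd ta tb l⁆ = 1 := fun t ht h1 => by
    obtain ⟨ρ, h7, h8, h9⟩ := k2 t ht h1 (n0 _)
    obtain ⟨k, h10, h11⟩ := tr (h.dl_mem g h7.1) h9
    obtain rfl := h.wd_inj m H h3 h4 0 k (by simpa [wd] using mul_mem (k7 ρ h7.1) h10)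
    have h2 := m.mem (h.dl_mem g h7.1) (by simpa [wd] using (h11 0 ((by decide : ∀ i, sp i 0) _)).2)
    exact ⟨ρ, h7, h8, h2, fun l hl => comm_iff.2 (mem_cent1.1 (h.mem_cent_of_fix m h2 (wd_mem H.m1 H.m2 l) m.ne m.fx
      (by simpa using (h11 l hl).2))).symm⟩
  have k8 : ∀ n, n = 1 ∨ n = 2 → ∀ l, (∀ i, i = 0 ∨ i = n → sp i l) → ∀ s, wd ta tb l = s → dl g s ∈ D →
      ∃ i, dl g s = wd da db i := fun n hn l h1 s e hs => by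
    obtain ⟨i, hi⟩ := h.dec_D m H h3 h4 hs
    have h2 : E ⊓ C[D ⊓ C1[ta] ⊓ C1[tb]] ≤ C1[(wd da db i)⁻¹ * dl g s] := fun q hq =>
      mem_cent1.2 (mem_centralizer_iff.1 hq.2 _ hi)
    refine ⟨i, (inv_mul_eq_one.1 (eq_one_of_inf (h.disj m) (hD2 hi) (h.self _ fun t ht =>
      mem_cent1.1 (gen n hn _ h2 (fun t ht h5 h6 => ?_) ht)))).symm⟩
    obtain ⟨ρ, h7, h8, h9, h10⟩ := rep t ht fun h => h5 ⟨ht, h⟩
    have := h.comm_dl hU h7.1 (e ▸ wd_mem H.m1 H.m2 l) (cD h9 (h.le_cent m hs))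
    rw [← e, h10 l (h1 _ h6), one_mul, e, comm_iff] at this
    rw [← mul_inv_cancel_left ρ t]
    refine mul_mem (mem_cent1.2 (Commute.mul_left (Commute.inv_left ?_) this.symm)) (h2 ⟨E.mul_mem (E.inv_mem h7.1) ht, h8⟩)
    exact (mem_cent1.1 (wd_mem (mem_cent1.2 (mem_cent1.1 h7.2.1).symm) (mem_cent1.2 (mem_cent1.1 h7.2.2).symm) i)).symm
  obtain ⟨i, ea⟩ := k8 1 (by simp) (1, 0) (by decide) ta (by simp [wd]) ka
  obtain ⟨j, eb⟩ := k8 2 (by simp) (0, 1) (by decide) tb (by simp [wd]) kb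
  have H' := H.dual h.toGS
  have e1 := comm_symm (h.dl_cent m H.m1 H.s1 ka)
  have e2 := comm_symm (h.dl_cent m H.m2 H.s2 kb)
  have e3 := h.comm_dl hU H.m1 H.m2 (cD ka (h.le_cent m kb))
  rw [← commutatorElement_inv tb, inv_mul_eq_one, ea, eb, H'.chi1 h.toGS, H'.chi2 h.toGS] at e3
  rw [ea, H'.chi1 h.toGS] at e1
  rw [eb, H'.chi2 h.toGS] at e2
  obtain ⟨rfl, rfl⟩ | ⟨rfl, rfl⟩ := (by decide : ∀ i j : Fin 2 × Fin 2, i.1 = 0 → j.2 = 0 → i.2 = j.1 →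
    (i = 0 ∧ j = 0) ∨ (i = (0, 1) ∧ j = (1, 0))) i j (H.z_inj h.toGS (by simpa using e1))
    (H.z_inj h.toGS (by simpa using e2)) (H.z_inj h.toGS e3)
  swap
  · refine (hn ⟨g, fun d hd => ?_, by simpa [wd] using ea, by simpa [wd] using eb⟩).elim
    have h1 := (h.le_dlc m g3 hd).2
    refine eq_one_of_inf (h.disj m) h1 (h.mem_U_of_comm (m.le h1) fun t ht => ?_)
    simpa [cD hd (k7 t ht)] using h.comm_dl hU (m.le hd) ht (cD h1 (k7 t ht))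
  refine h.final m.le (h.disj m) m.ne g3 fun t ht => ?_
  obtain ⟨i, hi⟩ := H.dec h.toGS ht
  have h1 := E.mul_mem (E.inv_mem (wd_mem H.m1 H.m2 i)) ht
  have h2 : wd ta tb i ∈ C1[g] := wd_mem (mem_cent1.2 (comm_of_dl (by simpa [wd] using ea)))
    (mem_cent1.2 (comm_of_dl (by simpa [wd] using eb))) i
  rw [← mul_inv_cancel_left (wd ta tb i) t, dl_mul, dl_of_comm (mem_cent1.1 h2), mul_one, inv_mul_cancel, one_mul]
  generalize (wd ta tb i)⁻¹ * t = s at hi h1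
  by_cases h5 : s ∈ C[D ⊓ C1[ta] ⊓ C1[tb]]
  · exact (k3 ⟨h1, h.cent_of m H h3 h4 h5 hi⟩).2
  obtain ⟨ρ, h7, h8, h9, -⟩ := rep s h1 h5
  have h6 := h.cent_of m H h3 h4 h8 (mul_mem (inv_mem h7.2) hi)
  rw [← mul_inv_cancel_left ρ s]
  exact dl_mul_mem h9 h6 (k3 ⟨E.mul_mem (E.inv_mem h7.1) h1, h6⟩).2

theorem siegel' (h5 : ¬ 3 ∣ Nat.card G) : Base2 G V ∨ ∃ g : G, dl g da = 1 ∧ ∃ u ∈ U, dl g tb = da * u := by
  obtain ⟨η, m, a, hp⟩ := h.pin m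
  by_cases n1 : ∀ g : G, g • η = η → (g * ta * g⁻¹)⁻¹ * tb ∈ C[D] → (g * tb * g⁻¹)⁻¹ * ta ∈ C[D] → False
  · exact (h.siegel m H h3 h4 hp n1).imp_right fun ⟨g, h1, _, h2⟩ => ⟨g, h1 _ h3, 1, U.one_mem, by simp [h2]⟩
  have h12 := E.mul_mem H.m1 H.m2
  by_cases n2 : ∀ g : G, g • η = η → (g * ta * g⁻¹)⁻¹ * (ta * tb) ∈ C[D] → (g * (ta * tb) * g⁻¹)⁻¹ * ta ∈ C[D] → False
  · refine (h.siegel m (H.shear h.toGS) (D.mul_mem h3 h4) h4 hp n2).imp_right fun ⟨g, h1, h2, h6⟩ =>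
      ⟨g, h1 _ h3, _, U.inv_mem (h.comm _ (E.inv_mem H.m2) _ H.m4), ?_⟩
    rw [dl_mul, h2, show tb⁻¹ * db * tb = ⁅tb⁻¹, db⁆ * db by simp [commutatorElement_def], comm_iff.1 H.c34,
      h.cent _ (h.comm _ (E.inv_mem H.m2) _ H.m4) _ H.m4, mul_assoc, mul_left_cancel_iff, ← eq_inv_mul_iff_mul_eq] at h6
    rw [h6, h.cent _ (U.inv_mem (h.comm _ (E.inv_mem H.m2) _ H.m4)) _ H.m3]
  push Not at n1 n2
  obtain ⟨g, g1, g2, g3, -⟩ := n1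
  obtain ⟨k, k1, k2, k3, -⟩ := n2
  have hg := m.norm h.nE g1
  have hk := m.norm h.nE k1
  have e := h.rl_mul m.le (h.nE.conj_mem _ H.m1 g) H.m2 (h.nE.conj_mem _ H.m2 g) g2 g3
  rw [← comm_iff.1 H.c12] at e
  have := h.three_cycle h5 m.le (mul_mem hg hk) H.m1 h12 (H.shear h.toGS).s2
    (by simpa [mul_assoc] using mul_mem ((conj_mem_cent hg).2 k2) e)
    (by simpa [mul_assoc, ← mul_assoc ta ta, ← sq, H.s1] using mul_mem ((conj_mem_cent hg).2 k3) g2)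
  exact (H.z1 (H.c31.symm.trans (comm_iff.2 (mem_centralizer_iff.1 this _ h3)))).elim

theorem base_four (h5 : ¬ 3 ∣ Nat.card G) : Base2 G V := by
  obtain h1 | ⟨g, g1, u, hu, g2⟩ := h.siegel' m H h3 h4 h5
  · exact h1
  have fx : ∀ i, wd ta tb i • bv ta tb (fun _ => ξ) = bv ta tb fun _ => ξ := fun i => by
    rw [bv, Finset.smul_sum, ← Equiv.sum_comp (Equiv.addLeft i) fun j => wd ta tb j • ξ]
    exact Finset.sum_congr rfl fun j _ => by rw [← mul_smul, ← H.wd_add]; rfl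
  obtain ⟨D', ξ', h6, m'⟩ := exists_mx_le (A := E ⊓ MulAction.stabilizer G (bv ta tb fun _ => ξ)) inf_le_left
    (h.bv_ne m H h3 h4 (fun _ => m.fx) m.ne) fun d hd => hd.2
  obtain h1 | ⟨k, k1, w, hw, k2⟩ := h.siegel' m' (H.swap.dual h.toGS) (h6 ⟨H.m2, by simpa [wd] using fx (0, 1)⟩)
    (h6 ⟨H.m1, by simpa [wd] using fx (1, 0)⟩) h5
  · exact h1
  have hU := fun u hu => (h.U_le_cent le_rfl (x := u) hu).2
  have e1 : g * k * tb * (g * k)⁻¹ = tb * (da * u) := by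
    rw [← g2, ← conj_eq_dl, mul_assoc g, comm_of_dl k1]; simp [mul_assoc]
  have c := comm_iff.1 H.c32
  have e2 : g * k * da * (g * k)⁻¹ = tb * (u * (g * w * g⁻¹)) := by
    have e3 := conj_eq_dl k da
    have e4 := conj_eq_dl g tb
    rw [k2] at e3
    rw [g2, ← mul_assoc tb, ← c] at e4
    calc _ = g * (k * da * k⁻¹) * g⁻¹ := by group
      _ = g * da * g⁻¹ * (g * tb * g⁻¹) * (g * w * g⁻¹) := by rw [e3]; group
      _ = da ^ 2 * (tb * (u * (g * w * g⁻¹))) := by rw [e4, conj_eq_dl g da, g1, sq]; group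
      _ = _ := by rw [H.s3, one_mul]
  haveI := h.nE
  have := h.three_cycle h5 le_rfl (le_normalizer_of_normal (mem_top (g * k))) H.m3 H.m2 H.s2
    (by rw [e2]; simpa [mul_assoc] using hU _ (U.inv_mem (U.mul_mem hu (h.nU.conj_mem w hw g))))
    (by rw [e1, ← mul_assoc tb, ← c]; simpa [mul_assoc] using hU u hu)
  exact (H.z1 (H.c31.symm.trans (comm_iff.2 (mem_centralizer_iff.1 this _ H.m1).symm))).elim

end Setup

end CL.SL
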