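/-
Bases of solvable linear groups: the exceptional case of the group `4 ∘ 2^{1+2n}` in characteristic five.
-/
import Cfsg.Agent.Fgs.SLFour

set_option autoImplicit false

open Subgroup CL.Odd CL.Grp
open scoped commutatorElement

namespace CL.SL

universe u

/-- the four-dimensional space over the field with five elements -/
abbrev M5 := ZMod 5 × ZMod 5 × ZMod 5 × ZMod 5

/-- the parameters of the elements of `4 ∘ 2^{1+4}` -/
abbrev P5 := (Fin 2 × Fin 2) × (Fin 2 × Fin 2) × Fin 4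

def pTa (c : M5) : M5 := (c.2.1, c.1, c.2.2.2, c.2.2.1)

def pTb (c : M5) : M5 := (c.2.2.1, c.2.2.2, c.1, c.2.1)

def pDa (c : M5) : M5 := (c.1, -c.2.1, c.2.2.1, -c.2.2.2)

def pDb (c : M5) : M5 := (c.1, c.2.1, -c.2.2.1, -c.2.2.2)

def pSc (c : M5) : M5 := c + c

/-- the action of `4 ∘ 2^{1+4}` -/
def pM (π : P5) (c : M5) : M5 := pTa^[π.1.1] (pTb^[π.1.2] (pDa^[π.2.1.1] (pDb^[π.2.1.2] (pSc^[π.2.2] c))))

set_option synthInstance.maxSize 4096 in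
theorem pM_reg : ∀ π : P5, (pM π (1, 1, 1, 0) = (1, 1, 1, 0) → π = 0) ∧ (pM π (1, 1, 2, 0) = (1, 1, 2, 0) → π = 0) ∧
    pM π (1, 1, 1, 0) ≠ (1, 0, 0, 0) ∧ pM π (1, 1, 1, 0) ≠ (1, 1, 2, 0) ∧ pM π (1, 0, 0, 0) ≠ (1, 1, 2, 0) := by
  decide +kernel

set_option synthInstance.maxSize 4096 in
theorem pM_pin : ∀ π : P5, pM π (pM π (1, 1, 1, 0)) = (1, 1, 1, 0) → ∀ σ : P5, pM σ (pM σ (1, 1, 1, 0)) = (4, 4, 4, 0) →
    pM π (1, 1, 1, 0) + pM σ (1, 1, 1, 0) = (0, 2, 4, 1) →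
      pM π (1, 1, 1, 0) = (1, 1, 4, 0) ∧ pM σ (1, 1, 1, 0) = (4, 1, 0, 1) := by
  decide +kernel

theorem pM_span : ∀ c : M5, c = (4 * c.1 + 4 * c.2.1 + 3 * c.2.2.1).val • (1, 1, 1, 0) +
    (4 * c.1 + 4 * c.2.1 + 2 * c.2.2.1).val • (1, 1, 4, 0) + (c.1 + 4 * c.2.1 + 3 * c.2.2.2).val • (4, 1, 0, 1) +
      (c.1 + 4 * c.2.1 + 2 * c.2.2.2).val • (4, 1, 0, 4) := by
  decide +kernel

variable {G : Type u} [Group G] {V : Type*} [AddCommGroup V] [DistribMulAction G V] {p : ℕ} {U E D : Subgroup G}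
  {a g q s u z ta tb da db : G} {ξ : V}

section

variable [Module (ZMod 5) V]

/-- the coordinates -/
def io (ta tb : G) (ξ : V) : M5 →+ V :=
  AddMonoidHom.mk' (fun c => c.1 • ξ + c.2.1 • ta • ξ + c.2.2.1 • tb • ξ + c.2.2.2 • ta • tb • ξ) fun c d => by
    simp only [Prod.fst_add, Prod.snd_add, add_smul]; abel

theorem smul5 (g : G) (c : ZMod 5) (v : V) : g • c • v = c • g • v := ZMod.map_smul (DistribSMul.toAddMonoidHom V g) c v

theorem io_pow {A : M5 → M5} (e : ∀ c, a • io ta tb ξ c = io ta tb ξ (A c)) (n : ℕ) (c : M5) :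
    a ^ n • io ta tb ξ c = io ta tb ξ (A^[n] c) := by
  induction n generalizing c with
  | zero => simp
  | succ n ih => rw [pow_succ, mul_smul, e, ih, Function.iterate_succ_apply]

theorem Setup.base_five' [Finite G] (h : Setup V p U E) (m : Mx E D ξ) (H : Hyp E z ta tb da db) (h3 : da ∈ D)
    (h4 : db ∈ D) (hQ : E ⊓ C[D] ≤ D ⊔ U) (hu : u ∈ U) (e : u • ξ = ξ + ξ) (hU : ∀ w ∈ U, ∃ j < 4, w = u ^ j) :
    Base2 G V := by
  have ng := h.neg_of_sq (H.zU h.toGS) H.z1 (H.z2 h.toGS)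
  have sq' : ∀ {s : G}, s ^ 2 = 1 → ∀ v : V, s • s • v = v := fun h1 v => by rw [← mul_smul, ← sq, h1, one_smul]
  have cm : ∀ {s t w : G}, ⁅s, t⁆ = w → ∀ v : V, s • t • v = w • t • s • v := fun h1 v => by
    rw [← mul_smul, mul_eq_comm, h1, mul_smul, mul_smul]
  have aTa : ∀ c, ta • io ta tb ξ c = io ta tb ξ (pTa c) := fun c => by
    simp only [io, pTa, AddMonoidHom.mk'_apply, smul_add, smul5, sq' H.s1]; abel
  have aTb : ∀ c, tb • io ta tb ξ c = io ta tb ξ (pTb c) := fun c => by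
    simp only [io, pTb, AddMonoidHom.mk'_apply, smul_add, smul5, sq' H.s2, cm (comm_symm H.c12), one_smul]; abel
  have aDa : ∀ c, da • io ta tb ξ c = io ta tb ξ (pDa c) := fun c => by
    simp only [io, pDa, AddMonoidHom.mk'_apply, smul_add, smul5, cm H.c31, cm H.c32, one_smul, ng, m.fx _ h3, smul_neg,
      neg_smul]
  have aDb : ∀ c, db • io ta tb ξ c = io ta tb ξ (pDb c) := fun c => by
    simp only [io, pDb, AddMonoidHom.mk'_apply, smul_add, smul5, cm H.c41, cm H.c42, one_smul, ng, m.fx _ h4, smul_neg,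
      neg_smul]
  have aSc : ∀ c, u • io ta tb ξ c = io ta tb ξ (pSc c) := fun c => by
    rw [pSc, map_add]
    simp only [io, AddMonoidHom.mk'_apply, smul_add, smul5, h.smul_U hu H.m1, h.smul_U hu H.m2, e]; abel
  have hD2 : D ⊓ C1[ta] ⊓ C1[tb] ≤ D := inf_le_left.trans inf_le_left
  have fx : ∀ c, Fx (D ⊓ C1[ta] ⊓ C1[tb]) (io ta tb ξ c) := fun c d hd => by
    have f0 := m.fx.anti hD2
    simp only [io, AddMonoidHom.mk'_apply, smul_add, smul5, f0 d hd, f0.smulc self_mem_cent2 d hd,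
      f0.smulc self_mem_cent d hd, (f0.smulc self_mem_cent).smulc self_mem_cent2 d hd]
  have inj : Function.Injective (io ta tb ξ) := by
    have k0 : ∀ {a : G} {A : M5 → M5}, (∀ c, a • io ta tb ξ c = io ta tb ξ (A c)) → ∀ {c}, io ta tb ξ c = 0 → io ta tb ξ (A c) = 0 :=
      fun h1 c h2 => by rw [← h1, h2, smul_zero]
    have k1 : ∀ {c}, io ta tb ξ c = 0 → c.1 = 0 := fun {c} h1 => by
      have : io ta tb ξ (c + pDa c + pDb c + pDa (pDb c)) = 0 := by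
        simp only [map_add, h1, k0 aDa h1, k0 aDb h1, k0 aDa (k0 aDb h1), add_zero]
      have h2 : ∀ x : ZMod 5, x + x + x + x = 0 ↔ x = 0 := by decide
      haveI hp := Fact.mk Nat.prime_five
      simpa [io, pDa, pDb, m.ne, h2] using this
    exact (injective_iff_map_eq_zero _).2 fun c h1 =>
      Prod.ext (k1 h1) (Prod.ext (k1 (k0 aTa h1)) (Prod.ext (k1 (k0 aTb h1)) (k1 (k0 aTa (k0 aTb h1)))))
  have dec : ∀ q ∈ E ⊓ C[D ⊓ C1[ta] ⊓ C1[tb]], ∃ π : P5, (π = 0 → q ∈ D ⊓ C1[ta] ⊓ C1[tb]) ∧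
      ∀ c, q • io ta tb ξ c = io ta tb ξ (pM π c) := fun q hq => by
    obtain ⟨i, hi⟩ := h.dec_Q m H h3 h4 hq
    obtain ⟨d, hd, w, hw, e1⟩ := h.mem_sup_iff.1 (hQ hi)
    obtain ⟨k, hk⟩ := h.dec_D m H h3 h4 hd
    obtain ⟨j, hj, rfl⟩ := hU w hw
    have e2 : q = wd ta tb i * wd da db k * u ^ j * ((wd da db k)⁻¹ * d) := by
      rw [mul_assoc, h.cent _ hw _ (m.le (hD2 hk)), mul_assoc, ← mul_assoc (wd da db k), mul_inv_cancel_left, e1,
        mul_inv_cancel_left]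
    generalize (wd da db k)⁻¹ * d = d' at hk e2
    refine ⟨(i, k, ⟨j, hj⟩), fun h0 => ?_, fun c => ?_⟩
    · simp only [Prod.mk_eq_zero, Fin.mk_eq_zero] at h0
      simpa [e2, h0, wd] using hk
    · simp only [e2, wd, mul_smul, fx c _ hk, pM, io_pow aSc, io_pow aTa, io_pow aTb, io_pow aDa, io_pow aDb]
  have ne : ∀ c ≠ 0, io ta tb ξ c ≠ 0 := fun c hc h0 => hc (inj (h0.trans (map_zero _).symm))
  have reg : ∀ c ≠ 0, (∀ π, pM π c = c → π = 0) → ∀ s ∈ E, s • io ta tb ξ c = io ta tb ξ c → s ∈ D ⊓ C1[ta] ⊓ C1[tb] :=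
    fun c hc h1 s hs e1 => by
      obtain ⟨π, h2, h5⟩ := dec s ⟨hs, mem_centralizer_iff.2 fun d hd => comm_iff.1 (h.eq_one
        (h.comm d (m.le (hD2 hd)) s hs) (ne c hc) (by
          rw [commutatorElement_def, mul_smul, mul_smul, mul_smul, inv_smul_eq_iff.2 e1.symm, fx c _ (inv_mem hd), e1,
            fx c d hd]))⟩
      exact h2 (h1 π (inj ((h5 c).symm.trans e1)))
  have regx := reg (1, 1, 1, 0) (by decide) fun π => (pM_reg π).1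
  have no : ∀ c c', (∀ π, pM π c ≠ c') → ∀ q ∈ E ⊓ C[D ⊓ C1[ta] ⊓ C1[tb]], q • io ta tb ξ c ≠ io ta tb ξ c' :=
    fun c c' h1 q hq e1 => by
      obtain ⟨π, -, h5⟩ := dec q hq
      exact h1 π (inj ((h5 c).symm.trans e1))
  refine ⟨_, h.main (y₁ := io ta tb ξ (0, 2, 4, 1)) (hD2.trans m.le) (eq_bot_iff.2 (h.disj m ▸ inf_le_inf_right U hD2))
    (io ta tb ξ).range (fun q hq _ ⟨c, e1⟩ => ?_) (fun _ ⟨c, e1⟩ => e1 ▸ fx c) ⟨(1, 1, 1, 0), rfl⟩ ⟨(1, 0, 0, 0), rfl⟩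
    ⟨(1, 1, 2, 0), rfl⟩ (ne _ (by decide)) (ne _ (by decide)) (ne _ (by decide)) regx (fx _) (fun g g1 g2 _ ⟨c, e1⟩ => ?_)
    (no _ _ fun π => (pM_reg π).2.2.1) (no _ _ fun π => (pM_reg π).2.2.2.1) (no _ _ fun π => (pM_reg π).2.2.2.2)
    fun q _ _ ⟨hq, w, hw, e1⟩ => ⟨hq, w, hw, ?_⟩⟩
  · obtain ⟨π, -, h5⟩ := dec q hq
    exact ⟨_, e1 ▸ (h5 c).symm⟩
  swap
  · rw [← inv_smul_eq_iff, ← mul_smul] at e1 ⊢
    exact fx _ _ (reg _ (by decide) (fun π => (pM_reg π).2.1) _ (E.mul_mem (E.inv_mem (h.le hw)) hq) e1)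
  have hg := norm_cent h.nE (norm_of_fix h.nE (hD2.trans m.le) (fx _) regx g1)
  have cnj : ∀ s ∈ E ⊓ C[D ⊓ C1[ta] ⊓ C1[tb]], ∃ π, g • s • io ta tb ξ (1, 1, 1, 0) = io ta tb ξ (pM π (1, 1, 1, 0)) ∧
      g • s • s • io ta tb ξ (1, 1, 1, 0) = io ta tb ξ (pM π (pM π (1, 1, 1, 0))) := fun s hs => by
    obtain ⟨π, -, h5⟩ := dec _ ((mem_normalizer_iff.1 hg s).1 hs)
    exact ⟨π, by rw [← h5, mul_smul, mul_smul, inv_smul_eq_iff.2 g1.symm],
      by simp only [← h5, mul_smul, inv_smul_smul, inv_smul_eq_iff.2 g1.symm]⟩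
  have hd : ∀ d ∈ D, d ∈ C[D ⊓ C1[ta] ⊓ C1[tb]] := fun d hd => cent_le_cent2 (h.le_cent m hd)
  obtain ⟨π, a1, a2⟩ := cnj db ⟨H.m4, hd _ h4⟩
  obtain ⟨σ, b1, b2⟩ := cnj (ta * da) ⟨E.mul_mem H.m1 H.m3, Subgroup.mul_mem _ self_mem_cent2 (hd _ h3)⟩
  have c0 := a1
  simp only [mul_smul, aTa, aDa, aDb] at a1 a2 b1 b2
  change g • io ta tb ξ (1, 1, 4, 0) = _ at a1
  change g • io ta tb ξ (1, 1, 1, 0) = _ at a2
  change g • io ta tb ξ (4, 1, 0, 1) = _ at b1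
  change g • io ta tb ξ (-(1, 1, 1, 0)) = _ at b2
  rw [map_neg, smul_neg, g1, ← map_neg] at b2
  obtain ⟨c1, c2⟩ := pM_pin π (inj (a2.symm.trans g1)) σ (inj b2.symm) (inj (by
    rw [map_add, ← a1, ← b1, ← smul_add, ← map_add]; exact g2))
  rw [c1] at a1 c0
  rw [c2] at b1
  have c3 : g • io ta tb ξ (4, 1, 0, 4) = io ta tb ξ (4, 1, 0, 4) := by
    have := regx _ (h.dl_mem g H.m4) (dl_smul g1 (c0.trans (aDb (1, 1, 1, 0)).symm))
    change g • io ta tb ξ (pDb (4, 1, 0, 1)) = io ta tb ξ (pDb (4, 1, 0, 1))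
    rw [← aDb, smul_smul_dl, b1, fx _ _ this]
  rw [← e1, pM_span c]
  simp only [map_add, map_nsmul, smul_add, smul_comm g, g1, a1, b1, c3]

end

theorem Setup.base_five [Finite G] (h : Setup V 5 U E) (m : Mx E D ξ) (H : Hyp E z ta tb da db) (h3 : da ∈ D)
    (h4 : db ∈ D) (hQ : E ⊓ C[D] ≤ D ⊔ U) (hu : u ∈ U) (e : u • ξ = ξ + ξ) (hU : ∀ w ∈ U, ∃ j < 4, w = u ^ j) :
    Base2 G V :=
  letI : Module (ZMod 5) V := AddCommGroup.zmodModule h.pv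
  h.base_five' m H h3 h4 hQ hu e hU

end CL.SL
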