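/-
Bases of solvable linear groups, imprimitive step: many regular orbits, rigid colourings.
-/
import Cfsg.Agent.Fgs.SLDefs
import Cfsg.Agent.Cls.SLnBasic
import Cfsg.Agent.Known.AltMisc
import Cfsg.Agent.Grp.MinNormal

set_option autoImplicit false
set_option linter.style.haveILetI false
open Cfsg Subgroup CL.Grp

namespace CL.SL

universe u

section Defs
variable (G : Type*) [Group G] (V : Type*) [AddCommGroup V] [DistribMulAction G V]

/-- `m` pairwise inequivalent bases of size `k` -/
def Many (k m : ℕ) : Prop :=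
  ∃ x : Fin m → Fin k → V, (∀ c (g : G), (∀ i, g • x c i = x c i) → ∀ v : V, g • v = v) ∧
    ∀ c d (g : G), (∀ i, g • x c i = x d i) → c = d

/-- a colouring with `m` colours that is rigid for the affine group -/
def RigidCol (m : ℕ) : Prop :=
  ∃ c : V → Fin m, ∀ (w : V) (g : G), (∀ v, c (w + g • v) = c v) → w = 0 ∧ ∀ v : V, g • v = v

end Defs

theorem smul_eq_of_pow_coprime {G X : Type*} [Group G] [Finite G] [MulAction G X] {n : ℕ}
    (hn : (Nat.card G).Coprime n) {g : G} {x : X} (h : g ^ n • x = x) : g • x = x := by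
  have hm : g ^ n ∈ MulAction.stabilizer G x := h
  have : g ∈ MulAction.stabilizer G x := by
    have h1 : (orderOf g).Coprime n := Nat.Coprime.coprime_dvd_left (orderOf_dvd_natCard g) hn
    obtain ⟨m, hm'⟩ := exists_pow_eq_self_of_coprime h1.symm
    rw [← hm']
    exact Subgroup.pow_mem _ hm m
  exact this

/-- a perfect group commuting with a solvable group moves a point that it does not fix into five orbits -/
theorem exists_five {Γ L X : Type*} [Group Γ] [Group L] [Finite Γ] [MulAction Γ X] [MulAction L X]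
    (hc : ∀ (t : Γ) (l : L) (y : X), t • l • y = l • t • y) [Group.IsPerfect Γ] [hL : Group.IsSolvable L] (x : X)
    (hx : ∃ t : Γ, t • x ≠ x) : ∃ t : Fin 5 → Γ, ∀ c d (l : L), l • t c • x = t d • x → c = d := by
  classical
  let D : Subgroup (Γ × L) :=
    { carrier := {z | z.1 • z.2 • x = x}
      one_mem' := by simp
      mul_mem' := by
        intro a b ha hb
        change (a.1 * b.1) • (a.2 * b.2) • x = x
        change a.1 • a.2 • x = x at ha
        change b.1 • b.2 • x = x at hb
        rw [mul_smul, mul_smul, hc b.1, hb, ha]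
      inv_mem' := by
        intro a ha
        change a.1⁻¹ • a.2⁻¹ • x = x
        change a.1 • a.2 • x = x at ha
        rw [inv_smul_eq_iff, inv_smul_eq_iff, ← hc, ha] }
  let π : D →* Γ := (MonoidHom.fst Γ L).comp D.subtype
  let ρ : D →* L := (MonoidHom.snd Γ L).comp D.subtype
  by_cases h5 : 5 ≤ Nat.card (Γ ⧸ π.range)
  · haveI := Fintype.ofFinite (Γ ⧸ π.range)
    obtain ⟨e⟩ : Nonempty (Fin 5 ↪ Γ ⧸ π.range) := Function.Embedding.nonempty_of_card_le (by simpa using h5)
    refine ⟨fun c => (e c).out, fun c d l h => e.injective ?_⟩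
    rw [← (e c).out_eq, ← (e d).out_eq]
    symm
    refine QuotientGroup.eq.2 ⟨⟨(((e d).out)⁻¹ * (e c).out, l), ?_⟩, rfl⟩
    change (((e d).out)⁻¹ * (e c).out) • l • x = x
    rw [mul_smul, hc, h, inv_smul_smul]
  · exfalso
    haveI : Group.IsSolvable (Equiv.Perm (Γ ⧸ π.range)) := CL.Known.isSolvable_perm_of_card_le_four (by omega)
    have hsurj : Function.Surjective π := by
      intro t
      obtain ⟨n, hn⟩ := Group.IsSolvable.solvable (G := Equiv.Perm (Γ ⧸ π.range))
      have h1 := map_derivedSeries_le_derivedSeries (MulAction.toPermHom Γ (Γ ⧸ π.range)) n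
      rw [hn, Group.IsPerfect.derivedSeries_eq_top] at h1
      have h2 : MulAction.toPermHom Γ (Γ ⧸ π.range) t = 1 := Subgroup.mem_bot.1 (h1 ⟨t, trivial, rfl⟩)
      have h3 : t • ((1 : Γ) : Γ ⧸ π.range) = ((1 : Γ) : Γ ⧸ π.range) := by
        have := congrArg (fun f : Equiv.Perm (Γ ⧸ π.range) => f ((1 : Γ) : Γ ⧸ π.range)) h2
        simpa using this
      rw [MulAction.Quotient.smul_mk, smul_eq_mul, mul_one, eq_comm, QuotientGroup.eq] at h3
      simpa using h3
    obtain ⟨t, ht⟩ := hx
    obtain ⟨n, hn⟩ := hL.solvable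
    have h1 := map_derivedSeries_eq hsurj n
    rw [Group.IsPerfect.derivedSeries_eq_top (G := Γ)] at h1
    obtain ⟨z, hz, rfl⟩ : t ∈ (derivedSeries D n).map π := h1 ▸ trivial
    have h2 := map_derivedSeries_le_derivedSeries ρ n ⟨z, hz, rfl⟩
    rw [hn, Subgroup.mem_bot] at h2
    have h3 : z.1.1 • z.1.2 • x = x := z.2
    have h4 : z.1.2 = 1 := h2
    rw [h4, one_smul] at h3
    exact ht h3

section Many
variable {G V : Type*} [Group G] [Finite G] [AddCommGroup V] [DistribMulAction G V]

omit [Finite G] in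
theorem Reg.exists_ne_zero [Nontrivial V] {k : ℕ} (h : Reg G V (k + 1)) :
    ∃ x : Fin (k + 1) → V, (∀ g : G, (∀ i, g • x i = x i) → ∀ v : V, g • v = v) ∧ ∃ j, x j ≠ 0 := by
  obtain ⟨x, hx⟩ := h
  by_cases h0 : ∃ j, x j ≠ 0
  · exact ⟨x, hx, h0⟩
  · push Not at h0
    obtain ⟨v, hv⟩ := exists_ne (0 : V)
    exact ⟨fun _ => v, fun g _ => hx g fun i => by rw [h0, smul_zero], 0, hv⟩

omit [Finite G] in
open Matrix.Module in
theorem many_five [Nontrivial V] [Group.IsSolvable G] {p : ℕ} [Fact p.Prime] (hp : ∀ v : V, p • v = 0) {k : ℕ}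
    (hk : 1 ≤ k ∨ 5 ≤ p) (h : Reg G V (k + 2)) : Many G V (k + 2) 5 := by
  letI : Module (ZMod p) V := AddCommGroup.zmodModule hp
  obtain ⟨x, hx, j, hj⟩ := h.exists_ne_zero
  letI : MulAction (Matrix.SpecialLinearGroup (Fin (k + 2)) (ZMod p)) (Fin (k + 2) → V) :=
    MulAction.compHom _ (Matrix.SpecialLinearGroup.coeMonoidHom)
  have hd : ∀ (t : Matrix.SpecialLinearGroup (Fin (k + 2)) (ZMod p)) (y : Fin (k + 2) → V) i,
      (t • y) i = ∑ j, t.1 i j • y j := fun _ _ _ => rfl
  have hc : ∀ (t : Matrix.SpecialLinearGroup (Fin (k + 2)) (ZMod p)) (l : G) (y : Fin (k + 2) → V),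
      t • l • y = l • t • y := by
    intro t l y
    funext i
    rw [Pi.smul_apply, hd, hd, Finset.smul_sum]
    refine Finset.sum_congr rfl fun j _ => ?_
    exact (ZMod.map_smul (DistribSMul.toAddMonoidHom V l) _ _).symm
  haveI : Group.IsPerfect (Matrix.SpecialLinearGroup (Fin (k + 2)) (ZMod p)) := by
    refine CL.SLn.isPerfect_SL ?_
    rcases hk with hk | hk
    · left; simp; omega
    · right; exact CL.SLn.exists_sq_ne_one_of_four_le (by simp; omega)
  obtain ⟨i, hij⟩ := exists_ne j
  obtain ⟨t, ht⟩ := exists_five hc x ⟨Matrix.SpecialLinearGroup.transvection hij 1, fun h => hj (by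
    have := congrFun h i
    rw [hd, Matrix.SpecialLinearGroup.transvection_coe] at this
    simp only [Matrix.add_apply, add_smul, Finset.sum_add_distrib, Matrix.one_apply, ite_smul, one_smul, zero_smul,
      Finset.sum_ite_eq, Finset.mem_univ, if_true, Matrix.single_apply, true_and] at this
    simpa using this)⟩
  refine ⟨fun c => t c • x, fun c g hg => hx g fun i => ?_, fun c d g hg => ht c d g (funext hg)⟩
  have h1 : g • t c • x = t c • x := funext hg
  rw [← hc] at h1
  exact congrFun (smul_left_cancel _ h1) i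

omit [Finite G] in
theorem many_three_of_one {a : V} (ha : a ≠ 0) (h : ∀ g : G, g • a = a → ∀ v : V, g • v = v) : Many G V 2 3 := by
  refine ⟨![![a, 0], ![0, a], ![a, a]], fun c g hg => h g ?_, fun c d g hg => ?_⟩
  · fin_cases c
    · exact hg 0
    · exact hg 1
    · exact hg 0
  · have h0 := hg 0
    have h1 := hg 1
    have e : ∀ v : V, g • v = 0 ↔ v = 0 := fun v => smul_eq_zero_iff_eq g
    fin_cases c <;> fin_cases d <;> simp_all [eq_comm (a := (0 : V))]

omit [Finite G] in
theorem Many.mono {k m n : ℕ} (h : Many G V k m) (hn : n ≤ m) : Many G V k n := by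
  obtain ⟨x, h1, h2⟩ := h
  exact ⟨fun c => x (Fin.castLE hn c), fun c => h1 _, fun c d g hg => Fin.castLE_injective hn (h2 _ _ g hg)⟩

theorem many_two [Nontrivial V] (hG : Odd (Nat.card G)) (h : Reg G V 2) : Many G V 2 2 := by
  obtain ⟨x, hx, j, hj⟩ := h.exists_ne_zero
  have hx' : ∀ g : G, g • x 0 = x 0 → g • x 1 = x 1 → ∀ v : V, g • v = v := fun g h0 h1 =>
    hx g fun i => by fin_cases i <;> assumption
  by_cases he : x 0 = x 1
  · refine (many_three_of_one (a := x 0) (fun h => hj ?_) fun g hg => hx' g hg (he ▸ hg)).mono (by omega)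
    fin_cases j
    · exact h
    · exact he ▸ h
  have key : ∀ g : G, g • x 0 = x 1 → g • x 1 = x 0 → False := fun g h0 h1 => by
    have : g • x 0 = x 0 := smul_eq_of_pow_coprime (n := 2) (Nat.coprime_two_right.2 hG) (by
      rw [pow_two, mul_smul, h0, h1])
    exact he (this.symm.trans h0)
  refine ⟨![![x 0, x 1], ![x 1, x 0]], fun c g hg => ?_, fun c d g hg => ?_⟩
  · fin_cases c
    · exact hx' g (hg 0) (hg 1)
    · exact hx' g (hg 1) (hg 0)
  · have h0 := hg 0
    have h1 := hg 1
    fin_cases c <;> fin_cases d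
    · rfl
    · exact (key g h0 h1).elim
    · exact (key g h1 h0).elim
    · rfl

theorem many_three [Nontrivial V] (hG : ¬ 3 ∣ Nat.card G) (h : Reg G V 2) : Many G V 2 3 := by
  obtain ⟨x, hx, j, hj⟩ := h.exists_ne_zero
  have hx' : ∀ g : G, g • x 0 = x 0 → g • x 1 = x 1 → ∀ v : V, g • v = v := fun g h0 h1 =>
    hx g fun i => by fin_cases i <;> assumption
  by_cases he : x 0 = x 1
  · refine many_three_of_one (a := x 0) (fun h => hj ?_) fun g hg => hx' g hg (he ▸ hg)
    fin_cases j
    · exact h
    · exact he ▸ h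
  obtain ⟨a, ha⟩ : ∃ a, a = x 0 := ⟨_, rfl⟩
  obtain ⟨b, hb⟩ : ∃ b, b = x 1 := ⟨_, rfl⟩
  rw [← ha, ← hb] at hx' he
  have hs : ∀ (g : G) (y z : V), g • (-y - z) = -(g • y) - g • z := fun g y z => by rw [smul_sub, smul_neg]
  have key : ∀ g : G, g • a = b → g • b = -a - b → False := fun g h0 h1 => by
    have : g • a = a := smul_eq_of_pow_coprime (n := 3) ((Nat.prime_three.coprime_iff_not_dvd.2 hG).symm) (by
      rw [pow_succ, pow_two, mul_smul, mul_smul, h0, h1, hs, h0, h1]; abel)
    exact he (this.symm.trans h0)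
  have key' : ∀ g : G, g • b = a → g • (-a - b) = b → False := fun g h0 h1 =>
    key g⁻¹ (by rw [inv_smul_eq_iff, h0]) (by rw [inv_smul_eq_iff, h1])
  refine ⟨![![a, b], ![b, -a - b], ![-a - b, a]], fun c g hg => ?_, fun c d g hg => ?_⟩
  · have h0 := hg 0
    have h1 := hg 1
    fin_cases c
    · exact hx' g h0 h1
    · change g • b = b at h0
      change g • (-a - b) = -a - b at h1
      rw [hs, h0, sub_left_inj, neg_inj] at h1
      exact hx' g h1 h0
    · change g • a = a at h1
      change g • (-a - b) = -a - b at h0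
      rw [hs, h1, sub_right_inj] at h0
      exact hx' g h1 h0
  · have h0 := hg 0
    have h1 := hg 1
    fin_cases c <;> fin_cases d
    · rfl
    · exact (key g h0 h1).elim
    · change g • a = -a - b at h0
      change g • b = a at h1
      exact (key' g h1 (by rw [hs, h0, h1]; abel)).elim
    · exact (key' g h0 h1).elim
    · rfl
    · change g • b = -a - b at h0
      change g • (-a - b) = a at h1
      rw [hs, h0] at h1
      exact (key g (by linear_combination (norm := abel) -h1) h0).elim
    · change g • (-a - b) = a at h0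
      change g • a = b at h1
      rw [hs, h1] at h0
      exact (key g h1 (by linear_combination (norm := abel) -h0)).elim
    · change g • (-a - b) = b at h0
      change g • a = -a - b at h1
      have h2 := h0
      rw [hs, h1] at h0
      exact (key' g (by linear_combination (norm := abel) -h0) h2).elim
    · rfl

end Many

section Colour
variable {G V : Type*} [Group G] [Finite G] [AddCommGroup V] [DistribMulAction G V]

omit [Finite G] in
theorem col_five (h : Reg G V 3) : RigidCol G V 5 := by
  classical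
  obtain ⟨x, hx⟩ := h
  let c : V → Fin 5 := fun v => if v = 0 then 0 else if v = x 0 then 1 else if v = x 1 then 2 else
    if v = x 2 then 3 else 4
  have h1 : ∀ u v, c u = c v → c v ≠ 4 → u = v := by
    intro u v huv hv
    simp only [c] at huv hv
    split_ifs at huv hv <;> simp_all
  have h2 : ∀ i, c (x i) ≠ 4 := by
    intro i
    simp only [c]
    fin_cases i <;> split_ifs <;> simp_all
  refine ⟨c, fun w g hg => ?_⟩
  have hw : w = 0 := by
    have := h1 _ _ (hg 0) (by simp [c])
    simpa using this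
  subst hw
  exact ⟨rfl, hx g fun i => by simpa using h1 _ _ (hg (x i)) (h2 i)⟩

omit [Finite G] in
/-- the colouring `{0}, {a, b}, rest` is rigid unless `a` and `b` are interchanged -/
theorem col_three_or {a b : V} (h : ∀ g : G, g • a = a → g • b = b → ∀ v : V, g • v = v) :
    RigidCol G V 3 ∨ (a ≠ b ∧ ∃ g : G, g • a = b ∧ g • b = a) := by
  classical
  by_contra hn
  push Not at hn
  let c : V → Fin 3 := fun v => if v = 0 then 0 else if v = a ∨ v = b then 1 else 2
  refine hn.1 ⟨c, fun w g hg => ?_⟩
  have hw : w = 0 := by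
    have := hg 0
    simp only [c, smul_zero, add_zero, if_true] at this
    split_ifs at this <;> simp_all
  subst hw
  have h1 : ∀ v, v = a ∨ v = b → g • v = a ∨ g • v = b := by
    intro v hv
    have := hg v
    simp only [c, zero_add, smul_eq_zero_iff_eq] at this
    by_cases h0 : v = 0
    · rw [h0, smul_zero]; exact h0 ▸ hv
    · rw [if_neg h0, if_neg h0, if_pos hv] at this
      split_ifs at this with h'
      · exact h'
      · simp at this
  refine ⟨rfl, ?_⟩
  by_cases hab : a = b
  · subst hab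
    have := (h1 a (Or.inl rfl)).elim id id
    exact h g this this
  rcases h1 a (Or.inl rfl) with ha | ha <;> rcases h1 b (Or.inr rfl) with hb | hb
  · exact (hab (smul_left_cancel g (ha.trans hb.symm))).elim
  · exact h g ha hb
  · exact (hn.2 hab g ha hb).elim
  · exact (hab (smul_left_cancel g (ha.trans hb.symm))).elim

theorem col_three (hG : ¬ 3 ∣ Nat.card G) (h : Reg G V 2) : RigidCol G V 3 := by
  obtain ⟨x, hx⟩ := h
  have hx' : ∀ g : G, g • x 0 = x 0 → g • x 1 = x 1 → ∀ v : V, g • v = v := fun g h0 h1 =>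
    hx g fun i => by fin_cases i <;> assumption
  generalize x 0 = a at hx'
  generalize x 1 = b at hx'
  rcases col_three_or hx' with h | ⟨hab, g, ga, gb⟩
  · exact h
  rcases col_three_or (G := G) (a := a) (b := a + b) (fun g h0 h1 => hx' g h0 (by
    rwa [smul_add, h0, add_right_inj] at h1)) with h | ⟨-, k, ka, kb⟩
  · exact h
  exfalso
  have kb' : k • b = -b := by
    rw [smul_add, ka] at kb
    linear_combination (norm := abel) kb
  have ta : (g * k) • a = a + b := by rw [mul_smul, ka, smul_add, ga, gb, add_comm]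
  have tb : (g * k) • b = -a := by rw [mul_smul, kb', smul_neg, gb]
  have sa : ((g * k) ^ 2) • a = b := by rw [pow_two, mul_smul, ta, smul_add, ta, tb]; abel
  have sb : ((g * k) ^ 2) • b = -a - b := by rw [pow_two, mul_smul, tb, smul_neg, ta]; abel
  generalize (g * k) ^ 2 = s at sa sb
  have : s • a = a := smul_eq_of_pow_coprime (n := 3) ((Nat.prime_three.coprime_iff_not_dvd.2 hG).symm) (by
    rw [pow_succ, pow_two, mul_smul, mul_smul, sa, sb, smul_sub, smul_neg, sa, sb]; abel)
  exact hab (this.symm.trans sa)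

theorem eq_zero_of_odd {V : Type*} [AddCommGroup V] [Finite V] (hV : Odd (Nat.card V)) {v : V} (h : v + v = 0) :
    v = 0 := by
  have h1 : addOrderOf v ∣ 2 := addOrderOf_dvd_of_nsmul_eq_zero (by rw [two_nsmul, h])
  have h2 : addOrderOf v ∣ Nat.card V := addOrderOf_dvd_natCard v
  exact AddMonoid.addOrderOf_eq_one_iff.1 (Nat.eq_one_of_dvd_coprimes (Nat.coprime_two_left.2 hV) h1 h2)

theorem three_cycle {X : Type*} {f : X → X} (hf : Function.Injective f) {x y z : X}
    (h : ∀ v, v = x ∨ v = y ∨ v = z → f v = x ∨ f v = y ∨ f v = z) :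
    (f (f x) = x ∧ f (f y) = y ∧ f (f z) = z) ∨ (f x = y ∧ f y = z ∧ f z = x) ∨ (f x = z ∧ f z = y ∧ f y = x) := by
  have hx := h x (Or.inl rfl)
  have hy := h y (Or.inr (Or.inl rfl))
  have hz := h z (Or.inr (Or.inr rfl))
  have i1 := @hf x y
  have i2 := @hf x z
  have i3 := @hf y z
  grind

/-- the colouring `{0, a, b}, rest` is rigid unless there is a three-cycle -/
theorem col_two_or [Finite V] (hG : Odd (Nat.card G)) (hV : Odd (Nat.card V)) {a b : V}
    (h : ∀ g : G, g • a = a → g • b = b → ∀ v : V, g • v = v) :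
    RigidCol G V 2 ∨ (b ≠ 0 ∧ ∃ g : G, g • b = -a) := by
  classical
  by_contra hn
  push Not at hn
  let c : V → Fin 2 := fun v => if v = 0 ∨ v = a ∨ v = b then 0 else 1
  refine hn.1 ⟨c, fun w g hg => ?_⟩
  have h1 : ∀ v, v = 0 ∨ v = a ∨ v = b → w + g • v = 0 ∨ w + g • v = a ∨ w + g • v = b := by
    intro v hv
    have := hg v
    simp only [c, if_pos hv] at this
    split_ifs at this with h'
    · exact h'
    · simp at this
  have fin : (w + g • (w + g • (0 : V)) = 0 ∧ w + g • (w + g • a) = a ∧ w + g • (w + g • b) = b) →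
      w = 0 ∧ ∀ v : V, g • v = v := by
    rintro ⟨e0, ea, eb⟩
    simp only [smul_zero, add_zero] at e0
    rw [smul_add, ← add_assoc, e0, zero_add, ← mul_smul, ← pow_two] at ea eb
    have hg' := h g (smul_eq_of_pow_coprime (Nat.coprime_two_right.2 hG) ea)
      (smul_eq_of_pow_coprime (Nat.coprime_two_right.2 hG) eb)
    rw [hg'] at e0
    exact ⟨eq_zero_of_odd hV e0, hg'⟩
  rcases three_cycle (f := fun v => w + g • v) (fun u v huv => smul_left_cancel g (add_left_cancel huv)) h1 with
    e | ⟨e0, ea, eb⟩ | ⟨e0, eb, ea⟩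
  · exact fin e
  · simp only [smul_zero, add_zero] at e0
    subst e0
    by_cases hb : b = 0
    · subst hb
      simp only [smul_zero, add_zero] at eb
      subst eb
      exact fin ⟨by simp, by simp, by simp⟩
    · exact (hn.2 hb g (by linear_combination (norm := abel) eb)).elim
  · simp only [smul_zero, add_zero] at e0
    subst e0
    by_cases hb : w = 0
    · subst hb
      simp only [smul_zero, add_zero] at eb
      subst eb
      exact fin ⟨by simp, by simp, by simp⟩
    · exact (hn.2 hb g⁻¹ (by rw [inv_smul_eq_iff, smul_neg]; linear_combination (norm := abel) ea)).elim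

theorem col_two [Finite V] (hG : Odd (Nat.card G)) (hV : Odd (Nat.card V)) (h : Reg G V 2) : RigidCol G V 2 := by
  obtain ⟨x, hx⟩ := h
  have hx' : ∀ g : G, g • x 0 = x 0 → g • x 1 = x 1 → ∀ v : V, g • v = v := fun g h0 h1 =>
    hx g fun i => by fin_cases i <;> assumption
  generalize x 0 = a at hx'
  generalize x 1 = b at hx'
  rcases col_two_or hG hV hx' with h | ⟨hb, g, gb⟩
  · exact h
  rcases col_two_or hG hV (a := a) (b := -b) (fun g h0 h1 => hx' g h0 (by
    rwa [smul_neg, neg_inj] at h1)) with h | ⟨-, k, kb⟩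
  · exact h
  exfalso
  rw [smul_neg, neg_inj] at kb
  have m : (g⁻¹ * k) • b = -b := by rw [mul_smul, kb, inv_smul_eq_iff, smul_neg, gb, neg_neg]
  have : (g⁻¹ * k) • b = b := smul_eq_of_pow_coprime (Nat.coprime_two_right.2 hG) (by
    rw [pow_two, mul_smul, m, smul_neg, m, neg_neg])
  exact hb (eq_zero_of_odd hV (by rw [m] at this; linear_combination (norm := abel) -this))

end Colour

end CL.SL
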