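/-
Bases of solvable linear groups: the imprimitive step and the induction.
-/
import Cfsg.Agent.Fgs.SLImprimA

set_option autoImplicit false
set_option linter.style.haveILetI false
open Cfsg Subgroup CL.Grp
open scoped Pointwise IsMulCommutative

namespace CL.SL

universe u

section Cosets

/-- conjugation on an abelian normal subgroup, written additively -/
@[reducible] def conjAddAct {Q : Type*} [Group Q] (L W : Subgroup Q) [W.Normal] [IsMulCommutative W] :
    DistribMulAction L (Additive W) where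
  smul l w := Additive.ofMul (MulAut.conjNormal (l : Q) w.toMul)
  one_smul w := congrArg Additive.ofMul (Subtype.ext (by simp; rfl))
  mul_smul a b w := congrArg Additive.ofMul (Subtype.ext (by
    change ((a * b : L) : Q) * (w.toMul : Q) * ((a * b : L) : Q)⁻¹ =
      (a : Q) * ((b : Q) * (w.toMul : Q) * (b : Q)⁻¹) * (a : Q)⁻¹
    simp [mul_assoc]))
  smul_zero l := congrArg Additive.ofMul (map_one _)
  smul_add l x y := congrArg Additive.ofMul (map_mul _ x.toMul y.toMul)

/-- the colouring lemmas, for the sections of a group of order `n` -/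
def ColHyp (n m : ℕ) : Prop := ∀ (H A : Type u) [Group H] [Finite H] [AddCommGroup A] [Finite A]
  [DistribMulAction H A], Nat.card H ∣ n → Nat.card A ∣ n → Concl H A → RigidCol H A m

theorem exists_colour_free {Q : Type u} [Group Q] [Finite Q] [Group.IsSolvable Q] {L : Subgroup Q} (hL : IsCoatom L)
    (hc : L.normalCore = ⊥) {n m : ℕ} (ih : IH.{u} n) (hn0 : n ≠ 0) (hn : Nat.card Q ∣ n) (hm : ColHyp.{u} n m) :
    ∃ c : Q → Fin m, (∀ g, ∀ l ∈ L, c (g * l) = c g) ∧ ∀ h, (∀ g, c (h * g) = c g) → h = 1 := by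
  haveI : Nontrivial Q := by
    by_contra h
    rw [not_nontrivial_iff_subsingleton] at h
    exact hL.1 (Subsingleton.elim _ _)
  obtain ⟨W, hW⟩ := exists_isMinNormal Q
  haveI := hW.normal
  haveI : IsMulCommutative W := hW.isMulCommutative_of_isSolvable inferInstance
  have hs : W ⊔ L = ⊤ := sup_eq_top_of_normalCore_eq_bot hL hc hW.ne_bot
  have hcomp := hW.isComplement'_of_sup_eq_top inferInstance hL.1 hs
  letI := conjAddAct L W
  have hd : ∀ (l : L) (w : Additive W), ((l • w).toMul : Q) = l * w.toMul * (l : Q)⁻¹ := fun _ _ => rfl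
  have hirr : Irr L (Additive W) := by
    intro U hU
    haveI : (U.toSubgroup'.map W.subtype).Normal := by
      refine normal_of_sup_le_normalizer hs (le_normalizer_of_isMulCommutative (map_subtype_le _)) ?_
      refine Subgroup.le_normalizer_iff.2 ?_
      rintro l hl _ ⟨w, hw, rfl⟩
      exact ⟨_, hU ⟨l, hl⟩ (Additive.ofMul w) hw, rfl⟩
    by_cases h0 : U.toSubgroup'.map W.subtype = ⊥
    · left
      rw [eq_bot_iff]
      intro w hw
      have : (w.toMul : Q) ∈ U.toSubgroup'.map W.subtype := ⟨w.toMul, hw, rfl⟩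
      rw [h0, Subgroup.mem_bot] at this
      exact congrArg Additive.ofMul (Subtype.ext this : w.toMul = 1)
    · right
      rw [eq_top_iff]
      intro w _
      obtain ⟨w', hw', e⟩ : (w.toMul : Q) ∈ U.toSubgroup'.map W.subtype := by
        rw [hW.eq_of_le h0 (map_subtype_le _)]; exact w.toMul.2
      have : w' = w.toMul := Subtype.ext e
      subst this
      exact hw'
  obtain ⟨c, hcol⟩ := hm L (Additive W) ((card_subgroup_dvd_card L).trans hn)
    ((card_subgroup_dvd_card W).trans hn)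
    (ih L (Additive W) ((card_subgroup_lt hL.1).trans_le (Nat.le_of_dvd (Nat.pos_of_ne_zero hn0) hn))
      inferInstance hirr)
  choose ω hω using fun g => (hcomp.existsUnique g).exists
  have hω' : ∀ (g : Q) (w : W) (l : L), g = w * l → (ω g).1 = w := fun g w l h =>
    congrArg Prod.fst ((hcomp.existsUnique g).unique (y₂ := (w, l)) (hω g) h.symm)
  refine ⟨fun g => c (Additive.ofMul (ω g).1), fun g l hl => ?_, fun h hh => ?_⟩
  · dsimp only
    rw [hω' (g * l) (ω g).1 ((ω g).2 * ⟨l, hl⟩) (by rw [Subgroup.coe_mul, ← mul_assoc, hω])]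
  · obtain ⟨h1, h2⟩ := hcol (Additive.ofMul (ω h).1) (ω h).2 fun v => by
      have := hh v.toMul
      dsimp only at this
      rw [hω' (v.toMul : Q) v.toMul 1 (by simp),
        hω' (h * v.toMul) ((ω h).1 * ((ω h).2 • v).toMul) (ω h).2 (by
          rw [Subgroup.coe_mul, hd, mul_assoc, inv_mul_cancel_right, ← mul_assoc, hω])] at this
      exact this
    have h3 : ((ω h).2 : Q) ∈ centralizer (W : Set Q) ⊓ L := by
      refine ⟨Subgroup.mem_centralizer_iff.2 fun w hw => ?_, (ω h).2.2⟩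
      have := congrArg (fun v : Additive W => (v.toMul : Q)) (h2 (Additive.ofMul ⟨w, hw⟩))
      simp only [hd, toMul_ofMul] at this
      rw [← this, inv_mul_cancel_right, this]
    rw [centralizer_inf_eq_bot_of_normalCore_eq_bot hc hs, Subgroup.mem_bot] at h3
    have h4 : (ω h).1 = 1 := h1
    rw [← hω h, h3, h4]; simp

theorem exists_colour {G : Type u} [Group G] [Finite G] [Group.IsSolvable G] {L : Subgroup G} (hL : IsCoatom L)
    {m : ℕ} (ih : IH.{u} (Nat.card G)) (hm : ColHyp.{u} (Nat.card G) m) :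
    ∃ c : G → Fin m, (∀ g, ∀ l ∈ L, c (g * l) = c g) ∧ ∀ h, (∀ g, c (h * g) = c g) → h ∈ L.normalCore := by
  let f := QuotientGroup.mk' L.normalCore
  have hf : Function.Surjective f := QuotientGroup.mk'_surjective _
  have hk : f.ker ≤ L := by rw [QuotientGroup.ker_mk']; exact L.normalCore_le
  have e : (L.map f).comap f = L := by rw [comap_map_eq, sup_of_le_left hk]
  have hL' : IsCoatom (L.map f) := by
    refine ⟨fun h => hL.1 (e.symm.trans (by rw [h, comap_top])), fun K hK => ?_⟩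
    have : K.comap f = ⊤ := hL.2 _ (e.symm.trans_lt ((comap_lt_comap_of_surjective hf).2 hK))
    rw [← map_comap_eq_self_of_surjective hf K, this, map_top_of_surjective f hf]
  have hc : (L.map f).normalCore = ⊥ := by
    rw [eq_bot_iff]
    intro q hq
    obtain ⟨g, rfl⟩ := hf q
    have : (L.map f).normalCore.comap f ≤ L.normalCore :=
      normal_le_normalCore.2 ((comap_mono (normalCore_le _)).trans e.le)
    exact Subgroup.mem_bot.2 ((QuotientGroup.eq_one_iff g).2 (this hq))
  obtain ⟨c, h1, h2⟩ := exists_colour_free hL' hc ih Nat.card_pos.ne' (card_quotient_dvd_card _) hm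
  refine ⟨fun g => c (f g), fun g l hl => ?_, fun h hh => (QuotientGroup.eq_one_iff h).1 (h2 (f h) fun q => ?_)⟩
  · dsimp only
    rw [map_mul, h1 _ _ ⟨l, hl, rfl⟩]
  · obtain ⟨g, rfl⟩ := hf q
    rw [← map_mul]; exact hh g

end Cosets

section Imp
variable {G V : Type*} [Group G] [AddCommGroup V] [DistribMulAction G V]

/-- the vectors fixed by a subgroup -/
def fixV (V : Type*) [AddCommGroup V] [DistribMulAction G V] (B : Subgroup G) : AddSubgroup V where
  carrier := {v | ∀ b ∈ B, b • v = v}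
  zero_mem' := fun b _ => smul_zero b
  add_mem' := fun hx hy b hb => by rw [smul_add, hx b hb, hy b hb]
  neg_mem' := fun hx b hb => by rw [smul_neg, hx b hb]

theorem smul_mem_fixV {B : Subgroup G} {v : V} (h : v ∈ fixV V B) (g : G) :
    g • v ∈ fixV V (MulAut.conj g • B) := by
  rintro _ ⟨b, hb, rfl⟩
  change (g * b * g⁻¹) • g • v = g • v
  rw [mul_smul, inv_smul_smul, mul_smul, h b hb]

theorem eq_bot_of_conj (hi : Irr G V) (hf : Faith G V) {B : Subgroup G} (hB : ∀ g : G, MulAut.conj g • B = B)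
    (h : fixV V B ≠ ⊥) : B = ⊥ := by
  have := (hi (fixV V B) fun g v hv => by have := smul_mem_fixV hv g; rwa [hB] at this).resolve_left h
  exact eq_bot_iff.2 fun b hb => Subgroup.mem_bot.2 (hf b fun v => (this ▸ AddSubgroup.mem_top v : v ∈ fixV V B) b hb)

theorem Irr.exists_prime [Finite V] [Nontrivial V] (hi : Irr G V) :
    ∃ p : ℕ, p.Prime ∧ p ∣ Nat.card V ∧ ∀ v : V, p • v = 0 := by
  obtain ⟨p, hp, hd⟩ := Nat.exists_prime_and_dvd (Finite.one_lt_card (α := V)).ne'
  haveI := Fact.mk hp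
  obtain ⟨v, hv⟩ := exists_prime_addOrderOf_dvd_card' p hd
  have := (hi (nsmulAddMonoidHom p : V →+ V).ker fun g w hw => by
    change p • g • w = 0
    rw [smul_comm, show p • w = 0 from hw, smul_zero]).resolve_left fun h => by
      have h1 : v ∈ (nsmulAddMonoidHom p : V →+ V).ker := by
        change p • v = 0
        rw [← hv, addOrderOf_nsmul_eq_zero]
      rw [h, AddSubgroup.mem_bot] at h1
      rw [h1, addOrderOf_zero] at hv
      exact hp.one_lt.ne hv
  exact ⟨p, hp, hd, fun w => (this ▸ AddSubgroup.mem_top w : w ∈ (nsmulAddMonoidHom p : V →+ V).ker)⟩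

theorem not_dvd_card_of_abelian [Finite G] [Finite V] (hi : Irr G V) (hf : Faith G V) {p : ℕ} (hp : p.Prime)
    (hd : p ∣ Nat.card V) (N : Subgroup G) [hN : N.Normal] [IsMulCommutative N] : ¬ p ∣ Nat.card N := by
  intro h
  haveI := Fact.mk hp
  obtain ⟨x, hx⟩ := exists_prime_orderOf_dvd_card' p h
  let P : Subgroup G := ((powMonoidHom p : N →* N).ker).map N.subtype
  have hP : IsPGroup p P := by
    rintro ⟨_, y, hy, rfl⟩
    exact ⟨1, Subtype.ext (by simpa using congrArg Subtype.val (show y ^ p = 1 from hy))⟩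
  have hn : P.Normal := ⟨by
    rintro _ ⟨y, hy, rfl⟩ g
    refine ⟨MulAut.conjNormal g y, ?_, rfl⟩
    change MulAut.conjNormal g y ^ p = 1
    rw [← map_pow, show y ^ p = 1 from hy, map_one]⟩
  obtain ⟨v, hv, hv0⟩ := hP.exists_fixed_point_of_prime_dvd_card_of_fixed_point V hd (a := 0)
    (fun g => smul_zero g)
  have := eq_bot_of_conj hi hf (B := P) (fun g => hn.conj_smul_eq_self g) fun h => hv0 (by
    have : v ∈ fixV V P := fun b hb => hv ⟨b, hb⟩
    rw [h, AddSubgroup.mem_bot] at this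
    exact this.symm)
  have h1 : (x : G) ∈ P := ⟨x, by change x ^ p = 1; rw [← hx, pow_orderOf_eq_one], rfl⟩
  rw [this, Subgroup.mem_bot] at h1
  rw [show x = 1 from Subtype.ext h1, orderOf_one] at hx
  exact hp.one_lt.ne hx

theorem exists_proj [Finite G] {p : ℕ} (hp : p.Prime) (hV : ∀ v : V, p • v = 0) {B : Subgroup G}
    (hB : ¬ p ∣ Nat.card B) : ∃ e : V →+ V, (∀ v ∈ fixV V B, e v = v) ∧ (∀ v, e v ∈ fixV V B) ∧
      ∀ (n : G) (v : V), (∀ b ∈ B, Commute n b) → n • v = v → n • e v = e v := by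
  classical
  haveI := Fintype.ofFinite B
  obtain ⟨d, -, hd⟩ := Nat.exists_mul_mod_eq_one_of_coprime ((hp.coprime_iff_not_dvd.2 hB).symm) hp.one_lt
  refine ⟨d • ∑ b : B, DistribSMul.toAddMonoidHom V (b : G), fun v hv => ?_, fun v b hb => ?_, fun n v hn hv => ?_⟩
  · have : ∀ b : B, (b : G) • v = v := fun b => hv b b.2
    simp only [AddMonoidHom.smul_apply, AddMonoidHom.finsetSum_apply, DistribSMul.toAddMonoidHom_apply, this,
      Finset.sum_const, Finset.card_univ, ← mul_smul]
    rw [mul_comm, ← Nat.card_eq_fintype_card, ← Nat.div_add_mod' (Nat.card B * d) p, hd, add_smul, mul_smul, hV,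
      smul_zero, zero_add, one_smul]
  · simp only [AddMonoidHom.smul_apply, AddMonoidHom.finsetSum_apply, DistribSMul.toAddMonoidHom_apply]
    rw [smul_comm, Finset.smul_sum]
    congr 1
    exact Fintype.sum_equiv (Equiv.mulLeft (⟨b, hb⟩ : B)) _ _ fun x => by simp [mul_smul]
  · simp only [AddMonoidHom.smul_apply, AddMonoidHom.finsetSum_apply, DistribSMul.toAddMonoidHom_apply]
    rw [smul_comm, Finset.smul_sum]
    congr 1
    exact Finset.sum_congr rfl fun b _ => by rw [← mul_smul, (hn b b.2).eq, mul_smul, hv]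

/-- a system of imprimitivity, given by a projection -/
theorem exists_imp [Finite G] [Finite V] (hi : Irr G V) (hf : Faith G V) (hs : ¬ SemiregAb G V) :
    ∃ (L : Subgroup G) (π : V →+ V) (y : V), IsCoatom L ∧ y ≠ 0 ∧ (∀ l ∈ L, π (l • y) = l • y) ∧
      ∀ g ∉ L, π (g • y) = 0 := by
  classical
  unfold SemiregAb at hs
  push Not at hs
  obtain ⟨N, hN, hc, n, hn, v, hv, hn1, hv0⟩ := hs
  haveI : Nontrivial V := ⟨v, 0, hv0⟩
  obtain ⟨p, hp, hd, hV⟩ := hi.exists_prime
  have hpN := not_dvd_card_of_abelian hi hf hp hd N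
  let P : Subgroup G → Prop := fun B => B ≤ N ∧ ∃ y ∈ fixV V B, y ≠ 0
  have hP : ∀ B (g : G), P B → P (MulAut.conj g • B) := by
    rintro B g ⟨h1, y, hy, hy0⟩
    refine ⟨?_, g • y, smul_mem_fixV hy g, fun h => hy0 ((smul_eq_zero_iff_eq g).1 h)⟩
    rintro _ ⟨b, hb, rfl⟩
    exact hN.conj_mem _ (h1 hb) g
  have hM : ∀ B (g : G), Maximal P B → Maximal P (MulAut.conj g • B) := by
    intro B g hB
    refine ⟨hP B g hB.1, fun C hC hle => ?_⟩
    have := hB.2 (hP C g⁻¹ hC) (by rw [map_inv]; exact Subgroup.subset_pointwise_smul_iff.2 (by simpa using hle))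
    rw [map_inv] at this
    exact Subgroup.subset_pointwise_smul_iff.2 this
  obtain ⟨B, hnB, hB⟩ := Finite.exists_le_maximal (p := P) (a := zpowers n)
    ⟨zpowers_le.2 hn, v, fun b hb => (zpowers_le (H := MulAction.stabilizer G v)).2 hv hb, hv0⟩
  obtain ⟨y, hy, hy0⟩ := hB.1.2
  let St : Subgroup G := (MulAction.stabilizer (MulAut G) B).comap MulAut.conj
  obtain ⟨L, hL, hle⟩ := (eq_top_or_exists_le_coatom St).resolve_left fun h => hn1 (by
    have := eq_bot_of_conj hi hf (B := B) (fun g => (h ▸ Subgroup.mem_top g : g ∈ St)) fun h' => hy0 (by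
      rwa [h', AddSubgroup.mem_bot] at hy)
    exact Subgroup.mem_bot.1 (this ▸ hnB (mem_zpowers n)))
  have he : ∀ C : Subgroup G, ∃ e : V →+ V, Maximal P C → (∀ v ∈ fixV V C, e v = v) ∧
      ∀ D, Maximal P D → D ≠ C → ∀ v ∈ fixV V D, e v = 0 := by
    intro C
    by_cases hC : Maximal P C
    swap
    · exact ⟨0, fun h => (hC h).elim⟩
    obtain ⟨e, e1, e2, e3⟩ := exists_proj hp hV (B := C) fun h => hpN (h.trans (card_dvd_of_le hC.1.1))
    refine ⟨e, fun _ => ⟨e1, fun D hD hne w hw => ?_⟩⟩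
    by_contra h0
    have hCD : P (C ⊔ D) := ⟨sup_le hC.1.1 hD.1.1, e w, fun b hb => (sup_le (c := MulAction.stabilizer G (e w))
      (fun b hb => e2 w b hb) (fun b hb => e3 b w (fun c hc' => congrArg Subtype.val
        (hc.is_comm.comm ⟨b, hD.1.1 hb⟩ ⟨c, hC.1.1 hc'⟩)) (hw b hb))) hb, h0⟩
    exact hne (le_antisymm (le_sup_right.trans (hC.2 hCD le_sup_left)) (le_sup_left.trans (hD.2 hCD le_sup_right)))
  choose e he using he
  haveI := Fintype.ofFinite L
  let S : Finset (Subgroup G) := Finset.univ.image fun l : L => MulAut.conj (l : G) • B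
  have hS : ∀ C ∈ S, Maximal P C := by
    intro C hC
    obtain ⟨l, -, rfl⟩ := Finset.mem_image.1 hC
    exact hM B l hB
  refine ⟨L, ∑ C ∈ S, e C, y, hL, hy0, fun l hl => ?_, fun g hg => ?_⟩
  · rw [AddMonoidHom.finsetSum_apply, Finset.sum_eq_single_of_mem (MulAut.conj l • B)
      (Finset.mem_image.2 ⟨⟨l, hl⟩, Finset.mem_univ _, rfl⟩)
      fun C hC hne => (he C (hS C hC)).2 _ (hM B l hB) hne.symm _ (smul_mem_fixV hy l)]
    exact (he _ (hM B l hB)).1 _ (smul_mem_fixV hy l)
  · rw [AddMonoidHom.finsetSum_apply]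
    refine Finset.sum_eq_zero fun C hC => (he C (hS C hC)).2 _ (hM B g hB) (fun h => hg ?_) _ (smul_mem_fixV hy g)
    obtain ⟨l, -, rfl⟩ := Finset.mem_image.1 hC
    have : (l : G)⁻¹ * g ∈ St := by
      change MulAut.conj ((l : G)⁻¹ * g) • B = B
      rw [map_mul, mul_smul, h, map_inv, inv_smul_smul]
    simpa using L.mul_mem l.2 (hle this)

/-- the action on an invariant subgroup -/
@[reducible] def subAct {Y : AddSubgroup V} (hY : Inv G V Y) : DistribMulAction G Y where
  smul g y := ⟨g • y.1, hY g y y.2⟩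
  one_smul y := Subtype.ext (one_smul G y.1)
  mul_smul a b y := Subtype.ext (mul_smul a b y.1)
  smul_zero g := Subtype.ext (smul_zero g)
  smul_add g x y := Subtype.ext (smul_add g x.1 y.1)

theorem reg_of_colour [Finite G] (hi : Irr G V) {L : Subgroup G} {π : V →+ V} {Y : AddSubgroup V} (hY : Y ≠ ⊥)
    (hL : Inv L V Y) (h1 : ∀ y ∈ Y, π y = y) (h0 : ∀ g ∉ L, ∀ y ∈ Y, π (g • y) = 0) {k m : ℕ}
    (x : Fin m → Fin k → Y) (hx : ∀ c, ∀ l ∈ L, (∀ i, l • (x c i : V) = x c i) → ∀ y ∈ Y, l • y = y)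
    (hx' : ∀ c d, ∀ l ∈ L, (∀ i, l • (x c i : V) = x d i) → c = d)
    (c : G → Fin m) (hc : ∀ g, ∀ l ∈ L, c (g * l) = c g) (hc' : ∀ h, (∀ g, c (h * g) = c g) → h ∈ L.normalCore) :
    Reg G V k := by
  classical
  haveI := Fintype.ofFinite (G ⧸ L)
  let r : G → G := fun g => (g : G ⧸ L).out
  have hr : ∀ g, g⁻¹ * r g ∈ L := fun g => QuotientGroup.eq.1 (Quotient.out_eq (g : G ⧸ L)).symm
  have hcr : ∀ g, c (r g) = c g := fun g => by rw [← hc g _ (hr g), mul_inv_cancel_left]
  let v : Fin k → V := fun i => ∑ q : G ⧸ L, q.out • (x (c q.out) i : V)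
  have hv : ∀ (g : G) i, π (g⁻¹ • v i) = (g⁻¹ * r g) • (x (c g) i : V) := by
    intro g i
    simp only [v, Finset.smul_sum, map_sum, ← mul_smul]
    rw [Finset.sum_eq_single (g : G ⧸ L) (fun q _ hq => h0 _ (fun h => hq (by
      rw [QuotientGroup.eq.2 h, QuotientGroup.out_eq'])) _ (x _ _).2) (by simp)]
    rw [← hcr g]
    exact h1 _ (hL ⟨_, hr g⟩ _ (x _ _).2)
  refine ⟨v, fun h hh => ?_⟩
  have key : ∀ (g : G) i, ((g⁻¹ * r g)⁻¹ * ((h * g)⁻¹ * r (h * g))) • (x (c (h * g)) i : V) = x (c g) i := by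
    intro g i
    rw [mul_smul, ← hv, inv_smul_eq_iff, ← hv, mul_inv_rev, mul_smul, inv_smul_eq_iff.2 (hh i).symm]
  have hcol : ∀ g, c (h * g) = c g := fun g => hx' _ _ _ (L.mul_mem (L.inv_mem (hr g)) (hr _)) (key g)
  have hK := hc' h hcol
  have hfix : ∀ (g : G), ∀ y ∈ Y, h⁻¹ • r g • y = r g • y := by
    intro g y hy
    have e : r (h * g) = r g := by
      have : ((h * g : G) : G ⧸ L) = (g : G ⧸ L) := QuotientGroup.eq.2 (by
        have := L.normalCore_le (L.normalCore_normal.conj_mem _ (L.normalCore.inv_mem hK) g⁻¹)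
        simpa [mul_assoc] using this)
      simp only [r, this]
    have := hx (c g) _ (L.mul_mem (L.inv_mem (hr g)) (hr (h * g))) (fun i => by
      have := key g i; rwa [hcol] at this) y hy
    rw [e, show (g⁻¹ * r g)⁻¹ * ((h * g)⁻¹ * r g) = (r g)⁻¹ * (h⁻¹ * r g) by group, mul_smul, inv_smul_eq_iff,
      mul_smul] at this
    exact this
  let U : AddSubgroup V :=
    { carrier := {w | ∀ g : G, h⁻¹ • g • w = g • w}
      zero_mem' := fun g => by simp
      add_mem' := fun ha hb g => by rw [smul_add, smul_add, ha, hb]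
      neg_mem' := fun ha g => by rw [smul_neg, smul_neg, ha] }
  have hU := (hi U fun g w hw g' => by rw [← mul_smul g', hw]).resolve_left fun h' => hY (eq_bot_iff.2 (h' ▸ by
    intro y hy g
    have := hfix g _ (hL ⟨_, L.inv_mem (hr g)⟩ y hy)
    rwa [Subgroup.mk_smul, ← mul_smul (r g), mul_inv_rev, inv_inv, mul_inv_cancel_left] at this))
  intro w
  have := (hU ▸ AddSubgroup.mem_top w : w ∈ U) 1
  rw [one_smul, inv_smul_eq_iff] at this
  exact this.symm

end Imp

theorem imprimStep : ImprimStep.{u} := by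
  intro G V _ _ _ _ _ ih hs hi hf hsr
  obtain ⟨L, π, y, hL, hy, h1, h0⟩ := exists_imp hi hf hsr
  let Y : AddSubgroup V :=
    { carrier := {w | (∀ l ∈ L, π (l • w) = l • w) ∧ ∀ g ∉ L, π (g • w) = 0}
      zero_mem' := ⟨fun _ _ => by simp, fun _ _ => by simp⟩
      add_mem' := fun ha hb => ⟨fun l hl => by rw [smul_add, map_add, ha.1 l hl, hb.1 l hl],
        fun g hg => by rw [smul_add, map_add, ha.2 g hg, hb.2 g hg, add_zero]⟩
      neg_mem' := fun ha => ⟨fun l hl => by rw [smul_neg, map_neg, ha.1 l hl],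
        fun g hg => by rw [smul_neg, map_neg, ha.2 g hg, neg_zero]⟩ }
  have hYL : Inv L V Y := fun l w hw =>
    ⟨fun l' hl' => by rw [Subgroup.smul_def, ← mul_smul]; exact hw.1 _ (L.mul_mem hl' l.2),
      fun g hg => by
        rw [Subgroup.smul_def, ← mul_smul]; exact hw.2 _ fun h => hg ((L.mul_mem_cancel_right l.2).1 h)⟩
  have hY1 : ∀ w ∈ Y, π w = w := fun w hw => by simpa using hw.1 1 L.one_mem
  have hY0 : ∀ g ∉ L, ∀ w ∈ Y, π (g • w) = 0 := fun g hg w hw => hw.2 g hg
  have hyY : y ∈ Y := ⟨h1, h0⟩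
  have hY : Y ≠ ⊥ := fun h => hy (by rwa [h, AddSubgroup.mem_bot] at hyY)
  clear_value Y
  letI := subAct hYL
  haveI : Nontrivial Y := (AddSubgroup.nontrivial_iff_ne_bot Y).2 hY
  haveI : Nontrivial V := ⟨y, 0, hy⟩
  have hirr : Irr L Y := by
    intro U hU
    let T : AddSubgroup V :=
      { carrier := {w | ∀ g : G, π (g • w) ∈ U.map Y.subtype}
        zero_mem' := fun g => by simp
        add_mem' := fun ha hb g => by rw [smul_add, map_add]; exact add_mem (ha g) (hb g)
        neg_mem' := fun ha g => by rw [smul_neg, map_neg]; exact neg_mem (ha g) }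
    refine (hi T fun g w hw g' => by rw [← mul_smul]; exact hw _).imp (fun h => ?_) fun h => ?_
    · refine eq_bot_iff.2 fun w hw => ?_
      have : (w : V) ∈ T := fun g => by
        by_cases hg : g ∈ L
        · rw [hY1 (g • (w : V)) (hYL ⟨g, hg⟩ _ w.2)]
          exact ⟨_, hU ⟨g, hg⟩ w hw, rfl⟩
        · rw [hY0 g hg _ w.2]; exact zero_mem _
      rw [h, AddSubgroup.mem_bot] at this
      exact AddSubgroup.mem_bot.2 (Subtype.ext this)
    · refine eq_top_iff.2 fun w _ => ?_
      obtain ⟨w', hw', e⟩ := (h ▸ AddSubgroup.mem_top (w : V) : (w : V) ∈ T) 1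
      rw [one_smul, hY1 _ w.2] at e
      exact (Subtype.ext e : w' = w) ▸ hw'
  obtain ⟨r3, r2⟩ := ih L Y (card_subgroup_lt hL.1) inferInstance hirr
  have main : ∀ k m, Many L Y k m → ColHyp.{u} (Nat.card G) m → Reg G V k := by
    rintro k m ⟨x, hx, hx'⟩ hm
    obtain ⟨c, hc, hc'⟩ := exists_colour hL ih hm
    exact reg_of_colour hi hY hYL hY1 hY0 x
      (fun c l hl h w hw => congrArg Subtype.val (hx c ⟨l, hl⟩ (fun i => Subtype.ext (h i)) ⟨w, hw⟩))
      (fun c d l hl h => hx' c d ⟨l, hl⟩ fun i => Subtype.ext (h i)) c hc hc'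
  obtain ⟨p, hp, hpd, hpV⟩ := hi.exists_prime
  haveI := Fact.mk hp
  have hpY : ∀ w : Y, p • w = 0 := fun w => Subtype.ext (hpV w)
  have c5 : ColHyp.{u} (Nat.card G) 5 := fun H A _ _ _ _ _ _ _ h => col_five h.1
  have hd := card_subgroup_dvd_card L
  refine ⟨main 3 5 (many_five hpY (Or.inl le_rfl) r3) c5, fun hc => ?_⟩
  rcases hc with hc | hc | hc
  · exact main 2 2 (many_two (hc.of_dvd_nat hd) (r2 (Or.inl (hc.of_dvd_nat hd)))) fun H A _ _ _ _ _ hH hA h =>
      col_two (hc.of_dvd_nat hH) (hc.of_dvd_nat hA) (h.2 (Or.inl (hc.of_dvd_nat hH)))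
  · exact main 2 3 (many_three (fun h => hc (h.trans hd)) (r2 (Or.inr (Or.inl fun h => hc (h.trans hd)))))
      fun H A _ _ _ _ _ hH _ h => col_three (fun h => hc (h.trans hH)) (h.2 (Or.inr (Or.inl fun h => hc (h.trans hH))))
  · refine main 2 5 (many_five (k := 0) hpY (Or.inr ?_) (r2 (Or.inr (Or.inr
      (hc.coprime_dvd_left (AddSubgroup.card_addSubgroup_dvd_card Y)))))) c5
    have h6 : p.Coprime 6 := hc.coprime_dvd_left hpd
    have := hp.two_le
    by_contra h
    have : p ≤ 4 := by omega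
    interval_cases p <;> norm_num at h6

theorem concl_of_irr (h : PrimStep.{u}) (n : ℕ) : IH.{u} n := by
  induction n with
  | zero => intro G V _ _ _ _ _ hn; omega
  | succ n ih =>
    intro G V _ _ _ _ _ hn hs hi
    have ih' : IH.{u} (Nat.card G) := fun H A _ _ _ _ _ hH => ih H A (by omega)
    by_cases hf : Faith G V
    · by_cases hsr : SemiregAb G V
      · exact h G V hs hi hf hsr
      · exact imprimStep G V ih' hs hi hf hsr
    let f := MulAction.toPermHom G V
    letI : DistribMulAction f.range V :=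
      { smul_zero := by rintro ⟨_, a, rfl⟩; exact smul_zero a
        smul_add := by rintro ⟨_, a, rfl⟩ x y; exact smul_add a x y }
    have hd : Nat.card f.range ∣ Nat.card G := card_dvd_of_surjective _ f.rangeRestrict_surjective
    have hlt : Nat.card f.range < Nat.card G := by
      rw [← Nat.card_congr (QuotientGroup.quotientKerEquivRange f).toEquiv]
      refine card_quotient_lt fun hk => hf fun g hg => ?_
      have : g ∈ f.ker := Equiv.ext hg
      rwa [hk, Subgroup.mem_bot] at this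
    haveI : Finite f.range := Finite.of_surjective _ f.rangeRestrict_surjective
    obtain ⟨h3, h2⟩ := ih' f.range V hlt (Group.isSolvable_of_surjective f.rangeRestrict_surjective)
      fun U hU => hi U fun g v hv => hU ⟨_, g, rfl⟩ v hv
    have r : ∀ k, Reg f.range V k → Reg G V k := fun k ⟨x, hx⟩ => ⟨x, fun a ha v => hx ⟨_, a, rfl⟩ ha v⟩
    refine ⟨r 3 h3, fun hc => r 2 (h2 ?_)⟩
    rcases hc with hc | hc | hc
    · exact Or.inl (hc.of_dvd_nat hd)
    · exact Or.inr (Or.inl fun h' => hc (h'.trans hd))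
    · exact Or.inr (Or.inr hc)

theorem reg_of_cr {G V : Type*} [Group G] [AddCommGroup V] [Finite V] [DistribMulAction G V] (hcr : CR G V) {k : ℕ}
    (h : ∀ (Y : AddSubgroup V) (hY : Inv G V Y), letI := subAct hY; Irr G Y → Reg G Y k) : Reg G V k := by
  suffices H : ∀ Y : AddSubgroup V, Inv G V Y → ∃ x : Fin k → V, (∀ i, x i ∈ Y) ∧
      ∀ g : G, (∀ i, g • x i = x i) → ∀ v ∈ Y, g • v = v by
    obtain ⟨x, -, hx⟩ := H ⊤ fun _ _ _ => trivial
    exact ⟨x, fun g hg v => hx g hg v trivial⟩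
  intro Y
  induction Y using WellFoundedLT.induction with
  | ind Y ih =>
  intro hY
  by_cases h0 : Y = ⊥
  · exact ⟨0, fun _ => zero_mem _, fun g _ v hv => by rw [h0, AddSubgroup.mem_bot] at hv; rw [hv, smul_zero]⟩
  obtain ⟨Z, hZY, hZ⟩ := exists_minimal_le_of_wellFoundedLT (fun Z : AddSubgroup V => Inv G V Z ∧ Z ≠ ⊥) Y ⟨hY, h0⟩
  obtain ⟨W, hW, hi, hs⟩ := hcr Z hZ.1.1
  obtain ⟨x, hx⟩ := h Z hZ.1.1 fun U hU => by
    by_cases hU0 : U = ⊥
    · exact Or.inl hU0
    · right
      have := hZ.2 (y := U.map Z.subtype) ⟨by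
        rintro g _ ⟨w, hw, rfl⟩
        exact ⟨_, hU g w hw, rfl⟩, fun h' => hU0 ((AddSubgroup.map_eq_bot_iff_of_injective _ Z.subtype_injective).1 h')⟩
        (AddSubgroup.map_subtype_le _)
      refine eq_top_iff.2 fun w _ => ?_
      obtain ⟨w', hw', e⟩ := this w.2
      exact (Subtype.ext e : w' = w) ▸ hw'
  obtain ⟨x', hx'1, hx'⟩ := ih (W ⊓ Y) (lt_of_le_of_ne inf_le_right fun e => hZ.1.2 (by
    rw [← hi]; exact (inf_of_le_left (hZY.trans (e ▸ inf_le_left))).symm))
    fun g v hv => ⟨hW g v hv.1, hY g v hv.2⟩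
  refine ⟨fun i => x i + x' i, fun i => add_mem (hZY (x i).2) (hx'1 i).2, fun g hg v hv => ?_⟩
  have e : ∀ i, g • (x i : V) - x i = 0 := fun i => by
    rw [← AddSubgroup.mem_bot, ← hi]
    refine AddSubgroup.mem_inf.2 ⟨Z.sub_mem (hZ.1.1 g _ (x i).2) (x i).2, ?_⟩
    have := hg i
    dsimp only at this
    rw [smul_add] at this
    rw [show g • (x i : V) - x i = x' i - g • x' i by linear_combination (norm := abel) this]
    exact W.sub_mem (hx'1 i).1 (hW g _ (hx'1 i).1)
  have e1 := hx g fun i => Subtype.ext (sub_eq_zero.1 (e i))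
  have e2 := hx' g fun i => by
    have := hg i
    rwa [smul_add, sub_eq_zero.1 (e i), add_right_inj] at this
  obtain ⟨z, hz, w, hw, rfl⟩ := AddSubgroup.mem_sup.1 (hs ▸ AddSubgroup.mem_top v : v ∈ Z ⊔ W)
  rw [smul_add, e2 w ⟨hw, (Y.add_mem_cancel_left (hZY hz)).1 hv⟩]
  exact congrArg (· + w) (congrArg Subtype.val (e1 ⟨z, hz⟩))

theorem baseThm_of (h : PrimStep.{u}) : BaseThm.{u} := by
  intro G V _ _ _ _ _ hs hcr
  have H : ∀ (Y : AddSubgroup V) (hY : Inv G V Y), letI := subAct hY; Irr G Y → Concl G Y := fun Y hY hi =>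
    letI := subAct hY
    concl_of_irr h _ G Y (Nat.lt_succ_self _) hs hi
  refine ⟨reg_of_cr hcr fun Y hY hi => (H Y hY hi).1, fun hc => reg_of_cr hcr fun Y hY hi => (H Y hY hi).2 ?_⟩
  exact hc.imp_right (Or.imp_right fun h => h.coprime_dvd_left (AddSubgroup.card_addSubgroup_dvd_card Y))

end CL.SL
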