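/-
Bases of solvable linear groups: the primitive case and the theorem.
-/
import Cfsg.Agent.Fgs.SLFive
import Cfsg.Agent.Fgs.SLImprim

set_option autoImplicit false

open Subgroup CL.Odd CL.Grp
open scoped commutatorElement

namespace CL.SL

universe u

variable {G : Type u} [Group G] {V : Type*} [AddCommGroup V] [DistribMulAction G V] {p r : ℕ} {U E D : Subgroup G}
  {a d q t ta da db : G} {ξ η : V}

theorem exists_prime_order [Finite G] (hD : D ≠ ⊥) : ∃ r : ℕ, r.Prime ∧ ∃ d ∈ D, d ≠ 1 ∧ d ^ r = 1 := by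
  obtain ⟨r, hr, h1⟩ := Nat.exists_prime_and_dvd (mt card_eq_one.1 hD)
  haveI := Fact.mk hr
  obtain ⟨d, h2⟩ := exists_prime_orderOf_dvd_card' r h1
  rw [← Subgroup.orderOf_coe] at h2
  exact ⟨r, hr, d, d.2, fun h3 => hr.one_lt.ne' (by rw [← h2, h3, orderOf_one]), h2 ▸ pow_orderOf_eq_one _⟩

namespace Setup

variable [Finite G] (h : Setup V p U E) (m : Mx E D ξ)
include h m

theorem exists_pl (hr : r.Prime) (hd : d ∈ D) (h1 : d ≠ 1) (h2 : d ^ r = 1) : ∃ t, Pl E D r t d := by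
  have hE := m.le hd
  obtain ⟨t, ht, h3, h4⟩ := h.exists_partner hr hE (fun hU => h1 (eq_one_of_inf (h.disj m) hd hU)) (h2 ▸ U.one_mem)
  by_cases h5 : r ≠ 2 ∨ 4 ∣ Nat.card U
  · obtain ⟨u, hu, e⟩ := h.exists_pow_eq_one hr h5 ht h3
    exact ⟨_, hr, E.mul_mem ht (h.le hu), e, hd, by rwa [h.comm_mul_right hE ht (h.le hu), h.comm_U_right hE hu, mul_one]⟩
  push Not at h5
  obtain ⟨rfl, h5⟩ := h5
  have hz := h.comm d hE t ht
  have z2 : ⁅d, t⁆ ^ 2 = 1 := by rw [← h.comm_pow_left hE ht, h2]; simp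
  obtain ⟨k, hk⟩ : ∃ k, Nat.card U = 2 * (2 * k + 1) := by
    have := orderOf_eq_prime z2 h4 ▸ orderOf_dvd_natCard U hz
    exact ⟨Nat.card U / 4, by omega⟩
  have hs := pow_mem ht (2 * k + 1)
  have e1 : ⁅d, t ^ (2 * k + 1)⁆ = ⁅d, t⁆ := by rw [h.comm_pow_right hE ht, pow_succ, pow_mul, z2, one_pow, one_mul]
  obtain ⟨j, -, e2⟩ := h.exists_pow_eq hr hz h4 z2 (x := (t ^ (2 * k + 1)) ^ 2) (pow_right_comm t 2 _ ▸ pow_mem h3 _) (by
    rw [pow_right_comm t, ← pow_mul (t ^ 2), mul_comm _ 2, ← hk]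
    exact congrArg Subtype.val (pow_card_eq_one' (x := (⟨_, h3⟩ : U))))
  refine ⟨t ^ (2 * k + 1) * d ^ j, hr, E.mul_mem hs (pow_mem hE j), ?_, hd, ?_⟩
  · rw [h.mul_pow hs (pow_mem hE j), e2, pow_right_comm d, h2, h.comm_pow_left hE hs, e1, one_pow, mul_one, Nat.choose_self,
      pow_one, ← sq, pow_right_comm, z2, one_pow]
  · rwa [h.comm_mul_right hE hs (pow_mem hE j), h.comm_pow_right hE hE, e1, commutatorElement_self, one_pow, mul_one]

theorem exists_hyp (l : Pl E D 2 ta da) (h1 : da ^ 2 = 1) (hb : db ∈ D ⊓ C1[ta]) (h2 : db ≠ 1) (h3 : db ^ 2 = 1) :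
    ∃ tb, Hyp E ⁅da, ta⁆ ta tb da db := by
  obtain ⟨t, l'⟩ := h.exists_pl m Nat.prime_two hb.1 h2 h3
  have ha := m.le l.hd
  have hd := m.le hb.1
  have hz := h.comm da ha ta l.ht
  have z2 : ⁅da, ta⁆ ^ 2 = 1 := by rw [← h.comm_pow_left ha l.ht, h1]; simp
  have c34 : ⁅da, db⁆ = 1 := comm_iff.2 (mem_centralizer_iff.1 (h.le_cent m hb.1) _ l.hd)
  have c41 : ⁅db, ta⁆ = 1 := comm_iff.2 (mem_cent1.1 hb.2).symm
  have zz : ∀ i : ℕ, ⁅da, ta⁆ ^ i * ⁅da, ta⁆ ^ i = 1 := fun i => by rw [← sq, pow_right_comm, z2, one_pow]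
  have key : ∀ {x}, x ∈ U → x ^ 2 = 1 → ∃ i : ℕ, x = ⁅da, ta⁆ ^ i := fun h1 h2 =>
    (h.exists_pow_eq Nat.prime_two hz l.ne z2 h1 h2).imp fun _ h => h.2
  obtain ⟨i, ei⟩ := key (h.comm da ha t l'.ht) (by rw [← h.comm_pow_left ha l'.ht, h1]; simp)
  have e0 := h.eq_invol hz l.ne z2 (h.comm db hd t l'.ht) l'.ne (by rw [← h.comm_pow_left hd l'.ht, h3]; simp)
  have hi := pow_mem l.ht i
  have h4 := E.mul_mem l'.ht hi
  have e1 : ⁅da, t * ta ^ i⁆ = 1 := by rw [h.comm_mul_right ha l'.ht hi, h.comm_pow_right ha l.ht, ei, zz]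
  have e2 : ⁅db, t * ta ^ i⁆ = ⁅da, ta⁆ := by
    rw [h.comm_mul_right hd l'.ht hi, h.comm_pow_right hd l.ht, c41, one_pow, mul_one, e0]
  obtain ⟨k, e3⟩ : ∃ k : ℕ, (t * ta ^ i) ^ 2 = ⁅da, ta⁆ ^ k := by
    rw [h.mul_pow l'.ht hi, l'.pow, pow_right_comm, l.pow, one_pow, one_mul, one_mul, Nat.choose_self, pow_one]
    exact key (h.comm _ hi t l'.ht) (by rw [← h.comm_pow_right hi l'.ht, l'.pow]; simp)
  generalize t * ta ^ i = s at h4 e1 e2 e3
  obtain ⟨j, ej⟩ := key (h.comm ta l.ht s h4) (by rw [← h.comm_pow_left l.ht h4, l.pow]; simp)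
  have hj := pow_mem ha j
  have hk := pow_mem hd k
  have h5 := E.mul_mem h4 hj
  have e4 : ⁅db, s * da ^ j⁆ = ⁅da, ta⁆ := by
    rw [h.comm_mul_right hd h4 hj, h.comm_pow_right hd ha, comm_symm c34, one_pow, mul_one, e2]
  refine ⟨s * da ^ j * db ^ k, l.ne, l.ht, E.mul_mem h5 hk, ha, hd, l.pow, ?_, h1, h3, ?_, c34, rfl, ?_, ?_, c41⟩
  · rw [h.mul_pow h5 hk, h.mul_pow h4 hj, pow_right_comm da, pow_right_comm db, h1, h3, h.comm_pow_left ha h4,
      h.comm_pow_left hd h5, e1, e3, e4]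
    simpa using zz k
  · rw [h.comm_mul_right l.ht h5 hk, h.comm_mul_right l.ht h4 hj, h.comm_pow_right l.ht ha, h.comm_pow_right l.ht hd,
      comm_symm c41, ej, ← commutatorElement_inv da ta, inv_pow, mul_inv_cancel, one_pow, mul_one]
  · rw [h.comm_mul_right hd h5 hk, h.comm_pow_right hd hd, e4]; simp
  · rw [h.comm_mul_right ha h5 hk, h.comm_mul_right ha h4 hj, h.comm_pow_right ha ha, h.comm_pow_right ha hd, e1, c34]; simp

theorem generic (l : Pl E D 2 t d) (hp : Pin E D ξ a) (h1 : η ∈ span (E ⊓ C[D]) ξ) (h2 : η ≠ 0)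
    (hb : ∀ q ∈ E ⊓ C[D], q ^ 4 ∈ D → q • a • ξ ≠ η) : Base2 G V := by
  refine h.base_two m l hp rfl h1 h2 fun _ q hq e => hb q hq ?_
  have hz := h.comm q hq.1 t l.ht
  have e1 : (t * q) ^ 2 = q ^ 2 * ⁅q, t⁆ := by rw [h.mul_pow l.ht hq.1, l.pow]; simp
  have := pow_mem (h.mem_of_diag (f := ![a • ξ, η]) m l le_rfl
    (fun i => by fin_cases i; exacts [m.fx.smulc hp.1.2, span_fx inf_le_right m.fx h1]) (smul_ne a m.ne) h2
    (e1 ▸ mul_mem (pow_mem hq 2) (h.U_le_cent m.le hz)) (by rw [sq, mul_smul, e, e])).1 2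
  rwa [e1, h.mul_U_pow (pow_mem hq.1 2) hz, ← h.comm_pow_right hq.1 l.ht, l.pow, commutatorElement_one_right, mul_one,
    ← pow_mul] at this

theorem base_big (l : Pl E D 2 ta da) (hp : Pin E D ξ a) {z tb : G} (H : Hyp E z ta tb da db) (hb : db ∈ D) (p2 : p ≠ 2)
    (p3 : p ≠ 3) : Base2 G V := by
  have n : ∀ {v : V} (k : ℕ), v ≠ 0 → 2 ^ k • v ≠ 0 := fun k hv e => hv (h.eq_zero_of_nsmul
    (fun h1 => p2 ((Nat.prime_dvd_prime_iff_eq h.hp Nat.prime_two).1 (h.hp.dvd_of_dvd_pow h1))) e)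
  have gen := fun η => h.generic (η := η) m l hp
  have s0 : a • ξ ∈ span (E ⊓ C[D]) ξ := smul_mem_span hp.1
  have m' := m.of (smul_ne a m.ne) (m.fx.smulc hp.1.2)
  generalize a • ξ = x at gen s0 m'
  by_cases h1 : ∀ q ∈ E ⊓ C[D], q ^ 4 ∈ D → q • x ≠ x + x
  · exact gen _ (add_mem s0 s0) (by simpa [two_nsmul] using n 1 m'.ne) h1
  push Not at h1
  obtain ⟨q, hq, h1, e⟩ := h1
  have e4 : ∀ {q : G}, q • x = x + x → q ^ 4 • x = 16 • x := fun e => by
    simp only [pow_succ, pow_zero, one_mul, mul_smul, smul_add, e]; abel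
  obtain rfl : p = 5 := by
    by_contra h2
    refine m'.ne (h.eq_zero_of_nsmul (n := 3 * 5) (fun h3 => ?_) ?_)
    · exact ((h.hp.dvd_mul).1 h3).elim (fun h4 => p3 ((Nat.prime_dvd_prime_iff_eq h.hp Nat.prime_three).1 h4))
        fun h4 => h2 ((Nat.prime_dvd_prime_iff_eq h.hp Nat.prime_five).1 h4)
    · have := (e4 e).symm.trans (m'.fx _ h1)
      linear_combination (norm := module) this
  by_cases h2 : ∃ s ∈ E ⊓ C[D], ⁅q, s⁆ ≠ 1
  · obtain ⟨s, hs, h2⟩ := h2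
    have k0 : ∀ s ∈ E ⊓ C[D], ⁅q, s⁆ ≠ 1 → q • s • x = -(2 • s • x) := fun s hs h3 => by
      rw [← mul_smul, mul_eq_comm, mul_smul, mul_smul, e, smul_add, two_nsmul]
      exact h.neg_of_sq (h.comm q hq.1 s hs.1) h3 (by
        rw [← h.comm_pow_left hq.1 hs.1, comm_iff.2 (h.comm_sup m (h.sq_mem m hq) hs)]) _
    have k1 := k0 s hs h2
    have k2 : q • (x + s • x) ≠ 2 • (x + s • x) := fun e1 => n 2 (smul_ne s m'.ne) (by
      rw [smul_add, e, k1] at e1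
      generalize s • x = y at e1
      linear_combination (norm := module) -e1)
    have k3 : q • (x + s • x) ≠ -(2 • (x + s • x)) := fun e1 => n 2 m'.ne (by
      rw [smul_add, e, k1] at e1
      generalize s • x = y at e1
      linear_combination (norm := module) e1)
    exact gen (x + s • x) (add_mem s0 (span_smul hs s0)) (fun e1 => k2 (by simp [e1])) fun w hw _ e1 =>
      k3 (e1 ▸ k0 w hw fun e2 => k2 (by rw [← e1, ← mul_smul, comm_iff.1 e2, mul_smul, e, smul_add, two_nsmul]))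
  push Not at h2
  obtain ⟨d, hd, u, hu, rfl⟩ := h.mem_sup_iff.1 (h.mem_of_comm_cent le_sup_right ((h.sup_le_cent m).trans inf_le_left) hq.1
    fun s hs => comm_iff.1 (h2 s ⟨hs.1, centralizer_le (SetLike.coe_subset_coe.2 le_sup_left) hs.2⟩))
  rw [← h.cent u hu d (m.le hd), mul_smul, m'.fx d hd] at e
  have u4 : u ^ 4 = 1 := h.eq_one (pow_mem hu 4) m'.ne (by
    rw [e4 e]; linear_combination (norm := module) 3 • h.pv x)
  have u2 : u ^ 2 ≠ 1 := fun h3 => m'.ne (h.eq_zero_of_nsmul (n := 3) (by decide) (by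
    have := congrArg (· • x) h3
    simp only [sq, mul_smul, smul_add, e, one_smul] at this
    linear_combination (norm := module) this))
  have hQ : E ⊓ C[D] ≤ D ⊔ U := fun s => h.mem_of_four m
    ((show orderOf u = 4 from orderOf_eq_prime_pow (p := 2) (n := 1) (by simpa using u2) u4) ▸ orderOf_dvd_natCard U hu)
  by_cases h3 : ∃ w ∈ U, w ^ 4 ≠ 1
  · obtain ⟨w, hw, h3⟩ := h3
    refine gen (w • x) (span_smul (h.U_le_cent m.le hw) s0) (smul_ne w m'.ne) fun s hs h4 e1 => h3 ?_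
    have := pow_mem (m'.mem (E.mul_mem hs.1 (E.inv_mem (h.le hw))) (by
      rw [← h.cent _ (U.inv_mem hw) s hs.1, mul_smul, e1, inv_smul_smul])) 4
    rw [h.mul_U_pow hs.1 (U.inv_mem hw), D.mul_mem_cancel_left h4, inv_pow, inv_mem_iff] at this
    exact eq_one_of_inf (h.disj m) this (pow_mem hw 4)
  push Not at h3
  refine h.base_five m' H l.hd hb hQ hu e fun w hw => ?_
  have key := fun {x} => h.exists_pow_eq (x := x) Nat.prime_two (pow_mem hu 2) u2 (by rw [← pow_mul, u4])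
  obtain ⟨j, hj, e1⟩ := key (pow_mem hw 2) (by rw [← pow_mul, h3 w hw])
  obtain ⟨k, hk, e2⟩ := key (U.mul_mem hw (U.inv_mem (pow_mem hu j))) (by
    rw [h.mul_U_pow (h.le hw) (U.inv_mem (pow_mem hu j)), e1, inv_pow, pow_right_comm, mul_inv_cancel])
  exact ⟨2 * k + j, by omega, by rw [pow_add, pow_mul, ← e2, inv_mul_cancel_right]⟩

omit m in
theorem base2 [Finite V] [Nontrivial V] (hc : Cond G V) : Base2 G V := by
  obtain ⟨D, ξ, m⟩ := exists_mx (V := V) E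
  obtain ⟨ξ, m, a, hp⟩ := h.pin m
  have hV : p ∣ Nat.card V := by
    haveI := Fact.mk h.hp
    exact addOrderOf_eq_prime (h.pv ξ) m.ne ▸ addOrderOf_dvd_natCard ξ
  have h6 : (Nat.card V).Coprime 6 → p ≠ 2 ∧ p ≠ 3 := fun h1 => by
    have := Nat.Coprime.coprime_dvd_left hV h1
    constructor <;> rintro rfl <;> exact absurd this (by decide)
  have hG : ∀ {r t d}, Pl E D r t d → r ∣ Nat.card G := fun l => h.order m l ▸ orderOf_dvd_natCard _
  by_cases h1 : ∃ r : ℕ, r.Prime ∧ r ≠ 2 ∧ ∃ d ∈ D, d ≠ 1 ∧ d ^ r = 1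
  · obtain ⟨r, hr, r2, d, hd, h1, h2⟩ := h1
    obtain ⟨t, l⟩ := h.exists_pl m hr hd h1 h2
    by_cases h3 : 5 ≤ r ∨ p ≠ 2
    · exact h.base_odd m l hp r2 (by tauto)
    push Not at h3
    obtain rfl : r = 3 := by
      have := hr.two_le
      obtain ⟨k, rfl⟩ := hr.odd_of_ne_two r2
      omega
    have h4 : Odd (Nat.card G) := (hc.resolve_right fun h4 => h4.elim (fun h4 => h4 (hG l)) fun h4 => (h6 h4).1 h3.2)
    by_cases h5 : D ⊓ C1[t] = ⊥
    exacts [h.base_odd m l hp r2 (by tauto), h.base_three m l hp r2 h4 h5]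
  have key : ∀ A ≤ D, A ≠ ⊥ → ∃ d ∈ A, d ≠ 1 ∧ d ^ 2 = 1 := fun A hA h2 => by
    obtain ⟨r, hr, d, hd, h3⟩ := exists_prime_order h2
    obtain rfl : r = 2 := by_contra fun h4 => h1 ⟨r, hr, h4, d, hA hd, h3⟩
    exact ⟨d, hd, h3⟩
  by_cases h2 : D = ⊥
  · exact h.base_of_dlc m hp (by simp [h2, SetLike.le_def, mem_centralizer_iff])
  obtain ⟨da, ha, h3, h4⟩ := key D le_rfl h2
  obtain ⟨ta, l⟩ := h.exists_pl m Nat.prime_two ha h3 h4
  by_cases h5 : D ⊓ C1[ta] = ⊥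
  · exact h.base_two m l hp rfl self_mem_span m.ne fun h => (h h5).elim
  obtain ⟨db, hb, h7, h8⟩ := key _ inf_le_left h5
  obtain ⟨tb, H⟩ := h.exists_hyp m l h4 hb h7 h8
  obtain h9 | h9 | h9 := hc
  · exact absurd (even_iff_two_dvd.2 (hG l)) (Nat.not_even_iff_odd.2 h9)
  · exact h.base_four m H ha hb.1 h9
  · exact h.base_big m l hp H hb.1 (h6 h9).1 (h6 h9).2

end Setup

theorem primStep : PrimStep.{u} := fun G V _ _ _ _ _ hs hi _ ha => by
  obtain h0 | h0 := subsingleton_or_nontrivial V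
  · exact ⟨⟨0, fun _ _ _ => Subsingleton.elim _ _⟩, fun _ => ⟨0, fun _ _ _ => Subsingleton.elim _ _⟩⟩
  obtain ⟨p, U, E, h⟩ := exists_setup hs hi ha
  obtain ⟨a, b, c, h3⟩ := h.reg3
  refine ⟨⟨![a, b, c], fun g hg v => by rw [h3 g (hg 0) (hg 1) (hg 2), one_smul]⟩, fun hc => ?_⟩
  obtain ⟨x, y, h2⟩ := h.base2 hc
  exact ⟨![x, y], fun g hg v => by rw [h2 g (hg 0) (hg 1), one_smul]⟩

/-- a solvable completely reducible linear group has a base of size three, and of size two when its order is odd or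
prime to three, or the characteristic is at least five -/
theorem baseThm : BaseThm.{u} := baseThm_of primStep

end CL.SL
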