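/-
Vector stabilisers of bounded derived length in solvable linear groups: definitions and the statements of the steps.
-/
import Cfsg.Agent.Fgs.SLMain
import Cfsg.Agent.Fgs.SLApply

set_option autoImplicit false
set_option linter.style.haveILetI false

open Subgroup CL.Odd CL.Grp
open scoped commutatorElement

namespace CL.SL.Vc

universe u

section Dr

variable {G G' : Type*} [Group G] [Group G']

/-- the derived series of a subgroup, inside the ambient group -/
def dr (H : Subgroup G) : ℕ → Subgroup G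
  | 0 => H
  | k + 1 => ⁅dr H k, dr H k⁆

@[simp] theorem dr_zero (H : Subgroup G) : dr H 0 = H := rfl

theorem dr_succ (H : Subgroup G) (k : ℕ) : dr H (k + 1) = ⁅dr H k, dr H k⁆ := rfl

theorem dr_mono {H K : Subgroup G} (h : H ≤ K) (k : ℕ) : dr H k ≤ dr K k := by
  induction k with
  | zero => exact h
  | succ k ih => exact commutator_mono ih ih

theorem dr_add (H : Subgroup G) (a b : ℕ) : dr H (a + b) = dr (dr H a) b := by
  induction b with
  | zero => rfl
  | succ b ih => rw [← add_assoc, dr_succ, dr_succ, ih]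

theorem dr_le (H : Subgroup G) (k : ℕ) : dr H k ≤ H := by
  induction k with
  | zero => exact le_rfl
  | succ k ih => exact (commutator_le_self _).trans ih

theorem dr_anti (H : Subgroup G) {a b : ℕ} (h : a ≤ b) : dr H b ≤ dr H a := by
  obtain ⟨c, rfl⟩ := Nat.exists_eq_add_of_le h
  rw [dr_add]; exact dr_le _ _

theorem dr_map (H : Subgroup G) (f : G →* G') (k : ℕ) : (dr H k).map f = dr (H.map f) k := by
  induction k with
  | zero => rfl
  | succ k ih => rw [dr_succ, dr_succ, map_commutator, ih]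

theorem mem_dr_map {H : Subgroup G} {K : Subgroup G'} (f : G →* G') (h : ∀ g ∈ H, f g ∈ K) {k : ℕ} {g : G}
    (hg : g ∈ dr H k) : f g ∈ dr K k :=
  dr_mono (map_le_iff_le_comap.2 h) k (dr_map H f k ▸ mem_map_of_mem f hg)

theorem dr_trans {H K : Subgroup G} {a : ℕ} (h : dr H a ≤ K) (b : ℕ) : dr H (a + b) ≤ dr K b :=
  dr_add H a b ▸ dr_mono h b

theorem dr_top (k : ℕ) : dr (⊤ : Subgroup G) k = derivedSeries G k := by
  induction k with
  | zero => rfl
  | succ k ih => rw [dr_succ, derivedSeries_succ, ih]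

theorem exists_of_mem_dr {H : Subgroup G} {k : ℕ} {g : G} (hg : g ∈ dr H k) :
    ∃ x : H, x ∈ dr (⊤ : Subgroup H) k ∧ (x : G) = g := by
  rw [← H.range_subtype, MonoidHom.range_eq_map, ← dr_map] at hg
  exact hg

end Dr

section Defs

variable {G : Type*} [Group G]

/-- `H` acts trivially -/
def Tv (Ω : Type*) [MulAction G Ω] (H : Subgroup G) : Prop := ∀ g ∈ H, ∀ w : Ω, g • w = w

theorem Tv.anti {Ω : Type*} [MulAction G Ω] {H K : Subgroup G} (h : Tv Ω H) (hK : K ≤ H) : Tv Ω K :=
  fun g hg => h g (hK hg)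

/-- the kernel of the action -/
abbrev Kr (G : Type*) [Group G] (Ω : Type*) [MulAction G Ω] : Subgroup G := (MulAction.toPermHom G Ω).ker

theorem mem_Kr {Ω : Type*} [MulAction G Ω] {g : G} : g ∈ Kr G Ω ↔ ∀ w : Ω, g • w = w := Equiv.ext_iff

theorem tv_iff {Ω : Type*} [MulAction G Ω] {H : Subgroup G} : Tv Ω H ↔ H ≤ Kr G Ω :=
  forall₂_congr fun _ _ => mem_Kr.symm

theorem tv_quot {L H : Subgroup G} : Tv (G ⧸ L) H ↔ H ≤ L.normalCore := by rw [tv_iff, normalCore_eq_ker]

variable (G) (V : Type*) [AddCommGroup V] [DistribMulAction G V]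

/-- the `k`-th derived subgroup of the stabiliser acts trivially -/
def Gd (k : ℕ) (v : V) : Prop := Tv V (dr (MulAction.stabilizer G v) k)

/-- `c` inequivalent good vectors -/
def PP (k c : ℕ) : Prop := ∃ x : Fin c → V, (∀ i, Gd G V k (x i)) ∧ ∀ i j (g : G), g • x i = x j → i = j

/-- the statement that passes through the induction -/
def Good : Prop := PP G V 9 5 ∨ PP G V 8 4 ∨ PP G V 7 3 ∨ PP G V 6 2

/-- `n` inequivalent colourings with `m` colours whose stabilisers have derived length at most `a` -/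
def Col (Ω : Type*) [MulAction G Ω] (m a n : ℕ) : Prop :=
  ∃ c : Fin n → Ω → Fin m, (∀ i (H : Subgroup G), (∀ h ∈ H, ∀ ω, c i (h • ω) = c i ω) → Tv Ω (dr H a)) ∧
    ∀ i j (h : G), (∀ ω, c j (h • ω) = c i ω) → i = j

/-- the fixed vectors of an element -/
abbrev fx (g : G) : AddSubgroup V := fixV V (zpowers g)

end Defs

/-- bound for the derived length of an irreducible group on `n < 2 ^ 18` vectors -/
def del (n : ℕ) : ℕ :=
  if n ≤ 2 then 0 else if n ≤ 3 then 1 else if n ≤ 8 then 2 else if n ≤ 63 then 4 else if n < 4096 then 6 else 8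

/-- bound for the derived length of a solvable group on `n ≤ 7` points -/
def pid (n : ℕ) : ℕ := if n ≤ 1 then 0 else if n ≤ 2 then 1 else if n ≤ 3 then 2 else 3

/-- (AFF) a solvable primitive group is affine -/
def AffThm : Prop := ∀ (G : Type u) [Group G] [Finite G], Group.IsSolvable G → ∀ L : Subgroup G, IsCoatom L →
  ∃ (A : Type u) (_ : AddCommGroup A) (_ : Finite A) (_ : DistribMulAction G A) (τ : A → G ⧸ L), Irr G A ∧
    Nat.card A = L.index ∧ ⁅Kr G A, Kr G A⁆ ≤ L.normalCore ∧ Kr G A ⊓ L ≤ L.normalCore ∧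
      ∀ h ∈ L, ∀ a, h • τ a = τ a → h • a = a

/-- (DL) derived length of small irreducible groups -/
def DLThm : Prop := ∀ (G V : Type u) [Group G] [Finite G] [AddCommGroup V] [Finite V] [DistribMulAction G V],
  Group.IsSolvable G → Irr G V → Nat.card V < 2 ^ 18 → Tv V (dr (⊤ : Subgroup G) (del (Nat.card V)))

/-- (IDX) solvable groups on at most seven points -/
def IdxThm : Prop := ∀ (G : Type u) (Ω : Type u) [Group G] [Finite G] [MulAction G Ω], Group.IsSolvable G →
  ∀ (H : Subgroup G) (T : Set Ω), T.Finite → T.ncard ≤ 7 → (∀ h ∈ H, ∀ ω ∈ T, h • ω ∈ T) →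
    ∀ g ∈ dr H (pid T.ncard), ∀ ω ∈ T, g • ω = ω

/-- (COL) colourings for solvable primitive groups -/
def ColThm : Prop := ∀ (G : Type u) [Group G] [Finite G], Group.IsSolvable G → ∀ L : Subgroup G, IsCoatom L →
  Col G (G ⧸ L) 5 0 5 ∧ Col G (G ⧸ L) 4 1 5 ∧ Col G (G ⧸ L) 3 2 5 ∧
    (Col G (G ⧸ L) 2 1 3 ∨ Col G (G ⧸ L) 2 2 4 ∨ Col G (G ⧸ L) 2 3 5)

/-- quantification over the primitive set-up -/
def AllS (P : ∀ (G V : Type u) [Group G] [AddCommGroup V] [DistribMulAction G V], Subgroup G → Subgroup G → Prop) :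
    Prop :=
  ∀ (G V : Type u) [Group G] [Finite G] [AddCommGroup V] [Finite V] [Nontrivial V] [DistribMulAction G V],
    Group.IsSolvable G → ∀ (p : ℕ) (U E : Subgroup G), Setup V p U E → P G V U E

/-- (MID) few orbits -/
def MidThm : Prop := AllS.{u} fun G V _ _ _ U E => 16 < U.relIndex E → dr (⊤ : Subgroup G) 6 ≤ E →
  PP G V 7 3 ∨ PP G V 6 2

/-- (BIG) many orbits -/
def BigThm : Prop := AllS.{u} fun G V _ _ _ U E => 4096 ≤ U.relIndex E →
  (U.relIndex E < 2 ^ 18 → dr (⊤ : Subgroup G) 8 ≤ E) → PP G V 9 5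

/-- (AB) small irreducible groups of odd order are abelian -/
def AbThm : Prop := ∀ (G V : Type u) [Group G] [Finite G] [AddCommGroup V] [Finite V] [DistribMulAction G V],
  Group.IsSolvable G → Odd (Nat.card G) → Irr G V → Nat.card V ∈ [9, 25, 49, 81, 121] →
    Tv V (dr (⊤ : Subgroup G) 1)

/-- (ODD) the primitive case for odd order -/
def OddThm : Prop := AllS.{u} fun G V _ _ _ _ _ => Odd (Nat.card G) → Odd (Nat.card V) → ∃ v : V, Gd G V 1 v

/-- an action on a group of prime order is abelian -/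
theorem tv_prime {G V : Type*} [Group G] [AddCommGroup V] [DistribMulAction G V] (h : (Nat.card V).Prime) :
    Tv V (dr (⊤ : Subgroup G) 1) := by
  haveI := Fact.mk h
  haveI : IsAddCyclic V := isAddCyclic_of_prime_card rfl
  obtain ⟨v, hv⟩ := IsAddCyclic.exists_generator (α := V)
  have key : ∀ g : G, ∃ k : ℤ, ∀ w : V, g • w = k • w := fun g => by
    obtain ⟨k, hk⟩ := hv (g • v)
    refine ⟨k, fun w => ?_⟩
    obtain ⟨l, rfl⟩ := hv w
    dsimp only at hk ⊢
    rw [smul_comm k l v, hk]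
    exact map_zsmul (DistribSMul.toAddMonoidHom V g) l v
  refine tv_iff.2 (commutator_le.2 fun a _ b _ => mem_Kr.2 fun w => ?_)
  obtain ⟨k, hk⟩ := key a
  obtain ⟨l, hl⟩ := key b
  obtain ⟨w, rfl⟩ := MulAction.surjective (b * a) w
  dsimp only
  rw [← mul_smul, show ⁅a, b⁆ * (b * a) = a * b by simp [commutatorElement_def, mul_assoc], mul_smul, mul_smul,
    hk, hl, hl, hk, smul_comm]

end CL.SL.Vc
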