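/-
Vector stabilisers of bounded derived length: completely reducible modules, the section `E / U` as a module.
-/
import Cfsg.Agent.Fgs.VcDefs
import Cfsg.Agent.Grp.Supersolv

set_option autoImplicit false
set_option linter.style.haveILetI false

open Subgroup CL.Odd CL.Grp
open scoped commutatorElement

namespace CL.SL.Vc

universe u

section Mod

variable {G V : Type*} [Group G] [AddCommGroup V] [DistribMulAction G V]

theorem cr_of_irr (h : Irr G V) : CR G V := fun U hU => by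
  rcases h U hU with rfl | rfl
  · exact ⟨⊤, fun _ _ _ => trivial, by simp, by simp⟩
  · exact ⟨⊥, fun g v hv => by rw [AddSubgroup.mem_bot.1 hv, smul_zero]; exact zero_mem _, by simp, by simp⟩

theorem card_mul_of_compl {Z W : AddSubgroup V} (hi : Z ⊓ W = ⊥) (hs : Z ⊔ W = ⊤) :
    Nat.card Z * Nat.card W = Nat.card V := by
  rw [← Nat.card_prod]
  refine Nat.card_eq_of_bijective (fun x => (x.1 : V) + x.2) ⟨fun x y e => ?_, fun v => ?_⟩
  · dsimp only at e
    have h1 : (x.1 : V) - y.1 = 0 := by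
      rw [← AddSubgroup.mem_bot, ← hi]
      refine AddSubgroup.mem_inf.2 ⟨sub_mem x.1.2 y.1.2, ?_⟩
      rw [show (x.1 : V) - y.1 = y.2 - x.2 by linear_combination (norm := abel) e]
      exact sub_mem y.2.2 x.2.2
    have h2 := sub_eq_zero.1 h1
    rw [h2, add_right_inj] at e
    exact Prod.ext (Subtype.ext h2) (Subtype.ext e)
  · obtain ⟨z, hz, w, hw, rfl⟩ := AddSubgroup.mem_sup.1 (hs ▸ AddSubgroup.mem_top v : v ∈ Z ⊔ W)
    exact ⟨(⟨z, hz⟩, ⟨w, hw⟩), rfl⟩

/-- induction along a decomposition into irreducible constituents -/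
theorem cr_ind [Finite V] (hcr : CR G V) (P : AddSubgroup V → Prop) (h0 : P ⊥)
    (h : ∀ (Z W W' : AddSubgroup V) (hZ : Inv G V Z), Inv G V W' → (letI := subAct hZ; Irr G Z) → Z ≠ ⊥ →
      Z ⊓ W' = ⊥ → Z ⊔ W' = ⊤ → W ≤ W' → P W → P (Z ⊔ W)) : P ⊤ := by
  suffices H : ∀ Y : AddSubgroup V, Inv G V Y → P Y from H ⊤ fun _ _ _ => trivial
  intro Y
  induction Y using WellFoundedLT.induction with
  | ind Y ih =>
  intro hY
  by_cases h1 : Y = ⊥
  · exact h1 ▸ h0
  obtain ⟨Z, hZY, hZ⟩ := exists_minimal_le_of_wellFoundedLT (fun Z : AddSubgroup V => Inv G V Z ∧ Z ≠ ⊥) Y ⟨hY, h1⟩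
  obtain ⟨W, hW, hi, hs⟩ := hcr Z hZ.1.1
  have := h Z (W ⊓ Y) W hZ.1.1 hW (fun U hU => by
    by_cases hU0 : U = ⊥
    · exact Or.inl hU0
    · right
      have := hZ.2 (y := U.map Z.subtype) ⟨by
        rintro g _ ⟨w, hw, rfl⟩
        exact ⟨_, hU g w hw, rfl⟩, fun h' => hU0 ((AddSubgroup.map_eq_bot_iff_of_injective _ Z.subtype_injective).1 h')⟩
        (AddSubgroup.map_subtype_le _)
      refine eq_top_iff.2 fun w _ => ?_
      obtain ⟨w', hw', e⟩ := this w.2
      exact (Subtype.ext e : w' = w) ▸ hw') hZ.1.2 hi hs inf_le_left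
    (ih (W ⊓ Y) (lt_of_le_of_ne inf_le_right fun e => hZ.1.2 (by
      rw [← hi]; exact (inf_of_le_left (hZY.trans (e ▸ inf_le_left))).symm))
      fun g v hv => ⟨hW g v hv.1, hY g v hv.2⟩)
  rwa [← sup_inf_assoc_of_le _ hZY, hs, top_inf_eq] at this

theorem tv_of_cr [Finite V] (hcr : CR G V) {H : Subgroup G}
    (h : ∀ (Z W : AddSubgroup V) (hZ : Inv G V Z), Inv G V W → Nat.card Z * Nat.card W = Nat.card V →
      letI := subAct hZ; Irr G Z → Tv Z H) : Tv V H := by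
  have := cr_ind hcr (fun Y => ∀ g ∈ H, ∀ v ∈ Y, g • v = v)
    (fun g _ v hv => by rw [AddSubgroup.mem_bot.1 hv, smul_zero]) fun Z W W' hZ hW' hi _ h1 h2 _ ih g hg v hv => by
      obtain ⟨z, hz, w, hw, rfl⟩ := AddSubgroup.mem_sup.1 hv
      rw [smul_add, ih g hg w hw]
      exact congrArg (· + w) (congrArg Subtype.val (h Z W' hZ hW' (card_mul_of_compl h1 h2) hi g hg ⟨z, hz⟩))
  exact fun g hg v => this g hg v trivial

theorem gd_of_cr [Finite V] (hcr : CR G V) {k : ℕ}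
    (h : ∀ (Z : AddSubgroup V) (hZ : Inv G V Z), Z ≠ ⊥ → letI := subAct hZ; Irr G Z → ∃ v : Z, Gd G Z k v) :
    ∃ v : V, Gd G V k v := by
  obtain ⟨v, -, hv⟩ := cr_ind hcr (fun Y => ∃ v ∈ Y, ∀ g ∈ dr (MulAction.stabilizer G v) k, ∀ w ∈ Y, g • w = w)
    ⟨0, zero_mem _, fun g _ v hv => by rw [AddSubgroup.mem_bot.1 hv, smul_zero]⟩
    fun Z W W' hZ hW' hi h0 h1 _ hle ⟨y, hy, ih⟩ => by
      letI := subAct hZ
      obtain ⟨x, hx⟩ := h Z hZ h0 hi
      have e : ∀ g ∈ MulAction.stabilizer G (x + y : V), g • (x : V) = x := fun g hg => by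
        rw [← sub_eq_zero, ← AddSubgroup.mem_bot, ← h1]
        refine AddSubgroup.mem_inf.2 ⟨sub_mem (hZ g _ x.2) x.2, ?_⟩
        rw [MulAction.mem_stabilizer_iff, smul_add] at hg
        rw [show g • (x : V) - x = y - g • y by linear_combination (norm := abel) hg]
        exact sub_mem (hle hy) (hW' g _ (hle hy))
      refine ⟨x + y, add_mem (AddSubgroup.mem_sup_left x.2) (AddSubgroup.mem_sup_right hy), fun g hg v hv => ?_⟩
      obtain ⟨z, hz, w, hw, rfl⟩ := AddSubgroup.mem_sup.1 hv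
      rw [smul_add, ih g (dr_mono (fun a ha => ?_) k hg) w hw]
      · exact congrArg (· + w) (congrArg Subtype.val (hx g (dr_mono (fun a ha => Subtype.ext (e a ha)) k hg) ⟨z, hz⟩))
      · have := MulAction.mem_stabilizer_iff.1 ha
        rwa [smul_add, e a ha, add_right_inj] at this
  exact ⟨v, fun g hg w => hv g hg w trivial⟩

theorem card_pow_of_irr [Finite V] (h : Irr G V) : ∃ p k : ℕ, p.Prime ∧ Nat.card V = p ^ k := by
  obtain h0 | h0 := subsingleton_or_nontrivial V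
  · exact ⟨2, 0, Nat.prime_two, Nat.card_of_subsingleton 0⟩
  obtain ⟨p, hp, -, hV⟩ := h.exists_prime
  haveI := Fact.mk hp
  obtain ⟨k, hk⟩ := IsPGroup.iff_card.1 (show IsPGroup p (Multiplicative V) from fun v => ⟨1, by rw [pow_one]; exact hV v.toAdd⟩)
  exact ⟨p, k, hp, hk⟩

theorem index_Kr_le [Finite G] [Finite V] {k : ℕ} (h : Reg G V k) : (Kr G V).index ≤ Nat.card V ^ k := by
  obtain ⟨x, hx⟩ := h
  refine (index_antitone (H := MulAction.stabilizer G x) fun g hg => mem_Kr.2 (hx g (congrFun hg))).trans ?_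
  rw [MulAction.index_stabilizer]
  simpa [Nat.card_fun] using Set.ncard_le_card (MulAction.orbit G x)

theorem Gd.mono {k l : ℕ} {v : V} (h : Gd G V k v) (hl : k ≤ l) : Gd G V l v := h.anti (dr_anti _ hl)

theorem gd_of_bot {k : ℕ} {v : V} (h : dr (MulAction.stabilizer G v) k = ⊥) : Gd G V k v := fun g hg w => by
  rw [h, mem_bot] at hg
  rw [hg, one_smul]

theorem card_stab_eq {E : Subgroup G} (hE : E.Normal) {g : G} {v w : V} (e : g • v = w) :
    Nat.card (E ⊓ MulAction.stabilizer G v : Subgroup G) = Nat.card (E ⊓ MulAction.stabilizer G w : Subgroup G) := by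
  rw [← e, MulAction.stabilizer_smul_eq_stabilizer_map_conj, ← card_map_of_injective (f := (MulAut.conj g).toMonoidHom)
    (MulAut.conj g).injective, map_inf _ _ _ (MulAut.conj g).injective,
    show E.map (MulAut.conj g).toMonoidHom = E from Normal.map_conj_eq E g]

end Mod

variable {G : Type u} [Group G] {U E : Subgroup G}

/-- `N` is `E / U`, written additively -/
structure Sec (U E : Subgroup G) (N : Type*) [AddCommGroup N] [DistribMulAction G N] (ν : G → N) : Prop where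
  mul : ∀ a ∈ E, ∀ b ∈ E, ν (a * b) = ν a + ν b
  zero : ∀ a ∈ E, ν a = 0 ↔ a ∈ U
  surj : ∀ w, ∃ a ∈ E, ν a = w
  smul : ∀ g : G, ∀ a ∈ E, g • ν a = ν (g * a * g⁻¹)
  card : Nat.card N = U.relIndex E

theorem exists_sec [Finite G] (h : GS U E) :
    ∃ (N : Type u) (_ : AddCommGroup N) (_ : Finite N) (_ : DistribMulAction G N) (ν : G → N), Sec U E N ν := by
  classical
  haveI := h.nU
  haveI := h.nE
  letI : CommGroup (E ⧸ U.subgroupOf E) := { (inferInstance : Group _) with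
    mul_comm := fun x y => by
      obtain ⟨x, rfl⟩ := QuotientGroup.mk_surjective x
      obtain ⟨y, rfl⟩ := QuotientGroup.mk_surjective y
      rw [← QuotientGroup.mk_mul, ← QuotientGroup.mk_mul, QuotientGroup.eq, mem_subgroupOf]
      have : (((x * y)⁻¹ * (y * x) : E) : G) = ⁅(y : G)⁻¹, (x : G)⁻¹⁆ := by simp [commutatorElement_def, mul_assoc]
      exact this ▸ h.comm _ (E.inv_mem y.2) _ (E.inv_mem x.2) }
  let φ : G → (E ⧸ U.subgroupOf E →* E ⧸ U.subgroupOf E) := fun g =>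
    QuotientGroup.map _ _ (MulAut.conjNormal g : MulAut E).toMonoidHom fun x hx => h.nU.conj_mem _ hx g
  letI : DistribMulAction G (Additive (E ⧸ U.subgroupOf E)) :=
    { smul := fun g w => Additive.ofMul (φ g w.toMul)
      one_smul := fun w => by
        obtain ⟨x, hx⟩ := QuotientGroup.mk_surjective w.toMul
        change Additive.ofMul (φ 1 w.toMul) = Additive.ofMul w.toMul
        rw [← hx]; simp [φ]
      mul_smul := fun a b w => by
        obtain ⟨x, hx⟩ := QuotientGroup.mk_surjective w.toMul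
        change Additive.ofMul (φ (a * b) w.toMul) = Additive.ofMul (φ a (φ b w.toMul))
        rw [← hx]; simp [φ]
      smul_zero := fun g => congrArg Additive.ofMul (map_one _)
      smul_add := fun g x y => congrArg Additive.ofMul (map_mul _ x.toMul y.toMul) }
  refine ⟨Additive (E ⧸ U.subgroupOf E), inferInstance, inferInstance, inferInstance,
    fun a => if ha : a ∈ E then Additive.ofMul (QuotientGroup.mk ⟨a, ha⟩) else 0, fun a ha b hb => ?_, fun a ha => ?_,
    fun w => ?_, fun g a ha => ?_, rfl⟩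
  · rw [dif_pos ha, dif_pos hb, dif_pos (E.mul_mem ha hb)]; rfl
  · rw [dif_pos ha]; exact QuotientGroup.eq_one_iff (⟨a, ha⟩ : E)
  · obtain ⟨x, hx⟩ := QuotientGroup.mk_surjective w.toMul
    exact ⟨x, x.2, by rw [dif_pos x.2]; exact congrArg Additive.ofMul hx⟩
  · rw [dif_pos ha, dif_pos (h.nE.conj_mem a ha g)]; rfl

namespace Sec

variable {N : Type*} [AddCommGroup N] [DistribMulAction G N] {ν : G → N} (s : Sec U E N ν) {a : G}
include s

theorem one : ν 1 = 0 := (s.zero 1 E.one_mem).2 U.one_mem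

theorem inv (ha : a ∈ E) : ν a⁻¹ = -ν a := by
  rw [eq_neg_iff_add_eq_zero, ← s.mul _ (E.inv_mem ha) _ ha, inv_mul_cancel, s.one]

theorem zpow (ha : a ∈ E) (k : ℤ) : ν (a ^ k) = k • ν a :=
  map_zpow (MonoidHom.mk' (fun x : E => Multiplicative.ofAdd (ν x)) fun x y => s.mul _ x.2 _ y.2) ⟨a, ha⟩ k

theorem dl (g : G) (hE : E.Normal) (ha : a ∈ E) : ν (dl g a) = g • ν a - ν a := by
  rw [SL.dl, s.mul _ (E.inv_mem ha) _ (hE.conj_mem a ha g), s.inv ha, s.smul g a ha]; abel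

/-- the preimage of a subgroup of `N` -/
def pre (Y : AddSubgroup N) : Subgroup G where
  carrier := {a | a ∈ E ∧ ν a ∈ Y}
  one_mem' := ⟨E.one_mem, s.one ▸ Y.zero_mem⟩
  mul_mem' := fun ha hb => ⟨E.mul_mem ha.1 hb.1, s.mul _ ha.1 _ hb.1 ▸ Y.add_mem ha.2 hb.2⟩
  inv_mem' := fun ha => ⟨E.inv_mem ha.1, s.inv ha.1 ▸ Y.neg_mem ha.2⟩

/-- the image of a subgroup of `E` -/
def im (A : Subgroup G) : AddSubgroup N where
  carrier := {w | ∃ a ∈ E ⊓ A, ν a = w}
  zero_mem' := ⟨1, one_mem _, s.one⟩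
  add_mem' := by
    rintro _ _ ⟨a, ha, rfl⟩ ⟨b, hb, rfl⟩
    exact ⟨_, mul_mem ha hb, s.mul _ ha.1 _ hb.1⟩
  neg_mem' := by
    rintro _ ⟨a, ha, rfl⟩
    exact ⟨_, inv_mem ha, s.inv ha.1⟩

variable (h : GS U E)
include h

theorem pre_normal {Y : AddSubgroup N} (hY : Inv G N Y) : (s.pre Y).Normal :=
  ⟨fun a ha g => ⟨h.nE.conj_mem a ha.1 g, s.smul g a ha.1 ▸ hY g _ ha.2⟩⟩

theorem le_pre (Y : AddSubgroup N) : U ≤ s.pre Y := fun u hu => ⟨h.le hu, (s.zero u (h.le hu)).2 hu ▸ Y.zero_mem⟩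

theorem not_prime {Y : AddSubgroup N} (hY : Inv G N Y) : ¬ (Nat.card Y).Prime := fun hp => by
  haveI := Fact.mk hp
  haveI : IsAddCyclic Y := isAddCyclic_of_prime_card rfl
  obtain ⟨⟨y, hy⟩, hy'⟩ := IsAddCyclic.exists_generator (α := Y)
  obtain ⟨t, ht, rfl⟩ := s.surj y
  have key : ∀ a ∈ s.pre Y, ∃ k : ℤ, (t ^ k)⁻¹ * a ∈ U := fun a ha => by
    obtain ⟨k, hk⟩ := hy' ⟨_, ha.2⟩
    have h1 := zpow_mem ht k
    refine ⟨k, (s.zero _ (E.mul_mem (E.inv_mem h1) ha.1)).1 ?_⟩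
    rw [s.mul _ (E.inv_mem h1) _ ha.1, s.inv h1, s.zpow ht, neg_add_eq_zero]
    exact congrArg Subtype.val hk
  have := h.abn _ (s.pre_normal h hY) (s.le_pre h Y) (fun _ ha => ha.1) fun a ha b hb => by
    obtain ⟨k, hk⟩ := key a ha
    obtain ⟨l, hl⟩ := key b hb
    have c1 : Commute (t ^ k) b := by
      rw [← mul_inv_cancel_left (t ^ l) b]
      exact ((Commute.refl t).zpow_zpow k l).mul_right (h.cent _ hl _ (zpow_mem ht k)).symm
    rw [← mul_inv_cancel_left (t ^ k) a]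
    exact c1.mul_left (h.cent _ hk b hb.1)
  refine hp.one_lt.ne' (AddSubgroup.card_eq_one.2 (eq_bot_iff.2 fun w hw => ?_))
  obtain ⟨a, ha, rfl⟩ := s.surj w
  exact (s.zero a ha).2 (this ⟨ha, hw⟩)

theorem cr [Finite G] : CR G N := fun Y hY => by
  haveI := s.pre_normal h hY
  haveI := h.nE
  have hU : U ≤ C[s.pre Y] := fun u hu => mem_centralizer_iff.2 fun a ha => (h.cent u hu a ha.1).symm
  refine ⟨s.im C[s.pre Y], ?_, eq_bot_iff.2 ?_, eq_top_iff.2 fun w _ => ?_⟩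
  · rintro g _ ⟨a, ha, rfl⟩
    exact ⟨_, Normal.conj_mem inferInstance a ha g, (s.smul g a ha.1).symm⟩
  · rintro _ ⟨hw, a, ha, rfl⟩
    exact (s.zero a ha.1).2 (h.abn (s.pre Y ⊓ C[s.pre Y]) inferInstance (le_inf (s.le_pre h Y) hU) (fun _ hb => hb.1.1)
      (fun a ha b hb => mem_centralizer_iff.1 hb.2 a ha.1) ⟨⟨ha.1, hw⟩, ha.2⟩)
  · obtain ⟨t, ht, rfl⟩ := s.surj w
    have := h.mem_of_comm_cent (T := s.pre Y ⊔ E ⊓ C[s.pre Y]) ((s.le_pre h Y).trans le_sup_left)
      (sup_le (fun _ hb => hb.1) inf_le_left) ht fun q hq => (h.cent q (h.abn (E ⊓ C[s.pre Y ⊔ E ⊓ C[s.pre Y]])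
        inferInstance (fun u hu => ⟨h.le hu, mem_centralizer_iff.2 fun a ha =>
          (h.cent u hu a (sup_le (c := E) (fun _ hb => hb.1) inf_le_left ha)).symm⟩) inf_le_left (fun a ha b hb =>
          mem_centralizer_iff.1 hb.2 a (mem_sup_right ⟨ha.1, centralizer_le (SetLike.coe_subset_coe.2 le_sup_left) ha.2⟩))
          hq) t ht).symm
    obtain ⟨a, ha, b, hb, rfl⟩ := (mem_sup_of_le_normalizer le_normalizer_of_normal).1 this
    rw [s.mul a ha.1 b hb.1]
    exact add_mem (AddSubgroup.mem_sup_left ha.2) (AddSubgroup.mem_sup_right ⟨b, hb, rfl⟩)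

theorem ker_le [Finite G] : Kr G N ⊓ C[U] ≤ E := fun g hg =>
  h.mem_E_of_dl (fun a ha => (s.zero _ (h.dl_mem g ha)).1 (by rw [s.dl g h.nE ha, mem_Kr.1 hg.1, sub_self]))
    fun u hu => dl_of_comm (mem_centralizer_iff.1 hg.2 u hu).symm

theorem relIndex_le [Finite G] : E.relIndex C[U] ≤ (Kr G N).index := by
  refine (relIndex_le_of_le_left (s.ker_le h) index_ne_zero_of_finite).trans ?_
  rw [inf_relIndex_right]
  exact Nat.le_of_dvd (Nat.pos_of_ne_zero index_ne_zero_of_finite) (relIndex_dvd_index_of_normal _ _)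

end Sec

theorem dr_one_le (h : GS U E) : dr (⊤ : Subgroup G) 1 ≤ C[U] :=
  haveI := h.nU
  haveI := h.cyc
  commutator_le_centralizer_of_isCyclic U

/-- the derived length of `G / E` from the constituents of `E / U` -/
theorem sec_le [Finite G] (h : GS U E) {k : ℕ} (hk : 1 ≤ k)
    (H : ∀ (W : Type u) [AddCommGroup W] [Finite W] [DistribMulAction G W] (m : ℕ), Irr G W →
      Nat.card W * m = U.relIndex E → ¬ (Nat.card W).Prime → ¬ m.Prime → Tv W (dr (⊤ : Subgroup G) k)) :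
    dr (⊤ : Subgroup G) k ≤ E := by
  obtain ⟨N, _, _, _, ν, s⟩ := exists_sec h
  exact (le_inf (tv_iff.1 (tv_of_cr (s.cr h) fun Z W hZ hW e hi => letI := subAct hZ
    H Z _ hi (e.trans s.card) (s.not_prime h hZ) (s.not_prime h hW))) ((dr_anti _ hk).trans (dr_one_le h))).trans
      (s.ker_le h)

end CL.SL.Vc
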