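/-
Vector stabilisers of bounded derived length: orders and fixed vectors in the primitive set-up.
-/
import Cfsg.Agent.Fgs.VcSec

set_option autoImplicit false
set_option linter.style.haveILetI false

open Subgroup CL.Odd CL.Grp
open scoped commutatorElement

namespace CL.SL.Vc

universe u

variable {G : Type u} [Group G] [Finite G] {V : Type*} [AddCommGroup V] [DistribMulAction G V] {p r k : ℕ}
  {U E D : Subgroup G} {x : G} {v ξ : V}

theorem index_C_le (h : GS U E) : (C[U]).index ≤ Nat.card U := by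
  haveI := h.nU
  haveI := h.cyc
  have e : (MulAut.conjNormal : G →* MulAut U).ker = C[U] := by
    ext g
    simp only [MonoidHom.mem_ker, MulEquiv.ext_iff, Subtype.ext_iff, MulAut.conjNormal_apply, MulAut.one_apply,
      mem_centralizer_iff, mul_inv_eq_iff_eq_mul, Subtype.forall, SetLike.mem_coe]
    exact forall₂_congr fun _ _ => eq_comm
  haveI : Finite (MulAut U) := Finite.of_injective (fun f : MulAut U => (f : U → U)) DFunLike.coe_injective
  rw [← e, index_ker]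
  exact (card_le_card_group _).trans (IsCyclic.card_mulAut U ▸ Nat.totient_le _)

omit [Finite G] in
theorem card_E (h : GS U E) : Nat.card E = Nat.card U * U.relIndex E := by
  rw [← relIndex_bot_left, ← relIndex_bot_left U, relIndex_mul_relIndex _ _ _ bot_le h.le]

omit [Finite G] in
theorem card_C (h : GS U E) : Nat.card C[U] = Nat.card U * U.relIndex E * E.relIndex C[U] := by
  rw [← card_E h, ← relIndex_bot_left, ← relIndex_bot_left E, relIndex_mul_relIndex _ _ _ bot_le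
    fun a ha => mem_centralizer_iff.2 fun u hu => h.cent u hu a ha]

theorem card_C_le (h : GS U E) (hs : Group.IsSolvable G) : Nat.card C[U] ≤ Nat.card U * U.relIndex E ^ 4 := by
  obtain ⟨N, _, _, _, ν, s⟩ := exists_sec h
  rw [card_C h, pow_succ', ← mul_assoc, ← s.card]
  exact Nat.mul_le_mul_left _ ((s.relIndex_le h).trans (index_Kr_le (baseThm G N hs (s.cr h)).1))

theorem card_C_le_odd (h : GS U E) (hs : Group.IsSolvable G) (ho : Odd (Nat.card G)) :
    Nat.card C[U] ≤ Nat.card U * U.relIndex E ^ 3 := by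
  obtain ⟨N, _, _, _, ν, s⟩ := exists_sec h
  rw [card_C h, pow_succ', ← mul_assoc, ← s.card]
  exact Nat.mul_le_mul_left _ ((s.relIndex_le h).trans (index_Kr_le ((baseThm G N hs (s.cr h)).2 (Or.inl ho))))

theorem card_G_le (h : GS U E) (hs : Group.IsSolvable G) : Nat.card G ≤ Nat.card U ^ 2 * U.relIndex E ^ 4 := by
  rw [← (C[U]).index_mul_card, sq, mul_assoc]
  exact Nat.mul_le_mul (index_C_le h) (card_C_le h hs)

theorem prime_dvd_U (h : GS U E) (hr : r.Prime) (hd : r ∣ U.relIndex E) : r ∣ Nat.card U := by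
  obtain ⟨N, _, _, _, ν, s⟩ := exists_sec h
  haveI := Fact.mk hr
  obtain ⟨w, hw⟩ := exists_prime_addOrderOf_dvd_card' r (s.card ▸ hd)
  obtain ⟨a, ha, rfl⟩ := s.surj w
  rw [← hw, addOrderOf_dvd_iff_nsmul_eq_zero, ← natCast_zsmul, ← s.zpow ha, zpow_natCast]
  exact (s.zero _ (pow_mem ha _)).2 (h.pow_card_mem ha)

theorem relIndex_cent (h : GS U E) (hD : D ≤ E) : (C[D]).relIndex E = U.relIndex D := by
  rw [le_antisymm (h.pair_le le_rfl hD) (h.pair_le hD le_rfl), ← inf_relIndex_right, ← inf_relIndex_right U]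
  congr 1
  exact le_antisymm (fun x hx => ⟨h.self x fun a ha => (mem_centralizer_iff.1 hx.1 a ha).symm, hx.2⟩)
    fun x hx => ⟨mem_centralizer_iff.2 fun a ha => (h.cent x hx.1 a ha).symm, hx.2⟩

omit [Finite G] in
theorem dr_two_bot (h : GS U E) {H : Subgroup G} (hk : dr H k ≤ E) : dr H (k + 2) = ⊥ := by
  have h1 : dr H (k + 1) ≤ U := commutator_le.2 fun a ha b hb => h.comm a (hk ha) b (hk hb)
  exact eq_bot_iff.2 (commutator_le.2 fun a ha b hb => mem_bot.2 (h.comm_U_left (h1 ha) (h.le (h1 hb))))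

omit [Finite G] in
theorem gd_of_reg (hk : dr (⊤ : Subgroup G) k ≤ E) (hv : E ⊓ MulAction.stabilizer G v = ⊥) : Gd G V k v :=
  gd_of_bot (eq_bot_iff.2 (hv ▸ le_inf ((dr_mono le_top k).trans hk) (dr_le _ k)))

variable (h : Setup V p U E)
include h

omit [Finite G] in
theorem gd_succ (hk : dr (⊤ : Subgroup G) k ≤ E) (hv : v ≠ 0) : Gd G V (k + 1) v :=
  gd_of_bot (eq_bot_iff.2 fun _ hg => mem_bot.2 (h.eq_one (commutator_le.2 (fun a ha b hb =>
    h.comm a (hk (dr_mono le_top k ha)) b (hk (dr_mono le_top k hb))) hg) hv (dr_le _ (k + 1) hg)))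

variable [Finite V]

omit [Finite G] in
theorem card_U_dvd : Nat.card U ∣ Nat.card V - 1 := by
  have := card_dvd_card_of_free_on (A := U) ({0}ᶜ : Set V) (fun a x hx => smul_ne (a : G) hx) fun a x hx e =>
    Subtype.ext (h.eq_one a.2 hx e)
  rwa [Nat.card_coe_set_eq, Set.ncard_compl, Set.ncard_singleton] at this

/-- the weight spaces of `D` are independent -/
theorem fix_pow_le (hD : D ≤ E) : Nat.card (fixV V D) ^ U.relIndex D ≤ Nat.card V := by
  classical
  rw [← relIndex_cent h.toGS hD]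
  haveI := Fintype.ofFinite (E ⧸ (C[D]).subgroupOf E)
  rw [relIndex, index, ← Nat.card_fun]
  have inj : ∀ i j : E ⧸ (C[D]).subgroupOf E, ((i.out : E) : G)⁻¹ * (j.out : E) ∈ C[D] → i = j := fun i j hc => by
    rw [← i.out_eq, ← j.out_eq]; exact QuotientGroup.eq.2 hc
  refine Nat.card_le_card_of_injective (fun f => ∑ i, ((i.out : E) : G) • (f i : V)) fun f f' e => funext fun i => ?_
  by_contra hne
  obtain ⟨j, -⟩ := h.rep_unique hD (κ := Empty) (t' := Empty.elim) (η' := Empty.elim)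
    (η := fun i : E ⧸ (C[D]).subgroupOf E => ((i.out : E) : G) • ((f i : V) - f' i)) (fun i => i.out.2)
    (fun i => Fx.blk (f i - f' i).2 _) inj (·.elim) (·.elim) (·.elim)
    (by simpa [smul_sub, sub_eq_zero] using e) i (smul_ne _ fun e => hne (sub_eq_zero.1 (Subtype.ext e)))
  exact j.elim

omit [Finite G] [Finite V] in
theorem card_fx_U (hx : x ∈ U) (h1 : x ≠ 1) : Nat.card (fx G V x) = 1 :=
  AddSubgroup.card_eq_one.2 (eq_bot_iff.2 fun v hv => (h.fpf x hx v (hv x (mem_zpowers x))).resolve_left h1)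

theorem card_fx_E (hr : ∀ q : ℕ, q.Prime → q ∣ U.relIndex E → r ≤ q) (hx : x ∈ E) (h1 : x ∉ U) :
    Nat.card (fx G V x) ^ r ≤ Nat.card V := by
  haveI := h.nU
  obtain ⟨q, hq, hd⟩ := Nat.exists_prime_and_dvd (mt relIndex_eq_one.1 fun h2 : zpowers x ≤ U => h1 (h2 (mem_zpowers x)))
  refine (Nat.pow_le_pow_right Nat.card_pos ((hr q hq (hd.trans ?_)).trans
    (Nat.le_of_dvd (Nat.pos_of_ne_zero index_ne_zero_of_finite) hd))).trans (fix_pow_le h (zpowers_le.2 hx))
  rw [← relIndex_sup_right, ← relIndex_mul_relIndex _ _ _ le_sup_right (sup_le (zpowers_le.2 hx) h.le)]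
  exact dvd_mul_right _ _

theorem card_fx_C (hr : ∀ q : ℕ, q.Prime → q ∣ U.relIndex E → r ≤ q) (hx : x ∈ C[U]) (h1 : x ∉ E) :
    Nat.card (fx G V x) ^ (2 * r) ≤ Nat.card V ^ (r + 1) := by
  obtain ⟨a, ha, h2⟩ : ∃ a ∈ E, dl x a ∉ U := by
    by_contra h2
    push Not at h2
    exact h1 (h.mem_E_of_dl h2 fun u hu => dl_of_comm (mem_centralizer_iff.1 hx u hu).symm)
  have key : ∀ {y : G} {w : V}, y • w = w → w ∈ fx G V y := fun e b hb =>
    (zpowers_le (H := MulAction.stabilizer G _)).2 e hb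
  let φ : fx G V x × fx G V x →+ V := AddMonoidHom.mk' (fun f => (f.1 : V) - a • (f.2 : V)) fun f f' => by
    simp only [Prod.fst_add, Prod.snd_add, AddSubgroup.coe_add, smul_add]; abel
  have h3 : Nat.card φ.ker ≤ Nat.card (fx G V (dl x a)) := by
    refine Nat.card_le_card_of_injective (fun f => ⟨f.1.2, key ?_⟩) fun f f' e => ?_
    · refine dl_smul (f.1.2.2 x (mem_zpowers x)) ?_
      rw [← sub_eq_zero.1 (show (f.1.1 : V) - a • (f.1.2 : V) = 0 from f.2)]
      exact f.1.1.2 x (mem_zpowers x)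
    · have e2 : (f.1.2 : V) = f'.1.2 := Subtype.mk.inj e
      refine Subtype.ext (Prod.ext (Subtype.ext ?_) (Subtype.ext e2))
      rw [sub_eq_zero.1 (show (f.1.1 : V) - a • (f.1.2 : V) = 0 from f.2), e2,
        sub_eq_zero.1 (show (f'.1.1 : V) - a • (f'.1.2 : V) = 0 from f'.2)]
  have h4 := φ.ker.index_mul_card
  rw [AddSubgroup.index_ker, Nat.card_prod, ← sq] at h4
  rw [pow_mul, ← h4, mul_pow, pow_succ]
  exact Nat.mul_le_mul (Nat.pow_le_pow_left (AddSubgroup.card_le_card_addGroup _) r)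
    ((Nat.pow_le_pow_left h3 r).trans (card_fx_E h hr (h.dl_mem x ha) h2))

/-- all cases together -/
theorem card_fx_le (hr : ∀ q : ℕ, q.Prime → q ∣ U.relIndex E → r ≤ q) (hx : x ∈ C[U]) (h1 : x ≠ 1) :
    Nat.card (fx G V x) ^ (2 * r) ≤ Nat.card V ^ (r + 1) := by
  by_cases h2 : x ∈ E
  swap
  · exact card_fx_C h hr hx h2
  by_cases h3 : x ∈ U
  · rw [card_fx_U h h3 h1, one_pow]; exact Nat.one_le_pow _ _ Nat.card_pos
  rcases r with _ | r
  · exact Nat.one_le_pow _ _ Nat.card_pos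
  rw [mul_comm, pow_mul]
  exact (Nat.pow_le_pow_left (card_fx_E h hr h2 h3) 2).trans (Nat.pow_le_pow_right Nat.card_pos (by omega))

variable (m : Mx E D ξ)
include m

omit [Finite V] [Finite G] in
theorem relIndex_D : U.relIndex D = Nat.card D := by
  rw [← inf_relIndex_right, inf_comm, h.disj m, relIndex_bot_left]

omit [Finite V] in
theorem relIndex_E : U.relIndex E = (D ⊔ U).relIndex (E ⊓ C[D]) * Nat.card D ^ 2 := by
  haveI := h.nU
  rw [← relIndex_mul_relIndex _ _ _ (le_sup_right : U ≤ D ⊔ U) ((h.sup_le_cent m).trans inf_le_left),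
    ← relIndex_mul_relIndex _ _ _ (h.sup_le_cent m) inf_le_left, relIndex_sup_right, inf_comm E, inf_relIndex_right,
    relIndex_cent h.toGS m.le, relIndex_D h m]
  ring

omit [Finite V] in
theorem relIndex_Q : (D ⊔ U).relIndex (E ⊓ C[D]) = 1 ∨ (D ⊔ U).relIndex (E ⊓ C[D]) = 4 ∧ Even (Nat.card U) := by
  obtain h1 | ⟨i, hi, j, hj, z, hz, z1, z2, i2, j2, ij, ⟨k, hk⟩, cov⟩ := h.quat m
  · exact Or.inl (relIndex_eq_one.2 h1)
  refine Or.inr ⟨?_, hk ▸ even_two_mul _⟩
  have h1 : (D ⊔ U).relIndex (E ⊓ C[D]) ≤ 4 := by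
    refine (Nat.card_le_card_of_surjective (fun l : Fin 4 => QuotientGroup.mk (![1, ⟨i, hi⟩, ⟨j, hj⟩, ⟨_, mul_mem hi hj⟩] l))
      fun q => ?_).trans (by simp)
    obtain ⟨q, rfl⟩ := QuotientGroup.mk_surjective q
    obtain ⟨ρ, h1, h2⟩ := cov q q.2
    simp only [List.mem_cons, List.not_mem_nil, or_false] at h1
    rcases h1 with rfl | rfl | rfl | rfl
    exacts [⟨0, QuotientGroup.eq.2 h2⟩, ⟨1, QuotientGroup.eq.2 h2⟩, ⟨2, QuotientGroup.eq.2 h2⟩, ⟨3, QuotientGroup.eq.2 h2⟩]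
  have h2 := relIndex_mul_relIndex (D ⊔ U) (E ⊓ C[D] ⊓ C1[i]) (E ⊓ C[D])
    (le_inf (h.sup_le_cent m) fun t ht => mem_cent1.2 (h.comm_sup m ht hi).symm) inf_le_left
  have h3 : (D ⊔ U).relIndex (E ⊓ C[D] ⊓ C1[i]) ≠ 1 := fun e =>
    z1 (ij ▸ comm_iff.2 (h.comm_sup m (relIndex_eq_one.1 e ⟨hi, mem_cent1.2 rfl⟩) hj).symm)
  have h4 : (E ⊓ C[D] ⊓ C1[i]).relIndex (E ⊓ C[D]) ≠ 1 := fun e =>
    z1 (ij ▸ comm_iff.2 (mem_cent1.1 (relIndex_eq_one.1 e hj).2).symm)
  have h5 : (D ⊔ U).relIndex (E ⊓ C[D] ⊓ C1[i]) ≠ 0 := index_ne_zero_of_finite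
  have h6 : (E ⊓ C[D] ⊓ C1[i]).relIndex (E ⊓ C[D]) ≠ 0 := index_ne_zero_of_finite
  have := Nat.mul_le_mul (show 2 ≤ _ from by omega : 2 ≤ (D ⊔ U).relIndex (E ⊓ C[D] ⊓ C1[i]))
    (show 2 ≤ _ from by omega : 2 ≤ (E ⊓ C[D] ⊓ C1[i]).relIndex (E ⊓ C[D]))
  omega

theorem le_card_fix : Nat.card U * (D ⊔ U).relIndex (E ⊓ C[D]) + 1 ≤ Nat.card (fixV V D) := by
  haveI := h.nU
  have h1 : D.relIndex (D ⊔ U) = Nat.card U := by
    have h2 := relIndex_mul_relIndex ⊥ D (D ⊔ U) bot_le le_sup_left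
    rw [← relIndex_mul_relIndex ⊥ U (D ⊔ U) bot_le le_sup_right, relIndex_sup_right, relIndex_D h m, relIndex_bot_left,
      relIndex_bot_left, mul_comm] at h2
    exact Nat.eq_of_mul_eq_mul_right Nat.card_pos h2
  rw [← h1, relIndex_mul_relIndex _ _ _ le_sup_left (h.sup_le_cent m), relIndex, index, ← Finite.card_option]
  refine Nat.card_le_card_of_injective (fun q => q.elim 0 fun q => ⟨(q.out : G) • ξ, m.fx.smulc q.out.2.2⟩) ?_
  rintro (_ | q) (_ | q') e
  · rfl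
  · exact (smul_ne _ m.ne (congrArg Subtype.val e).symm).elim
  · exact (smul_ne _ m.ne (congrArg Subtype.val e)).elim
  · rw [← q.out_eq, ← q'.out_eq]
    refine congrArg some (QuotientGroup.eq.2 (m.mem (q.out⁻¹ * q'.out).2.1 ?_))
    change ((q.out : G)⁻¹ * q'.out) • ξ = ξ
    rw [mul_smul, ← show (q.out : G) • ξ = (q'.out : G) • ξ from congrArg Subtype.val e, inv_smul_smul]

/-- the numerical shape: `|E / U| = c d ^ 2` and `(u c + 1) ^ d ≤ |V|` -/
theorem shape : ∃ c, (c = 1 ∨ c = 4 ∧ Even (Nat.card U)) ∧ U.relIndex E = c * Nat.card D ^ 2 ∧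
    (Nat.card U * c + 1) ^ Nat.card D ≤ Nat.card V :=
  ⟨_, relIndex_Q h m, relIndex_E h m,
    (Nat.pow_le_pow_left (le_card_fix h m) _).trans (relIndex_D h m ▸ fix_pow_le h m.le)⟩

theorem shape_odd (hG : Odd (Nat.card G)) (hV : Odd (Nat.card V)) : U.relIndex E = Nat.card D ^ 2 ∧
    (2 * Nat.card U + 1) ^ Nat.card D ≤ Nat.card V := by
  have hU := hG.of_dvd_nat (card_subgroup_dvd_card U)
  refine ⟨by rw [relIndex_E h m, (relIndex_Q h m).resolve_right fun e => Nat.not_even_iff_odd.2 hU e.2, one_mul],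
    (Nat.pow_le_pow_left ?_ _).trans (relIndex_D h m ▸ fix_pow_le h m.le)⟩
  have hc := fun u : U => (h.U_le_cent m.le u.2).2
  have key : ∀ a b : U, (a : G) • ξ = (b : G) • ξ → a = b := fun a b e => (inv_mul_eq_one.1 (Subtype.ext
    (h.eq_one (b⁻¹ * a).2 m.ne (by rw [Subgroup.coe_mul, mul_smul, e, Subgroup.coe_inv, inv_smul_smul])))).symm
  have key' : ∀ a b : U, (a : G) • ξ ≠ -((b : G) • ξ) := fun a b e => by
    have e1 : ((b : G)⁻¹ * a) • ξ = -ξ := by rw [mul_smul, e, smul_neg, inv_smul_smul]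
    have e2 : ((b : G)⁻¹ * a) • ξ = ξ := smul_eq_of_pow_coprime (Nat.coprime_two_right.2 hG) (by
      rw [sq, mul_smul, e1, smul_neg, e1, neg_neg])
    exact m.ne (eq_zero_of_odd hV (by rw [e1] at e2; linear_combination (norm := abel) -e2))
  rw [two_mul, ← Nat.card_sum, ← Finite.card_option]
  refine Nat.card_le_card_of_injective (fun q => q.elim 0 (Sum.elim (fun u => ⟨(u : G) • ξ, m.fx.smulc (hc u)⟩)
    fun u => ⟨-((u : G) • ξ), (m.fx.smulc (hc u)).neg⟩)) ?_
  rintro (_ | a | a) (_ | b | b) e <;> replace e := congrArg Subtype.val e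
  · rfl
  · exact (smul_ne _ m.ne e.symm).elim
  · exact (smul_ne _ m.ne (neg_eq_zero.1 e.symm)).elim
  · exact (smul_ne _ m.ne e).elim
  · rw [key a b e]
  · exact (key' a b e).elim
  · exact (smul_ne _ m.ne (neg_eq_zero.1 e)).elim
  · exact (key' b a e.symm).elim
  · rw [key a b (neg_inj.1 e)]

end CL.SL.Vc
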