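/-
Vector stabilisers of bounded derived length: affine primitive groups and the imprimitive case.
-/
import Cfsg.Agent.Fgs.VcPrim

set_option autoImplicit false
set_option linter.style.haveILetI false

open Subgroup CL.Odd CL.Grp
open scoped commutatorElement IsMulCommutative

namespace CL.SL.Vc

universe u v

theorem affThm : AffThm.{u} := by
  intro G _ _ hs L hL
  let f := QuotientGroup.mk' L.normalCore
  have hf : Function.Surjective f := QuotientGroup.mk'_surjective _
  have hk : f.ker ≤ L := by rw [QuotientGroup.ker_mk']; exact L.normalCore_le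
  have e : (L.map f).comap f = L := by rw [comap_map_eq, sup_of_le_left hk]
  have hL' : IsCoatom (L.map f) := by
    refine ⟨fun h => hL.1 (e.symm.trans (by rw [h, comap_top])), fun K hK => ?_⟩
    have : K.comap f = ⊤ := hL.2 _ (e.symm.trans_lt ((comap_lt_comap_of_surjective hf).2 hK))
    rw [← map_comap_eq_self_of_surjective hf K, this, map_top_of_surjective f hf]
  have hc : (L.map f).normalCore = ⊥ := by
    rw [eq_bot_iff]
    intro q hq
    obtain ⟨g, rfl⟩ := hf q
    have : (L.map f).normalCore.comap f ≤ L.normalCore :=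
      normal_le_normalCore.2 ((comap_mono (normalCore_le _)).trans e.le)
    exact Subgroup.mem_bot.2 ((QuotientGroup.eq_one_iff g).2 (this hq))
  haveI : Nontrivial (G ⧸ L.normalCore) := by
    by_contra h
    rw [not_nontrivial_iff_subsingleton] at h
    exact hL'.1 (Subsingleton.elim _ _)
  obtain ⟨W, hW⟩ := exists_isMinNormal (G ⧸ L.normalCore)
  haveI := hW.normal
  haveI : IsMulCommutative W := hW.isMulCommutative_of_isSolvable inferInstance
  have hsup : W ⊔ L.map f = ⊤ := sup_eq_top_of_normalCore_eq_bot hL' hc hW.ne_bot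
  have hcomp := hW.isComplement'_of_sup_eq_top inferInstance hL'.1 hsup
  have hC := centralizer_inf_eq_bot_of_normalCore_eq_bot hc hsup
  letI : DistribMulAction G (Additive W) :=
    { smul := fun g w => Additive.ofMul (MulAut.conjNormal (f g) w.toMul)
      one_smul := fun w => by
        change Additive.ofMul (MulAut.conjNormal (f 1) w.toMul) = w
        simp
      mul_smul := fun a b w => by
        change Additive.ofMul (MulAut.conjNormal (f (a * b)) w.toMul) =
          Additive.ofMul (MulAut.conjNormal (f a) (MulAut.conjNormal (f b) w.toMul))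
        simp
      smul_zero := fun _ => congrArg Additive.ofMul (map_one _)
      smul_add := fun _ x y => congrArg Additive.ofMul (map_mul _ x.toMul y.toMul) }
  have hK : ∀ g ∈ Kr G (Additive W), f g ∈ C[W] := fun g hg => mem_centralizer_iff.2 fun w hw =>
    (mul_inv_eq_iff_eq_mul.1 (congrArg (fun v : Additive W => (v.toMul : G ⧸ L.normalCore))
      (mem_Kr.1 hg (Additive.ofMul ⟨w, hw⟩)))).symm
  have hK' : ∀ g ∈ Kr G (Additive W), f g ∈ W := fun g hg => by
    obtain ⟨⟨w, l⟩, e1⟩ := (hcomp.existsUnique (f g)).exists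
    have : (l : G ⧸ L.normalCore) ∈ C[W] ⊓ L.map f :=
      ⟨(mul_mem_cancel_left (le_centralizer W w.2)).1 (e1 ▸ hK g hg), l.2⟩
    rw [hC, mem_bot] at this
    rw [← e1, this, mul_one]; exact w.2
  choose σ hσ using hf
  refine ⟨Additive W, inferInstance, inferInstance, inferInstance, fun a => (σ a.toMul : G), fun U hU => ?_, ?_,
    commutator_le.2 fun a ha b hb => (QuotientGroup.eq_one_iff _).1 ?_, fun g hg => (QuotientGroup.eq_one_iff _).1 ?_,
    fun h hh a e1 => ?_⟩
  · haveI : (U.toSubgroup'.map W.subtype).Normal := ⟨by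
      rintro _ ⟨w, hw, rfl⟩ q
      exact ⟨_, hU (σ q) (Additive.ofMul w) hw, (congrArg (fun r : G ⧸ L.normalCore => r * w * r⁻¹) (hσ q) :)⟩⟩
    by_cases h0 : U.toSubgroup'.map W.subtype = ⊥
    · refine Or.inl (eq_bot_iff.2 fun w hw => ?_)
      have : (w.toMul : G ⧸ L.normalCore) ∈ U.toSubgroup'.map W.subtype := ⟨w.toMul, hw, rfl⟩
      rw [h0, Subgroup.mem_bot] at this
      exact congrArg Additive.ofMul (Subtype.ext this : w.toMul = 1)
    · refine Or.inr (eq_top_iff.2 fun w _ => ?_)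
      obtain ⟨w', hw', e⟩ : (w.toMul : G ⧸ L.normalCore) ∈ U.toSubgroup'.map W.subtype := by
        rw [hW.eq_of_le h0 (map_subtype_le _)]; exact w.toMul.2
      have : w' = w.toMul := Subtype.ext e
      subst this
      exact hw'
  · exact hcomp.index_eq_card.symm.trans ((index_comap_of_surjective _ fun q => ⟨σ q, hσ q⟩).symm.trans (congrArg _ e))
  · rw [← QuotientGroup.mk'_apply, map_commutatorElement, comm_iff]
    exact mem_centralizer_iff.1 (hK b hb) _ (hK' a ha)
  · exact mem_bot.1 (hC ▸ mem_inf.2 ⟨hK g hg.1, mem_map_of_mem f hg.2⟩)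
  · have h1 := L.mul_mem (QuotientGroup.eq.1 e1.symm) (L.inv_mem hh)
    have h2 : ((a.toMul⁻¹ * (h • a).toMul : W) : G ⧸ L.normalCore) ∈ W ⊓ L.map f :=
      ⟨Subtype.property _, _, h1, by simp [hσ, mul_assoc]; exact (mul_assoc _ _ _).symm⟩
    rw [hcomp.disjoint.eq_bot, mem_bot, OneMemClass.coe_eq_one, inv_mul_eq_one] at h2
    exact congrArg Additive.ofMul h2.symm

section Hom

variable {G G' V : Type*} [Group G] [Group G'] [AddCommGroup V] [DistribMulAction G V] [DistribMulAction G' V]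
  {f : G →* G'} (hf : ∀ (g : G) (v : V), f g • v = g • v) {k c : ℕ}
include hf

theorem tv_of_hom (h : Tv V (dr (⊤ : Subgroup G') k)) : Tv V (dr (⊤ : Subgroup G) k) := fun g hg w =>
  (hf g w).symm.trans (h _ (mem_dr_map f (fun _ _ => mem_top _) hg) w)

theorem gd_of_hom {v : V} (h : Gd G' V k v) : Gd G V k v := fun g hg w =>
  (hf g w).symm.trans (h _ (mem_dr_map f (fun a ha => (hf a v).trans ha) hg) w)

theorem pp_of_hom (h : PP G' V k c) : PP G V k c :=
  h.imp fun _ hx => ⟨fun i => gd_of_hom hf (hx.1 i), fun i j g e => hx.2 i j (f g) ((hf g _).trans e)⟩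

theorem good_of_hom (h : Good G' V) : Good G V :=
  h.imp (pp_of_hom hf) (Or.imp (pp_of_hom hf) (Or.imp (pp_of_hom hf) (pp_of_hom hf)))

end Hom

variable {G V : Type*} [Group G] [AddCommGroup V] [DistribMulAction G V]

/-- a system of imprimitivity with block `Y`, block stabiliser `L` and projection `π` -/
structure Imp (L : Subgroup G) (π : V →+ V) (Y : AddSubgroup V) : Prop where
  irr : Irr G V
  co : IsCoatom L
  ne : Y ≠ ⊥
  inv : Inv L V Y
  h1 : ∀ y ∈ Y, π y = y
  h0 : ∀ g ∉ L, ∀ y ∈ Y, π (g • y) = 0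

theorem exists_faith {G : Type v} {V : Type u} [Group G] [Finite G] [AddCommGroup V] [DistribMulAction G V]
    (hs : Group.IsSolvable G) : ∃ (G' : Type u) (_ : Group G') (_ : Finite G') (_ : DistribMulAction G' V) (f : G →* G'),
      Function.Surjective f ∧ (∀ (g : G) (v : V), f g • v = g • v) ∧ Group.IsSolvable G' ∧ Faith G' V :=
  have h := (MulAction.toPermHom G V).rangeRestrict_surjective
  ⟨_, _, Finite.of_surjective _ h, rangeAct G V, _, h, fun _ _ => rfl, Group.isSolvable_of_surjective h,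
    fun _ hg => Subtype.ext (Equiv.ext hg)⟩

/-- the two cases for an irreducible module -/
theorem irr_cases {G : Type v} {V : Type u} [Group G] [Finite G] [AddCommGroup V] [Finite V] [Nontrivial V]
    [DistribMulAction G V] (hs : Group.IsSolvable G) (hi : Irr G V) :
    ∃ (G' : Type u) (_ : Group G') (_ : Finite G') (_ : DistribMulAction G' V) (f : G →* G'),
      Nat.card G' ∣ Nat.card G ∧ (∀ (g : G) (v : V), f g • v = g • v) ∧ Group.IsSolvable G' ∧
        ((∃ (p : ℕ) (U E : Subgroup G'), Setup V p U E) ∨ ∃ (L : Subgroup G') (π : V →+ V) (Y : AddSubgroup V), Imp L π Y) := by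
  obtain ⟨G', _, _, _, f, h1, h2, h3, h4⟩ := exists_faith (V := V) hs
  have hi' : Irr G' V := fun U hU => hi U fun g v hv => h2 g v ▸ hU (f g) v hv
  refine ⟨G', _, inferInstance, _, f, card_dvd_of_surjective f h1, h2, h3, ?_⟩
  by_cases ha : SemiregAb G' V
  · exact Or.inl (exists_setup h3 hi' ha)
  obtain ⟨L, π, y, hL, hy, e1, e0⟩ := exists_imp hi' h4 ha
  let Y : AddSubgroup V :=
    { carrier := {w | (∀ l ∈ L, π (l • w) = l • w) ∧ ∀ g ∉ L, π (g • w) = 0}
      zero_mem' := ⟨fun _ _ => by simp, fun _ _ => by simp⟩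
      add_mem' := fun ha hb => ⟨fun l hl => by rw [smul_add, map_add, ha.1 l hl, hb.1 l hl],
        fun g hg => by rw [smul_add, map_add, ha.2 g hg, hb.2 g hg, add_zero]⟩
      neg_mem' := fun ha => ⟨fun l hl => by rw [smul_neg, map_neg, ha.1 l hl],
        fun g hg => by rw [smul_neg, map_neg, ha.2 g hg, neg_zero]⟩ }
  exact Or.inr ⟨L, π, Y, hi', hL, fun h => hy (AddSubgroup.mem_bot.1 (h ▸ (⟨e1, e0⟩ : y ∈ Y))), fun l w hw =>
    ⟨fun l' hl' => by rw [Subgroup.smul_def, ← mul_smul]; exact hw.1 _ (L.mul_mem hl' l.2),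
      fun g hg => by
        rw [Subgroup.smul_def, ← mul_smul]; exact hw.2 _ fun h => hg ((L.mul_mem_cancel_right l.2).1 h)⟩,
    fun w hw => by simpa using hw.1 1 L.one_mem, fun g hg w hw => hw.2 g hg⟩

namespace Imp

variable {L : Subgroup G} {π : V →+ V} {Y : AddSubgroup V} (I : Imp L π Y)
include I

theorem irr' : letI := subAct I.inv; Irr L Y := by
  intro U hU
  let T : AddSubgroup V :=
    { carrier := {w | ∀ g : G, π (g • w) ∈ U.map Y.subtype}
      zero_mem' := fun g => by simp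
      add_mem' := fun ha hb g => by rw [smul_add, map_add]; exact add_mem (ha g) (hb g)
      neg_mem' := fun ha g => by rw [smul_neg, map_neg]; exact neg_mem (ha g) }
  refine (I.irr T fun g w hw g' => by rw [← mul_smul]; exact hw _).imp (fun h => ?_) fun h => ?_
  · refine eq_bot_iff.2 fun w hw => ?_
    have : (w : V) ∈ T := fun g => by
      by_cases hg : g ∈ L
      · rw [I.h1 (g • (w : V)) (I.inv ⟨g, hg⟩ _ w.2)]
        exact ⟨_, hU ⟨g, hg⟩ w hw, rfl⟩
      · rw [I.h0 g hg _ w.2]; exact zero_mem _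
    rw [h, AddSubgroup.mem_bot] at this
    exact AddSubgroup.mem_bot.2 (Subtype.ext this)
  · refine eq_top_iff.2 fun w _ => ?_
    obtain ⟨w', hw', e⟩ := (h ▸ AddSubgroup.mem_top (w : V) : (w : V) ∈ T) 1
    rw [one_smul, I.h1 _ w.2] at e
    exact (Subtype.ext e : w' = w) ▸ hw'

theorem nontrivial : Nontrivial Y := (AddSubgroup.nontrivial_iff_ne_bot Y).2 I.ne

theorem two_le [Finite G] : 2 ≤ L.index := by
  have := mt index_eq_one.1 I.co.1
  have : L.index ≠ 0 := index_ne_zero_of_finite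
  omega

theorem tv_of {K : Subgroup G} {k : ℕ} (S : G ⧸ L → Subgroup L) (hS : ∀ q, letI := subAct I.inv; Tv Y (dr (S q) k))
    (hK : ∀ q, ∀ h ∈ K, q.out⁻¹ * h * q.out ∈ (S q).map L.subtype) : Tv V (dr K k) := fun h hh => by
  have hfix : ∀ q : G ⧸ L, ∀ y ∈ Y, h • q.out • y = q.out • y := fun q y hy => by
    have := mem_dr_map (K := (S q).map L.subtype) (MulAut.conj q.out⁻¹).toMonoidHom
      (fun g hg => by simpa using hK q g hg) hh
    rw [← dr_map] at this
    obtain ⟨s, hs, e⟩ := this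
    have e1 : (s : G) • y = y := congrArg Subtype.val (hS q s hs ⟨y, hy⟩)
    rw [show (s : G) = q.out⁻¹ * (h * q.out) by simpa [mul_assoc] using e, mul_smul, inv_smul_eq_iff, mul_smul] at e1
    exact e1
  let T : AddSubgroup V :=
    { carrier := {w | ∀ g : G, h • g • w = g • w}
      zero_mem' := fun g => by simp
      add_mem' := fun ha hb g => by rw [smul_add, smul_add, ha, hb]
      neg_mem' := fun ha g => by rw [smul_neg, smul_neg, ha] }
  have hT := (I.irr T fun g w hw g' => by rw [← mul_smul g', hw]).resolve_left fun h' => I.ne (eq_bot_iff.2 (h' ▸ by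
    intro y hy g
    have := hfix g _ (I.inv ⟨_, QuotientGroup.eq.1 (Quotient.out_eq (g : G ⧸ L))⟩ y hy)
    rwa [Subgroup.mk_smul, ← mul_smul (Quotient.out _), mul_inv_cancel_left] at this))
  intro w
  simpa using (hT ▸ AddSubgroup.mem_top w : w ∈ T) 1

theorem tv {a k : ℕ} (ha : dr (⊤ : Subgroup G) a ≤ L.normalCore)
    (hk : letI := subAct I.inv; Tv Y (dr (⊤ : Subgroup L) k)) : Tv V (dr (⊤ : Subgroup G) (a + k)) := by
  rw [dr_add]
  exact I.tv_of (fun _ => ⊤) (fun _ => hk) fun q h hh =>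
    ⟨⟨_, L.normalCore_le (L.normalCore_normal.conj_mem' _ (ha hh) q.out)⟩, trivial, rfl⟩

variable [Fintype (G ⧸ L)]

theorem proj (x : G ⧸ L → Y) (g : G) :
    π (g⁻¹ • ∑ q : G ⧸ L, q.out • (x q : V)) = (g⁻¹ * (g : G ⧸ L).out) • (x g : V) := by
  simp only [Finset.smul_sum, map_sum, ← mul_smul]
  rw [Finset.sum_eq_single (g : G ⧸ L) (fun q _ hq => I.h0 _ (fun h => hq (by
    rw [QuotientGroup.eq.2 h, QuotientGroup.out_eq'])) _ (x _).2) (by simp)]
  exact I.h1 _ (I.inv ⟨_, QuotientGroup.eq.1 (Quotient.out_eq (g : G ⧸ L)).symm⟩ _ (x _).2)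

theorem move {x x' : G ⧸ L → Y} {h : G} (e : h • ∑ q : G ⧸ L, q.out • (x q : V) = ∑ q : G ⧸ L, q.out • (x' q : V))
    (q : G ⧸ L) : ((h • q).out⁻¹ * h * q.out) • (x q : V) = x' (h • q) := by
  have h1 := I.proj x q.out
  have h2 := I.proj x' (h * q.out)
  rw [← e, mul_inv_rev, mul_smul, inv_smul_smul, h1, show ((h * q.out : G) : G ⧸ L) = h • q by
    rw [← smul_eq_mul, ← MulAction.Quotient.smul_mk, QuotientGroup.out_eq'], QuotientGroup.out_eq', inv_mul_cancel,
    one_smul] at h2
  rw [h2, ← mul_smul]; simp [mul_assoc]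

omit [Fintype (G ⧸ L)]

theorem pow_le [Finite G] [Finite V] : Nat.card Y ^ L.index ≤ Nat.card V := by
  haveI := Fintype.ofFinite (G ⧸ L)
  rw [index, ← Nat.card_fun]
  refine Nat.card_le_card_of_injective (fun x => ∑ q : G ⧸ L, q.out • (x q : V)) fun x x' e => funext fun q => ?_
  simpa using I.move (h := 1) ((one_smul _ _).trans e) q

theorem card_lt [Finite G] [Finite V] : Nat.card Y < Nat.card V ∧ L.index < Nat.card V :=
  haveI := I.nontrivial
  ⟨(lt_self_pow₀ Finite.one_lt_card I.two_le).trans_le I.pow_le,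
    (Nat.lt_pow_self Finite.one_lt_card).trans_le I.pow_le⟩

theorem pp [Finite G] {k m a n : ℕ} (h1 : letI := subAct I.inv; PP L Y k m) (h2 : Col G (G ⧸ L) m a n) :
    PP G V (a + k) n := by
  haveI := Fintype.ofFinite (G ⧸ L)
  letI := subAct I.inv
  obtain ⟨x, hx, hx'⟩ := h1
  obtain ⟨c, hc, hc'⟩ := h2
  have hm : ∀ (h : G) (q : G ⧸ L), (h • q).out⁻¹ * h * q.out ∈ L := fun h q => by
    rw [mul_assoc, ← QuotientGroup.eq, QuotientGroup.out_eq', ← smul_eq_mul, ← MulAction.Quotient.smul_mk,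
      QuotientGroup.out_eq']
  have key : ∀ i j (h : G), h • ∑ q : G ⧸ L, q.out • (x (c i q) : V) = ∑ q : G ⧸ L, q.out • (x (c j q) : V) →
      ∀ q, c j (h • q) = c i q := fun i j h e q =>
    (hx' _ _ ⟨_, hm h q⟩ (Subtype.ext (I.move (x := fun q => x (c i q)) (x' := fun q => x (c j q)) e q))).symm
  refine ⟨fun i => ∑ q : G ⧸ L, q.out • (x (c i q) : V), fun i => ?_, fun i j h e => hc' i j h (key i j h e)⟩
  rw [Gd, dr_add]
  refine I.tv_of (fun q => MulAction.stabilizer L (x (c i q))) (fun q => hx _) fun q h hh => ?_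
  have e1 := hc i _ (key i i) h hh q
  have e2 := I.move (x := fun q => x (c i q)) (x' := fun q => x (c i q)) (dr_le _ a hh) q
  have e3 := hm h q
  rw [e1] at e2 e3
  exact ⟨⟨_, e3⟩, Subtype.ext e2, rfl⟩

end Imp

end CL.SL.Vc
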