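/-
Class numbers of solvable groups of order divisible by `p ^ 2`: the statements of the steps.
-/
import Cfsg.Agent.Fgs.VcImp
import Cfsg.Agent.Fgs.ClassFusion

set_option autoImplicit false

open Subgroup CL.Odd

namespace CL.SL.HK

universe u

/-- the number of conjugacy classes -/
noncomputable abbrev kk (G : Type*) [Group G] : ℕ := Nat.card (ConjClasses G)

/-- (DIM) the number `b` of eigenvalues of a generator of `U` -/
def Dim : Prop := ∀ (G V : Type u) [Group G] [Finite G] [AddCommGroup V] [Finite V] [DistribMulAction G V]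
  (p n : ℕ) (U E : Subgroup G), Setup V p U E → Nat.card V = p ^ n → 1 ≤ n →
    ∃ b : ℕ, (C[U]).index ≤ b ∧ b ^ 2 * U.relIndex E ≤ n ^ 2 ∧ (b ≤ 1 → Nat.card U ∣ p - 1)

/-- (CEN) classes of a group with a central subgroup -/
def Cen : Prop := ∀ (G : Type u) [Group G] [Finite G] (U : Subgroup G), U ≤ center G →
  Nat.card U * (3 * U.index - 2) ≤ kk G * U.index

/-- (CRIT) the central extensions of `S₄` -/
def Crit : Prop := ∀ (G : Type u) [Group G] [Finite G] (U E : Subgroup G), GS U E → U ≤ center G →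
  U.relIndex E = 4 → E.index = 6 → 4 * Nat.card U ≤ kk G

/-- (XA) bounds for `|C(U) : E|` -/
def XA : Prop := ∀ (G : Type u) [Group G] [Finite G] (U E : Subgroup G), Group.IsSolvable G → GS U E →
  (U.relIndex E = 4 → E.relIndex C[U] ∣ 6) ∧ (U.relIndex E = 9 → E.relIndex C[U] ≤ 24) ∧
    (U.relIndex E = 36 → E.relIndex C[U] ≤ 486) ∧
    ((U.relIndex E).Coprime 6 → E.relIndex C[U] ≤ U.relIndex E ^ 2)

/-- (X16) the bound for `|E : U| = 16` -/
def X16 : Prop := ∀ (G : Type u) [Group G] [Finite G] (U E : Subgroup G), Group.IsSolvable G → GS U E →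
  U.relIndex E = 16 → E.relIndex C[U] ≤ 120

/-- (SMALL) the primes below eleven -/
def Small : Prop := ∀ (G : Type u) [Group G] [Finite G] (p o : ℕ), p ≤ 7 → 1 ≤ o → p ^ 2 - 1 ≤ o * Nat.card G →
  49 * p ≤ 60 * (kk G + o)

/-- (LIN) irreducible linear groups of degree at least two -/
def Lin : Prop := ∀ (G V : Type u) [Group G] [Finite G] [AddCommGroup V] [Finite V] [DistribMulAction G V]
  (p o : ℕ), p.Prime → Group.IsSolvable G → Irr G V → Faith G V → (∀ v : V, p • v = 0) → p ^ 2 ≤ Nat.card V →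
    Nat.card V - 1 ≤ o * Nat.card G → 49 * p ≤ 60 * (kk G + o)

/-- the theorem -/
def Thm : Prop := ∀ (G : Type u) [Group G] [Finite G] (p : ℕ), p.Prime → Group.IsSolvable G →
  p ^ 2 ∣ Nat.card G → 49 * p ≤ 60 * kk G

/-- (RED) the reduction to linear groups -/
def Red : Prop := Lin.{u} → Thm.{u}

end CL.SL.HK
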