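/-
Class numbers of solvable groups of order divisible by `p ^ 2`: tools.
-/
import Cfsg.Agent.Fgs.HK0

set_option autoImplicit false
set_option linter.style.haveILetI false

open Subgroup CL.Odd CL.Grp CL.SL.Vc
open scoped Nat

namespace CL.SL.HK

universe u

section Prob

variable {G G' : Type*} [Group G] [Group G'] [Finite G]

theorem card_le_index_mul (C H : Subgroup G) : Nat.card C ≤ H.index * Nat.card (C ⊓ H : Subgroup G) := by
  have h1 := (H.subgroupOf C).index_mul_card
  have h2 : Nat.card (H.subgroupOf C) = Nat.card (C ⊓ H : Subgroup G) := by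
    rw [← inf_subgroupOf_left, Nat.card_congr (subgroupOfEquivOfLe inf_le_left).toEquiv]
  rw [← h1, h2]
  refine Nat.mul_le_mul_right _ ?_
  exact (relIndex_le_of_le_right (H := H) (le_top (a := C)) (by simpa using index_ne_zero_of_finite)).trans_eq
    H.relIndex_top_right

theorem kk_le_index_mul (H : Subgroup G) : kk G ≤ H.index * kk H := by
  classical
  haveI := Fintype.ofFinite G
  have e1 := CL.Fgs.card_conjClasses_mul_card (G := G)
  have e2 := CL.Fgs.card_conjClasses_mul_card (G := H)
  have c1 : ∀ x : G, Nat.card (centralizer {x} ⊓ H : Subgroup G) =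
      ∑ h : H, if x * h = h * x then 1 else 0 := fun x => by
    rw [← Finset.card_filter, ← CL.Fgs.card_subtype_eq_filter]
    exact Nat.card_congr ⟨fun a => ⟨⟨a, a.2.2⟩, (mem_centralizer_singleton_iff.1 a.2.1).symm⟩,
      fun a => ⟨a.1, mem_centralizer_singleton_iff.2 a.2.symm, a.1.2⟩, fun _ => rfl, fun _ => rfl⟩
  have c2 : ∀ h : H, (∑ x : G, if x * h = h * x then 1 else 0) = Nat.card (centralizer {(h : G)}) := fun h => by
    rw [← Finset.card_filter, ← CL.Fgs.card_subtype_eq_filter]
    exact Nat.card_congr (Equiv.subtypeEquivRight fun x => mem_centralizer_singleton_iff.symm)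
  have c3 : ∀ h : H, Nat.card (centralizer {(h : G)} ⊓ H : Subgroup G) = Nat.card (centralizer {h}) := fun h =>
    Nat.card_congr ⟨fun a => ⟨⟨a, a.2.2⟩, mem_centralizer_singleton_iff.2
      (Subtype.ext (mem_centralizer_singleton_iff.1 a.2.1))⟩, fun a => ⟨a.1, mem_centralizer_singleton_iff.2
      (congrArg Subtype.val (mem_centralizer_singleton_iff.1 a.2)), a.1.2⟩, fun _ => rfl, fun _ => rfl⟩
  have h1 : kk G * Nat.card G ≤ H.index * (H.index * (kk H * Nat.card H)) := by
    rw [e1, e2, Finset.mul_sum]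
    refine (Finset.sum_le_sum fun x _ => card_le_index_mul _ H).trans ?_
    rw [← Finset.mul_sum]
    refine Nat.mul_le_mul_left _ ?_
    simp only [c1]
    rw [Finset.sum_comm]
    exact Finset.sum_le_sum fun h _ => by rw [c2, ← c3]; exact card_le_index_mul _ H
  refine Nat.le_of_mul_le_mul_right (h1.trans_eq ?_) (Nat.card_pos (α := G))
  rw [← H.index_mul_card]; ring

theorem commProb_le_sub (H : Subgroup G) : commProb G ≤ commProb H := by
  have h := kk_le_index_mul H
  have h0 : (0 : ℚ) < Nat.card H := Nat.cast_pos.2 Nat.card_pos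
  have h1 : (0 : ℚ) < H.index := Nat.cast_pos.2 (Nat.pos_of_ne_zero index_ne_zero_of_finite)
  rw [commProb_def', commProb_def', ← H.index_mul_card, Nat.cast_mul, div_le_div_iff₀ (by positivity) h0]
  have : (kk G : ℚ) ≤ H.index * kk H := by exact_mod_cast h
  nlinarith

omit [Finite G] in
theorem commProb_congr (e : G ≃* G') : commProb G = commProb G' := by
  rw [commProb_def, commProb_def, Nat.card_congr e.toEquiv]
  congr 2
  exact Nat.card_congr ((e.toEquiv.prodCongr e.toEquiv).subtypeEquiv fun x => by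
    simp [Commute, SemiconjBy, ← map_mul])

theorem commProb_le_of_inj (f : G' →* G) (hf : Function.Injective f) : commProb G ≤ commProb G' := by
  haveI := Finite.of_injective f hf
  rw [commProb_congr (MonoidHom.ofInjective hf)]
  exact commProb_le_sub _

theorem index_core_dvd (L : Subgroup G) : L.normalCore.index ∣ L.index ! := by
  rw [normalCore_eq_ker, index_ker, index_eq_card, ← Nat.card_perm]
  exact card_subgroup_dvd_card _

end Prob

variable {G V : Type*} [Group G] [AddCommGroup V] [DistribMulAction G V]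

theorem index_Kr_dvd [Finite V] : (Kr G V).index ∣ (Nat.card V - 1)! := by
  classical
  letI : MulAction G ({0}ᶜ : Set V) :=
    { smul := fun g v => ⟨g • v.1, smul_ne g v.2⟩
      one_smul := fun v => Subtype.ext (one_smul G v.1)
      mul_smul := fun a b v => Subtype.ext (mul_smul a b v.1) }
  have e : Kr G V = Kr G ({0}ᶜ : Set V) := by
    ext g
    simp only [mem_Kr]
    refine ⟨fun h w => Subtype.ext (h w.1), fun h w => ?_⟩
    by_cases h0 : w = 0
    · rw [h0, smul_zero]
    · exact congrArg Subtype.val (h ⟨w, h0⟩)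
  rw [e, index_ker, ← Set.ncard_singleton (0 : V), ← Set.ncard_compl, ← Nat.card_coe_set_eq, ← Nat.card_perm]
  exact card_subgroup_dvd_card _

theorem index_Kr_le' [Finite G] [Finite V] [Nontrivial V] {k : ℕ} (h : Reg G V k) :
    (Kr G V).index ≤ (Nat.card V - 1) ^ k := by
  classical
  obtain ⟨x, hx⟩ := h
  obtain ⟨v, hv⟩ := exists_ne (0 : V)
  let y : Fin k → V := fun i => if x i = 0 then v else x i
  have hy : ∀ i, y i ≠ 0 := fun i => by by_cases h : x i = 0 <;> simp [y, h, hv]
  refine (index_antitone (H := MulAction.stabilizer G y) fun g hg => mem_Kr.2 (hx g fun i => ?_)).trans ?_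
  · by_cases h : x i = 0
    · rw [h, smul_zero]
    · simpa [y, h] using congrFun hg i
  rw [MulAction.index_stabilizer, ← Nat.card_coe_set_eq, ← Set.ncard_singleton (0 : V), ← Set.ncard_compl,
    ← Nat.card_coe_set_eq]
  conv_rhs => rw [← Nat.card_fin k, ← Nat.card_fun]
  refine Nat.card_le_card_of_injective (fun z i => ⟨z.1 i, ?_⟩) fun z z' e => Subtype.ext (funext fun i => ?_)
  · obtain ⟨g, hg⟩ := z.2
    rw [← hg]; exact smul_ne g (hy i)
  · exact congrArg Subtype.val (congrFun e i)

theorem card_eq_index {G' : Type*} [Group G'] [DistribMulAction G' V] {f : G →* G'} (h1 : Function.Surjective f)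
    (h2 : ∀ (g : G) (v : V), f g • v = g • v) (h3 : Faith G' V) : Nat.card G' = (Kr G V).index := by
  have : f.ker = Kr G V := by
    ext g
    rw [MonoidHom.mem_ker, mem_Kr]
    exact ⟨fun h w => by rw [← h2, h, one_smul], fun h => h3 _ fun w => by rw [h2, h]⟩
  rw [← this, index_ker, f.range_eq_top_of_surjective h1, card_top]

theorem irr_of_hom {G' : Type*} [Group G'] [DistribMulAction G' V] {f : G →* G'}
    (h2 : ∀ (g : G) (v : V), f g • v = g • v) (hi : Irr G V) : Irr G' V :=
  fun U hU => hi U fun g v hv => h2 g v ▸ hU (f g) v hv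

/-- the two cases for a faithful irreducible module -/
theorem irr_cases' {G V : Type u} [Group G] [Finite G] [AddCommGroup V] [Finite V] [Nontrivial V]
    [DistribMulAction G V] (hs : Group.IsSolvable G) (hi : Irr G V) (hf : Faith G V) :
    (∃ (p : ℕ) (U E : Subgroup G), Setup V p U E) ∨
      ∃ (L : Subgroup G) (π : V →+ V) (Y : AddSubgroup V), Imp L π Y := by
  by_cases ha : SemiregAb G V
  · exact Or.inl (exists_setup hs hi ha)
  obtain ⟨L, π, y, hL, hy, e1, e0⟩ := exists_imp hi hf ha
  let Y : AddSubgroup V :=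
    { carrier := {w | (∀ l ∈ L, π (l • w) = l • w) ∧ ∀ g ∉ L, π (g • w) = 0}
      zero_mem' := ⟨fun _ _ => by simp, fun _ _ => by simp⟩
      add_mem' := fun ha hb => ⟨fun l hl => by rw [smul_add, map_add, ha.1 l hl, hb.1 l hl],
        fun g hg => by rw [smul_add, map_add, ha.2 g hg, hb.2 g hg, add_zero]⟩
      neg_mem' := fun ha => ⟨fun l hl => by rw [smul_neg, map_neg, ha.1 l hl],
        fun g hg => by rw [smul_neg, map_neg, ha.2 g hg, neg_zero]⟩ }
  exact Or.inr ⟨L, π, Y, hi, hL, fun h => hy (AddSubgroup.mem_bot.1 (h ▸ (⟨e1, e0⟩ : y ∈ Y))), fun l w hw =>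
    ⟨fun l' hl' => by rw [Subgroup.smul_def, ← mul_smul]; exact hw.1 _ (L.mul_mem hl' l.2),
      fun g hg => by
        rw [Subgroup.smul_def, ← mul_smul]; exact hw.2 _ fun h => hg ((L.mul_mem_cancel_right l.2).1 h)⟩,
    fun w hw => by simpa using hw.1 1 L.one_mem, fun g hg w hw => hw.2 g hg⟩

/-- the kernel of the action on the blocks embeds in a power of the group induced on a block -/
theorem exists_emb {L : Subgroup G} {π : V →+ V} {Y : AddSubgroup V} (I : Imp L π Y) (hf : Faith G V)
    {G' : Type*} [Group G'] (f : L →* G') (hk : ∀ l : L, f l = 1 → ∀ y ∈ Y, (l : G) • y = y) :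
    ∃ ψ : L.normalCore →* (G ⧸ L → G'), Function.Injective ψ := by
  have hm : ∀ (q : G ⧸ L) (n : L.normalCore), q.out⁻¹ * n * q.out ∈ L := fun q n =>
    L.normalCore_le (L.normalCore_normal.conj_mem' _ n.2 q.out)
  refine ⟨MonoidHom.mk' (fun n q => f ⟨_, hm q n⟩) fun a b => funext fun q => ?_,
    (injective_iff_map_eq_one _).2 fun n hn => Subtype.ext (hf _ ?_)⟩
  · rw [Pi.mul_apply, ← map_mul]
    exact congrArg f (Subtype.ext (by simp [mul_assoc]))
  · letI := subAct I.inv
    refine I.tv_of (K := zpowers (n : G)) (k := 0) (fun _ => f.ker) (fun q l hl y => Subtype.ext (hk l hl y y.2))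
      (fun q h hh => ?_) _ (mem_zpowers _)
    obtain ⟨k, rfl⟩ := hh
    refine ⟨⟨_, hm q n⟩ ^ k, zpow_mem (show _ ∈ f.ker from congrFun hn q) k, ?_⟩
    simpa using conj_zpow (a := q.out⁻¹) (b := (n : G)) (i := k)

end CL.SL.HK
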