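/-
Class numbers of solvable groups of order divisible by `p ^ 2`: the linear groups.
-/
import Cfsg.Agent.Fgs.HK1

set_option autoImplicit false
set_option linter.style.haveILetI false

open Subgroup CL.Odd CL.Grp CL.SL.Vc
open scoped Nat commutatorElement

namespace CL.SL.HK

universe u

theorem num_big {t : ℕ} (h : 9 ≤ t) : 17 * t ^ 8 ≤ 100 * 11 ^ (t - 2) := by
  induction t, h using Nat.le_induction with
  | base => decide
  | succ t h ih =>
    have h1 : ((t + 1) * 9) ^ 8 ≤ (t * 10) ^ 8 := Nat.pow_le_pow_left (by omega) 8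
    rw [show t + 1 - 2 = t - 2 + 1 by omega, pow_succ 11]
    rw [mul_pow, mul_pow] at h1
    omega

theorem num_imp {t s : ℕ} (h2 : 2 ≤ t) (h6 : t ≠ 6) (h1 : s ≤ t !) (h3 : s ≤ (t - 1) ^ 3 * t)
    (h4 : t.Coprime 6 → s ≤ (t - 1) ^ 2 * t) : 17 * s ^ 2 ≤ 100 * 11 ^ (t - 2) := by
  have key : ∀ M, s ≤ M → 17 * M ^ 2 ≤ 100 * 11 ^ (t - 2) → 17 * s ^ 2 ≤ 100 * 11 ^ (t - 2) := fun M h h' =>
    (Nat.mul_le_mul_left _ (Nat.pow_le_pow_left h 2)).trans h'
  by_cases h : 9 ≤ t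
  · refine key (t ^ 4) (h3.trans ?_) (by rw [← pow_mul]; exact num_big h)
    rw [pow_succ t 3]
    exact Nat.mul_le_mul_right _ (Nat.pow_le_pow_left (by omega) 3)
  · have : t ≤ 8 := by omega
    interval_cases t
    exacts [key _ h1 (by decide), key _ h1 (by decide), key _ h1 (by decide), key _ (h4 (by decide)) (by decide),
      (h6 rfl).elim, key _ (h4 (by decide)) (by decide), key _ h3 (by decide)]

theorem sq_le_pow (a : ℕ) : (a + 2) ^ 2 ≤ 4 * 11 ^ a := by
  induction a with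
  | zero => decide
  | succ a ih =>
    have : (a + 1 + 2) ^ 2 ≤ (a + 2) ^ 2 * 11 := by nlinarith [Nat.zero_le a, Nat.zero_le (a * a)]
    rw [pow_succ 11]; omega

theorem num_pw {p a d m n : ℕ} (hp : 11 ≤ p) (ha : 1 ≤ a) (hd : 2 ≤ d) (h : a * d ≤ n) (h1 : m ≤ n) (h2 : m ≤ d + 1) :
    p ^ m * a ^ 2 ≤ p ^ n := by
  obtain rfl | ha := ha.eq_or_lt
  · simpa using Nat.pow_le_pow_right (by omega) h1
  obtain ⟨a, rfl⟩ : ∃ b, a = b + 2 := ⟨a - 2, by omega⟩
  have h3 : m + (a + 1) ≤ n := by nlinarith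
  refine le_trans (Nat.mul_le_mul_left _ ?_) ((pow_add p m (a + 1)).symm.le.trans (Nat.pow_le_pow_right (by omega) h3))
  refine (sq_le_pow a).trans (le_trans ?_ (Nat.pow_le_pow_left hp _))
  rw [pow_succ 11]; omega

theorem num_fin {δ γ : ℚ} {p q a c M m n : ℕ} (h0 : 0 ≤ δ) (hc : 1 ≤ c) (hM : c ≤ M) (h2 : 2 ≤ M) (hq : q ≤ p)
    (h1 : 3 * (c : ℚ) - 2 ≤ γ * c ^ 2) (h3 : γ ≤ δ * a ^ 2) (h4 : p ^ (m + 2) * a ^ 2 ≤ p ^ n)
    (h5 : 17 * M ^ 2 + 200 * q ^ m ≤ 300 * M * q ^ m) : 17 / 100 * (p : ℚ) ^ 2 ≤ δ * (p ^ n : ℕ) := by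
  have c1 : (1 : ℚ) ≤ c := by exact_mod_cast hc
  have c2 : (c : ℚ) ≤ M := by exact_mod_cast hM
  have c3 : (2 : ℚ) ≤ M := by exact_mod_cast h2
  have c4 : (p : ℚ) ^ (m + 2) * a ^ 2 ≤ (p ^ n : ℕ) := by exact_mod_cast h4
  have c5 : 17 * (M : ℚ) ^ 2 + 200 * q ^ m ≤ 300 * M * q ^ m := by exact_mod_cast h5
  have c6 : (q : ℚ) ^ m ≤ p ^ m := by exact_mod_cast Nat.pow_le_pow_left hq m
  have d1 : (3 * (M : ℚ) - 2) * c ^ 2 ≤ (3 * c - 2) * M ^ 2 := by
    have : 0 ≤ ((M : ℚ) - c) * (3 * c * M - 2 * M - 2 * c) := mul_nonneg (by linarith) (by nlinarith)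
    nlinarith
  have d2 : 3 * (M : ℚ) - 2 ≤ γ * M ^ 2 := by
    refine le_of_mul_le_mul_right (d1.trans ?_) (show (0 : ℚ) < c ^ 2 by positivity)
    nlinarith [mul_le_mul_of_nonneg_right h1 (sq_nonneg (M : ℚ))]
  have d3 : 17 / 100 ≤ γ * p ^ m := by
    refine le_of_mul_le_mul_right ?_ (show (0 : ℚ) < M ^ 2 by positivity)
    have := mul_le_mul d2 c6 (by positivity) (by nlinarith)
    nlinarith
  have d4 : γ * p ^ (m + 2) ≤ δ * (p ^ n : ℕ) :=
    (mul_le_mul_of_nonneg_right h3 (by positivity)).trans (by nlinarith [mul_le_mul_of_nonneg_left c4 h0])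
  rw [pow_add] at d4
  nlinarith [mul_le_mul_of_nonneg_right d3 (sq_nonneg (p : ℚ))]

theorem num_crit {p z k o : ℕ} (hp : 11 ≤ p) (hz : z ∣ p - 1) (hk : 4 * z ≤ k) (ho : p ^ 2 - 1 ≤ o * (24 * z)) :
    49 * p ≤ 60 * (k + o) := by
  obtain ⟨j, hj⟩ := hz
  obtain rfl : p = z * j + 1 := by omega
  have h0 : 0 < z := Nat.pos_of_ne_zero (by rintro rfl; omega)
  have h1 : j * (z * j + 2) ≤ 24 * o := Nat.le_of_mul_le_mul_left (c := z) (by
    have : (z * j + 1) ^ 2 = z * (j * (z * j + 2)) + 1 := by ring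
    rw [this, Nat.add_sub_cancel] at ho
    nlinarith) h0
  clear ho
  by_cases h : j ≤ 9
  · by_cases h2 : z ≤ 2
    · interval_cases z <;> interval_cases j <;> omega
    · interval_cases j <;> omega
  · obtain ⟨i, rfl⟩ : ∃ i, j = i + 10 := ⟨j - 10, by omega⟩
    nlinarith [Nat.zero_le (z * i), Nat.zero_le (z * i * i)]

theorem num_end {p k o h v : ℕ} (hp : 11 ≤ p) (h0 : 0 < h) (hv : p ^ 2 ≤ v) (h1 : 17 / 100 * (p : ℚ) ^ 2 ≤ k / h * v)
    (h2 : v - 1 ≤ o * h) : 49 * p ≤ 60 * (k + o) := by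
  have c0 : 121 ≤ v := le_trans (by nlinarith) hv
  have c1 : (121 : ℚ) ≤ v := by exact_mod_cast c0
  have c2 : (v : ℚ) ≤ o * h + 1 := by exact_mod_cast (by omega : v ≤ o * h + 1)
  have c3 : (0 : ℚ) < h := by exact_mod_cast h0
  have c4 : (k / h : ℚ) * h = k := div_mul_cancel₀ _ c3.ne'
  have c5 : (0 : ℚ) ≤ k / h := by positivity
  have c6 : (k / h : ℚ) * v ≤ 121 / 120 * (k * o) := by
    have : (v : ℚ) ≤ 121 / 120 * (o * h) := by linarith
    nlinarith [mul_le_mul_of_nonneg_left this c5]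
  have c7 : ((49 * p : ℕ) : ℚ) ^ 2 ≤ ((60 * (k + o) : ℕ) : ℚ) ^ 2 := by
    push_cast
    nlinarith [sq_nonneg ((k : ℚ) - o), sq_nonneg (p : ℚ)]
  exact_mod_cast (pow_le_pow_iff_left₀ (by positivity) (by positivity) two_ne_zero).1 c7

theorem card_pow {V : Type*} [AddCommGroup V] [Finite V] {p : ℕ} (hp : p.Prime) (hV : ∀ v : V, p • v = 0) :
    ∃ n, Nat.card V = p ^ n :=
  haveI := Fact.mk hp
  IsPGroup.exists_card_eq (G := Multiplicative V) fun v => ⟨1, by rw [pow_one]; exact hV v.toAdd⟩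

/-- the statement that passes through the induction -/
def Q (G V : Type*) [Group G] (p : ℕ) : Prop := 17 / 100 * (p : ℚ) ^ 2 ≤ commProb G * Nat.card V ∨
  ∃ z, z ∣ p - 1 ∧ Nat.card G = 24 * z ∧ 4 * z ≤ kk G ∧ Nat.card V = p ^ 2

theorem Q.le {G V : Type*} [Group G] [Finite G] {p : ℕ} (h : Q G V p) (hp : 11 ≤ p) :
    (p : ℚ) ≤ commProb G * Nat.card V := by
  have c : (11 : ℚ) ≤ p := by exact_mod_cast hp
  obtain h | ⟨z, -, h1, h2, h3⟩ := h
  · nlinarith
  · have c0 : (0 : ℚ) < z := by exact_mod_cast (by have := Nat.card_pos (α := G); omega : 0 < z)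
    have c1 : 4 * (z : ℚ) ≤ kk G := by exact_mod_cast h2
    have c2 : 1 / 6 ≤ commProb G := by
      rw [commProb_def', h1, le_div_iff₀ (by push_cast; linarith)]; push_cast; linarith
    rw [h3]; push_cast
    nlinarith [mul_le_mul_of_nonneg_right c2 (sq_nonneg (p : ℚ))]

theorem prim (hD : Dim.{u}) (hC : Cen.{u}) (hR : Crit.{u}) (hA : XA.{u}) (hX : X16.{u}) {G V : Type u} [Group G]
    [Finite G] [AddCommGroup V] [Finite V] [Nontrivial V] [DistribMulAction G V] {p n : ℕ} {U E : Subgroup G}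
    (hp : 11 ≤ p) (hs : Group.IsSolvable G) (h : Setup V p U E) (hn : Nat.card V = p ^ n) (h2 : 2 ≤ n) : Q G V p := by
  obtain ⟨b, b1, b2, b3⟩ := hD G V p n U E h hn (by omega)
  obtain ⟨D, ξ, m⟩ := exists_mx (V := V) E
  obtain ⟨c0, hc0, e1, -⟩ := shape h m
  obtain ⟨d, hd⟩ : ∃ d, U.relIndex E = d ^ 2 := by
    obtain rfl | ⟨rfl, -⟩ := hc0
    exacts [⟨_, e1.trans (one_mul _)⟩, ⟨2 * Nat.card D, e1.trans (by ring)⟩]
  have hU : U ≤ C[U] := fun a ha => mem_centralizer_iff.2 fun w hw => h.cent w hw a (h.le ha)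
  have hu : 0 < Nat.card U := Nat.card_pos
  have k1 := card_C h.toGS
  have k2 : U.relIndex C[U] = d ^ 2 * E.relIndex C[U] := by
    rw [← hd, relIndex_mul_relIndex _ _ _ h.le fun a ha => mem_centralizer_iff.2 fun w hw => h.cent w hw a ha]
  have k3 := hC C[U] (U.subgroupOf C[U]) fun a ha => mem_center_iff.2 fun g =>
    Subtype.ext (mem_centralizer_iff.1 g.2 a ha).symm
  rw [Nat.card_congr (subgroupOfEquivOfLe hU).toEquiv, ← relIndex, k2] at k3
  rw [hd, mul_assoc] at k1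
  have k4 := card_C_le h.toGS hs
  have ha : 1 ≤ (C[U]).index := Nat.pos_of_ne_zero index_ne_zero_of_finite
  have hc : 1 ≤ d ^ 2 * E.relIndex C[U] := k2 ▸ Nat.pos_of_ne_zero index_ne_zero_of_finite
  obtain ⟨x4, x9, x36, x6⟩ := hA G U E hs h.toGS
  have x16 := hX G U E hs h.toGS
  have hr := fun r hr => prime_dvd_U (r := r) h.toGS hr
  rw [hd] at b2 x4 x9 x36 x6 x16 k4 hr
  rw [← mul_pow, Nat.pow_le_pow_iff_left two_ne_zero] at b2
  have b4 := (Nat.mul_le_mul_right d b1).trans b2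
  have k5 := (C[U]).commProb_subgroup_le
  have k6 : 3 * ((d ^ 2 * E.relIndex C[U] : ℕ) : ℚ) - 2 ≤ commProb C[U] * (d ^ 2 * E.relIndex C[U] : ℕ) ^ 2 := by
    rw [commProb_def', k1]
    generalize d ^ 2 * E.relIndex C[U] = c at k3 hc
    have c0 : (0 : ℚ) < Nat.card U := by exact_mod_cast hu
    have c1 : (0 : ℚ) < c := by exact_mod_cast hc
    have : (Nat.card U : ℚ) * (3 * c - 2) ≤ kk C[U] * c := by
      have := (Nat.cast_le (α := ℚ)).2 k3
      rwa [Nat.cast_mul, Nat.cast_sub (by omega), Nat.cast_mul, Nat.cast_mul] at this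
    rw [Nat.cast_mul, div_mul_eq_mul_div, le_div_iff₀ (by positivity)]
    nlinarith [mul_le_mul_of_nonneg_right this c1.le]
  have fin : ∀ M m q : ℕ, 2 ≤ d → d ^ 2 * E.relIndex C[U] ≤ M → 2 ≤ M → q ≤ p → m + 2 ≤ n → m ≤ d - 1 →
      17 * M ^ 2 + 200 * q ^ m ≤ 300 * M * q ^ m → Q G V p := fun M m q a1 a2 a3 a4 a5 a6 a7 =>
    Or.inl (hn ▸ num_fin (commProb_pos (M := G)).le hc a2 a3 a4 k6 k5 (num_pw hp ha a1 b4 a5 (by omega)) a7)
  have hdn : d ≤ n := le_trans (by nlinarith) b4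
  rw [k1, ← pow_mul, Nat.mul_le_mul_left_iff hu] at k4
  by_cases h8 : 8 ≤ d
  · refine fin _ (d - 2) 11 (by omega) k4 (le_trans (by norm_num) (Nat.pow_le_pow_left h8 _)) hp (by omega)
      (by omega) ?_
    have h9 : 17 * d ^ 8 ≤ 200 * 11 ^ (d - 2) := by
      obtain rfl | h9 := h8.eq_or_lt
      exacts [by decide, (num_big h9).trans (by omega)]
    have : 2 ≤ d ^ 8 := le_trans (by norm_num) (Nat.pow_le_pow_left h8 _)
    generalize d ^ 8 = M at *
    generalize 11 ^ (d - 2) = w at *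
    nlinarith [Nat.mul_le_mul_left M h9, Nat.mul_le_mul_right w this]
  have h7 : d ≤ 7 := by omega
  interval_cases d
  · simp at hc
  · have e : C[U] ≤ U := fun g hg => h.self g fun a ha =>
      (mem_centralizer_iff.1 hg a (relIndex_eq_one.1 hd ha)).symm
    have e2 : E.relIndex C[U] = 1 := relIndex_eq_one.2 (e.trans h.le)
    obtain ⟨n, rfl⟩ : ∃ m, n = m + 2 := ⟨n - 2, by omega⟩
    have c1 : (((C[U]).index ^ 2 : ℕ) : ℚ) ≤ (4 * p ^ n : ℕ) := Nat.cast_le.2
      (((Nat.pow_le_pow_left (by omega) 2).trans (sq_le_pow n)).trans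
        (Nat.mul_le_mul_left _ (Nat.pow_le_pow_left hp n)))
    rw [e2] at k6
    push_cast at c1 k6
    refine Or.inl ?_
    rw [hn]; push_cast
    have c2 := mul_le_mul_of_nonneg_left c1 (commProb_pos (M := G)).le
    have c3 : 1 / 4 ≤ commProb G * p ^ n := by linarith
    rw [pow_add]
    nlinarith [mul_le_mul_of_nonneg_right c3 (sq_nonneg (p : ℚ))]
  · have x := Nat.le_of_dvd (by norm_num) (x4 rfl)
    by_cases h3 : 3 ≤ n
    · exact fin 24 1 11 le_rfl (by omega) (by omega) hp h3 le_rfl (by decide)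
    by_cases h6 : E.relIndex C[U] ≤ 3
    · exact fin 12 0 11 le_rfl (by omega) (by omega) hp h2 (by omega) (by decide)
    have e6 : E.relIndex C[U] = 6 := by
      have := x4 rfl
      have h4 : 4 ≤ E.relIndex C[U] := by omega
      generalize E.relIndex C[U] = y at this h4 x ⊢
      interval_cases y
      exacts [absurd this (by decide), absurd this (by decide), rfl]
    have et : C[U] = ⊤ := index_eq_one.1 (by omega)
    obtain rfl : n = 2 := by omega
    rw [e6] at k1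
    rw [et, relIndex_top_right] at e6
    rw [et, card_top] at k1
    exact Or.inr ⟨_, b3 (by omega), by omega, hR G U E h.toGS (fun a ha => mem_center_iff.2 fun g =>
      (mem_centralizer_iff.1 (et ▸ mem_top g : g ∈ C[U]) a ha).symm) hd e6, hn⟩
  · have x := x9 rfl
    by_cases h4 : 4 ≤ n
    · exact fin 216 2 11 (by omega) (by omega) (by omega) hp h4 le_rfl (by decide)
    have := (hr 3 Nat.prime_three (by decide)).trans (b3 (by omega))
    exact fin 216 1 13 (by omega) (by omega) (by omega) (by omega) hdn (by omega) (by decide)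
  · have x := x16 rfl
    exact fin 1920 2 11 (by omega) (by omega) (by omega) hp hdn (by omega) (by decide)
  · have x := x6 (by decide)
    exact fin 15625 3 11 (by omega) (by omega) (by omega) hp hdn (by omega) (by decide)
  · have x := x36 rfl
    exact fin 17496 4 11 (by omega) (by omega) (by omega) hp hdn (by omega) (by decide)
  · have x := x6 (by decide)
    exact fin 117649 5 11 (by omega) (by omega) (by omega) hp hdn (by omega) (by decide)

theorem key (hD : Dim.{u}) (hC : Cen.{u}) (hR : Crit.{u}) (hA : XA.{u}) (hX : X16.{u}) {p : ℕ} (hp : p.Prime)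
    (h11 : 11 ≤ p) (m : ℕ) : ∀ (G V : Type u) [Group G] [Finite G] [AddCommGroup V] [Finite V] [Nontrivial V]
      [DistribMulAction G V], Group.IsSolvable G → Irr G V → Faith G V → (∀ v : V, p • v = 0) → Nat.card V = m →
        Nat.card V = p ∨ Q G V p := by
  induction m using Nat.strong_induction_on with
  | _ m ih =>
  intro G V _ _ _ _ _ _ hs hi hf hV e
  subst e
  obtain ⟨n, hn⟩ := card_pow hp hV
  have h1 := Finite.one_lt_card (α := V)
  refine or_iff_not_imp_left.2 fun h0 => ?_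
  have h2 : 2 ≤ n := by
    by_contra h
    have : n ≤ 1 := by omega
    interval_cases n <;> simp_all
  obtain ⟨q, U, E, h⟩ | ⟨L, π, Y, I⟩ := irr_cases' hs hi hf
  · obtain rfl : q = p := by
      by_contra hq
      obtain ⟨v, hv⟩ := exists_ne (0 : V)
      exact hv (h.eq_zero_of_nsmul (fun hd => hq ((Nat.prime_dvd_prime_iff_eq h.hp hp).1 hd)) (hV v))
    exact prim hD hC hR hA hX h11 hs h hn h2
  obtain ⟨A, _, _, _, τ, hA', e1, -, e3, -⟩ := affThm G hs L I.co
  letI := subAct I.inv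
  haveI := I.nontrivial
  haveI := Fintype.ofFinite (G ⧸ L)
  obtain ⟨G', _, _, _, f, f1, f2, f3, f4⟩ := exists_faith (G := L) (V := Y) inferInstance
  obtain ⟨ψ, hψ⟩ := exists_emb I hf f fun l hl y hy => by
    have := f2 l ⟨y, hy⟩
    rw [hl, one_smul] at this
    exact congrArg Subtype.val this.symm
  have k1 : (p : ℚ) ≤ commProb G' * Nat.card Y := by
    obtain k | k := ih _ I.card_lt.1 G' Y f3 (irr_of_hom f2 I.irr') f4 (fun v => Subtype.ext (hV v.1)) rfl
    · rw [commProb_eq_one_iff.2 ⟨⟨fun a b => comm_iff.1 (f4 _ (tv_prime (k ▸ hp) _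
        (commutator_mem_commutator (mem_top a) (mem_top b))))⟩⟩, k, one_mul]
    · exact k.le h11
  have k2 := (commProb_le_of_inj ψ hψ).trans L.normalCore.commProb_subgroup_le
  rw [commProb_function, ← Nat.card_eq_fintype_card, ← index] at k2
  have t2 := I.two_le
  haveI : Nontrivial A := Finite.one_lt_card_iff_nontrivial.1 (by omega)
  have k3 : ∀ k, Reg G A k → L.normalCore.index ≤ (L.index - 1) ^ k * L.index := fun k hk =>
    ((index_antitone e3).trans index_inf_le).trans (Nat.mul_le_mul_right _ (e1 ▸ index_Kr_le' hk))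
  have hb := baseThm G A hs (cr_of_irr hA')
  have k4 := num_imp t2 (fun e => by
    obtain ⟨r, k, hr, e2⟩ := card_pow_of_irr hA'
    rw [e1, e] at e2
    have a2 := (Nat.prime_dvd_prime_iff_eq Nat.prime_two hr).1 (Nat.prime_two.dvd_of_dvd_pow (e2 ▸ (by decide : 2 ∣ 6)))
    have a3 := (Nat.prime_dvd_prime_iff_eq Nat.prime_three hr).1
      (Nat.prime_three.dvd_of_dvd_pow (e2 ▸ (by decide : 3 ∣ 6)))
    omega) (Nat.le_of_dvd (Nat.factorial_pos _) (index_core_dvd L)) (k3 3 hb.1)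
    fun hc => k3 2 (hb.2 (Or.inr (Or.inr (e1 ▸ hc))))
  have k5 : (Nat.card Y : ℚ) ^ L.index ≤ Nat.card V := by exact_mod_cast I.pow_le
  have k6 := pow_le_pow_left₀ (by positivity) k1 L.index
  have k7 : 17 * (L.normalCore.index : ℚ) ^ 2 ≤ 100 * p ^ (L.index - 2) := by
    exact_mod_cast k4.trans (Nat.mul_le_mul_left _ (Nat.pow_le_pow_left h11 _))
  have k8 : (0 : ℚ) < L.normalCore.index := by exact_mod_cast Nat.pos_of_ne_zero index_ne_zero_of_finite
  have k9 := k6.trans ((mul_pow _ _ _).le.trans (mul_le_mul k2 k5 (by positivity)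
    (mul_nonneg (commProb_pos (M := G)).le (by positivity))))
  rw [show L.index = L.index - 2 + 2 by omega, pow_add] at k9
  refine Or.inl (le_of_mul_le_mul_right ?_ (show (0 : ℚ) < L.normalCore.index ^ 2 by positivity))
  nlinarith [mul_le_mul_of_nonneg_right k7 (sq_nonneg (p : ℚ))]

theorem lin_of (hD : Dim.{u}) (hC : Cen.{u}) (hR : Crit.{u}) (hA : XA.{u}) (hX : X16.{u}) (hS : Small.{u}) :
    Lin.{u} := by
  intro G V _ _ _ _ _ p o hp hs hi hf hV h2 ho
  have h4 : 4 ≤ p ^ 2 := by nlinarith [hp.two_le]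
  by_cases h7 : p ≤ 7
  · exact hS G p o h7 (Nat.pos_of_ne_zero (by rintro rfl; omega)) (by omega)
  have h11 : 11 ≤ p := by
    by_contra h
    have : p ≤ 10 := by omega
    interval_cases p <;> first | omega | exact absurd hp (by decide)
  haveI : Nontrivial V := Finite.one_lt_card_iff_nontrivial.1 (by omega)
  obtain k | k | ⟨z, k1, k2, k3, k4⟩ := key hD hC hR hA hX hp h11 _ G V hs hi hf hV rfl
  · nlinarith
  · exact num_end h11 Nat.card_pos h2 (commProb_def' G ▸ k) ho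
  · exact num_crit h11 k1 k3 (k2 ▸ k4 ▸ ho)

end CL.SL.HK
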