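/-
Class numbers of central extensions.
-/
import Cfsg.Agent.Fgs.HK0
import Cfsg.Agent.Fgs.ClassCount

set_option autoImplicit false

open Subgroup CL.Odd CL.Fgs Finset

namespace CL.SL.HK

universe u

variable {G : Type*} [Group G] {U : Subgroup G}

theorem sum_le_kk [Finite G] [Fintype (G ⧸ U)] (w : G ⧸ U → ℕ) (h : ∀ y : G, Nat.card U * w y ≤ Nat.card cent(y)) :
    Nat.card U * ∑ q, w q ≤ kk G * U.index := by
  classical
  have := Fintype.ofFinite G
  have fib : ∀ q : G ⧸ U, #{y : G | (y : G ⧸ U) = q} = Nat.card U := fun q => by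
    simpa using QuotientGroup.card_preimage_mk U {q}
  refine Nat.le_of_mul_le_mul_right ?_ (Nat.card_pos (α := U))
  calc _ = ∑ y : G, Nat.card U * w y := by
        rw [← sum_fiberwise' univ (QuotientGroup.mk : G → G ⧸ U) fun q => Nat.card U * w q, mul_sum, sum_mul]
        exact sum_congr rfl fun q _ => by rw [sum_const, fib, smul_eq_mul, mul_comm]
    _ ≤ _ := sum_le_sum fun y _ => h y
    _ = _ := by rw [← card_conjClasses_mul_card, mul_assoc, index_mul_card]

theorem order_le_cent [Finite G] [U.Normal] (hU : U ≤ center G) (y : G) :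
    Nat.card U * orderOf (y : G ⧸ U) ≤ Nat.card cent(y) := by
  have h1 := relIndex_ker cent(y) (QuotientGroup.mk' U)
  rw [QuotientGroup.ker_mk'] at h1
  rw [← (U.subgroupOf cent(y)).card_mul_index, Nat.card_congr (subgroupOfEquivOfLe (hU.trans (center_le_cent y))).toEquiv,
    ← relIndex, h1, ← Nat.card_zpowers]
  exact Nat.mul_le_mul_left _ (card_le_of_le (zpowers_le.2 ⟨y, mem_cent.2 (Commute.refl y), rfl⟩))

theorem index_le_cent [Finite G] (hU : U ≤ center G) {y : G} (hy : y ∈ U) : Nat.card U * U.index ≤ Nat.card cent(y) := by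
  rw [card_mul_index, centralizer_eq_top_iff_subset.2 (Set.singleton_subset_iff.2 (hU hy)), card_top]

theorem two_le_orderOf [Finite G] {q : G} (h : q ≠ 1) : 2 ≤ orderOf q := by
  have := orderOf_pos q
  have := orderOf_eq_one_iff.not.2 h
  omega

theorem cen : Cen.{u} := fun G _ _ U hU => by
  classical
  have : U.Normal := ⟨fun x hx g => by rwa [mem_center_iff.1 (hU hx) g, mul_inv_cancel_right]⟩
  have := Fintype.ofFinite (G ⧸ U)
  refine le_trans (Nat.mul_le_mul_left _ ?_) (sum_le_kk (fun q => if q = 1 then U.index else 2) fun y => ?_)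
  · rw [← add_sum_erase _ _ (mem_univ 1), if_pos rfl, sum_congr rfl fun q hq => if_neg (ne_of_mem_erase hq), sum_const,
      card_erase_of_mem (mem_univ _), card_univ, ← Nat.card_eq_fintype_card, ← index_eq_card, smul_eq_mul]
    omega
  · split_ifs with e
    · exact index_le_cent hU ((QuotientGroup.eq_one_iff y).1 e)
    · exact (Nat.mul_le_mul_left _ (two_le_orderOf e)).trans (order_le_cent hU y)

theorem comm_of_sq {V : Subgroup G} (h2 : ∀ v ∈ V, v * v = 1) {a b : G} (ha : a ∈ V) (hb : b ∈ V) : a * b = b * a := by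
  rw [← inv_eq_of_mul_eq_one_right (h2 _ (mul_mem ha hb)), mul_inv_rev, inv_eq_of_mul_eq_one_right (h2 a ha),
    inv_eq_of_mul_eq_one_right (h2 b hb)]

/-- the mean order outside a self-centralising elementary abelian normal `2`-subgroup is at least three -/
theorem sum_orderOf [Fintype G] {V : Subgroup G} [DecidablePred (· ∈ V)] [hV : V.Normal] (h2 : ∀ v ∈ V, v * v = 1)
    (hc : ∀ q, (∀ v ∈ V, q * v = v * q) → q ∈ V) : 3 * #{q | q ∉ V} ≤ ∑ q with q ∉ V, orderOf q := by
  classical
  have ex : ∀ c : G ⧸ V, ∃ t ∈ V, ∀ q : G, (q : G ⧸ V) = c → q ∉ V → q * t ≠ t * q := fun c => by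
    obtain ⟨q, rfl⟩ := QuotientGroup.mk_surjective c
    by_cases hq : q ∈ V
    · exact ⟨1, one_mem _, fun r hr h => (h (by
        simpa using mul_mem hq (inv_mem (QuotientGroup.eq.1 hr)))).elim⟩
    · obtain ⟨t, ht, e⟩ : ∃ t ∈ V, q * t ≠ t * q := by by_contra! h; exact hq (hc q h)
      refine ⟨t, ht, fun r hr _ e' => e ?_⟩
      calc q * t = r * ((r⁻¹ * q) * t) := by group
        _ = r * t * (r⁻¹ * q) := by rw [comm_of_sq h2 (QuotientGroup.eq.1 hr) ht, mul_assoc]
        _ = t * q := by rw [e']; group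
  choose τ hτ hτ' using ex
  have hle : #{q ∈ ({q | q ∉ V} : Finset G) | q * q = 1} ≤ #{q ∈ ({q | q ∉ V} : Finset G) | 4 ≤ orderOf q} := by
    refine card_le_card_of_injOn (fun q => q * τ q) (fun q hq => ?_) fun q _ r _ e => ?_
    · simp only [coe_filter, mem_filter, mem_univ, true_and, Set.mem_ofPred_eq] at hq ⊢
      have qi := inv_eq_of_mul_eq_one_right hq.2
      refine ⟨fun e => hq.1 ((mul_mem_cancel_right (hτ q)).1 e), (orderOf_eq_prime_pow (p := 2) (n := 1)
        (fun e => hτ' _ q rfl hq.1 ?_) ?_).ge⟩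
      · rw [pow_one, pow_two] at e
        rw [← inv_eq_of_mul_eq_one_right e, mul_inv_rev, qi, inv_eq_of_mul_eq_one_right (h2 _ (hτ q))]
      · rw [pow_succ, pow_mul, pow_two, pow_one, pow_two]
        refine h2 _ ?_
        have := mul_mem (hV.conj_mem _ (hτ q) q) (hτ q)
        rwa [qi, mul_assoc] at this
    · have e1 : (q : G ⧸ V) = r := by
        simpa [QuotientGroup.mk_mul_of_mem _ (hτ _)] using congrArg (QuotientGroup.mk (s := V)) e
      simpa [e1] using e
  rw [card_filter, card_filter] at hle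
  have : ∑ q with q ∉ V, (3 + if 4 ≤ orderOf q then 1 else 0) ≤
      ∑ q with q ∉ V, (orderOf q + if q * q = 1 then 1 else 0) := sum_le_sum fun q hq => by
    have h1 := two_le_orderOf (q := q) fun e => (mem_filter.1 hq).2 (e ▸ one_mem V)
    have h3 : orderOf q = 2 → q * q = 1 := fun e => by rw [← pow_two, ← e, pow_orderOf_eq_one]
    split_ifs with a b b <;> first | omega | (have := mt h3 b; omega)
  rw [sum_add_distrib, sum_add_distrib, sum_const, smul_eq_mul] at this
  omega

theorem crit : Crit.{u} := fun G _ _ U E h hU h4 h6 => by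
  classical
  have := h.nU
  have := h.nE
  have := h.cyc
  have := Fintype.ofFinite G
  have := Fintype.ofFinite (G ⧸ U)
  have h24 : U.index = 24 := by rw [← relIndex_mul_index h.le, h4, h6]
  obtain ⟨V, hV⟩ : ∃ V, V = E.map (QuotientGroup.mk' U) := ⟨_, rfl⟩
  have : V.Normal := hV ▸ h.nE.map _ (QuotientGroup.mk'_surjective U)
  have mV : ∀ y : G, (y : G ⧸ U) ∈ V ↔ y ∈ E := fun y => by
    rw [hV, ← QuotientGroup.mk'_apply, ← mem_comap, comap_map_eq, QuotientGroup.ker_mk', sup_eq_left.2 h.le]
  have cV : Nat.card V = 4 := by rw [hV, ← relIndex_ker, QuotientGroup.ker_mk', h4]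
  have cV' : #{q | q ∈ V} = 4 := by rw [← card_subgroup_eq_filter, cV]
  have h2 : ∀ v ∈ V, v * v = 1 := fun v hv => by
    obtain ⟨m, hm, e⟩ := h.exists_sqfree
    obtain ⟨t, rfl⟩ := QuotientGroup.mk_surjective v
    have d1 : orderOf (t : G ⧸ U) ∣ m := orderOf_dvd_of_pow_eq_one ((QuotientGroup.eq_one_iff _).2 (e t ((mV t).1 hv)))
    have d2 : orderOf (t : G ⧸ U) ∣ 2 ^ 2 := (orderOf_dvd_natCard V hv).trans cV.dvd
    rw [← pow_two, ← orderOf_dvd_iff_pow_eq_one]
    exact (hm.squarefree_of_dvd d1).isRadical _ _ d2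
  have hc : ∀ q, (∀ v ∈ V, q * v = v * q) → q ∈ V := fun q hq => by
    obtain ⟨g, rfl⟩ := QuotientGroup.mk_surjective q
    refine (mV g).2 (h.mem_E_of_dl (fun a ha => (QuotientGroup.eq_one_iff _).1 ?_) fun x hx => ?_)
    · simp [dl, hq a ((mV a).2 ha)]
    · simp [dl, mem_center_iff.1 (hU hx) g]
  have key := sum_le_kk (fun q : G ⧸ U => if q ∈ V then 4 + if q = 1 then 20 else 0 else orderOf q) fun y => by
    split_ifs with e1 e2
    · simpa only [h24] using index_le_cent hU ((QuotientGroup.eq_one_iff y).1 e2)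
    · have h6 : cs(y) ≤ 2 * 3 := by
        rw [← card_isConj, card_subtype_eq_filter, show 3 = #(({q | q ∈ V} : Finset _).erase 1) by
          rw [card_erase_of_mem (by simp), cV']]
        refine card_le_mul_card_image_of_maps_to (f := QuotientGroup.mk) (fun a ha => ?_) 2 fun b _ => ?_
        · obtain ⟨g, rfl⟩ := isConj_iff.1 (mem_filter.1 ha).2
          simpa [e2] using Normal.conj_mem inferInstance _ e1 (g : G ⧸ U)
        · refine le_trans ?_ (IsCyclic.card_pow_eq_one_le (α := U) two_pos)
          have sq : ∀ a, IsConj y a → a ^ 2 = y ^ 2 := fun a ha => by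
            obtain ⟨g, rfl⟩ := isConj_iff.1 ha
            rw [conj_pow, mem_center_iff.1 (hU ((QuotientGroup.eq_one_iff _).1 (by simpa [pow_two] using h2 _ e1))) g,
              mul_inv_cancel_right]
          rcases eq_empty_or_nonempty (filter (fun a : G => (a : G ⧸ U) = b) {a | IsConj y a}) with e | ⟨c, hc⟩
          · exact (card_eq_zero.2 e).trans_le (Nat.zero_le _)
          refine card_le_card_of_surjOn (fun v : U => c * v) fun a ha => ?_
          simp only [coe_filter, mem_filter, mem_univ, true_and, Set.mem_ofPred_eq] at ha hc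
          have m := QuotientGroup.eq.1 (hc.2.trans ha.2.symm)
          refine ⟨⟨_, m⟩, by
            have := (show Commute c (c⁻¹ * a) from mem_center_iff.1 (hU m) c).mul_pow 2
            rw [mul_inv_cancel_left, sq a ha.1, sq c hc.1, left_eq_mul] at this
            simpa [Subtype.ext_iff] using this, by simp⟩
      have := cent(y).card_mul_index
      rw [← U.card_mul_index, h24] at this
      have h7 := Nat.mul_le_mul_left (Nat.card cent(y)) h6
      omega
    · exact order_le_cent hU y
  have h3 := sum_orderOf h2 hc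
  have h5 := card_filter_add_card_filter_not (s := univ) (· ∈ V)
  rw [card_univ, ← Nat.card_eq_fintype_card, ← index_eq_card, h24, cV'] at h5
  rw [sum_ite, sum_add_distrib, sum_const, cV', sum_ite_eq', if_pos (by simp), h24] at key
  have h8 := Nat.mul_le_mul_left (Nat.card U) (show 96 ≤ 4 • 4 + 20 + ∑ q with q ∉ V, orderOf q by
    rw [smul_eq_mul]; omega)
  omega

end CL.SL.HK
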