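/-
Class numbers of solvable groups: the eigenvalues of the cyclic normal subgroup.
-/
import Cfsg.Agent.Fgs.HK0

set_option autoImplicit false

open Subgroup CL.Odd CL.Grp Module
open scoped commutatorElement

namespace CL.SL.HK

universe u

section Lin

variable {G K W : Type*} [Group G] [Finite G] [Field K] [AddCommGroup W] [Module K W] [FiniteDimensional K W]
  {U E : Subgroup G} {ρ : G →* End K W} {u₀ : G}

omit [FiniteDimensional K W] in
theorem dim_pow {f : End K W} {l : K} {φ : W} (h : φ ∈ f.eigenspace l) : ∀ n : ℕ, (f ^ n) φ = l ^ n • φ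
  | 0 => by simp
  | n + 1 => by rw [pow_succ, End.mul_apply, End.mem_eigenspace_iff.1 h, map_smul, dim_pow h n, smul_smul, pow_succ']

omit [Finite G] [FiniteDimensional K W] in
theorem dim_chi (h0 : ∀ u ∈ U, ∃ k : ℕ, u₀ ^ k = u) (hs : ∀ u ∈ U, ∀ φ, ρ u φ = φ → u = 1 ∨ φ = 0) {l : K}
    (hl : (ρ u₀).HasEigenvalue l) : ∃ c : G → K, (∀ u ∈ U, ∀ φ ∈ (ρ u₀).eigenspace l, ρ u φ = c u • φ) ∧ c 1 = 1 ∧
      (∀ u ∈ U, ∀ w ∈ U, c (u * w) = c u * c w) ∧ ∀ u ∈ U, ∀ w ∈ U, c u = c w → u = w := by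
  choose! k hk using h0
  obtain ⟨φ, hφ, h1⟩ := hl.exists_hasEigenvector
  have a : ∀ u ∈ U, ∀ φ ∈ (ρ u₀).eigenspace l, ρ u φ = l ^ k u • φ := fun u hu φ hφ => by
    conv_lhs => rw [← hk u hu, map_pow]
    exact dim_pow hφ _
  refine ⟨fun u => l ^ k u, a, smul_left_injective K h1 ?_, fun u hu w hw => smul_left_injective K h1 ?_,
    fun u hu w hw e => ?_⟩
  · simp only [← a 1 (one_mem _) φ hφ, map_one, End.one_apply, one_smul]
  · simp only
    rw [← a _ (mul_mem hu hw) φ hφ, map_mul, End.mul_apply, a w hw φ hφ, map_smul, a u hu φ hφ, smul_smul, mul_comm]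
  · refine (inv_mul_eq_one.1 ((hs _ (mul_mem (inv_mem hw) hu) φ ?_).resolve_right h1)).symm
    rw [map_mul, End.mul_apply, a u hu φ hφ, show l ^ k u = l ^ k w from e, ← a w hw φ hφ, ← End.mul_apply, ← map_mul,
      inv_mul_cancel, map_one, End.one_apply]

omit [Finite G] [FiniteDimensional K W] in
theorem dim_ne (g : G) {φ : W} (h : φ ≠ 0) : ρ g φ ≠ 0 := fun e => h (by
  rw [← End.one_apply (R := K) φ, ← map_one ρ, ← inv_mul_cancel g, map_mul, End.mul_apply, e, map_zero])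

theorem dim_big (h : GS U E) (hu : u₀ ∈ U) (h0 : ∀ u ∈ U, ∃ k : ℕ, u₀ ^ k = u)
    (hs : ∀ u ∈ U, ∀ φ, ρ u φ = φ → u = 1 ∨ φ = 0) {l : K} (hl : (ρ u₀).HasEigenvalue l) :
    U.relIndex E ≤ finrank K ((ρ u₀).eigenspace l) ^ 2 := by
  classical
  obtain ⟨c, c1, c2, c3, c4⟩ := dim_chi h0 hs hl
  obtain ⟨φ, hφ, h1⟩ := hl.exists_hasEigenvector
  have m : ∀ t ∈ E, ∀ φ ∈ (ρ u₀).eigenspace l, ρ t φ ∈ (ρ u₀).eigenspace l := fun t ht φ hφ => by
    rw [End.mem_eigenspace_iff] at hφ ⊢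
    rw [← End.mul_apply, ← map_mul, h.cent _ hu t ht, map_mul, End.mul_apply, hφ, map_smul]
  let χ : E ⧸ U.subgroupOf E → (E →* K) := fun i => ⟨⟨fun s => c ⁅(i.out : G), (s : G)⁆, by simp [c2]⟩, fun a b => by
    simp only [coe_mul]
    rw [h.comm_mul_right i.out.2 a.2 b.2, c3 _ (h.comm _ i.out.2 _ a.2) _ (h.comm _ i.out.2 _ b.2)]⟩
  have hχ : Function.Injective χ := fun i j e => by
    rw [← i.out_eq, ← j.out_eq, QuotientGroup.eq]
    refine h.mem_U_of_comm (t := (i.out : G)⁻¹ * j.out) (mul_mem (inv_mem i.out.2) j.out.2) fun a ha => ?_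
    rw [h.comm_mul_left (inv_mem i.out.2) j.out.2 ha, h.comm_inv_left i.out.2 ha, inv_mul_eq_one]
    exact c4 _ (h.comm _ i.out.2 _ ha) _ (h.comm _ j.out.2 _ ha) (DFunLike.congr_fun e ⟨a, ha⟩)
  have := Fintype.ofFinite (E ⧸ U.subgroupOf E)
  have li : LinearIndependent K fun i : E ⧸ U.subgroupOf E => (ρ i.out).restrict (m _ i.out.2) := by
    refine Fintype.linearIndependent_iff.2 fun g hg i => by_contra fun hi => dim_ne (ρ := ρ) i.out h1 ?_
    refine (forall_dual_apply_eq_zero_iff K _).1 fun f => (mul_eq_zero.1 (Fintype.linearIndependent_iff.1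
      ((linearIndependent_monoidHom E K).comp χ hχ) (fun i => g i * f (ρ i.out φ)) (funext fun s => ?_) i)).resolve_left hi
    have e := congrArg (fun x : (ρ u₀).eigenspace l => f (ρ s⁻¹ x)) (LinearMap.congr_fun hg ⟨_, m s s.2 φ hφ⟩)
    simp only [LinearMap.sum_apply, LinearMap.smul_apply, Submodule.coe_sum, Submodule.coe_smul, map_sum, map_smul,
      LinearMap.coe_restrict_apply, LinearMap.zero_apply, Submodule.coe_zero, map_zero] at e
    rw [Finset.sum_apply, Pi.zero_apply, ← e]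
    refine Finset.sum_congr rfl fun i _ => ?_
    rw [← End.mul_apply, ← End.mul_apply, ← map_mul, ← map_mul,
      show (s : G)⁻¹ * i.out * s = i.out * ⁅(i.out : G), (s : G)⁆ by
        rw [← h.cent _ (h.comm _ i.out.2 _ s.2) _ i.out.2, ← h.conj_cent (h.comm _ i.out.2 _ s.2) (inv_mem s.2),
          commutatorElement_def]; group,
      map_mul, End.mul_apply, c1 _ (h.comm _ i.out.2 _ s.2) φ hφ, map_smul, map_smul]
    simp only [Pi.smul_apply, smul_eq_mul, Function.comp]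
    rw [mul_assoc, mul_comm (f _)]
    rfl
  have := li.fintype_card_le_finrank
  rwa [finrank_linearMap, ← sq, ← Nat.card_eq_fintype_card] at this

theorem dim_lin [IsAlgClosed K] [Nontrivial W] (h : GS U E) (hu : u₀ ∈ U) (h0 : ∀ u ∈ U, ∃ k : ℕ, u₀ ^ k = u)
    (hs : ∀ u ∈ U, ∀ φ, ρ u φ = φ → u = 1 ∨ φ = 0) {p : ℕ} (hp : 1 ≤ p)
    (hF : ∀ l, (ρ u₀).HasEigenvalue l → (ρ u₀).HasEigenvalue (l ^ p)) :
    ∃ b : ℕ, (C[U]).index ≤ b ∧ b ^ 2 * U.relIndex E ≤ finrank K W ^ 2 ∧ (b ≤ 1 → Nat.card U ∣ p - 1) := by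
  classical
  have mem : ∀ l, l ∈ (ρ u₀).charpoly.roots.toFinset ↔ (ρ u₀).HasEigenvalue l := fun l => by
    rw [Multiset.mem_toFinset, Polynomial.mem_roots (LinearMap.charpoly_monic _).ne_zero,
      End.hasEigenvalue_iff_isRoot_charpoly]
  obtain ⟨l, hl⟩ := (ρ u₀).exists_eigenvalue
  obtain ⟨c, c1, c2, c3, c4⟩ := dim_chi h0 hs hl
  obtain ⟨φ, hφ, h1⟩ := hl.exists_hasEigenvector
  refine ⟨(ρ u₀).charpoly.roots.toFinset.card, ?_, ?_, fun hb => ?_⟩
  · rw [← Nat.card_eq_finsetCard]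
    refine Nat.card_le_card_of_injective (fun q : G ⧸ C[U] => (⟨c (q.out * u₀ * q.out⁻¹), (mem _).2
      (End.hasEigenvalue_of_hasEigenvector ⟨End.mem_eigenspace_iff.2 ?_, dim_ne (ρ := ρ) q.out⁻¹ h1⟩)⟩ :
        (ρ u₀).charpoly.roots.toFinset)) fun i j e => ?_
    · rw [← map_smul, ← c1 _ (h.nU.conj_mem _ hu _) φ hφ, ← End.mul_apply, ← End.mul_apply, ← map_mul, ← map_mul]
      simp [mul_assoc]
    · have e' := c4 _ (h.nU.conj_mem _ hu _) _ (h.nU.conj_mem _ hu _) (congrArg Subtype.val e)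
      rw [← i.out_eq, ← j.out_eq, QuotientGroup.eq]
      intro u hu'
      obtain ⟨k, rfl⟩ := h0 u hu'
      refine Commute.pow_left (show u₀ * _ = _ from ?_) k
      calc _ = i.out⁻¹ * (i.out * u₀ * i.out⁻¹) * j.out := by group
        _ = _ := by rw [e']; group
  · obtain ⟨a, ha, hm⟩ := Finset.exists_min_image _ (fun l => finrank K ((ρ u₀).eigenspace l)) ⟨l, (mem l).2 hl⟩
    refine (Nat.mul_le_mul_left _ (dim_big h hu h0 hs ((mem a).1 ha))).trans ?_
    rw [← mul_pow]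
    refine Nat.pow_le_pow_left ((Finset.card_nsmul_le_sum _ _ _ fun x hx => (hm x hx).trans
      ((LinearMap.finrank_eigenspace_le _ x).trans (Polynomial.count_roots _).ge)).trans ?_) 2
    rw [Multiset.toFinset_sum_count_eq, ← LinearMap.charpoly_natDegree (ρ u₀)]
    exact Polynomial.card_roots' _
  · have e : l ^ p = l := Finset.card_le_one.1 hb _ ((mem _).2 (hF l hl)) _ ((mem _).2 hl)
    have e2 : u₀ ^ p = u₀ := c4 _ (pow_mem hu p) _ hu (smul_left_injective K h1 (by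
      simp only
      rw [← c1 _ (pow_mem hu p) φ hφ, ← c1 _ hu φ hφ, map_pow, dim_pow hφ, e,
        End.mem_eigenspace_iff.1 hφ]))
    rw [show U = zpowers u₀ from le_antisymm (fun u hu => let ⟨k, e⟩ := h0 u hu; e ▸ pow_mem (mem_zpowers _) k)
      (zpowers_le.2 hu), Nat.card_zpowers]
    refine orderOf_dvd_of_pow_eq_one (mul_right_cancel (b := u₀) ?_)
    rw [← pow_succ, Nat.sub_add_cancel hp, e2, one_mul]

end Lin

theorem dim_aux {G V K : Type*} [Group G] [Finite G] [AddCommGroup V] [Finite V] [DistribMulAction G V] {p n : ℕ}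
    [Fact p.Prime] [Module (ZMod p) V] [Field K] [IsAlgClosed K] [Algebra (ZMod p) K] [CharP K p] {U E : Subgroup G}
    (h : Setup V p U E) (hV : Nat.card V = p ^ n) (hn : 1 ≤ n) :
    ∃ b : ℕ, (C[U]).index ≤ b ∧ b ^ 2 * U.relIndex E ≤ n ^ 2 ∧ (b ≤ 1 → Nat.card U ∣ p - 1) := by
  have hd : finrank K (V →ₗ[ZMod p] K) = n := by
    rw [finrank_linearMap_self]
    refine Nat.pow_right_injective h.hp.two_le ?_
    simp only
    rw [← hV, natCard_eq_pow_finrank (K := ZMod p), Nat.card_zmod]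
  have := nontrivial_of_finrank_pos (hd.symm ▸ hn : 0 < _)
  let ρ : G →* End K (V →ₗ[ZMod p] K) :=
    ⟨⟨fun g => LinearMap.lcomp _ _ ((DistribSMul.toAddMonoidHom V g⁻¹).toZModLinearMap p), by ext; simp⟩,
      fun a b => by ext; simp [mul_smul]⟩
  have hρ : ∀ g φ v, ρ g φ v = φ (g⁻¹ • v) := fun _ _ _ => rfl
  obtain ⟨u₀, h0⟩ := h.cyc.exists_monoid_generator
  refine hd ▸ dim_lin (ρ := ρ) (u₀ := u₀) h.toGS u₀.2 (fun u hu => ?_) (fun u hu φ e => ?_) h.hp.one_le fun l hl => ?_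
  · obtain ⟨k, e⟩ := h0 ⟨u, hu⟩
    exact ⟨k, congrArg Subtype.val e⟩
  · refine or_iff_not_imp_left.2 fun h1 => LinearMap.ext fun v => ?_
    obtain ⟨w, rfl⟩ := Finite.surjective_of_injective (f := fun v : V => u⁻¹ • v - v) (fun a b e => sub_eq_zero.1
      ((h.fpf _ (inv_mem hu) _ (by rw [smul_sub, sub_eq_sub_iff_sub_eq_sub]; exact e)).resolve_left
        (mt inv_eq_one.1 h1))) v
    simp only
    rw [map_sub, ← hρ, e, sub_self, LinearMap.zero_apply]
  · obtain ⟨φ, hφ, h1⟩ := hl.exists_hasEigenvector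
    refine End.hasEigenvalue_of_hasEigenvector (x := ((frobenius _ p).toAddMonoidHom.comp φ.toAddMonoidHom).toZModLinearMap p)
      ⟨End.mem_eigenspace_iff.2 (LinearMap.ext fun v => ?_), fun e => h1 (LinearMap.ext fun v => ?_)⟩
    · change φ ((u₀ : G)⁻¹ • v) ^ p = l ^ p * φ v ^ p
      rw [← hρ, End.mem_eigenspace_iff.1 hφ, ← mul_pow]
      rfl
    · exact (pow_eq_zero_iff h.hp.ne_zero).1 (LinearMap.congr_fun e v)

theorem dim : Dim.{u} := fun _ V _ _ _ _ _ p _ _ _ h hV hn =>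
  have := Fact.mk h.hp
  let _ : Module (ZMod p) V := AddCommGroup.zmodModule h.pv
  dim_aux (K := AlgebraicClosure (ZMod p)) h hV hn

end CL.SL.HK
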