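/-
Class numbers of solvable groups: the small primes and the reduction to linear groups.
-/
import Cfsg.Agent.Fgs.HK0
import Cfsg.Agent.Grp.Supersolv

set_option autoImplicit false
set_option linter.style.haveILetI false

open Subgroup CL.Odd CL.Grp
open scoped commutatorElement IsMulCommutative

namespace CL.SL.HK

universe u

namespace Rd

theorem cases7 {s h : ℕ} (h0 : 0 < h) (hs : s ∣ h ∨ s = 0) :
    s = h ∨ 2 * s = h ∨ 3 * s = h ∨ 4 * s = h ∨ 5 * s = h ∨ 6 * s = h ∨ 7 * s ≤ h := by
  rcases hs with ⟨k, rfl⟩ | rfl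
  · rcases le_or_gt 7 k with hk | hk
    · exact Or.inr (Or.inr (Or.inr (Or.inr (Or.inr (Or.inr (by nlinarith))))))
    · interval_cases k <;> omega
  · omega

theorem landau (G : Type*) [Group G] [Finite G] :
    (kk G ≤ 3 → Nat.card G ≤ 6) ∧ (kk G ≤ 4 → Nat.card G ≤ 42) := by
  classical
  haveI := Fintype.ofFinite (ConjClasses G)
  have h1 := Group.sum_card_conj_classes_eq_card G
  rw [finsum_eq_sum_of_fintype, ← Finset.add_sum_erase _ _ (Finset.mem_univ (ConjClasses.mk (1 : G)))] at h1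
  have h2 : (ConjClasses.mk (1 : G)).carrier.ncard = 1 := by
    rw [Fgs.carrier_mk, show {y : G | IsConj 1 y} = {1} from Set.ext fun y => by simp, Set.ncard_singleton]
  have h3 : ∀ C : ConjClasses G, C.carrier.ncard ∣ Nat.card G ∨ C.carrier.ncard = 0 := fun C => by
    obtain ⟨x, rfl⟩ := ConjClasses.mk_surjective C
    rw [Fgs.carrier_mk, Fgs.ncard_isConj]
    exact Or.inl (index_dvd_card _)
  have h4 : (Finset.univ.erase (ConjClasses.mk (1 : G))).card + 1 = kk G := by
    rw [Finset.card_erase_add_one (Finset.mem_univ _), kk, Nat.card_eq_fintype_card, Finset.card_univ]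
  have h0 := Nat.card_pos (α := G)
  rw [h2] at h1
  generalize Finset.univ.erase (ConjClasses.mk (1 : G)) = T at h1 h4
  rcases le_or_gt 4 T.card with h5 | h5
  · omega
  obtain h6 | h6 | h6 | h6 : T.card = 0 ∨ T.card = 1 ∨ T.card = 2 ∨ T.card = 3 := by omega
  · rw [Finset.card_eq_zero.1 h6, Finset.sum_empty] at h1
    omega
  · obtain ⟨a, rfl⟩ := Finset.card_eq_one.1 h6
    rw [Finset.sum_singleton] at h1
    have := cases7 h0 (h3 a)
    omega
  · obtain ⟨a, b, e, rfl⟩ := Finset.card_eq_two.1 h6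
    rw [Finset.sum_pair e] at h1
    have := cases7 h0 (h3 a)
    have := cases7 h0 (h3 b)
    omega
  · obtain ⟨a, b, c, e1, e2, e3, rfl⟩ := Finset.card_eq_three.1 h6
    rw [Finset.sum_insert (by simp [e1, e2]), Finset.sum_pair e3] at h1
    have := cases7 h0 (h3 a)
    have := cases7 h0 (h3 b)
    have := cases7 h0 (h3 c)
    omega

variable {G : Type u} [Group G] [Finite G]

theorem kk_le {H : Type*} [Group H] (f : G →* H) (hf : Function.Surjective f) : kk H ≤ kk G := by
  simpa only [Fgs.kPi_univ] using Fgs.kPi_le_of_surjective Set.univ f hf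

theorem quot_add_le (A : Subgroup G) [hA : A.Normal] : kk (G ⧸ A) + Fgs.cl ((A : Set G) \ {1}) ≤ kk G := by
  have h1 : kk (G ⧸ A) ≤ Fgs.cl ((A : Set G) \ {1})ᶜ := by
    refine le_trans (le_of_eq ?_) (Set.ncard_image_le (f := ConjClasses.map (QuotientGroup.mk' A)) (Set.toFinite _))
    rw [kk, ← Set.ncard_univ]
    refine congrArg _ (Set.eq_univ_of_forall fun C => ?_).symm
    obtain ⟨q, rfl⟩ := ConjClasses.mk_surjective C
    obtain ⟨x, rfl⟩ := QuotientGroup.mk'_surjective A q
    by_cases hx : x ∈ A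
    · exact ⟨_, ⟨1, fun h => h.2 rfl, rfl⟩,
        congrArg ConjClasses.mk ((map_one _).trans ((QuotientGroup.eq_one_iff x).2 hx).symm)⟩
    · exact ⟨_, ⟨x, fun h => hx h.1, rfl⟩, rfl⟩
  refine (Nat.add_le_add_right h1 _).trans ?_
  rw [Fgs.cl, Fgs.cl, ← Set.ncard_union_eq _ (Set.toFinite _) (Set.toFinite _), kk, ← Set.ncard_univ]
  · exact Set.ncard_le_ncard (Set.subset_univ _)
  · rw [Set.disjoint_left]
    rintro _ ⟨x, hx, rfl⟩ ⟨y, hy, e⟩
    obtain ⟨c, rfl⟩ := isConj_iff.1 (ConjClasses.mk_eq_mk_iff_isConj.1 e)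
    exact hx ⟨hA.conj_mem y hy.1 c, fun h => hy.2 (conj_eq_one_iff.1 h)⟩

theorem card_sub_le (A : Subgroup G) : Nat.card A - 1 ≤ Fgs.cl ((A : Set G) \ {1}) * (C[A]).index := by
  classical
  haveI := Fintype.ofFinite G
  have h1 := Finset.card_le_mul_card_image (f := ConjClasses.mk) ((A : Set G) \ {1}).toFinset (C[A]).index (by
    intro C hC
    obtain ⟨x, hx, rfl⟩ := Finset.mem_image.1 hC
    refine le_trans ?_ (index_antitone (centralizer_le (Set.singleton_subset_iff.2 (Set.mem_toFinset.1 hx).1)))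
    rw [← Fgs.card_filter_isConj]
    exact Finset.card_le_card fun y hy => Finset.mem_filter.2
      ⟨Finset.mem_univ _, (ConjClasses.mk_eq_mk_iff_isConj.1 (Finset.mem_filter.1 hy).2).symm⟩)
  rw [← Set.ncard_coe_finset, ← Set.ncard_coe_finset, Finset.coe_image, Set.coe_toFinset,
    Set.ncard_sdiff_singleton_of_mem A.one_mem, Fgs.ncard_coe_subgroup, mul_comm] at h1
  exact h1

/-- a minimal normal subgroup of order at least `p ^ 2` -/
theorem big (hl : Lin.{u}) {p : ℕ} (hp : p.Prime) (hs : Group.IsSolvable G) {V : Subgroup G} (hV : IsMinNormal V)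
    (hd : p ∣ Nat.card V) (h2 : p ^ 2 ≤ Nat.card V) : 49 * p ≤ 60 * kk G := by
  haveI := hV.normal
  haveI : IsMulCommutative V := hV.isMulCommutative_of_isSolvable inferInstance
  letI : DistribMulAction G (Additive V) :=
    { smul := fun g w => Additive.ofMul (MulAut.conjNormal g w.toMul)
      one_smul := fun w => by
        change Additive.ofMul (MulAut.conjNormal 1 w.toMul) = w
        simp
      mul_smul := fun a b w => by
        change Additive.ofMul (MulAut.conjNormal (a * b) w.toMul) =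
          Additive.ofMul (MulAut.conjNormal a (MulAut.conjNormal b w.toMul))
        simp
      smul_zero := fun _ => congrArg Additive.ofMul (map_one _)
      smul_add := fun _ x y => congrArg Additive.ofMul (map_mul _ x.toMul y.toMul) }
  have hK : ∀ g : G, (∀ v : Additive V, g • v = v) ↔ g ∈ C[V] := fun g =>
    ⟨fun hg => mem_centralizer_iff.2 fun w hw =>
      (mul_inv_eq_iff_eq_mul.1 (congrArg (fun v : Additive V => (v.toMul : G)) (hg (Additive.ofMul ⟨w, hw⟩)))).symm,
    fun hg v => congrArg Additive.ofMul (Subtype.ext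
      (mul_inv_eq_iff_eq_mul.2 (mem_centralizer_iff.1 hg _ v.toMul.2).symm))⟩
  have hi : Irr G (Additive V) := fun U hU => by
    haveI : (U.toSubgroup'.map V.subtype).Normal := ⟨by
      rintro _ ⟨w, hw, rfl⟩ q
      exact ⟨_, hU q (Additive.ofMul w) hw, rfl⟩⟩
    by_cases h0 : U.toSubgroup'.map V.subtype = ⊥
    · refine Or.inl (eq_bot_iff.2 fun w hw => ?_)
      have : (w.toMul : G) ∈ U.toSubgroup'.map V.subtype := ⟨w.toMul, hw, rfl⟩
      rw [h0, Subgroup.mem_bot] at this
      exact congrArg Additive.ofMul (Subtype.ext this : w.toMul = 1)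
    · refine Or.inr (eq_top_iff.2 fun w _ => ?_)
      obtain ⟨w', hw', e⟩ : (w.toMul : G) ∈ U.toSubgroup'.map V.subtype := by
        rw [hV.eq_of_le h0 (map_subtype_le _)]; exact w.toMul.2
      have : w' = w.toMul := Subtype.ext e
      subst this
      exact hw'
  obtain ⟨G', _, _, _, f, h1, h3, h4, h5⟩ := Vc.exists_faith (V := Additive V) hs
  have hk : ∀ g ∈ V, f g = 1 := fun g hg => h5 _ fun v => (h3 g v).trans ((hK g).2 (le_centralizer V hg) v)
  have hc : (C[V]).index ≤ Nat.card G' := by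
    rw [← card_top, ← f.range_eq_top.2 h1, ← index_ker]
    exact index_antitone fun g hg => (hK g).1 fun v => by rw [← h3, f.mem_ker.1 hg, one_smul]
  have h6 := hl G' (Additive V) p _ hp h4 (fun U hU => hi U fun g v hv => h3 g v ▸ hU (f g) v hv) h5
    (fun v => congrArg Additive.ofMul (Subtype.ext (hV.pow_eq_one_of_dvd inferInstance hp hd _ v.toMul.2) :
      v.toMul ^ p = 1)) h2 ((card_sub_le V).trans (Nat.mul_le_mul_left _ hc))
  have h7 := kk_le (QuotientGroup.lift V f hk) fun q => let ⟨x, e⟩ := h1 q; ⟨x, e⟩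
  have h8 := quot_add_le V
  omega

/-- a minimal normal subgroup of order `p` -/
theorem low {p : ℕ} (hp : p.Prime) (hs : Group.IsSolvable G) {V : Subgroup G} [V.Normal] (hV : Nat.card V = p)
    (hd : p ^ 2 ∣ Nat.card G) (h2 : ¬ p ^ 2 ∣ V.index)
    (h0 : ∀ N : Subgroup G, N.Normal → N ≠ ⊥ → p ∣ Nat.card N) : 49 * p ≤ 60 * kk G := by
  haveI := Fact.mk hp
  obtain ⟨P⟩ : Nonempty (Sylow p G) := inferInstance
  have hP : Nat.card (P : Subgroup G) = p ^ 2 := by
    rw [P.card_eq_multiplicity]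
    refine congrArg _ (le_antisymm ?_ ((hp.pow_dvd_iff_le_factorization Nat.card_pos.ne').1 hd))
    by_contra h
    have := (hp.pow_dvd_iff_le_factorization (k := 3) Nat.card_pos.ne').2 (not_le.1 h)
    rw [← V.card_mul_index, hV, pow_succ'] at this
    exact h2 (Nat.dvd_of_mul_dvd_mul_left hp.pos this)
  haveI := IsPGroup.isMulCommutative_of_card_eq_prime_sq hP
  have hF : Cfsg.fittingSubgroup G ≤ Cfsg.pCore p G := fittingSubgroup_le_of_forall_pCore_le fun r hr => by
    by_cases e : Cfsg.pCore r G = ⊥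
    · rw [e]; exact bot_le
    obtain ⟨k, hk⟩ := (pCore_isPGroup r G).exists_card_eq
    rw [(Nat.prime_dvd_prime_iff_eq hp hr.out).1 (hp.dvd_of_dvd_pow (hk ▸ h0 _ inferInstance e))]
  have hC : C[Cfsg.pCore p G] ≤ Cfsg.pCore p G :=
    (centralizer_le hF).trans ((centralizer_fittingSubgroup_le G).trans hF)
  have hA : Cfsg.pCore p G = P := le_antisymm (pCore_le_sylow P)
    (((le_centralizer _).trans (centralizer_le (pCore_le_sylow P))).trans hC)
  have hVA : V ≤ Cfsg.pCore p G := le_pCore (IsPGroup.of_card (hV.trans (pow_one p).symm))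
  have hi := P.not_dvd_index
  rw [← hA] at hP hi
  have hab : IsMulCommutative (Cfsg.pCore p G) := hA ▸ this
  generalize hn : (inferInstance : (Cfsg.pCore p G).Normal) = hN
  clear hn hA hF
  generalize Cfsg.pCore p G = A at *
  let f := QuotientGroup.mk' V
  haveI : (A.map f).Normal := hN.map f (QuotientGroup.mk'_surjective V)
  haveI : IsCyclic V := isCyclic_of_prime_card hV
  haveI : IsCyclic (A.map f) := by
    refine isCyclic_of_prime_card (p := p) (Nat.eq_of_mul_eq_mul_left hp.pos ?_)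
    rw [← Nat.card_congr (quotientSubgroupOfEquivMap A V).toEquiv, ← pow_two, ← hP, ← card_mul_relIndex hVA, hV]
    rfl
  have hq : IsMulCommutative (G ⧸ A) := ⟨⟨fun x y => by
    obtain ⟨x, rfl⟩ := QuotientGroup.mk'_surjective A x
    obtain ⟨y, rfl⟩ := QuotientGroup.mk'_surjective A y
    rw [← commutatorElement_eq_one_iff_mul_comm, ← map_commutatorElement, ← orderOf_eq_one_iff]
    have c1 := commutator_le_centralizer_of_isCyclic V (commutator_mem_commutator (mem_top x) (mem_top y))
    have c2 := commutator_le_centralizer_of_isCyclic (A.map f)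
      (commutator_mem_commutator (mem_top (f x)) (mem_top (f y)))
    rw [← map_commutatorElement] at c2
    generalize ⁅x, y⁆ = c at c1 c2
    have c3 : c ^ p ∈ A := hC (mem_centralizer_iff.2 fun a ha => by
      have e1 : a⁻¹ * (c * a * c⁻¹) ∈ V := by
        rw [← QuotientGroup.eq, ← QuotientGroup.mk'_apply, ← QuotientGroup.mk'_apply, map_mul, map_mul,
          ← mem_centralizer_iff.1 c2 _ (mem_map_of_mem f ha), map_inv, mul_inv_cancel_right]
      have e2 : ∀ n : ℕ, c ^ n * a = a * (a⁻¹ * (c * a * c⁻¹)) ^ n * c ^ n := fun n => by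
        induction n with
        | zero => simp
        | succ n ih =>
          rw [pow_succ' c, mul_assoc c, ih, pow_succ', ← mul_assoc a, mul_inv_cancel_left, ← mul_assoc _ c,
            mem_centralizer_iff.1 c1 _ (pow_mem e1 n) |> fun h =>
              (show c * a * c⁻¹ * (a⁻¹ * (c * a * c⁻¹)) ^ n * c = c * (a * (a⁻¹ * (c * a * c⁻¹)) ^ n) by
                rw [mul_assoc (c * a * c⁻¹), h]; group)]
          group
      rw [e2, show (a⁻¹ * (c * a * c⁻¹)) ^ p = 1 from
        congrArg Subtype.val (hV ▸ pow_card_eq_one' (x := (⟨_, e1⟩ : V))), mul_one])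
    refine ((Nat.dvd_prime hp).1 (orderOf_dvd_of_pow_eq_one ?_)).resolve_right fun e => hi (e ▸ orderOf_dvd_natCard _)
    rw [← map_pow]
    exact (QuotientGroup.eq_one_iff _).2 c3⟩⟩
  have h5 := quot_add_le A
  have h6 := (card_sub_le A).trans (Nat.mul_le_mul_left _ (index_antitone (le_centralizer A)))
  rw [kk, Fgs.card_conjClasses_of_comm hq, ← index_eq_card] at h5
  rw [hP] at h6
  have h7 := hp.two_le
  generalize Fgs.cl ((A : Set G) \ {1}) = o at *
  generalize A.index = h at *
  have h8 : p ^ 2 ≤ o * h + 1 := by omega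
  by_contra h9
  have h10 : 60 * (h + o) + 1 ≤ 49 * p := by omega
  nlinarith [sq_nonneg ((h : ℤ) - o), Nat.pow_le_pow_left h10 2]

end Rd

theorem small : Small.{u} := by
  intro G _ _ p o hp ho h
  obtain ⟨h1, h2⟩ := Rd.landau G
  have h3 : 0 < kk G := Nat.card_pos
  rcases le_or_gt (kk G) 3 with h4 | h4
  · have := h.trans (Nat.mul_le_mul_left o (h1 h4))
    interval_cases p <;> omega
  rcases le_or_gt (kk G) 4 with h5 | h5
  · have := h.trans (Nat.mul_le_mul_left o (h2 h5))
    interval_cases p <;> omega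
  · omega

theorem red : Red.{u} := by
  intro hl G _ _ p hp hs hd
  induction hn : Nat.card G using Nat.strong_induction_on generalizing G with
  | _ n ih =>
  subst hn
  by_cases h0 : ∃ N : Subgroup G, N.Normal ∧ N ≠ ⊥ ∧ p ^ 2 ∣ N.index
  · obtain ⟨N, _, h1, h2⟩ := h0
    refine (ih _ ?_ (G ⧸ N) inferInstance h2 rfl).trans
      (Nat.mul_le_mul_left _ (Rd.kk_le _ (QuotientGroup.mk'_surjective N)))
    rw [← N.card_mul_index]
    exact lt_mul_left Nat.card_pos (one_lt_card_iff_ne_bot N |>.2 h1)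
  push Not at h0
  have h1 : ∀ N : Subgroup G, N.Normal → N ≠ ⊥ → p ∣ Nat.card N := fun N hN h => by
    by_contra h2
    exact h0 N hN h ((((Nat.Prime.coprime_iff_not_dvd hp).2 h2).pow_left 2).dvd_of_dvd_mul_left
      (N.card_mul_index ▸ hd))
  haveI : Nontrivial G := Finite.one_lt_card_iff_nontrivial.1
    ((Nat.one_lt_pow two_ne_zero hp.one_lt).trans_le (Nat.le_of_dvd Nat.card_pos hd))
  obtain ⟨V, hV⟩ := exists_isMinNormal G
  haveI := hV.normal
  haveI := Fact.mk hp
  have h2 := h1 V hV.normal hV.ne_bot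
  obtain ⟨k, hk⟩ := IsPGroup.exists_card_eq (p := p) (G := V) fun v => ⟨1, Subtype.ext (by
    rw [pow_one]
    exact hV.pow_eq_one_of_dvd (hV.isMulCommutative_of_isSolvable inferInstance) hp h2 _ v.2)⟩
  obtain rfl | rfl | h3 : k = 0 ∨ k = 1 ∨ 2 ≤ k := by omega
  · exact absurd (card_eq_one.1 hk) hV.ne_bot
  · exact Rd.low hp hs (hk.trans (pow_one p)) hd (h0 V hV.normal hV.ne_bot) h1
  · exact Rd.big hl hp hs hV h2 (hk ▸ Nat.pow_le_pow_right hp.pos h3)

end CL.SL.HK
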