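/-
Class numbers of solvable groups: the bound for a section of order sixteen.
-/
import Cfsg.Agent.Fgs.HK1

set_option autoImplicit false
set_option linter.style.haveILetI false

open Subgroup CL.Odd CL.Grp CL.SL.Vc
open scoped Nat

namespace CL.SL.HK

universe u

theorem index_C_le_totient {G : Type u} [Group G] [Finite G] {U E : Subgroup G} (h : GS U E) :
    (C[U]).index ≤ (Nat.card U).totient := by
  haveI := h.nU
  haveI := h.cyc
  have e : (MulAut.conjNormal : G →* MulAut U).ker = C[U] := by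
    ext g
    simp only [MonoidHom.mem_ker, MulEquiv.ext_iff, Subtype.ext_iff, MulAut.conjNormal_apply, MulAut.one_apply,
      mem_centralizer_iff, mul_inv_eq_iff_eq_mul, Subtype.forall, SetLike.mem_coe]
    exact forall₂_congr fun _ _ => eq_comm
  haveI : Finite (MulAut U) := Finite.of_injective (fun f : MulAut U => (f : U → U)) DFunLike.coe_injective
  rw [← e, index_ker]
  exact (card_le_card_group _).trans (IsCyclic.card_mulAut U).le

theorem index_Kr_le_mul {G V : Type*} [Group G] [Finite G] [AddCommGroup V] [DistribMulAction G V]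
    {Z W : AddSubgroup V} (hZ : Inv G V Z) (hW : Inv G V W) (hs : Z ⊔ W = ⊤) :
    (Kr G V).index ≤ (letI := subAct hZ; Kr G Z).index * (letI := subAct hW; Kr G W).index := by
  refine (index_antitone fun g hg => mem_Kr.2 fun v => ?_).trans index_inf_le
  obtain ⟨z, hz, w, hw, rfl⟩ := AddSubgroup.mem_sup.1 (hs ▸ AddSubgroup.mem_top v : v ∈ Z ⊔ W)
  letI := subAct hZ
  letI := subAct hW
  rw [smul_add, show g • z = z from congrArg Subtype.val (mem_Kr.1 hg.1 ⟨z, hz⟩),
    show g • w = w from congrArg Subtype.val (mem_Kr.1 hg.2 ⟨w, hw⟩)]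

theorem card_le_imp {G V : Type u} [Group G] [Finite G] [AddCommGroup V] [Finite V] [DistribMulAction G V]
    (hs : Group.IsSolvable G) (hf : Faith G V) {L : Subgroup G} {π : V →+ V} {Y : AddSubgroup V} (I : Imp L π Y) :
    Nat.card G ≤ L.index ! * (Nat.card Y - 1)! ^ L.index := by
  letI := subAct I.inv
  obtain ⟨G', _, _, _, f, h1, h2, -, h3⟩ := exists_faith (G := L) (V := Y) inferInstance
  obtain ⟨ψ, hψ⟩ := exists_emb I hf f fun l hl y hy =>
    congrArg Subtype.val ((h2 l ⟨y, hy⟩).symm.trans (by rw [hl, one_smul]))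
  rw [← L.normalCore.index_mul_card]
  refine Nat.mul_le_mul (Nat.le_of_dvd (Nat.factorial_pos _) (index_core_dvd L))
    ((Nat.card_le_card_of_injective _ hψ).trans ?_)
  rw [Nat.card_fun, card_eq_index h1 h2 h3]
  exact Nat.pow_le_pow_left (Nat.le_of_dvd (Nat.factorial_pos _) index_Kr_dvd) _

theorem card_le_of_irr16 {G V : Type u} [Group G] [Finite G] [AddCommGroup V] [Finite V] [DistribMulAction G V]
    (hs : Group.IsSolvable G) (hi : Irr G V) (hf : Faith G V) (hV : Nat.card V = 16) : Nat.card G ≤ 120 := by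
  haveI : Nontrivial V := Finite.one_lt_card_iff_nontrivial.1 (by omega)
  obtain ⟨p, U, E, h⟩ | ⟨L, π, Y, I⟩ := irr_cases' hs hi hf
  · have hu := card_U_dvd h
    obtain ⟨D, ξ, m⟩ := exists_mx (V := V) E
    obtain ⟨c, h1, h2, h3⟩ := shape h m
    rw [hV] at hu h3
    obtain rfl : c = 1 := h1.resolve_right fun e => by
      have := (even_iff_two_dvd.1 e.2).trans hu
      omega
    have h4 : U.relIndex E = 1 := by
      by_contra h4
      obtain ⟨r, hr, hd⟩ := Nat.exists_prime_and_dvd h4
      have h5 := prime_dvd_U h.toGS hr hd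
      have h6 : r ≠ 2 := by
        rintro rfl
        have := h5.trans hu
        omega
      have h7 := hr.two_le
      have h8 := Nat.le_of_dvd Nat.card_pos h5
      have h9 := Nat.le_of_dvd Nat.card_pos (hr.dvd_of_dvd_pow (one_mul (Nat.card D ^ 2) ▸ h2 ▸ hd))
      have := ((Nat.pow_le_pow_left (show 4 ≤ Nat.card U * 1 + 1 by omega) 3).trans
        (Nat.pow_le_pow_right (by omega) (show 3 ≤ Nat.card D by omega))).trans h3
      omega
    have h5 : C[U] ≤ U := fun g hg => h.self g fun a ha =>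
      (mem_centralizer_iff.1 hg a (relIndex_eq_one.1 h4 ha)).symm
    have h6 := Nat.mul_le_mul (index_C_le_totient h.toGS) (card_le_of_le h5)
    rw [index_mul_card] at h6
    have h7 : Nat.card U ∈ Nat.divisors 15 := Nat.mem_divisors.2 ⟨hu, by norm_num⟩
    have h8 : ∀ u ∈ Nat.divisors 15, u.totient * u ≤ 120 := by decide
    exact h6.trans (h8 _ h7)
  · have h1 := card_le_imp hs hf I
    have h2 := I.two_le
    have h3 := I.pow_le
    haveI := I.nontrivial
    have h4 : 1 < Nat.card Y := Finite.one_lt_card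
    rw [hV] at h3
    generalize Nat.card Y = y at *
    generalize L.index = t at *
    have h5 : y ≤ 4 := by
      by_contra h5
      have := ((Nat.pow_le_pow_left (show 5 ≤ y by omega) 2).trans (Nat.pow_le_pow_right (by omega) h2)).trans h3
      omega
    have h6 : t ≤ 4 := by
      by_contra h6
      have := ((Nat.pow_le_pow_right two_pos (show 5 ≤ t by omega)).trans (Nat.pow_le_pow_left h4 t)).trans h3
      omega
    interval_cases y <;> interval_cases t <;> simp [Nat.factorial] at h1 h3 <;> omega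

theorem x16 : X16.{u} := by
  intro G _ _ U E hs h he
  obtain ⟨N, _, _, _, ν, s⟩ := exists_sec h
  refine (s.relIndex_le h).trans ?_
  have hN := s.card.trans he
  by_cases hi : Irr G N
  · obtain ⟨G', _, _, _, f, h1, h2, h3, h4⟩ := exists_faith (V := N) hs
    rw [← card_eq_index h1 h2 h4]
    exact card_le_of_irr16 h3 (irr_of_hom h2 hi) h4 hN
  obtain ⟨Z, hZ, h1⟩ : ∃ Z, Inv G N Z ∧ ¬ (Z = ⊥ ∨ Z = ⊤) := by simpa only [Irr, not_forall, exists_prop] using hi
  obtain ⟨W, hW, h2, h3⟩ := s.cr h Z hZ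
  have h4 := (card_mul_of_compl h2 h3).trans hN
  have h5 : Nat.card Z ≠ 1 := fun e => h1 (Or.inl (AddSubgroup.card_eq_one.1 e))
  have h6 : Nat.card W ≠ 1 := fun e => h1 (Or.inr (by rw [← h3, AddSubgroup.card_eq_one.1 e, sup_bot_eq]))
  have h7 := s.not_prime h hZ
  have h8 := s.not_prime h hW
  have h9 : ∀ a ∈ Nat.divisors 16, ∀ b ∈ Nat.divisors 16, a * b = 16 → a ≠ 1 → b ≠ 1 → ¬ a.Prime → ¬ b.Prime →
      a = 4 ∧ b = 4 := by decide
  obtain ⟨e1, e2⟩ := h9 _ (Nat.mem_divisors.2 ⟨Dvd.intro _ h4, by norm_num⟩) _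
    (Nat.mem_divisors.2 ⟨Dvd.intro_left _ h4, by norm_num⟩) h4 h5 h6 h7 h8
  letI := subAct hZ
  letI := subAct hW
  have k1 := Nat.le_of_dvd (Nat.factorial_pos _) (index_Kr_dvd (G := G) (V := Z))
  have k2 := Nat.le_of_dvd (Nat.factorial_pos _) (index_Kr_dvd (G := G) (V := W))
  rw [e1] at k1
  rw [e2] at k2
  exact (index_Kr_le_mul hZ hW h3).trans ((Nat.mul_le_mul k1 k2).trans (by decide))

end CL.SL.HK
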