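/-
Class numbers of solvable groups: bounds for sections of order 4, 9, 36 and of order prime to six.
-/
import Cfsg.Agent.Fgs.HKX16

set_option autoImplicit false
set_option linter.style.haveILetI false

open Subgroup CL.Odd CL.Grp CL.SL.Vc
open scoped Nat commutatorElement

namespace CL.SL.HK

universe u

namespace Xa

theorem card_le3 {W : Type*} [AddCommGroup W] [Finite W] (hW : Nat.card W = 9) {Y : AddSubgroup W} (hY : Y ≠ ⊤) :
    Nat.card Y = 1 ∨ Nat.card Y = 3 := by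
  have h1 : Nat.card Y ≠ 9 := fun e => hY (AddSubgroup.eq_top_of_card_eq _ (e.trans hW.symm))
  have h2 : ∀ a ∈ Nat.divisors 9, a ≠ 9 → a = 1 ∨ a = 3 := by decide
  exact h2 _ (Nat.mem_divisors.2 ⟨hW ▸ AddSubgroup.card_addSubgroup_dvd_card Y, by norm_num⟩) h1

theorem gen2 {W : Type*} [AddCommGroup W] [Finite W] (hW : Nat.card W = 9) :
    ∃ a b : W, a ≠ 0 ∧ ∀ Y : AddSubgroup W, a ∈ Y → b ∈ Y → Y = ⊤ := by
  haveI : Nontrivial W := Finite.one_lt_card_iff_nontrivial.1 (by omega)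
  obtain ⟨a, ha⟩ := exists_ne (0 : W)
  by_cases h : AddSubgroup.zmultiples a = ⊤
  · exact ⟨a, a, ha, fun Y h1 _ => top_le_iff.1 (h ▸ AddSubgroup.zmultiples_le.2 h1)⟩
  obtain ⟨b, hb⟩ : ∃ b, b ∉ AddSubgroup.zmultiples a := by simpa [AddSubgroup.eq_top_iff'] using h
  refine ⟨a, b, ha, fun Y h1 h2 => by_contra fun h3 => hb ?_⟩
  have h4 := (card_le3 hW h).resolve_left fun e =>
    ha (AddSubgroup.mem_bot.1 (AddSubgroup.card_eq_one.1 e ▸ AddSubgroup.mem_zmultiples a))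
  have h5 := card_le3 hW h3
  rw [AddSubgroup.eq_of_le_of_card_ge (AddSubgroup.zmultiples_le.2 h1) (by omega)]
  exact h2

variable {G W : Type*} [Group G] [AddCommGroup W] [DistribMulAction G W]

theorem fix_of_gen {a b : W} (h : ∀ Y : AddSubgroup W, a ∈ Y → b ∈ Y → Y = ⊤) {g : G} (ha : g • a = a)
    (hb : g • b = b) (w : W) : g • w = w :=
  (h ((DistribSMul.toAddMonoidHom W g).eqLocus (AddMonoidHom.id W)) ha hb ▸ AddSubgroup.mem_top w :
    w ∈ (DistribSMul.toAddMonoidHom W g).eqLocus (AddMonoidHom.id W))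

theorem index9 [Finite G] [Finite W] (hW : Nat.card W = 9) : (Kr G W).index ≤ 81 := by
  obtain ⟨a, b, -, h⟩ := gen2 hW
  have := index_Kr_le (G := G) (k := 2) ⟨![a, b], fun g hg => fix_of_gen h (hg 0) (hg 1)⟩
  rwa [hW] at this

theorem rel_stab (H : Subgroup G) (w : W) :
    (MulAction.stabilizer G w).relIndex H = (MulAction.orbit H w).ncard :=
  MulAction.index_stabilizer H w

theorem index36 [Finite G] [Finite W] (hW : Nat.card W = 36) : (Kr G W).index ≤ 486 := by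
  have hi : ∀ n : ℕ, Inv G W (nsmulAddMonoidHom n : W →+ W).ker := fun n g v hv => by
    change n • g • v = 0
    rw [← smul_comm, show n • v = 0 from hv, smul_zero]
  have h0 : ∀ w : W, 36 • w = 0 := fun w => hW ▸ card_nsmul_eq_zero'
  have h1 : (nsmulAddMonoidHom 4 : W →+ W).ker ⊓ (nsmulAddMonoidHom 9).ker = ⊥ := eq_bot_iff.2 fun w hw => by
    have e1 : 4 • w = 0 := hw.1
    have e2 : 9 • w = 0 := hw.2
    exact AddSubgroup.mem_bot.2 (by linear_combination (norm := abel) e2 - e1 - e1)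
  have h2 : (nsmulAddMonoidHom 4 : W →+ W).ker ⊔ (nsmulAddMonoidHom 9).ker = ⊤ := eq_top_iff.2 fun w _ =>
    AddSubgroup.mem_sup.2 ⟨9 • w, show 4 • 9 • w = 0 by rw [← mul_smul]; exact h0 w, -(8 • w),
      show (9 : ℕ) • -((8 : ℕ) • w) = (0 : W) by linear_combination (norm := abel) -h0 w - h0 w, by abel⟩
  have h3 := (card_mul_of_compl h1 h2).trans hW
  have h4 : ∀ r n : ℕ, r.Prime → r ∣ Nat.card (nsmulAddMonoidHom n : W →+ W).ker → r ∣ n := fun r n hr hd => by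
    haveI := Fact.mk hr
    obtain ⟨w, hw⟩ := exists_prime_addOrderOf_dvd_card' r hd
    exact hw ▸ addOrderOf_dvd_of_nsmul_eq_zero (Subtype.ext w.2)
  have h5 : ∀ a ∈ Nat.divisors 36, ∀ b ∈ Nat.divisors 36, a * b = 36 → ¬ 3 ∣ a → ¬ 2 ∣ b → a = 4 ∧ b = 9 := by decide
  obtain ⟨e1, e2⟩ := h5 _ (Nat.mem_divisors.2 ⟨Dvd.intro _ h3, by norm_num⟩) _
    (Nat.mem_divisors.2 ⟨Dvd.intro_left _ h3, by norm_num⟩) h3 (fun e => by simpa using h4 3 4 Nat.prime_three e)
    fun e => by simpa using h4 2 9 Nat.prime_two e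
  letI := subAct (hi 4)
  letI := subAct (hi 9)
  have k1 := Nat.le_of_dvd (Nat.factorial_pos _) (index_Kr_dvd (G := G) (V := (nsmulAddMonoidHom 4 : W →+ W).ker))
  rw [e1] at k1
  exact (index_Kr_le_mul (hi 4) (hi 9) h2).trans (Nat.mul_le_mul k1 (index9 e2))

end Xa

theorem xa : XA.{u} := by
  intro G _ _ U E hs h
  obtain ⟨N, _, _, _, ν, s⟩ := exists_sec h
  rw [← s.card]
  refine ⟨fun hN => ?_, fun hN => ?_, fun hN => (s.relIndex_le h).trans (Xa.index36 hN), fun hN =>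
    (s.relIndex_le h).trans (index_Kr_le ((baseThm G N hs (s.cr h)).2 (Or.inr (Or.inr hN))))⟩
  · have e : E = Kr G N ⊓ C[U] := le_antisymm (fun t ht => ⟨mem_Kr.2 fun w => by
      obtain ⟨a, ha, rfl⟩ := s.surj w
      rw [s.smul t a ha, show t * a * t⁻¹ = ⁅t, a⁆ * a by simp [commutatorElement_def],
        s.mul _ (h.le (h.comm t ht a ha)) a ha, (s.zero _ (h.le (h.comm t ht a ha))).2 (h.comm t ht a ha), zero_add],
      mem_centralizer_iff.2 fun u hu => h.cent u hu t ht⟩) (s.ker_le h)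
    have h1 := index_Kr_dvd (G := G) (V := N)
    rw [hN] at h1
    rw [e, inf_relIndex_right]
    exact (relIndex_dvd_index_of_normal _ _).trans h1
  obtain ⟨w1, w2, h0, hw⟩ := Xa.gen2 hN
  obtain ⟨a, ha, rfl⟩ := s.surj w1
  obtain ⟨b, hb, rfl⟩ := s.surj w2
  have hY : s.im C1[a] ≠ ⊤ := fun e => h0 ((s.zero a ha).2 (h.self a fun t ht => by
    obtain ⟨x, hx, e1⟩ : ν t ∈ s.im C1[a] := e ▸ AddSubgroup.mem_top _
    have h1 : x⁻¹ * t ∈ U := (s.zero _ (E.mul_mem (E.inv_mem hx.1) ht)).1 (by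
      rw [s.mul _ (E.inv_mem hx.1) _ ht, s.inv hx.1, e1, neg_add_cancel])
    rw [← mul_inv_cancel_left x t, ← mul_assoc, mem_cent1.1 hx.2, mul_assoc, ← h.cent _ h1 a ha, mul_assoc x]))
  have h1 : (MulAction.stabilizer G (ν a)).relIndex C[U] ≤ 8 := by
    rw [Xa.rel_stab]
    refine (Set.ncard_le_ncard (t := {0}ᶜ) ?_).trans (by rw [Set.ncard_compl, Set.ncard_singleton, hN])
    rintro _ ⟨g, rfl⟩
    exact smul_ne (g : G) h0
  have h2 : (MulAction.stabilizer G (ν b)).relIndex (MulAction.stabilizer G (ν a) ⊓ C[U]) ≤ 3 := by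
    rw [Xa.rel_stab]
    refine (Set.ncard_le_ncard (t := (· + ν b) '' s.im C1[a]) ?_).trans ((Set.ncard_image_le (Set.toFinite _)).trans ?_)
    · rintro _ ⟨⟨g, hg⟩, rfl⟩
      refine ⟨_, ⟨dl g b, ⟨h.dl_mem g hb, mem_cent1.2 (comm_iff.1 ?_)⟩, rfl⟩, ?_⟩
      · have e1 : dl g a ∈ U := (s.zero _ (h.dl_mem g ha)).1 (by rw [s.dl g h.nE ha, hg.1, sub_self])
        have e2 : g * ⁅a, b⁆ * g⁻¹ = ⁅a, b⁆ := by
          rw [← mem_centralizer_iff.1 hg.2 _ (h.comm a ha b hb), mul_inv_cancel_right]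
        rw [conjugate_commutatorElement, conj_eq_dl, conj_eq_dl,
          h.comm_mul_left ha (h.le e1) (E.mul_mem hb (h.dl_mem g hb)), h.comm_U_left e1 (E.mul_mem hb (h.dl_mem g hb)),
          mul_one, h.comm_mul_right ha hb (h.dl_mem g hb)] at e2
        exact mul_eq_left.1 e2
      · change ν (dl g b) + ν b = g • ν b
        rw [s.dl g h.nE hb, sub_add_cancel]
    · have := Xa.card_le3 hN hY
      rw [← Nat.card_coe_set_eq]
      change Nat.card (s.im C1[a]) ≤ 3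
      omega
  refine (relIndex_le_of_le_left (H := MulAction.stabilizer G (ν b) ⊓ (MulAction.stabilizer G (ν a) ⊓ C[U]))
    (fun g hg => s.ker_le h ⟨mem_Kr.2 (Xa.fix_of_gen hw hg.2.1 hg.1), hg.2.2⟩) index_ne_zero_of_finite).trans ?_
  rw [← relIndex_mul_relIndex _ _ _ inf_le_right inf_le_right, inf_relIndex_right, inf_relIndex_right]
  exact Nat.mul_le_mul h2 h1

end CL.SL.HK
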