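/-
Class numbers of solvable groups whose Sylow `p`-subgroups are not normal.
-/
import Cfsg.Agent.Fgs.HK2
import Cfsg.Agent.Fgs.HKDim
import Cfsg.Agent.Fgs.HKCrit
import Cfsg.Agent.Fgs.HKRed
import Cfsg.Agent.Fgs.HKXa
import Cfsg.Agent.Fgs.HKX16
import Cfsg.Agent.Grp.Supersolv3

set_option autoImplicit false
set_option linter.style.haveILetI false

open Subgroup CL.Odd CL.Grp CL.SL.Vc
open scoped Nat commutatorElement IsMulCommutative

namespace CL.SL.HK

universe u

theorem thm : Thm.{u} := red (lin_of dim cen crit xa x16 small)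

namespace Lg

theorem n1 {a : ℕ} (h : 11 ≤ a) : 11 * a ^ 2 ≤ 2 ^ a := by
  induction a, h using Nat.le_induction with
  | base => decide
  | succ a h ih => rw [pow_succ 2]; nlinarith

theorem n2 (a : ℕ) : (a + 1) ^ 2 ≤ 4 ^ a := by
  induction a with
  | zero => decide
  | succ a ih =>
    have : (a + 1 + 1) ^ 2 ≤ (a + 1) ^ 2 * 4 := by nlinarith [Nat.zero_le a, Nat.zero_le (a * a)]
    rw [pow_succ 4]; omega

theorem n3 {a e w r : ℕ} (ha : 1 ≤ a) (he : 1 ≤ e) (hw : 2 ^ (a * e) ≤ w) (h : 4096 ≤ w ∧ 1 ≤ r ∨ 128 ≤ w ∧ 5 ≤ r) :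
    a ^ 2 * max 11 (2 ^ e) ≤ r * w := by
  have h0 : 2 ^ a ≤ w := (Nat.pow_le_pow_right two_pos (Nat.le_mul_of_pos_right _ he)).trans hw
  have h1 : w ≤ r * w := Nat.le_mul_of_pos_left _ (by omega)
  by_cases h2 : 2 ^ e ≤ 11
  · rw [max_eq_left h2]
    by_cases h3 : 11 ≤ a
    · have := n1 h3
      omega
    · have : a ≤ 10 := by omega
      obtain ⟨h, -⟩ | ⟨h, h'⟩ := h
      · nlinarith
      · have := Nat.mul_le_mul_right w h'
        interval_cases a <;> omega
  · rw [max_eq_right (by omega)]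
    obtain ⟨a, rfl⟩ : ∃ b, a = b + 1 := ⟨a - 1, by omega⟩
    have h3 : 2 ≤ e := by
      by_contra h3
      obtain rfl : e = 1 := by omega
      omega
    refine le_trans ?_ (hw.trans h1)
    rw [add_mul, one_mul, pow_add]
    refine Nat.mul_le_mul_right _ ((n2 a).trans ?_)
    rw [show 4 = 2 ^ 2 from rfl, ← pow_mul, mul_comm a]
    exact Nat.pow_le_pow_right two_pos (Nat.mul_le_mul_right _ h3)

theorem n4 {d : ℕ} (h : 3 ≤ d) : 5 * (d + 1) ^ 8 ≤ 128 ^ d := by
  induction d, h using Nat.le_induction with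
  | base => decide
  | succ d h ih =>
    have h1 : ((d + 1 + 1) * 4) ^ 8 ≤ ((d + 1) * 5) ^ 8 := Nat.pow_le_pow_left (by omega) 8
    rw [mul_pow, mul_pow] at h1
    rw [pow_succ 128]
    omega

theorem n5 {j e : ℕ} (hj : 1 ≤ j) (h : 3 * j + 1 ≤ e) : 4 * 4 ^ j * e ^ 2 ≤ 18 * j ^ 2 * 2 ^ e := by
  induction e, h using Nat.le_induction with
  | base =>
    have h1 : 2 * 4 ^ j ≤ 2 ^ (3 * j) := by
      rw [pow_mul, show 2 ^ 3 = 2 * 4 from rfl, mul_pow]
      exact Nat.mul_le_mul_right _ (Nat.le_self_pow (by omega) 2)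
    have h2 : (3 * j + 1) ^ 2 ≤ 18 * j ^ 2 := by nlinarith
    rw [pow_succ 2]
    nlinarith [Nat.mul_le_mul h1 h2]
  | succ e h ih =>
    have : (e + 1) ^ 2 ≤ 2 * e ^ 2 := by nlinarith
    rw [pow_succ 2]
    nlinarith [Nat.mul_le_mul_left (4 * 4 ^ j) this]

theorem n6 {p j e o k : ℕ} (h2 : 2 ≤ p) (hj : 1 ≤ j) (h1 : p < 2 ^ (j + 1)) (h3 : 2 ^ j ≤ p) (he : 1 ≤ e)
    (ho : p - 1 ≤ o * e) (hk : e + o ≤ k) (h : 4096 ≤ p → 2 * 2 ^ e ≤ e ^ 2 * k ^ 2) : p ≤ 3 * j * k := by
  obtain ⟨p, rfl⟩ : ∃ q, p = q + 1 := ⟨p - 1, by omega⟩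
  rw [Nat.add_sub_cancel] at ho
  by_cases h4 : e ≤ 3 * j
  · nlinarith [Nat.mul_le_mul_left o h4, Nat.mul_le_mul_left (3 * j) hk]
  rw [← Nat.pow_le_pow_iff_left two_ne_zero, mul_pow _ k]
  by_cases h5 : 4096 ≤ p + 1
  · refine Nat.le_of_mul_le_mul_right ?_ (show 0 < e ^ 2 by positivity)
    have h6 := n5 hj (show 3 * j + 1 ≤ e by omega)
    have h7 : (p + 1) ^ 2 ≤ 4 * 4 ^ j := (Nat.pow_le_pow_left h1.le 2).trans_eq (by
      rw [← pow_mul, mul_comm _ 2, pow_mul, pow_succ, mul_comm]; rfl)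
    nlinarith [Nat.mul_le_mul_right (e ^ 2) h7, Nat.mul_le_mul_left (9 * j ^ 2) (h h5)]
  · have h6 : j < 12 := (Nat.pow_lt_pow_iff_right one_lt_two).1 (by omega)
    have h7 : p + 3 ≤ 36 * j ^ 2 := by interval_cases j <;> omega
    have h8 : 4 * p ≤ k ^ 2 := by nlinarith [Nat.pow_le_pow_left hk 2, sq_nonneg ((e : ℤ) - o)]
    nlinarith [Nat.mul_le_mul_left (9 * j ^ 2) h8, Nat.mul_le_mul_left p h7]

theorem commProb_le_rel {G : Type*} [Group G] [Finite G] {H K : Subgroup G} (h : H ≤ K) :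
    commProb H ≤ commProb K * (H.relIndex K : ℚ) ^ 2 :=
  (commProb_congr (subgroupOfEquivOfLe h)).ge.trans (H.subgroupOf K).commProb_subgroup_le

theorem core_bound {G : Type u} [Group G] [Finite G] (hs : Group.IsSolvable G) {L : Subgroup G} (hL : IsCoatom L) :
    L.normalCore.index ^ 2 ≤ 11 ^ (L.index - 1) := by
  obtain ⟨A, _, _, _, τ, hA', e1, -, e3, -⟩ := affThm G hs L hL
  have t2 : 2 ≤ L.index := by
    have := mt index_eq_one.1 hL.1
    have : L.index ≠ 0 := index_ne_zero_of_finite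
    omega
  haveI : Nontrivial A := Finite.one_lt_card_iff_nontrivial.1 (by omega)
  have k3 : ∀ k, Reg G A k → L.normalCore.index ≤ (L.index - 1) ^ k * L.index := fun k hk =>
    ((index_antitone e3).trans index_inf_le).trans (Nat.mul_le_mul_right _ (e1 ▸ index_Kr_le' hk))
  have hb := baseThm G A hs (cr_of_irr hA')
  have k4 := num_imp t2 (fun e => by
    obtain ⟨r, k, hr, e2⟩ := card_pow_of_irr hA'
    rw [e1, e] at e2
    have a2 := (Nat.prime_dvd_prime_iff_eq Nat.prime_two hr).1 (Nat.prime_two.dvd_of_dvd_pow (e2 ▸ (by decide : 2 ∣ 6)))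
    have a3 := (Nat.prime_dvd_prime_iff_eq Nat.prime_three hr).1
      (Nat.prime_three.dvd_of_dvd_pow (e2 ▸ (by decide : 3 ∣ 6)))
    omega) (Nat.le_of_dvd (Nat.factorial_pos _) (index_core_dvd L)) (k3 3 hb.1)
    fun hc => k3 2 (hb.2 (Or.inr (Or.inr (e1 ▸ hc))))
  rw [show L.index - 1 = L.index - 2 + 1 by omega, pow_succ 11]
  omega

variable {G V : Type u} [Group G] [Finite G] [AddCommGroup V] [Finite V] [DistribMulAction G V] {P : Subgroup G}

omit [Finite G] [Finite V] in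
theorem fpf [hP : P.Normal] (hp : (Nat.card P).Prime) (hi : Irr G V) (hf : Faith G V) {x : G} (hx : x ∈ P) {v : V}
    (e : x • v = v) : x = 1 ∨ v = 0 := by
  haveI := Fact.mk hp
  refine or_iff_not_imp_left.2 fun h1 => ?_
  let T : AddSubgroup V :=
    { carrier := {w | ∀ y ∈ P, y • w = w}
      zero_mem' := fun _ _ => smul_zero _
      add_mem' := fun ha hb y hy => by rw [smul_add, ha y hy, hb y hy]
      neg_mem' := fun ha y hy => by rw [smul_neg, ha y hy] }
  have hT := (hi T fun g w hw y hy => by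
    rw [← mul_smul, show y * g = g * (g⁻¹ * y * g) by group, mul_smul, hw _ (hP.conj_mem' y hy g)]).resolve_right
    fun h => h1 (hf x fun w => (h ▸ AddSubgroup.mem_top w : w ∈ T) x hx)
  refine AddSubgroup.mem_bot.1 (hT ▸ fun y hy => ?_)
  obtain ⟨k, hk⟩ := mem_zpowers_of_prime_card (G := P) rfl (g := ⟨x, hx⟩) (g' := ⟨y, hy⟩)
    fun h => h1 (congrArg Subtype.val h)
  exact (show x ^ k = y from congrArg Subtype.val hk) ▸ (MulAction.stabilizer G v).zpow_mem e k

theorem prim' [Nontrivial V] [hP : P.Normal] (hp : (Nat.card P).Prime) (h4 : 4096 ≤ Nat.card P)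
    (hs : Group.IsSolvable G) {q : ℕ} {U E : Subgroup G} (h : Setup V q U E) :
    (max 11 (2 ^ (C[P]).index) : ℕ) ≤ commProb C[P] * Nat.card V := by
  haveI := Fact.mk hp
  haveI := h.nU
  haveI := h.nE
  haveI : IsCyclic P := isCyclic_of_prime_card rfl
  have hPE : P ≤ E := by
    refine ((E.subgroupOf P).eq_bot_or_eq_top_of_prime_card.imp_left fun e => ?_).elim id subgroupOf_eq_top.1
    exact fun x hx => h.le (h.self x fun a ha => (commute_of_normal_of_disjoint P E hP h.nE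
      (subgroupOf_eq_bot.1 e).symm x a hx ha).eq)
  have hPU : P ≤ U := le_sup_left.trans (h.abn (P ⊔ U) inferInstance le_sup_right (sup_le hPE h.le) fun a ha b hb => by
    obtain ⟨x, hx, u, hu, rfl⟩ := mem_sup_of_normal_right.1 ha
    obtain ⟨y, hy, w, hw, rfl⟩ := mem_sup_of_normal_right.1 hb
    have c1 : Commute x y := congrArg Subtype.val (mul_comm' (⟨x, hx⟩ : P) ⟨y, hy⟩)
    have c2 : Commute x w := (h.cent w hw x (hPE hx)).symm
    have c3 : Commute u (y * w) := h.cent u hu _ (mul_mem (hPE hy) (h.le hw))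
    exact (c1.mul_right c2).mul_left c3)
  obtain ⟨n, hn⟩ := card_pow h.hp h.pv
  have h1 := Finite.one_lt_card (α := V)
  obtain ⟨b, b1, b2, -⟩ := dim G V q n U E h hn (Nat.pos_of_ne_zero (by rintro rfl; rw [hn] at h1; simp at h1))
  obtain ⟨D, ξ, m⟩ := exists_mx (V := V) E
  obtain ⟨c0, hc0, e1, e2⟩ := shape h m
  have hu : 4096 ≤ Nat.card U := h4.trans (card_le_of_le hPU)
  obtain ⟨d, hd, d1, d2⟩ : ∃ d, U.relIndex E = d ^ 2 ∧ 128 ^ d ≤ Nat.card V ∧ (d = 1 → 4096 ≤ Nat.card V) := by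
    obtain rfl | ⟨rfl, -⟩ := hc0
    · exact ⟨_, e1.trans (one_mul _), (Nat.pow_le_pow_left (by omega) _).trans e2, fun e => by
        rw [e, pow_one] at e2; omega⟩
    · exact ⟨2 * Nat.card D, e1.trans (by ring), by
        rw [pow_mul]; exact (Nat.pow_le_pow_left (by omega) _).trans e2, by omega⟩
  have hU : U ≤ C[U] := fun a ha => mem_centralizer_iff.2 fun w hw => h.cent w hw a (h.le ha)
  have k1 := card_C h.toGS
  have k2 : U.relIndex C[U] = d ^ 2 * E.relIndex C[U] := by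
    rw [← hd, relIndex_mul_relIndex _ _ _ h.le fun a ha => mem_centralizer_iff.2 fun w hw => h.cent w hw a ha]
  have k3 := cen C[U] (U.subgroupOf C[U]) fun a ha => mem_center_iff.2 fun g =>
    Subtype.ext (mem_centralizer_iff.1 g.2 a ha).symm
  rw [Nat.card_congr (subgroupOfEquivOfLe hU).toEquiv, ← relIndex, k2] at k3
  rw [hd, mul_assoc] at k1
  have k4 := card_C_le h.toGS hs
  have hc : 1 ≤ d ^ 2 * E.relIndex C[U] := k2 ▸ Nat.pos_of_ne_zero index_ne_zero_of_finite
  obtain ⟨x4, x9, -, -⟩ := xa G U E hs h.toGS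
  rw [hd] at b2 x4 x9 k4
  rw [← mul_pow, Nat.pow_le_pow_iff_left two_ne_zero] at b2
  rw [k1, ← pow_mul, Nat.mul_le_mul_left_iff (by omega)] at k4
  have hC : C[U] ≤ C[P] := centralizer_le hPU
  have k5 := commProb_le_rel hC
  have k6 : 2 ^ ((C[U]).relIndex C[P] * (C[P]).index * d) ≤ Nat.card V := by
    rw [relIndex_mul_index hC, hn]
    exact (Nat.pow_le_pow_right two_pos ((Nat.mul_le_mul_right d b1).trans b2)).trans (Nat.pow_le_pow_left h.hp.two_le n)
  have ha : 1 ≤ (C[U]).relIndex C[P] := Nat.pos_of_ne_zero index_ne_zero_of_finite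
  have he : 1 ≤ (C[P]).index := Nat.pos_of_ne_zero index_ne_zero_of_finite
  have k7 : d ^ 2 * E.relIndex C[U] * ((C[U]).relIndex C[P] ^ 2 * max 11 (2 ^ (C[P]).index)) ≤ Nat.card V := by
    obtain rfl | hd1 := eq_or_ne d 1
    · have e : C[U] ≤ U := fun g hg => h.self g fun a ha =>
        (mem_centralizer_iff.1 hg a (relIndex_eq_one.1 hd ha)).symm
      rw [relIndex_eq_one.2 (e.trans h.le)]
      rw [mul_one] at k6
      simpa using n3 ha he k6 (r := 1) (.inl ⟨d2 rfl, le_rfl⟩)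
    obtain ⟨d, rfl⟩ : ∃ c, d = c + 1 := ⟨d - 1, by rcases d with _ | d <;> simp_all⟩
    have k8 : 5 * ((d + 1) ^ 2 * E.relIndex C[U]) ≤ 128 ^ d := by
      by_cases h3 : 3 ≤ d
      · exact (Nat.mul_le_mul_left 5 k4).trans (n4 h3)
      have : d ≤ 2 := by omega
      interval_cases d
      · omega
      · have := Nat.le_of_dvd (by norm_num) (x4 rfl)
        omega
      · have := x9 rfl
        omega
    have k9 := n3 ha he (le_max_left _ 128) (r := 5) (.inr ⟨le_max_right _ _, le_rfl⟩)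
    have k10 : max (2 ^ ((C[U]).relIndex C[P] * (C[P]).index)) 128 ^ (d + 1) ≤ Nat.card V := by
      rcases le_total (2 ^ ((C[U]).relIndex C[P] * (C[P]).index)) 128 with e | e
      · rwa [max_eq_right e]
      · rwa [max_eq_left e, ← pow_mul]
    refine (Nat.mul_le_mul_left _ k9).trans (le_trans ?_ k10)
    rw [← mul_assoc, mul_comm _ 5, pow_succ]
    exact Nat.mul_le_mul_right _ (k8.trans (Nat.pow_le_pow_left (le_max_right _ _) d))
  rw [commProb_def', k1] at k5
  generalize d ^ 2 * E.relIndex C[U] = c at *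
  generalize (C[U]).relIndex C[P] = a at *
  generalize max 11 (2 ^ (C[P]).index) = B at *
  have k8 : Nat.card U ≤ kk C[U] := Nat.le_of_mul_le_mul_right ((Nat.mul_le_mul_left _ (by omega)).trans k3) hc
  have c0 : (0 : ℚ) < Nat.card U := by exact_mod_cast (by omega : 0 < Nat.card U)
  have c1 : (0 : ℚ) < c := by exact_mod_cast hc
  have c2 : (0 : ℚ) < a := by exact_mod_cast ha
  have c3 : (Nat.card U : ℚ) ≤ kk C[U] := by exact_mod_cast k8
  have c4 : (c * (a ^ 2 * B) : ℚ) ≤ Nat.card V := by exact_mod_cast k7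
  rw [Nat.cast_mul, div_le_iff₀ (by positivity)] at k5
  have c5 : 1 ≤ commProb C[P] * a ^ 2 * c := le_of_mul_le_mul_left (by nlinarith) c0
  nlinarith [mul_le_mul_of_nonneg_left c4 (commProb_pos (M := C[P])).le,
    mul_le_mul_of_nonneg_right c5 (Nat.cast_nonneg (α := ℚ) B)]

omit [Finite G] [Finite V] in
theorem exists_emb' {L : Subgroup G} {π : V →+ V} {Y : AddSubgroup V} (I : Imp L π Y) (hf : Faith G V)
    {G' : Type*} [Group G'] (f : L →* G') (hk : ∀ l : L, f l = 1 → ∀ y ∈ Y, (l : G) • y = y) {N : Subgroup G}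
    [hN : N.Normal] (hL : N ≤ L) {C : Subgroup G'} (hC : ∀ l : L, (l : G) ∈ N → f l ∈ C) :
    ∃ ψ : N →* (G ⧸ L → C), Function.Injective ψ := by
  have hm : ∀ (q : G ⧸ L) (n : N), q.out⁻¹ * n * q.out ∈ N := fun q n => hN.conj_mem' _ n.2 q.out
  refine ⟨MonoidHom.mk' (fun n q => ⟨f ⟨_, hL (hm q n)⟩, hC _ (hm q n)⟩) fun a b => funext fun q => Subtype.ext ?_,
    (injective_iff_map_eq_one _).2 fun n hn => Subtype.ext (hf _ ?_)⟩
  · exact (congrArg f (Subtype.ext (by simp [mul_assoc]))).trans (map_mul f ⟨_, hL (hm q a)⟩ ⟨_, hL (hm q b)⟩)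
  · letI := subAct I.inv
    refine I.tv_of (K := zpowers (n : G)) (k := 0) (fun _ => f.ker) (fun q l hl y => Subtype.ext (hk l hl y y.2))
      (fun q h hh => ?_) _ (mem_zpowers _)
    obtain ⟨k, rfl⟩ := hh
    refine ⟨⟨_, hL (hm q n)⟩ ^ k, zpow_mem (show _ ∈ f.ker from congrArg Subtype.val (congrFun hn q)) k, ?_⟩
    simpa using conj_zpow (a := q.out⁻¹) (b := (n : G)) (i := k)

theorem key' (m : ℕ) : ∀ (G V : Type u) [Group G] [Finite G] [AddCommGroup V] [Finite V] [Nontrivial V]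
    [DistribMulAction G V] (P : Subgroup G) [P.Normal], (Nat.card P).Prime → 4096 ≤ Nat.card P → Group.IsSolvable G →
      Irr G V → Faith G V → Nat.card V = m → (max 11 (2 ^ (C[P]).index) : ℕ) ≤ commProb C[P] * Nat.card V := by
  induction m using Nat.strong_induction_on with
  | _ m ih =>
  intro G V _ _ _ _ _ _ P hP hp h4 hs hi hf e
  subst e
  obtain ⟨q, U, E, h⟩ | ⟨L, π, Y, I⟩ := irr_cases' hs hi hf
  · exact prim' hp h4 hs h
  classical
  haveI := Fact.mk hp
  haveI := I.nontrivial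
  have hPL : P ≤ L := by
    refine subgroupOf_eq_top.1 ((L.subgroupOf P).eq_bot_or_eq_top_of_prime_card.resolve_left fun e => ?_)
    haveI := Fintype.ofFinite P
    obtain ⟨y, hy⟩ := exists_ne (0 : Y)
    obtain ⟨x, hx⟩ := @exists_ne P (Finite.one_lt_card_iff_nontrivial.1 hp.one_lt) 1
    have h0 : ∑ z : P, (z : G) • (y : V) = 0 := (fpf hp hi hf x.2 (by
      rw [Finset.smul_sum]
      exact Fintype.sum_equiv (Equiv.mulLeft x) _ _ fun z => (mul_smul _ _ _).symm)).resolve_left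
      fun h => hx (Subtype.ext h)
    have h1 := congrArg π h0
    rw [map_sum, map_zero, Finset.sum_eq_single 1 (fun z _ hz => I.h0 _ (fun h => hz (mem_bot.1 (e ▸ h))) _ y.2)
      (by simp), OneMemClass.coe_one, one_smul, I.h1 _ y.2] at h1
    exact hy (Subtype.ext h1)
  letI := subAct I.inv
  haveI := Fintype.ofFinite (G ⧸ L)
  obtain ⟨G', _, _, _, f, f1, f2, f3, f4⟩ := exists_faith (G := L) (V := Y) inferInstance
  have hk : ∀ l : L, f l = 1 → ∀ y ∈ Y, (l : G) • y = y := fun l hl y hy => by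
    have := f2 l ⟨y, hy⟩
    rw [hl, one_smul] at this
    exact congrArg Subtype.val this.symm
  have hk' : ∀ l : L, (l : G) ∈ P → f l = 1 → (l : G) = 1 := fun l hl e => by
    obtain ⟨y, hy⟩ := exists_ne (0 : Y)
    exact (fpf hp hi hf hl (hk l e y y.2)).resolve_right fun h => hy (Subtype.ext h)
  haveI : ((P.subgroupOf L).map f).Normal := Normal.map inferInstance f f1
  have c1 : Nat.card ((P.subgroupOf L).map f) = Nat.card P := by
    rw [← Nat.card_congr (subgroupOfEquivOfLe hPL).toEquiv]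
    exact (Nat.card_congr (Equiv.ofBijective (f.subgroupMap (P.subgroupOf L)) ⟨(injective_iff_map_eq_one _).2
      fun a ha => Subtype.ext (Subtype.ext (hk' _ a.2 (congrArg Subtype.val ha))), f.subgroupMap_surjective _⟩)).symm
  have c2 : C[(P.subgroupOf L).map f].comap f = C[P].subgroupOf L := by
    ext l
    refine ⟨fun h x hx => comm_iff.1 (hk' ⁅(⟨x, hPL hx⟩ : L), l⁆ ?_ ?_), ?_⟩
    · simpa [commutatorElement_def, mul_assoc] using mul_mem hx (hP.conj_mem _ (inv_mem hx) l)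
    · rw [map_commutatorElement]
      exact comm_iff.2 (h _ ⟨⟨x, hPL hx⟩, hx, rfl⟩)
    · rintro h _ ⟨x, hx, rfl⟩
      rw [← map_mul, ← map_mul]
      exact congrArg f (Subtype.ext (h _ hx))
  have c3 : C[(P.subgroupOf L).map f].index = C[P].relIndex L := by rw [← index_comap_of_surjective _ f1, c2]; rfl
  have k1 := ih _ I.card_lt.1 G' Y _ (c1 ▸ hp) (c1 ▸ h4) f3 (irr_of_hom f2 I.irr') f4 rfl
  obtain ⟨ψ, hψ⟩ := exists_emb' I hf f hk (N := L.normalCore ⊓ C[P]) (inf_le_left.trans L.normalCore_le)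
    (C := C[(P.subgroupOf L).map f]) fun l hl => (c2 ▸ hl.2 : l ∈ C[(P.subgroupOf L).map f].comap f)
  have k2 := (commProb_le_of_inj ψ hψ).trans (commProb_le_rel inf_le_right)
  rw [commProb_function, ← Nat.card_eq_fintype_card, ← index, inf_relIndex_right] at k2
  have t2 := I.two_le
  have k5 : (Nat.card Y : ℚ) ^ L.index ≤ Nat.card V := by exact_mod_cast I.pow_le
  have k9 := (pow_le_pow_left₀ (by positivity) k1 L.index).trans ((mul_pow _ _ _).le.trans (mul_le_mul k2 k5
    (by positivity) (mul_nonneg (commProb_pos (M := C[P])).le (by positivity))))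
  have k3 : max 11 (2 ^ C[P].index) * L.normalCore.relIndex C[P] ^ 2 ≤ max 11 (2 ^ C[P].relIndex L) ^ L.index := by
    by_cases hC : C[P] ≤ L
    · rw [relIndex_eq_one.2 (normal_le_normalCore.2 hC), one_pow, mul_one, ← relIndex_mul_index hC, pow_mul]
      exact max_le ((le_max_left _ _).trans (Nat.le_self_pow (by omega) _)) (Nat.pow_le_pow_left (le_max_right _ _) _)
    · rw [← relIndex_sup_right (K := C[P]), I.co.2 _ (left_lt_sup.2 hC), relIndex_top_right,
        show L.index = L.index - 1 + 1 by omega, pow_succ' (max _ _)]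
      exact Nat.mul_le_mul_left _ (((Nat.pow_le_pow_left (Nat.le_of_dvd (Nat.pos_of_ne_zero index_ne_zero_of_finite)
        (relIndex_dvd_index_of_normal _ _)) 2).trans (core_bound hs I.co)).trans
        (Nat.pow_le_pow_left (le_max_left _ _) _))
  have k8 : (0 : ℚ) < L.normalCore.relIndex C[P] := by exact_mod_cast Nat.pos_of_ne_zero index_ne_zero_of_finite
  rw [c3] at k9
  refine le_of_mul_le_mul_right ?_ (show (0 : ℚ) < L.normalCore.relIndex C[P] ^ 2 by positivity)
  exact le_trans (by exact_mod_cast k3) (k9.trans_eq (by ring))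

theorem lin {p o : ℕ} [Nontrivial V] [P.Normal] (hp : p.Prime) (hP : Nat.card P = p) (hs : Group.IsSolvable G)
    (hi : Irr G V) (hf : Faith G V) (ho : Nat.card V - 1 ≤ o * Nat.card G) : p ≤ 3 * Nat.log 2 p * (kk G + o) := by
  subst hP
  haveI := Fact.mk hp
  haveI : IsCyclic P := isCyclic_of_prime_card rfl
  have h1 := Rd.quot_add_le P
  have h2 := Rd.kk_le (QuotientGroup.lift P (QuotientGroup.mk' C[P]) fun x hx =>
    (QuotientGroup.eq_one_iff x).2 (le_centralizer P hx)) fun q => let ⟨x, e⟩ := QuotientGroup.mk'_surjective _ q; ⟨x, e⟩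
  rw [kk, Fgs.card_conjClasses_of_comm (Normal.quotient_commutative_iff_commutator_le.2
    (commutator_le_centralizer_of_isCyclic P)), ← index_eq_card] at h2
  refine n6 hp.two_le (Nat.log_pos one_lt_two hp.two_le) (Nat.lt_pow_succ_log_self one_lt_two _)
    (Nat.pow_log_le_self 2 hp.ne_zero) (Nat.pos_of_ne_zero index_ne_zero_of_finite) (Rd.card_sub_le P) (by omega)
    fun h4 => ?_
  have k1 := ((Nat.cast_le (α := ℚ)).2 (le_max_right _ _)).trans (key' _ G V P hp h4 hs hi hf rfl)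
  have k2 := (C[P]).commProb_subgroup_le
  have h3 := Finite.one_lt_card (α := V)
  have c1 : (Nat.card V : ℚ) ≤ 2 * (o * Nat.card G) := by exact_mod_cast (by omega : Nat.card V ≤ 2 * (o * Nat.card G))
  have c2 : commProb G * Nat.card G = kk G := by
    rw [commProb_def', div_mul_cancel₀ _ (Nat.cast_ne_zero.2 Nat.card_pos.ne')]
  have c3 := k1.trans (mul_le_mul k2 c1 (by positivity) (mul_nonneg (commProb_pos (M := G)).le (by positivity)))
  rw [show ∀ e : ℚ, commProb G * e * (2 * (o * Nat.card G)) = 2 * e * o * (commProb G * Nat.card G) from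
    fun e => by ring, c2] at c3
  rw [← Nat.cast_le (α := ℚ)]
  push_cast at c3 ⊢
  nlinarith [mul_nonneg (sq_nonneg ((C[P]).index : ℚ)) (sq_nonneg ((kk G : ℚ) - o))]

theorem main {p : ℕ} (hp : p.Prime) (hs : Group.IsSolvable G) (hd : p ∣ (Cfsg.fittingSubgroup G).index) :
    p ≤ 3 * Nat.log 2 p * kk G := by
  induction hn : Nat.card G using Nat.strong_induction_on generalizing G with
  | _ n ih =>
  subst hn
  haveI := Fact.mk hp
  by_cases h2 : p ^ 2 ∣ Nat.card G
  · have := thm G p hp hs h2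
    have := Nat.mul_le_mul_right (kk G) (Nat.log_pos one_lt_two hp.two_le)
    rw [mul_assoc]
    omega
  haveI : Nontrivial G := Finite.one_lt_card_iff_nontrivial.1
    (hp.one_lt.trans_le (Nat.le_of_dvd Nat.card_pos (hd.trans (index_dvd_card _))))
  obtain ⟨N, hV⟩ := exists_isMinNormal G
  haveI := hV.normal
  by_cases h0 : p ∣ (Cfsg.fittingSubgroup (G ⧸ N)).index
  · refine (ih _ ?_ inferInstance h0 rfl).trans
      (Nat.mul_le_mul_left _ (Rd.kk_le _ (QuotientGroup.mk'_surjective N)))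
    rw [← N.card_mul_index]
    exact lt_mul_left Nat.card_pos (one_lt_card_iff_ne_bot N |>.2 hV.ne_bot)
  haveI : IsMulCommutative N := hV.isMulCommutative_of_isSolvable inferInstance
  letI : DistribMulAction G (Additive N) :=
    { smul := fun g w => Additive.ofMul (MulAut.conjNormal g w.toMul)
      one_smul := fun w => by
        change Additive.ofMul (MulAut.conjNormal 1 w.toMul) = w
        simp
      mul_smul := fun a b w => by
        change Additive.ofMul (MulAut.conjNormal (a * b) w.toMul) =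
          Additive.ofMul (MulAut.conjNormal a (MulAut.conjNormal b w.toMul))
        simp
      smul_zero := fun _ => congrArg Additive.ofMul (map_one _)
      smul_add := fun _ x y => congrArg Additive.ofMul (map_mul _ x.toMul y.toMul) }
  have hK : ∀ g : G, (∀ v : Additive N, g • v = v) ↔ g ∈ C[N] := fun g =>
    ⟨fun hg => mem_centralizer_iff.2 fun w hw =>
      (mul_inv_eq_iff_eq_mul.1 (congrArg (fun v : Additive N => (v.toMul : G)) (hg (Additive.ofMul ⟨w, hw⟩)))).symm,
    fun hg v => congrArg Additive.ofMul (Subtype.ext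
      (mul_inv_eq_iff_eq_mul.2 (mem_centralizer_iff.1 hg _ v.toMul.2).symm))⟩
  have hi : Irr G (Additive N) := fun U hU => by
    haveI : (U.toSubgroup'.map N.subtype).Normal := ⟨by
      rintro _ ⟨w, hw, rfl⟩ q
      exact ⟨_, hU q (Additive.ofMul w) hw, rfl⟩⟩
    by_cases h0 : U.toSubgroup'.map N.subtype = ⊥
    · refine Or.inl (eq_bot_iff.2 fun w hw => ?_)
      have : (w.toMul : G) ∈ U.toSubgroup'.map N.subtype := ⟨w.toMul, hw, rfl⟩
      rw [h0, Subgroup.mem_bot] at this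
      exact congrArg Additive.ofMul (Subtype.ext this : w.toMul = 1)
    · refine Or.inr (eq_top_iff.2 fun w _ => ?_)
      obtain ⟨w', hw', e⟩ : (w.toMul : G) ∈ U.toSubgroup'.map N.subtype := by
        rw [hV.eq_of_le h0 (map_subtype_le _)]; exact w.toMul.2
      have : w' = w.toMul := Subtype.ext e
      subst this
      exact hw'
  obtain ⟨G', _, _, _, f, h1, h3, h4, h5⟩ := Vc.exists_faith (V := Additive N) hs
  have hk : ∀ g ∈ N, f g = 1 := fun g hg => h5 _ fun v => (h3 g v).trans ((hK g).2 (le_centralizer N hg) v)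
  have hk' : f.ker ≤ C[N] := fun g hg => (hK g).1 fun v => by rw [← h3, f.mem_ker.1 hg, one_smul]
  have hc : (C[N]).index ≤ Nat.card G' := by
    rw [← card_top, ← f.range_eq_top.2 h1, ← index_ker]
    exact index_antitone hk'
  let ψ := QuotientGroup.lift N f hk
  have hψ : Function.Surjective ψ := fun q => let ⟨x, e⟩ := h1 q; ⟨x, e⟩
  let O := Cfsg.pCore p (G ⧸ N)
  haveI : (O.map ψ).Normal := Normal.map inferInstance ψ hψ
  obtain ⟨k, e⟩ := ((pCore_isPGroup p (G ⧸ N)).map ψ).exists_card_eq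
  have h6 : k = 1 := by
    refine le_antisymm (not_lt.1 fun h => h2 ((pow_dvd_pow p h).trans (e ▸ (card_subgroup_dvd_card _).trans
      (card_dvd_of_surjective f h1)))) (Nat.pos_of_ne_zero ?_)
    rintro rfl
    obtain ⟨Q⟩ : Nonempty (Sylow p (G ⧸ N)) := inferInstance
    have a1 := le_pCore_of_le_fittingSubgroup Q.2 (le_of_isPGroup_of_not_dvd_index Q.2 h0)
    let A := O.comap (QuotientGroup.mk' N)
    have a2 : A ≤ C[N] := fun a ha => hk' (mem_bot.1 (card_eq_one.1 e ▸ (⟨_, ha, rfl⟩ : f a ∈ O.map ψ)))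
    haveI := (pCore_isPGroup p (G ⧸ N)).isNilpotent
    have a3 : A ≤ Cfsg.fittingSubgroup G := le_fittingSubgroup (Subgroup.isNilpotent_of_ker_le_center
      ((QuotientGroup.mk' N).subgroupComap O) fun a ha => mem_center_iff.2 fun b => Subtype.ext
        (a2 b.2 _ ((QuotientGroup.eq_one_iff _).1 (congrArg Subtype.val ha))).symm)
    refine Q.not_dvd_index (hd.trans ((index_dvd_of_le a3).trans ?_))
    rw [index_comap_of_surjective _ (QuotientGroup.mk'_surjective N)]
    exact index_dvd_of_le a1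
  haveI : Nontrivial (Additive N) := (nontrivial_iff_ne_bot N).2 hV.ne_bot
  refine (lin hp (e.trans (by rw [h6, pow_one])) h4 (irr_of_hom h3 hi) h5
    ((Rd.card_sub_le N).trans (Nat.mul_le_mul_left _ hc))).trans (Nat.mul_le_mul_left _ ?_)
  exact (Nat.add_le_add_right (Rd.kk_le ψ hψ) _).trans (Rd.quot_add_le N)

end Lg

end CL.SL.HK
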