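/-
A normal `2`-complement theorem for a Sylow `2`-subgroup `S` of class `≤ 2` under an operator
group `A` of odd order: if the normalizers of the nontrivial `A`-invariant normal subgroups of `S`
lie in a `2`-nilpotent subgroup normalizing `S`, then the group has a normal `2`-complement.
-/
import Cfsg.Agent.Fgs.DJT
import Cfsg.Agent.Inv.Dihedral
import Cfsg.Agent.Grp.Action

set_option autoImplicit false
open Cfsg CL.Grp
open scoped Pointwise commutatorElement

namespace CL.Fgs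

variable {G : Type*} [Group G]

/-- The elements of order at most `2` in the centre of `P`. -/
def ctrInv (P : Subgroup G) : Subgroup G where
  carrier := {y | y ∈ P ∧ (∀ x ∈ P, Commute y x) ∧ y * y = 1}
  one_mem' := ⟨P.one_mem, fun x _ => Commute.one_left x, one_mul 1⟩
  mul_mem' := by
    rintro a b ⟨ha, ha1, ha2⟩ ⟨hb, hb1, hb2⟩
    refine ⟨P.mul_mem ha hb, fun x hx => (ha1 x hx).mul_left (hb1 x hx), ?_⟩
    have := (ha1 b hb).eq
    calc a * b * (a * b) = a * (b * a) * b := by group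
      _ = (a * a) * (b * b) := by rw [← this]; group
      _ = 1 := by rw [ha2, hb2, one_mul]
  inv_mem' := by
    rintro a ⟨ha, ha1, ha2⟩
    exact ⟨P.inv_mem ha, fun x hx => (ha1 x hx).inv_left, by rw [← mul_inv_rev, ha2, inv_one]⟩

theorem mem_ctrInv {P : Subgroup G} {y : G} :
    y ∈ ctrInv P ↔ y ∈ P ∧ (∀ x ∈ P, Commute y x) ∧ y * y = 1 := Iff.rfl

theorem ctrInv_le (P : Subgroup G) : ctrInv P ≤ P := fun _ h => h.1

theorem smul_ctrInv {A : Type*} [Group A] [MulDistribMulAction A G] (a : A) (P : Subgroup G) :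
    a • ctrInv P = ctrInv (a • P) := by
  ext y
  rw [Subgroup.mem_pointwise_smul_iff_inv_smul_mem, mem_ctrInv, mem_ctrInv,
    Subgroup.mem_pointwise_smul_iff_inv_smul_mem]
  refine and_congr_right fun _ => and_congr ⟨fun h x hx => ?_, fun h x hx => ?_⟩ ?_
  · have := h _ (Subgroup.mem_pointwise_smul_iff_inv_smul_mem.1 hx)
    have h2 := congrArg (a • ·) this.eq
    simpa [smul_mul', commute_iff_eq] using h2
  · have := h _ (Subgroup.smul_mem_pointwise_smul _ a _ hx)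
    have h2 := congrArg (a⁻¹ • ·) this.eq
    simpa [smul_mul', commute_iff_eq] using h2
  · rw [← smul_mul', smul_eq_iff_eq_inv_smul, smul_one]

theorem ctrInv_ne_bot [Finite G] {P : Subgroup G} (hP : IsPGroup 2 P) (h : P ≠ ⊥) :
    ctrInv P ≠ ⊥ := by
  obtain ⟨q, z, hq, hz, hzq⟩ := exists_mem_orderOf_prime (inf_centralizer_ne_bot_of_isPGroup hP h)
  have hz1 := ne_one_of_orderOf_prime hq hzq
  have h2 : q = 2 := by
    have := prime_dvd_orderOf_of_mem_isPGroup hP hz.1 hz1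
    rw [hzq] at this
    exact ((Nat.prime_dvd_prime_iff_eq Nat.prime_two hq).1 this).symm
  intro e
  have : z ∈ ctrInv P := ⟨hz.1, fun x hx => (hz.2 x hx).symm,
    CL.Inv.mul_self_of_orderOf_two (h2 ▸ hzq)⟩
  rw [e] at this
  exact hz1 this

/-- Class at most two, elementwise. -/
def ClTwo (P : Subgroup G) : Prop := ∀ x ∈ P, ∀ y ∈ P, ∀ z ∈ P, Commute ⁅x, y⁆ z

theorem clTwo_iff {P : Subgroup G} : ClTwo P ↔ ⁅⁅P, P⁆, P⁆ = ⊥ := by
  rw [Subgroup.commutator_eq_bot_iff_le_centralizer, Subgroup.commutator_le]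
  exact ⟨fun h x hx y hy z hz => (h x hx y hy z hz).symm,
    fun h x hx y hy z hz => (h x hx y hy z hz).symm⟩

theorem ClTwo.conj_smul {P : Subgroup G} (h : ClTwo P) (g : G) : ClTwo (MulAut.conj g • P) := by
  intro x hx y hy z hz
  rw [mem_conj_smul_iff] at hx hy hz
  have := (h _ hx _ hy _ hz).map (MulAut.conj g)
  simpa [map_commutatorElement, mul_assoc] using this

theorem ClTwo.comm_mul_right {P : Subgroup G} (h : ClTwo P) {x y z : G} (hx : x ∈ P) (hy : y ∈ P)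
    (hz : z ∈ P) : ⁅x, y * z⁆ = ⁅x, y⁆ * ⁅x, z⁆ := by
  have := (h x hx z hz y hy).eq
  calc ⁅x, y * z⁆ = ⁅x, y⁆ * (y * ⁅x, z⁆) * y⁻¹ := by simp only [commutatorElement_def]; group
    _ = _ := by rw [← this]; group

theorem ClTwo.comm_mul_left {P : Subgroup G} (h : ClTwo P) {x y z : G} (hx : x ∈ P) (hy : y ∈ P)
    (hz : z ∈ P) : ⁅x * y, z⁆ = ⁅y, z⁆ * ⁅x, z⁆ := by
  have := (h y hy z hz x hx).eq
  calc ⁅x * y, z⁆ = (x * ⁅y, z⁆) * x⁻¹ * ⁅x, z⁆ := by simp only [commutatorElement_def]; group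
    _ = _ := by rw [← this]; group

theorem ClTwo.comm_mem_ctrInv {P : Subgroup G} (h : ClTwo P) {x y : G} (hx : x ∈ P) (hy : y ∈ P)
    (h2 : y * y = 1) : ⁅x, y⁆ ∈ ctrInv P :=
  ⟨Subgroup.commutator_le_self P (Subgroup.commutator_mem_commutator hx hy), h x hx y hy, by
    rw [← h.comm_mul_right hx hy hy, h2, commutatorElement_one_right]⟩

theorem le_normalizer_of_forall_conj_mem {P W : Subgroup G}
    (h : ∀ t ∈ P, ∀ w ∈ W, t * w * t⁻¹ ∈ W) : P ≤ Subgroup.normalizer (W : Set G) := by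
  intro t ht
  rw [Subgroup.mem_normalizer_iff]
  refine fun w => ⟨h t ht w, fun hw => ?_⟩
  simpa [mul_assoc] using h t⁻¹ (P.inv_mem ht) _ hw

theorem pgroup_le_sylow_of_le_norm [Finite G] {p : ℕ} [Fact p.Prime] (T : Sylow p G)
    {U : Subgroup G} (hU : IsPGroup p U) (h : U ≤ Subgroup.normalizer (T : Set G)) : U ≤ T := by
  have h1 : IsPGroup p ((T : Subgroup G) ⊔ U : Subgroup G) := by
    rw [sup_comm]
    exact IsPGroup.to_sup_of_normal_right' hU T.isPGroup' h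
  have := (isSylowIn_top T).eq_of_le h1 le_sup_left le_top
  exact this ▸ le_sup_right

theorem mem_sylow_of_mem_sylow_norm [Finite G] {p : ℕ} [Fact p.Prime] (T R : Sylow p G) {x : G}
    (hx : x ∈ R) (h : x ∈ Subgroup.normalizer (T : Set G)) : x ∈ T :=
  pgroup_le_sylow_of_le_norm T (R.isPGroup'.to_le (inf_le_left (b := Subgroup.normalizer (T : Set G))))
    inf_le_right ⟨hx, h⟩

theorem mem_sylow_two_of_mul_self_mem [Finite G] (T : Sylow 2 G) {w : G} (hw : w * w ∈ T)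
    (h : w ∈ Subgroup.normalizer (T : Set G)) : w ∈ T := by
  obtain ⟨k, hk⟩ := T.isPGroup' ⟨_, hw⟩
  have hk' : w ^ 2 ^ (k + 1) = 1 := by
    rw [pow_succ', pow_mul, pow_two]
    exact congrArg Subtype.val hk
  refine pgroup_le_sylow_of_le_norm T (U := Subgroup.zpowers w) ?_
    ((Subgroup.zpowers_le_of_mem h)) (Subgroup.mem_zpowers w)
  rintro ⟨_, n, rfl⟩
  refine ⟨k + 1, Subtype.ext ?_⟩
  change (w ^ n) ^ 2 ^ (k + 1) = 1
  rw [← zpow_natCast, ← zpow_mul, mul_comm, zpow_mul, zpow_natCast, hk', one_zpow]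

/-- The local hypotheses on all Sylow `2`-subgroups. -/
structure TwoLoc (G : Type*) [Group G] : Prop where
  cl : ∀ T : Sylow 2 G, ClTwo (T : Subgroup G)
  nY : ∀ T : Sylow 2 G,
    Subgroup.normalizer (ctrInv (T : Subgroup G) : Set G) ≤ Subgroup.normalizer (T : Set G)

namespace TwoLoc

variable [Finite G]

theorem mem_of_commute (H : TwoLoc G) {T R : Sylow 2 G} {x : G} (hx : x ∈ R)
    (h : ∀ y ∈ ctrInv (T : Subgroup G), Commute y x) : x ∈ T :=
  mem_sylow_of_mem_sylow_norm T R hx (H.nY T (Subgroup.centralizer_le_normalizer _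
    fun y hy => (h y hy).eq))

theorem symm (H : TwoLoc G) {S T : Sylow 2 G} (h : ctrInv (S : Subgroup G) ≤ T) :
    ctrInv (T : Subgroup G) ≤ S := fun _ hy =>
  H.mem_of_commute hy.1 fun z hz => (hy.2.1 z (h hz)).symm

theorem center_le (H : TwoLoc G) {S T : Sylow 2 G} (h : ctrInv (S : Subgroup G) ≤ T) :
    (S : Subgroup G) ⊓ Subgroup.centralizer (S : Set G) ≤ T := fun _ hz =>
  H.mem_of_commute hz.1 fun y hy => hz.2 y (H.symm h hy)

theorem mul_self_mem (H : TwoLoc G) {S T : Sylow 2 G} (h : ctrInv (S : Subgroup G) ≤ T) {s : G}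
    (hs : s ∈ S) : s * s ∈ T := by
  refine H.mem_of_commute (S.1.mul_mem hs hs) fun y hy => ?_
  have hyS := H.symm h hy
  rw [← commutatorElement_eq_one_iff_commute, (H.cl S).comm_mul_right hyS hs hs,
    ← (H.cl S).comm_mul_left hyS hyS hs, hy.2.2, commutatorElement_one_left]

theorem le_normalizer_inf (H : TwoLoc G) {S T : Sylow 2 G} (h : ctrInv (S : Subgroup G) ≤ T) :
    (S : Subgroup G) ≤ Subgroup.normalizer (((S : Subgroup G) ⊓ T : Subgroup G) : Set G) :=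
  le_normalizer_of_class_two (clTwo_iff.1 (H.cl S)) inf_le_left (le_inf inf_le_left (H.center_le h))

/-- A maximal intersection `S ∩ T` (with `Ω₁ Z(S) ≤ T ≠ S`) has index `2` in `S`. -/
theorem index_two (H : TwoLoc G) {S T : Sylow 2 G} (h : ctrInv (S : Subgroup G) ≤ T) (hne : T ≠ S)
    (hN : HasNormalPComplement 2 (Subgroup.normalizer (S : Set G)))
    (hmax : ∀ R : Sylow 2 G, R ≠ S → (S : Subgroup G) ⊓ T ≤ R → (S : Subgroup G) ⊓ R ≤ T)
    {s s' : G} (hs : s ∈ S) (hs' : s' ∈ S) (hsT : s ∉ T) (hsT' : s' ∉ T) : s⁻¹ * s' ∈ T := by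
  set D : Subgroup G := (S : Subgroup G) ⊓ T with hD
  set N : Subgroup G := Subgroup.normalizer (D : Set G) with hNdef
  have hSN : (S : Subgroup G) ≤ N := H.le_normalizer_inf h
  have hTN : (T : Subgroup G) ≤ N := by
    have := H.le_normalizer_inf (H.symm h)
    rwa [inf_comm] at this
  have hTI : ∀ y ∈ N, ∀ x ∈ S, x ∉ T → y * x * y⁻¹ ∈ S → y ∈ Subgroup.normalizer (S : Set G) := by
    intro y hy x hx hxT hyx
    by_cases e : y • S = S
    · exact Sylow.smul_eq_iff_mem_normalizer.1 e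
    exfalso
    have h1 : D ≤ (y • S : Sylow 2 G) := fun d hd => (mem_sylow_smul_iff y d S).2 (by
      have := (Subgroup.mem_normalizer_iff.1 (N.inv_mem hy) d).1 hd
      rw [inv_inv] at this
      exact this.1)
    have h2 : y * x * y⁻¹ ∈ D := ⟨hyx, hmax _ e h1 ⟨hyx, (mem_sylow_smul_iff y _ S).2 (by
      simpa [mul_assoc] using hx)⟩⟩
    exact hxT ((Subgroup.mem_normalizer_iff.1 hy x).2 h2).2
  obtain ⟨t, htT, htS⟩ : ∃ t ∈ T, t ∉ S := by
    by_contra hc
    push Not at hc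
    exact hne (Sylow.ext ((isSylowIn_top T).eq_of_le S.isPGroup' hc le_top).symm)
  have hnorm : (D.subgroupOf N).Normal := Subgroup.normal_in_normalizer
  let f : N →* N ⧸ D.subgroupOf N := QuotientGroup.mk' _
  have hf1 : ∀ x : N, f x = 1 ↔ (x : G) ∈ D := fun x => QuotientGroup.eq_one_iff x
  have hfe : ∀ x y : N, f x = f y → ((y : G) ∈ S → (x : G) ∈ S) := by
    intro x y e hy
    have : ((x * y⁻¹ : N) : G) ∈ D := (hf1 _).1 (by rw [map_mul, map_inv, e, mul_inv_cancel])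
    have h2 := S.1.mul_mem this.1 hy
    simp only [Subgroup.coe_mul, Subgroup.coe_inv, inv_mul_cancel_right] at h2
    exact h2
  have ht2 : f ⟨t, hTN htT⟩ * f ⟨t, hTN htT⟩ = 1 := by
    rw [← map_mul, hf1]
    exact ⟨H.mul_self_mem (H.symm h) htT, T.1.mul_mem htT htT⟩
  have key : ∀ s (hs : s ∈ S), s ∉ T → IsConj (f ⟨s, hSN hs⟩) (f ⟨t, hTN htT⟩) := by
    intro s hs hsT
    have hs2 : f ⟨s, hSN hs⟩ * f ⟨s, hSN hs⟩ = 1 := by
      rw [← map_mul, hf1]
      exact ⟨S.1.mul_mem hs hs, H.mul_self_mem h hs⟩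
    rcases Nat.even_or_odd (orderOf (f ⟨s, hSN hs⟩ * f ⟨t, hTN htT⟩)) with he | ho
    · exfalso
      obtain ⟨h1, h2, h3⟩ := CL.Inv.half_pow_central hs2 ht2 (orderOf_pos _).ne' he
      obtain ⟨w, hw⟩ := QuotientGroup.mk'_surjective (D.subgroupOf N) ((f ⟨s, hSN hs⟩ *
        f ⟨t, hTN htT⟩) ^ (orderOf (f ⟨s, hSN hs⟩ * f ⟨t, hTN htT⟩) / 2))
      change f w = _ at hw
      rw [← hw] at h1 h2 h3
      have hw2 : (w : G) * w ∈ D := (hf1 (w * w)).1 (by
        rw [map_mul]; exact CL.Inv.mul_self_of_orderOf_two h1)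
      have hwN := hTI w w.2 s hs hsT (hfe (w * ⟨s, hSN hs⟩ * w⁻¹) ⟨s, hSN hs⟩ (by
        rw [map_mul, map_mul, h2.eq, map_inv, mul_inv_cancel_right]) hs)
      have hwS := mem_sylow_two_of_mul_self_mem S hw2.1 hwN
      have hwT : (w : G) ∉ T := fun hT =>
        CL.Inv.ne_one_of_orderOf_two h1 ((hf1 w).2 ⟨hwS, hT⟩)
      have htN := hTI t (hTN htT) w hwS hwT (hfe (⟨t, hTN htT⟩ * w * ⟨t, hTN htT⟩⁻¹) w (by
        rw [map_mul, map_mul, ← h3.eq, map_inv, mul_inv_cancel_right]) hwS)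
      exact htS (mem_sylow_of_mem_sylow_norm S T htT htN)
    · exact CL.Inv.isConj_of_odd_mul hs2 ht2 ho
  obtain ⟨k, hk⟩ := isConj_iff.1 ((key s hs hsT).trans (key s' hs' hsT').symm)
  obtain ⟨k, rfl⟩ := QuotientGroup.mk'_surjective (D.subgroupOf N) k
  change f k * _ * (f k)⁻¹ = _ at hk
  rw [← map_inv, ← map_mul, ← map_mul] at hk
  have hkN := hTI k k.2 s hs hsT (hfe _ _ hk hs')
  obtain ⟨c, hc, u, hu, e⟩ := (isSylowIn_of_le S Subgroup.le_normalizer).exists_centralizer_mul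
    (fun g hg hco => mem_centralizer_of_normalizer_hasNormalPComplement S.isPGroup'
      Subgroup.le_normalizer hN hg hg hco) hkN
  have h1 : (((k * ⟨s, hSN hs⟩ * k⁻¹)⁻¹ * ⟨s', hSN hs'⟩ : N) : G) ∈ D :=
    (hf1 _).1 (by rw [map_mul, map_inv, hk, inv_mul_cancel])
  have h2 : (k : G) * s * (k : G)⁻¹ = u * s * u⁻¹ := by
    have := hc (u * s * u⁻¹) (S.1.mul_mem (S.1.mul_mem hu hs) (S.1.inv_mem hu))
    calc (k : G) * s * (k : G)⁻¹ = (c * (u * s * u⁻¹)) * c⁻¹ := by rw [e]; group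
      _ = _ := by rw [← this]; group
  have h3 : (u * s * u⁻¹)⁻¹ * s' ∈ T := by
    rw [← h2]
    exact h1.2
  have h4 : ⁅s⁻¹, u⁆ ∈ T := H.center_le h
    ⟨Subgroup.commutator_le_self _ (Subgroup.commutator_mem_commutator (S.1.inv_mem hs) hu),
      fun z hz => (H.cl S _ (S.1.inv_mem hs) u hu z hz).symm⟩
  have := T.1.mul_mem h4 h3
  rwa [show ⁅s⁻¹, u⁆ * ((u * s * u⁻¹)⁻¹ * s') = s⁻¹ * s' by
    simp only [commutatorElement_def]; group] at this

/-- `T` is a Sylow `2`-subgroup containing `Ω₁ Z(S)` with `|S : S ∩ T| = 2`. -/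
structure Good (S T : Sylow 2 G) : Prop where
  ne : T ≠ S
  le : ctrInv (S : Subgroup G) ≤ T
  two : ∀ s ∈ S, ∀ s' ∈ S, s ∉ T → s' ∉ T → s⁻¹ * s' ∈ T

theorem mem_of_good (H : TwoLoc G) {S T R : Sylow 2 G} (hT : Good S T) (hR : Good S R) {u x : G}
    (hu : u ∈ ctrInv (T : Subgroup G)) (huR : u ∉ R) (hx : x ∈ S) (h : Commute u x) : x ∈ T := by
  by_contra hxT
  refine huR (hR.le ⟨H.symm hT.le hu, fun s hs => ?_, hu.2.2⟩)
  by_cases hsT : s ∈ T
  · exact hu.2.1 s hsT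
  · have := h.mul_right (hu.2.1 _ (hT.two x hx s hs hxT hsT))
    rwa [mul_inv_cancel_left] at this

theorem comm_eq_of_good (H : TwoLoc G) {S T : Sylow 2 G} (hT : Good S T) {u v x : G}
    (hu : u ∈ ctrInv (T : Subgroup G)) (hv : v ∈ S) (hvT : v ∉ T) (hx : x ∈ S) :
    ⁅x, u⁆ = 1 ∨ ⁅x, u⁆ = ⁅v, u⁆ := by
  by_cases hxT : x ∈ T
  · exact Or.inl (commutatorElement_eq_one_iff_commute.2 (hu.2.1 x hxT).symm)
  · right
    have h1 := hT.two v hv x hx hvT hxT
    have := (H.cl S).comm_mul_left hv (S.1.mul_mem (S.1.inv_mem hv) hx) (H.symm hT.le hu)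
    rwa [mul_inv_cancel_left, commutatorElement_eq_one_iff_commute.2 (hu.2.1 _ h1).symm,
      one_mul] at this

/-- The neighbour of a good intersection is unique. -/
theorem inf_le_of_good (H : TwoLoc G) {S T₁ T₂ T₃ : Sylow 2 G} (h₁ : Good S T₁) (h₂ : Good S T₂)
    (h₃ : Good S T₃) (n₂ : ¬ ctrInv (T₂ : Subgroup G) ≤ T₁) (n₃ : ¬ ctrInv (T₃ : Subgroup G) ≤ T₁) :
    (S : Subgroup G) ⊓ T₂ ≤ T₃ := by
  obtain ⟨u₂, hu₂, hu₂'⟩ := SetLike.not_le_iff_exists.1 n₂
  obtain ⟨u₃, hu₃, hu₃'⟩ := SetLike.not_le_iff_exists.1 n₃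
  have cS := H.cl S
  have hu₂S : u₂ ∈ S := H.symm h₂.le hu₂
  have hu₃S : u₃ ∈ S := H.symm h₃.le hu₃
  obtain ⟨u₁, hu₁, hc⟩ : ∃ u₁ ∈ ctrInv (T₁ : Subgroup G), ¬ Commute u₁ u₂ := by
    by_contra hc
    push Not at hc
    exact hu₂' (H.mem_of_commute hu₂S hc)
  have hu₁S : u₁ ∈ S := H.symm h₁.le hu₁
  have hu₁2 : u₁ ∉ T₂ := fun h => hc (hu₂.2.1 _ h).symm
  obtain ⟨d, hd⟩ : ∃ d, d = u₂⁻¹ * u₃ := ⟨_, rfl⟩
  have hd1 : d ∈ T₁ := hd ▸ h₁.two u₂ hu₂S u₃ hu₃S hu₂' hu₃'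
  have hdS : d ∈ S := hd ▸ S.1.mul_mem (S.1.inv_mem hu₂S) hu₃S
  have e₃ : u₃ = u₂ * d := by rw [hd, mul_inv_cancel_left]
  obtain ⟨z, hz⟩ : ∃ z, z = ⁅u₁, u₂⁆ := ⟨_, rfl⟩
  have hz1 : z ≠ 1 := fun h => hc (commutatorElement_eq_one_iff_commute.1 (hz ▸ h))
  have hz3 : ⁅u₁, u₃⁆ = z := by
    rw [e₃, cS.comm_mul_right hu₁S hu₂S hdS, commutatorElement_eq_one_iff_commute.2
      (hu₁.2.1 d hd1), mul_one, hz]
  have hu₁3 : u₁ ∉ T₃ := fun h =>
    hz1 (hz3 ▸ commutatorElement_eq_one_iff_commute.2 (hu₃.2.1 _ h).symm)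
  have E₂ : ∀ x ∈ S, ⁅x, u₂⁆ = 1 ∨ ⁅x, u₂⁆ = z := fun x hx =>
    hz ▸ H.comm_eq_of_good h₂ hu₂ hu₁S hu₁2 hx
  have E₃ : ∀ x ∈ S, ⁅x, u₃⁆ = 1 ∨ ⁅x, u₃⁆ = z := fun x hx =>
    hz3 ▸ H.comm_eq_of_good h₃ hu₃ hu₁S hu₁3 hx
  have hzY : z ∈ ctrInv (S : Subgroup G) := hz ▸ cS.comm_mem_ctrInv hu₁S hu₂S hu₂.2.2
  have hzi : z⁻¹ = z := CL.Inv.inv_eq_self_of_mul_self hzY.2.2
  have hzT : ¬ ∀ t ∈ T₁, Commute z t := by
    intro hc'
    have hzY1 : z ∈ ctrInv (T₁ : Subgroup G) := ⟨h₁.le hzY, hc', hzY.2.2⟩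
    refine hu₂' (mem_sylow_of_mem_sylow_norm T₁ S hu₂S (H.nY T₁ ?_))
    have hi : u₂⁻¹ = u₂ := CL.Inv.inv_eq_self_of_mul_self hu₂.2.2
    have key : ∀ y ∈ ctrInv (T₁ : Subgroup G), u₂ * y * u₂⁻¹ ∈ ctrInv (T₁ : Subgroup G) := by
      intro y hy
      rw [show u₂ * y * u₂⁻¹ = ⁅y, u₂⁆⁻¹ * y by simp only [commutatorElement_def]; group]
      refine Subgroup.mul_mem _ (Subgroup.inv_mem _ ?_) hy
      rcases E₂ y (H.symm h₁.le hy) with e | e <;> rw [e]
      exacts [Subgroup.one_mem _, hzY1]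
    rw [Subgroup.mem_normalizer_iff]
    refine fun y => ⟨key y, fun hy => ?_⟩
    have := key _ hy
    rwa [show u₂ * (u₂ * y * u₂⁻¹) * u₂⁻¹ = (u₂ * u₂) * y * (u₂ * u₂)⁻¹ by group, hu₂.2.2, one_mul,
      inv_one, mul_one] at this
  have hdc : ∀ x ∈ S, x ∈ T₁ → Commute x d := by
    intro x hx hx1
    have h1 : ⁅x, u₃⁆ = ⁅x, u₂⁆ * ⁅x, d⁆ := by rw [e₃, cS.comm_mul_right hx hu₂S hdS]
    have h2 := H.cl T₁ x hx1 d hd1
    rw [← commutatorElement_eq_one_iff_commute]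
    rcases E₂ x hx with e | e <;> rcases E₃ x hx with e' | e' <;> rw [e, e'] at h1
    · rw [h1, one_mul]
    · rw [one_mul] at h1
      exact absurd (h1 ▸ h2) hzT
    · rw [eq_comm, mul_eq_one_iff_inv_eq, hzi] at h1
      exact absurd (h1 ▸ h2) hzT
    · exact (left_eq_mul.1 h1)
  rcases E₂ d hdS with e | e
  · have hc2 : Commute d u₂ := commutatorElement_eq_one_iff_commute.1 e
    have h23 : u₂ ∈ T₃ := H.mem_of_good h₃ h₁ hu₃ hu₃' hu₂S
      (e₃ ▸ (Commute.refl u₂).mul_left hc2)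
    have key : ∀ x ∈ S, x ∈ T₂ → x ∈ T₁ → x ∈ T₃ := fun x hx hx2 hx1 =>
      H.mem_of_good h₃ h₁ hu₃ hu₃' hx (e₃ ▸ (hu₂.2.1 x hx2).mul_left (hdc x hx hx1).symm)
    rintro x ⟨hx, hx2⟩
    by_cases hx1 : x ∈ T₁
    · exact key x hx hx2 hx1
    · have := T₃.1.mul_mem h23 (key _ (S.1.mul_mem (S.1.inv_mem hu₂S) hx)
        (T₂.1.mul_mem (T₂.1.inv_mem hu₂.1) hx2) (h₁.two u₂ hu₂S x hx hu₂' hx1))
      rwa [mul_inv_cancel_left] at this
  · exfalso
    have hdd : d * d = z := by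
      have h1 := hu₃.2.2
      rw [e₃] at h1
      have h2 : u₂ * d * (u₂ * d) = ⁅d, u₂⁆⁻¹ * d * (u₂ * u₂) * d := by
        simp only [commutatorElement_def]; group
      rw [h1, hu₂.2.2, mul_one, e, mul_assoc, eq_comm, inv_mul_eq_one] at h2
      exact h2.symm
    refine hzT fun t ht => ?_
    have cT := H.cl T₁
    rw [← commutatorElement_eq_one_iff_commute, ← hdd, cT.comm_mul_left hd1 hd1 ht,
      ← cT.comm_mul_right hd1 ht ht, commutatorElement_eq_one_iff_commute]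
    exact (hdc _ (H.mul_self_mem (H.symm h₁.le) ht) (T₁.1.mul_mem ht ht)).symm

end TwoLoc

theorem smul_eq_of_odd_of_sq {A X : Type*} [Group A] [Finite A] [MulAction A X]
    (hA : Odd (Nat.card A)) {a : A} {x : X} (h : a • x = a⁻¹ • x) : a • x = x := by
  have h2 : a * a ∈ MulAction.stabilizer A x := by
    rw [MulAction.mem_stabilizer_iff, mul_smul, h, smul_inv_smul]
  obtain ⟨k, hk⟩ := hA
  have h3 : a = ((a * a) ^ k)⁻¹ := by
    rw [eq_inv_iff_mul_eq_one, ← pow_two, ← pow_mul, ← pow_succ', ← hk, pow_card_eq_one']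
  rw [← MulAction.mem_stabilizer_iff, h3]
  exact Subgroup.inv_mem _ (Subgroup.pow_mem _ h2 k)

/-- A Sylow `2`-subgroup `S` of class `≤ 2`, invariant under an operator group `A` of odd order,
such that the normalizers of the nontrivial `A`-invariant normal subgroups of `S` lie in a
`2`-nilpotent subgroup normalizing `S`. -/
theorem hasNormalPComplement_two_of_inv [Finite G] {A : Type*} [Group A] [Finite A]
    [MulDistribMulAction A G] (hA : Odd (Nat.card A)) (S : Sylow 2 G)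
    (hc : ⁅⁅(S : Subgroup G), (S : Subgroup G)⁆, (S : Subgroup G)⁆ = ⊥)
    (hS : ∀ a : A, a • (S : Subgroup G) = S) {M : Subgroup G}
    (hMS : M ≤ Subgroup.normalizer (S : Set G)) (hM : HasNormalPComplement 2 M)
    (h : ∀ U : Subgroup G, U ≤ S → U ≠ ⊥ → (S : Subgroup G) ≤ Subgroup.normalizer (U : Set G) →
      (∀ a : A, a • U = U) → Subgroup.normalizer (U : Set G) ≤ M) : HasNormalPComplement 2 G := by
  by_cases hP : (S : Subgroup G) = ⊥
  · rw [hasNormalPComplement_iff_inf_eq_bot S, hP, bot_inf_eq]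
  have hY := ctrInv_ne_bot S.isPGroup' hP
  have hc' := clTwo_iff.2 hc
  have hS' : ∀ a : A, a • S = S := fun a => Sylow.ext (hS a)
  have hYM := h _ (ctrInv_le _) hY (le_normalizer_of_forall_conj_mem fun t ht w hw => by
    rwa [← (hw.2.1 t ht).eq, mul_inv_cancel_right]) (fun a => by rw [smul_ctrInv, hS])
  have H : TwoLoc G := by
    refine ⟨fun T => ?_, fun T => ?_⟩ <;> obtain ⟨g, rfl⟩ := MulAction.exists_smul_eq G S T
    · exact hc'.conj_smul g
    · have := Subgroup.pointwise_smul_le_pointwise_smul_iff (a := MulAut.conj g).2 (hYM.trans hMS)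
      rwa [← normalizer_conj_smul, smul_ctrInv,
        show Subgroup.normalizer (S : Set G) = Subgroup.normalizer ((S : Subgroup G) : Set G) from
          rfl, ← normalizer_conj_smul] at this
  have hNS : HasNormalPComplement 2 (Subgroup.normalizer (S : Set G)) :=
    HasNormalPComplement.of_le hM (h _ le_rfl hP Subgroup.le_normalizer hS)
  have hn : ∀ Q : Sylow 2 G, ctrInv (S : Subgroup G) ≤ Q → Q = S := by
    by_contra hcon
    push Not at hcon
    obtain ⟨T, ⟨hT, hne⟩, hmax⟩ := Set.exists_max_image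
      {Q : Sylow 2 G | ctrInv (S : Subgroup G) ≤ Q ∧ Q ≠ S}
      (fun Q => Nat.card ((S : Subgroup G) ⊓ Q : Subgroup G)) (Set.toFinite _) hcon
    have hG : TwoLoc.Good S T := ⟨hne, hT, fun s hs s' hs' h1 h2 => H.index_two hT hne hNS
      (fun R hR hle => by
        have h3 := hmax R ⟨(le_inf (ctrInv_le _) hT).trans hle, hR⟩
        have := Subgroup.eq_of_le_of_card_ge (le_inf inf_le_left hle) h3
        exact this ▸ inf_le_right) hs hs' h1 h2⟩
    have hmem : ∀ (a : A) (R : Sylow 2 G) (x : G), x ∈ a • R ↔ a⁻¹ • x ∈ R := fun a R x =>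
      Subgroup.mem_pointwise_smul_iff_inv_smul_mem
    have hYa : ∀ (a : A) (R Q : Sylow 2 G), ctrInv (R : Subgroup G) ≤ Q →
        ctrInv ((a • R : Sylow 2 G) : Subgroup G) ≤ (a • Q : Sylow 2 G) := by
      intro a R Q hRQ
      rw [Sylow.pointwise_smul_def, Sylow.pointwise_smul_def, ← smul_ctrInv]
      exact Subgroup.pointwise_smul_le_pointwise_smul_iff.2 hRQ
    have hGa : ∀ a : A, TwoLoc.Good S (a • T) := by
      refine fun a => ⟨fun e => hne ?_, ?_, fun s hs s' hs' h1 h2 => ?_⟩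
      · rw [← hS' a] at e
        exact smul_left_cancel a e
      · simpa [hS'] using hYa a S T hT
      · rw [← hS' a] at hs hs'
        rw [hmem] at hs hs' h1 h2 ⊢
        rw [smul_mul', smul_inv']
        exact hG.two _ hs _ hs' h1 h2
    have hall : ∀ a : A, ctrInv ((a • T : Sylow 2 G) : Subgroup G) ≤ T := by
      intro a
      by_contra n₂
      have n₃ : ¬ ctrInv ((a⁻¹ • T : Sylow 2 G) : Subgroup G) ≤ T := fun e => n₂ (H.symm (by
        simpa using hYa a _ _ e))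
      have hsm : ∀ b : A, b • ((S : Subgroup G) ⊓ T) = (S : Subgroup G) ⊓ (b • T : Sylow 2 G) :=
        fun b => by rw [Subgroup.smul_inf, hS, Sylow.pointwise_smul_def]
      have e := smul_eq_of_odd_of_sq hA (a := a) (x := (S : Subgroup G) ⊓ T) (by
        rw [hsm, hsm]
        exact le_antisymm (le_inf inf_le_left (H.inf_le_of_good hG (hGa _) (hGa _) n₂ n₃))
          (le_inf inf_le_left (H.inf_le_of_good hG (hGa _) (hGa _) n₃ n₂)))
      rw [hsm] at e
      exact n₂ ((le_inf (H.symm (hGa a).le) (ctrInv_le _)).trans (e.le.trans inf_le_right))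
    set W : Subgroup G := ctrInv (S : Subgroup G) ⊔
      ⨆ a : A, ctrInv ((a • T : Sylow 2 G) : Subgroup G) with hW
    have hnorm : ∀ R : Sylow 2 G, ctrInv (R : Subgroup G) ≤ W → ctrInv (S : Subgroup G) ≤ R →
        (∀ a : A, ctrInv ((a • T : Sylow 2 G) : Subgroup G) ≤ R) →
        (R : Subgroup G) ≤ Subgroup.normalizer (W : Set G) := by
      intro R hRW h1 h2
      refine le_normalizer_of_forall_conj_mem fun t ht => ?_
      have key : ∀ Q : Subgroup G, ctrInv Q ≤ R → ctrInv Q ≤ W →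
          ctrInv Q ≤ W.comap (MulAut.conj t).toMonoidHom := by
        intro Q hQR hQW y hy
        change t * y * t⁻¹ ∈ W
        rw [show t * y * t⁻¹ = ⁅t, y⁆ * y by simp [commutatorElement_def]]
        exact W.mul_mem (hRW ((H.cl R).comm_mem_ctrInv ht (hQR hy) hy.2.2)) (hQW hy)
      exact sup_le (key _ h1 le_sup_left) (iSup_le fun a => key _ (h2 a)
        (le_sup_of_le_right (le_iSup (fun a : A => ctrInv ((a • T : Sylow 2 G) : Subgroup G)) a)))
    have hWS : W ≤ S := sup_le (ctrInv_le _) (iSup_le fun a => H.symm (hGa a).le)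
    have h1 := h W hWS (fun e => hY (le_bot_iff.1 (e ▸ le_sup_left)))
      (hnorm S le_sup_left (ctrInv_le _) fun a => H.symm (hGa a).le) (by
        refine invariant_iff_smul_eq.1 fun a => ?_
        have : W ≤ W.comap (MulDistribMulAction.toMonoidHom G a) := by
          refine sup_le (fun y hy => ?_) (iSup_le fun b y hy => ?_)
          · refine (le_sup_left : _ ≤ W) ?_
            rw [← hS a, ← smul_ctrInv]
            exact Subgroup.smul_mem_pointwise_smul _ a _ hy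
          · refine (le_sup_of_le_right (le_iSup
              (fun a : A => ctrInv ((a • T : Sylow 2 G) : Subgroup G)) (a * b)) : _ ≤ W) ?_
            rw [mul_smul, Sylow.pointwise_smul_def, ← smul_ctrInv]
            exact Subgroup.smul_mem_pointwise_smul _ a _ hy
        exact this)
    have h2 := hnorm T (le_sup_of_le_right (by
      simpa using le_iSup (fun a : A => ctrInv ((a • T : Sylow 2 G) : Subgroup G)) 1)) hT hall
    have h3 := pgroup_le_sylow_of_le_norm S T.isPGroup' (h2.trans (h1.trans hMS))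
    exact hne (Sylow.ext ((isSylowIn_top T).eq_of_le S.isPGroup' h3 le_top).symm)
  have hYZ : ctrInv (S : Subgroup G) ≤ (S : Subgroup G) ⊓ Subgroup.centralizer (S : Set G) :=
    fun y hy => ⟨hy.1, fun x hx => (hy.2.1 x hx).symm⟩
  have key := Cfsg.Agent.S0078.result S (fun Q hQ => by rw [hn Q (hYZ.trans hQ)]) M
    (h _ inf_le_left (inf_centralizer_ne_bot_of_isPGroup S.isPGroup' hP)
      (le_normalizer_of_class_two hc inf_le_left le_rfl) (invariant_iff_smul_eq.1 fun a x hx =>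
        ⟨invariant_iff_smul_eq.2 hS a x hx.1, fun y hy => by
          have := congrArg (a • ·) (hx.2 _ (invariant_iff_smul_eq.2 hS a⁻¹ y hy))
          simpa [smul_mul'] using this⟩))
  rw [hasNormalPComplement_iff_inf_eq_bot S, key, eq_bot_iff]
  rintro x ⟨hxP, y, hy, rfl⟩
  have := hasNormalPComplement_iff_forall_mem.1 hM y hy
  rw [Subgroup.mem_bot]
  exact eq_one_of_coprime_of_mem S.isPGroup' hxP (by simpa using this)

end CL.Fgs
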