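/-
Coprime actions with nilpotent maximal invariant subgroups: the invariant forms of the
Deskins–Janko–Thompson theorem and of Schmidt's theorem on minimal non-nilpotent groups.
-/
import Cfsg.Agent.Fgs.InvClassTwo
import Cfsg.Agent.Fgs.DJT2
import Cfsg.Agent.Grp.CoprimeAct

set_option autoImplicit false
set_option linter.style.haveILetI false
open Cfsg CL.Grp
open scoped Pointwise

universe u

namespace CL.Fgs

variable {A G : Type*} [Group A] [Group G] [MulDistribMulAction A G]

theorem inv_normalizer {U : Subgroup G} (hU : ∀ a : A, ∀ x ∈ U, a • x ∈ U) (a : A) :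
    ∀ x ∈ Subgroup.normalizer (U : Set G), a • x ∈ Subgroup.normalizer (U : Set G) := by
  intro x hx
  rw [Subgroup.mem_normalizer_iff] at hx ⊢
  intro y
  rw [← smul_mem_iff_of_invariant hU a⁻¹, hx, ← smul_mem_iff_of_invariant hU a]
  simp [smul_mul', smul_inv']

theorem inv_sup {U V : Subgroup G} (hU : ∀ a : A, ∀ x ∈ U, a • x ∈ U)
    (hV : ∀ a : A, ∀ x ∈ V, a • x ∈ V) : ∀ a : A, ∀ x ∈ U ⊔ V, a • x ∈ U ⊔ V :=
  invariant_iff_smul_eq.2 fun a => by
    rw [Subgroup.smul_sup, invariant_iff_smul_eq.1 hU, invariant_iff_smul_eq.1 hV]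

theorem inv_normalCore {M : Subgroup G} (hM : ∀ a : A, ∀ x ∈ M, a • x ∈ M) (a : A) :
    ∀ x ∈ M.normalCore, a • x ∈ M.normalCore := by
  intro x hx b
  simpa [smul_mul', smul_inv'] using hM a _ (hx (a⁻¹ • b))

theorem smul_eq_map_toMulEquiv (a : A) (U : Subgroup G) :
    a • U = U.map (MulDistribMulAction.toMulEquiv G a : G →* G) := rfl

theorem inv_pCoreOf {M : Subgroup G} (hM : ∀ a : A, ∀ x ∈ M, a • x ∈ M) (p : ℕ) (a : A) :
    a • pCoreOf p M = pCoreOf p M := by
  rw [smul_eq_map_toMulEquiv, map_pCoreOf_of_injective (MulEquiv.injective _),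
    ← smul_eq_map_toMulEquiv, invariant_iff_smul_eq.1 hM]

theorem inv_comap_mk' {N : Subgroup G} [N.Normal] (hN : ∀ a : A, ∀ x ∈ N, a • x ∈ N)
    {H : Subgroup (G ⧸ N)} (hH : letI := quotAction N hN; ∀ a : A, ∀ x ∈ H, a • x ∈ H) :
    ∀ a : A, ∀ x ∈ H.comap (QuotientGroup.mk' N), a • x ∈ H.comap (QuotientGroup.mk' N) :=
  fun a x hx => hH a (x : G ⧸ N) hx

theorem isSolvable_of_isPGroup' [Finite G] {p : ℕ} [Fact p.Prime] (h : IsPGroup p G) :
    Group.IsSolvable G := by
  have := h.isNilpotent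
  infer_instance

variable [Finite A] [Finite G]

theorem isSolvable_of_invMax_of_normalCore (hcop : (Nat.card A).Coprime (Nat.card G))
    (hs : Group.IsSolvable A ∨ Group.IsSolvable G) {M : Subgroup G} (hMtop : M ≠ ⊤)
    (hinv : ∀ a : A, ∀ x ∈ M, a • x ∈ M)
    (hmax : ∀ H : Subgroup G, M ≤ H → H ≠ ⊤ → (∀ a : A, ∀ x ∈ H, a • x ∈ H) → H = M)
    (hnil : Group.IsNilpotent M)
    (h2 : ∃ T : Subgroup G, T ≤ M ∧ ¬ 2 ∣ T.relIndex M ∧ ⁅⁅T, T⁆, T⁆ = ⊥)
    (hc : M.normalCore = ⊥) : Group.IsSolvable G := by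
  have hN : ∀ U : Subgroup G, U ≤ M → U ≠ ⊥ → M ≤ Subgroup.normalizer (U : Set G) →
      (∀ a : A, ∀ x ∈ U, a • x ∈ U) → Subgroup.normalizer (U : Set G) = M := by
    intro U hU hne hn hUA
    refine hmax _ hn (fun e => ?_) (inv_normalizer hUA)
    have : U.Normal := Subgroup.normalizer_eq_top_iff.1 e
    exact hne (le_bot_iff.1 (hc ▸ Subgroup.normal_le_normalCore.2 hU))
  by_cases hM : M = ⊥
  · subst hM
    have : Nontrivial G := by
      by_contra hn
      rw [not_nontrivial_iff_subsingleton] at hn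
      exact hMtop (Subsingleton.elim _ _)
    obtain ⟨p, hp, hpG⟩ := Nat.exists_prime_and_dvd (Finite.one_lt_card (α := G)).ne'
    have : Fact p.Prime := ⟨hp⟩
    obtain ⟨P, hP⟩ := act_exists_sylow p hcop hs
    by_cases e : (P : Subgroup G) = ⊤
    · exact isSolvable_of_isPGroup' ((e ▸ P.isPGroup' : IsPGroup p (⊤ : Subgroup G)).of_equiv
        Subgroup.topEquiv)
    · exact absurd (hmax P bot_le e hP) (P.ne_bot_of_dvd_card hpG)
  have hSyl : ∀ (p : ℕ) [Fact p.Prime], p ∣ Nat.card M →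
      (∃ P : Sylow p G, (P : Subgroup G) = pCoreOf p M) ∧ HasNormalPComplement p G := by
    intro p hp hpM
    have hne := pCoreOf_ne_bot_of_isNilpotent hnil hpM
    have hNU : ∀ U : Subgroup G, U ≤ pCoreOf p M → U ≠ ⊥ →
        pCoreOf p M ≤ Subgroup.normalizer (U : Set G) → (∀ a : A, a • U = U) →
        Subgroup.normalizer (U : Set G) = M :=
      fun U hU hU1 hUn hUA => hN U (hU.trans (pCoreOf_le p M)) hU1
        (le_normalizer_of_pCoreOf_le_normalizer hnil hU hUn) (invariant_iff_smul_eq.2 hUA)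
    obtain ⟨P, hP⟩ := exists_sylow_eq_pCoreOf hnil
      (hNU _ le_rfl hne Subgroup.le_normalizer (inv_pCoreOf hinv p)).le
    refine ⟨⟨P, hP⟩, ?_⟩
    have hMp : HasNormalPComplement p M := hasNormalPComplement_of_isNilpotent
    have hPA : ∀ a : A, a • (P : Subgroup G) = P := fun a => by rw [hP, inv_pCoreOf hinv]
    by_cases hp2 : p = 2
    · subst hp2
      obtain ⟨T, hTM, hTp, hT⟩ := h2
      have hPT : (P : Subgroup G) ≤ T := by
        obtain ⟨S, hS⟩ := exists_isSylowIn (p := 2) T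
        have hS' := hS.of_not_dvd_relIndex hTM hTp
        rw [hP]
        exact (hS'.le_of_normalized (pCoreOf_isPGroup 2 M) (pCoreOf_le 2 M)
          (le_normalizer_pCoreOf 2 M)).trans hS.le
      refine hasNormalPComplement_two_of_inv (A := A) ?_ P (le_bot_iff.1 (hT ▸
        Subgroup.commutator_mono (Subgroup.commutator_mono hPT hPT) hPT)) hPA
        (show M ≤ Subgroup.normalizer ((P : Subgroup G) : Set G) from
          hP ▸ le_normalizer_pCoreOf 2 M) hMp fun U hU hU1 hUn hUA => ?_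
      · exact Nat.coprime_two_right.1 (hcop.coprime_dvd_right
          (hpM.trans (Subgroup.card_subgroup_dvd_card M)))
      · exact (hNU U (hP ▸ hU) hU1 (hP ▸ hUn) hUA).le
    · refine hasNormalPComplement_of_forall_char hp2 P fun U hU hU1 hUφ => ?_
      rw [hNU U (hP ▸ hU) hU1]
      · exact hMp
      · intro x hx
        rw [Subgroup.mem_normalizer_iff_map_conj_eq]
        refine hUφ (MulAut.conj x) ?_
        rw [← hP] at hx
        exact Subgroup.mem_normalizer_iff_map_conj_eq.1 (Subgroup.le_normalizer hx)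
      · exact fun a => hUφ (MulDistribMulAction.toMulEquiv G a) (hPA a)
  set K : Subgroup G := ⨅ p : {p : ℕ // p.Prime ∧ p ∣ Nat.card M}, pResidual p G with hK
  have hKn : K.Normal := Subgroup.normal_iInf_normal fun p => inferInstance
  have hKA : ∀ a : A, ∀ x ∈ K, a • x ∈ K := fun a x hx => Subgroup.mem_iInf.2 fun p =>
    smul_mem_of_characteristic _ a x (Subgroup.mem_iInf.1 hx p)
  have hco : (Nat.card M).Coprime (Nat.card K) := by
    refine Nat.coprime_of_dvd fun p hp hpM hpK => ?_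
    have : Fact p.Prime := ⟨hp⟩
    exact hasNormalPComplement_iff_not_dvd_pResidual.1 (hSyl p hpM).2
      (hpK.trans (Subgroup.card_dvd_of_le (iInf_le
        (fun p : {p : ℕ // p.Prime ∧ p ∣ Nat.card M} => pResidual p G) ⟨p, hp, hpM⟩)))
  have hKM : K ⊔ M = ⊤ := by
    refine eq_top_of_forall_sylow_le fun q hq => ?_
    by_cases hqM : q ∣ Nat.card M
    · obtain ⟨P, hP⟩ := (hSyl q hqM).1
      exact ⟨P, le_sup_of_le_right (hP ▸ pCoreOf_le q M)⟩
    · refine ⟨default, le_sup_of_le_left (le_iInf fun p => le_pResidual_of_coprime ?_)⟩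
      obtain ⟨k, hk⟩ := IsPGroup.iff_card.1 (default : Sylow q G).isPGroup'
      rw [hk]
      exact Nat.Coprime.pow_left _ ((Nat.coprime_primes hq.out p.2.1).2 fun e => hqM (e ▸ p.2.2))
  have hK1 : Nat.card K ≠ 1 := fun e => hMtop (by
    rwa [Subgroup.card_eq_one.1 e, bot_sup_eq] at hKM)
  obtain ⟨q, hq, hqK⟩ := Nat.exists_prime_and_dvd hK1
  have : Fact q.Prime := ⟨hq⟩
  have hMs : Group.IsSolvable M := inferInstance
  obtain ⟨S, hS, hMS⟩ := exists_isSylowIn_le_normalizer q (A := M) (K := K)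
    Subgroup.le_normalizer_of_normal hco (Or.inl hMs)
  have hinf : K ⊓ M = ⊥ := by
    rw [inf_comm]
    exact (Subgroup.disjoint_of_coprime_natCard hco).eq_bot
  have hSA : ∀ a : A, a • S = S := by
    intro a
    have h1 : IsSylowIn q (a • S) K := hS.of_card_le (hS.isPGroup.map _)
      (invariant_iff_smul_eq.1 hKA a ▸ Subgroup.pointwise_smul_le_pointwise_smul_iff.2 hS.le)
      (Nat.card_congr (Subgroup.equivSMul a S).toEquiv).le
    obtain ⟨c, hc, e⟩ := hS.exists_centralizer_conj_eq (A := M) Subgroup.le_normalizer_of_normal hco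
      (Or.inl hMs) h1 hMS (le_normalizer_of_forall_conj_mem fun t ht w hw => by
        rw [Subgroup.mem_pointwise_smul_iff_inv_smul_mem] at hw ⊢
        simpa [smul_mul', smul_inv'] using
          (Subgroup.mem_normalizer_iff.1 (hMS (hinv a⁻¹ t ht)) _).1 hw)
    have : c ∈ K ⊓ M := ⟨hc.1, hN M le_rfl hM Subgroup.le_normalizer hinv ▸
      Subgroup.centralizer_le_normalizer _ hc.2⟩
    rw [hinf, Subgroup.mem_bot] at this
    rw [← e, this, map_one, one_smul]
  have h1 : S ⊔ M = ⊤ := by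
    by_contra hne
    have h3 : S ≤ K ⊓ M := le_inf hS.le
      (hmax _ le_sup_right hne (inv_sup (invariant_iff_smul_eq.2 hSA) hinv) ▸ le_sup_left)
    rw [hinf, le_bot_iff] at h3
    exact hS.not_dvd (by rwa [h3, Subgroup.relIndex_bot_left])
  have : S.Normal := normal_of_sup_le_normalizer h1 Subgroup.le_normalizer hMS
  exact isSolvable_of_normal_sup (isSolvable_of_isPGroup' hS.isPGroup) hMs h1

/-- The invariant form of the **Deskins–Janko–Thompson** theorem. -/
theorem isSolvable_of_invMax (hcop : (Nat.card A).Coprime (Nat.card G))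
    (hs : Group.IsSolvable A ∨ Group.IsSolvable G) {M : Subgroup G} (hMtop : M ≠ ⊤)
    (hinv : ∀ a : A, ∀ x ∈ M, a • x ∈ M)
    (hmax : ∀ H : Subgroup G, M ≤ H → H ≠ ⊤ → (∀ a : A, ∀ x ∈ H, a • x ∈ H) → H = M)
    (hnil : Group.IsNilpotent M)
    (h2 : ∃ T : Subgroup G, T ≤ M ∧ ¬ 2 ∣ T.relIndex M ∧ ⁅⁅T, T⁆, T⁆ = ⊥) :
    Group.IsSolvable G := by
  rcases hs with hs | hs
  swap
  · exact hs
  set N := M.normalCore with hNdef
  have hNM : N ≤ M := M.normalCore_le
  have hNA := inv_normalCore hinv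
  have hcm : (M.map (QuotientGroup.mk' N)).comap (QuotientGroup.mk' N) = M :=
    Subgroup.comap_map_eq_self (by simpa using hNM)
  letI := quotAction N hNA
  have hq : Group.IsSolvable (G ⧸ N) := by
    refine isSolvable_of_invMax_of_normalCore (A := A) (M := M.map (QuotientGroup.mk' N))
      (hcop.coprime_dvd_right (Subgroup.card_quotient_dvd_card N)) (Or.inl hs) (fun e => ?_) ?_ ?_
      (isNilpotent_map hnil _) ?_ ?_
    · rw [e, Subgroup.comap_top] at hcm
      exact hMtop hcm.symm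
    · rintro a _ ⟨x, hx, rfl⟩
      exact ⟨a • x, hinv a x hx, rfl⟩
    · intro H h1 h3 h4
      have h5 := hmax (H.comap (QuotientGroup.mk' N)) (Subgroup.map_le_iff_le_comap.1 h1)
        (fun e => h3 (Subgroup.comap_injective (QuotientGroup.mk'_surjective N) (by simpa using e)))
        (inv_comap_mk' hNA h4)
      exact (Subgroup.map_comap_eq_self_of_surjective (QuotientGroup.mk'_surjective N) H).symm.trans
        (congrArg (Subgroup.map (QuotientGroup.mk' N)) h5)
    · obtain ⟨T, hTM, hTp, hT⟩ := h2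
      refine ⟨T.map (QuotientGroup.mk' N), Subgroup.map_mono hTM, fun hd => hTp ?_, ?_⟩
      · rw [← Subgroup.relIndex_comap] at hd
        exact hd.trans (Subgroup.relIndex_dvd_of_le_left _ (Subgroup.le_comap_map _ _))
      rw [← Subgroup.map_commutator, ← Subgroup.map_commutator, hT, Subgroup.map_bot]
    · rw [eq_bot_iff]
      intro x hx
      obtain ⟨x, rfl⟩ := QuotientGroup.mk'_surjective N x
      refine (QuotientGroup.eq_one_iff x).2 fun b => ?_
      rw [← hcm]
      exact hx (b : G ⧸ N)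
  have := isNilpotent_of_le hnil hNM
  exact Group.isSolvable_of_ker_le_range N.subtype (QuotientGroup.mk' N) (by simp)

omit [Finite G] in
theorem isSolvable_of_forall_inv_isNilpotent (hs : Group.IsSolvable A) (G : Type u) [Group G]
    [Finite G] : ∀ [MulDistribMulAction A G], (Nat.card A).Coprime (Nat.card G) →
    (∀ H : Subgroup G, H ≠ ⊤ → (∀ a : A, ∀ x ∈ H, a • x ∈ H) → Group.IsNilpotent H) →
      Group.IsSolvable G := by
  refine induction_on_card (P := fun X _ _ => ∀ [MulDistribMulAction A X],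
    (Nat.card A).Coprime (Nat.card X) →
    (∀ H : Subgroup X, H ≠ ⊤ → (∀ a : A, ∀ x ∈ H, a • x ∈ H) → Group.IsNilpotent H) →
      Group.IsSolvable X) ?_ G
  intro G _ _ ih _ hcop h
  by_cases hN : ∃ N : Subgroup G, N.Normal ∧ N ≠ ⊥ ∧ N ≠ ⊤ ∧ ∀ a : A, ∀ x ∈ N, a • x ∈ N
  · obtain ⟨N, hN, h1, h2, hNA⟩ := hN
    letI := quotAction N hNA
    have hq : Group.IsSolvable (G ⧸ N) := ih (G ⧸ N) (card_quotient_lt h1)
      (hcop.coprime_dvd_right (Subgroup.card_quotient_dvd_card N)) fun H h3 h4 => by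
        rw [← Subgroup.map_comap_eq_self_of_surjective (QuotientGroup.mk'_surjective N) H]
        exact isNilpotent_map (h _ (fun e => h3 (Subgroup.comap_injective
          (QuotientGroup.mk'_surjective N) (by simpa using e))) (inv_comap_mk' hNA h4)) _
    have := h N h2 hNA
    exact Group.isSolvable_of_ker_le_range N.subtype (QuotientGroup.mk' N) (by simp)
  push Not at hN
  by_cases hp : ∃ p : ℕ, p.Prime ∧ p ≠ 2 ∧ p ∣ Nat.card G
  · obtain ⟨p, hp, hp2, hpG⟩ := hp
    have : Fact p.Prime := ⟨hp⟩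
    by_contra hG
    obtain ⟨P, hP⟩ := act_exists_sylow p hcop (Or.inl hs)
    have h1 : HasNormalPComplement p G := by
      refine hasNormalPComplement_of_forall_char hp2 P fun U hU hU1 hUφ => ?_
      have hUA : ∀ a : A, ∀ x ∈ U, a • x ∈ U := invariant_iff_smul_eq.2 fun a =>
        hUφ (MulDistribMulAction.toMulEquiv G a) (invariant_iff_smul_eq.1 hP a)
      have := h _ (fun e => ?_) (inv_normalizer hUA)
      · exact hasNormalPComplement_of_isNilpotent
      · obtain ⟨a, x, hx, hax⟩ := hN U (Subgroup.normalizer_eq_top_iff.1 e) hU1 (fun e' => hG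
          (isSolvable_of_isPGroup' ((e' ▸ P.isPGroup'.to_le hU :
            IsPGroup p (⊤ : Subgroup G)).of_equiv Subgroup.topEquiv)))
        exact hax (hUA a x hx)
    obtain ⟨a, x, hx, hax⟩ := hN (pResidual p G) inferInstance
      (fun e => hG (isSolvable_of_isPGroup' (pResidual_eq_bot_iff.1 e))) (fun e =>
        hasNormalPComplement_iff_not_dvd_pResidual.1 h1 (by rwa [e, Subgroup.card_top]))
    exact hax (smul_mem_of_characteristic _ a x hx)
  · push Not at hp
    refine isSolvable_of_isPGroup' (p := 2) (IsPGroup.iff_card.2 ⟨_,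
      Nat.eq_prime_pow_of_unique_prime_dvd Nat.card_pos.ne' fun {d} hd hdG => ?_⟩)
    by_contra e
    exact hp d hd e hdG

/-- The invariant form of **Schmidt's theorem**. -/
theorem schmidt_inv (hcop : (Nat.card A).Coprime (Nat.card G))
    (hs : Group.IsSolvable A ∨ Group.IsSolvable G)
    (h : ∀ H : Subgroup G, H ≠ ⊤ → (∀ a : A, ∀ x ∈ H, a • x ∈ H) → Group.IsNilpotent H)
    (hG : ¬ Group.IsNilpotent G) : Group.IsSolvable G ∧ ∃ (p q : ℕ) (_ : Fact p.Prime)
      (_ : Fact q.Prime) (P : Sylow p G) (Q : Sylow q G), p ≠ q ∧ p ∣ Nat.card G ∧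
        (P : Subgroup G).Characteristic ∧ Nat.card G = Nat.card P * Nat.card Q := by
  have hsol : Group.IsSolvable G := hs.elim
    (fun hA => isSolvable_of_forall_inv_isNilpotent hA G hcop h) id
  refine ⟨hsol, ?_⟩
  have hnt : Nontrivial G := by
    by_contra hn
    rw [not_nontrivial_iff_subsingleton] at hn
    exact hG inferInstance
  obtain ⟨q, hq, hR⟩ : ∃ q : ℕ, q.Prime ∧ pResidual q G ≠ ⊤ := by
    have h1 : Nat.card (G ⧸ commutator G) ≠ 1 := fun e =>
      (Group.IsSolvable.commutator_lt_top_of_nontrivial G).ne (Subgroup.index_eq_one.1 e)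
    obtain ⟨q, hq, hd⟩ := Nat.exists_prime_and_dvd h1
    have : Fact q.Prime := ⟨hq⟩
    refine ⟨q, hq, fun e => ?_⟩
    have h2 := map_pResidual_of_surjective (p := q) _ (QuotientGroup.mk'_surjective (commutator G))
    rw [e, Subgroup.map_top_of_surjective _ (QuotientGroup.mk'_surjective _)] at h2
    have : Group.IsNilpotent (G ⧸ commutator G) := isNilpotent_of_isMulCommutative
      (Subgroup.Normal.quotient_commutative_iff_commutator_le.2 le_rfl)
    exact hasNormalPComplement_iff_not_dvd_pResidual.1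
      (hasNormalPComplement_of_isNilpotent (p := q) (G := G ⧸ commutator G))
      (by rwa [← h2, Subgroup.card_top])
  have : Fact q.Prime := ⟨hq⟩
  have hRn := h _ hR (smul_mem_of_characteristic _)
  have hP : ∀ (p : ℕ) [Fact p.Prime] (P : Sylow p G), p ≠ q → (P : Subgroup G).Normal := by
    intro p hp P hne
    have h1 : (P : Subgroup G) ≤ pResidual q G := le_pResidual_of_coprime (by
      obtain ⟨k, hk⟩ := IsPGroup.iff_card.1 P.isPGroup'
      rw [hk]
      exact Nat.Coprime.pow_left _ ((Nat.coprime_primes hp.out hq).2 hne))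
    rw [← (isSylowIn_top P).eq_of_le (pCoreOf_isPGroup p _)
      (le_pCoreOf_of_isNilpotent hRn P.isPGroup' h1) le_top]
    infer_instance
  obtain ⟨Q, hQ⟩ := act_exists_sylow q hcop hs
  by_contra hcon
  refine hG (isNilpotent_iff_sylow_normal.2 fun p hp P => ?_)
  by_cases hpq : p = q
  swap
  · exact hP p P hpq
  subst hpq
  suffices hQn : (Q : Subgroup G).Normal by
    have := Sylow.unique_of_normal Q hQn
    rwa [Subsingleton.elim P Q]
  rw [← Subgroup.normalizer_eq_top_iff]
  refine eq_top_of_forall_sylow_le fun r hr => ?_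
  by_cases hrp : r = p
  · subst hrp
    exact ⟨Q, Subgroup.le_normalizer⟩
  let R : Sylow r G := default
  have hRn := hP r R hrp
  have hRc := Sylow.characteristic_of_normal R hRn
  refine ⟨R, le_normalizer_of_le_centralizer (le_centralizer_of_isNilpotent_of_ne
    (h (Q ⊔ R) (fun e => ?_) (inv_sup hQ (smul_mem_of_characteristic _))) R.isPGroup' le_sup_right
    Q.isPGroup' le_sup_left hrp)⟩
  have hd : (Q : Subgroup G) ⊓ R = ⊥ :=
    IsPGroup.disjoint_of_ne p r (Ne.symm hrp) _ _ Q.isPGroup' R.isPGroup' |>.eq_bot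
  have hcard := card_sup_of_inf_eq_bot (Subgroup.le_normalizer_of_normal) hd
  rw [e, Subgroup.card_top, mul_comm] at hcard
  refine hcon ⟨r, p, hr, hp, R, Q, hrp, ?_, hRc, hcard⟩
  by_contra hr1
  have h3 : (R : Subgroup G) = ⊥ := by
    by_contra hne
    obtain ⟨x, hx1⟩ := (Subgroup.ne_bot_iff_exists_ne_one.1 hne)
    exact hr1 ((prime_dvd_orderOf_of_mem_isPGroup R.isPGroup' x.2
      (fun e => hx1 (Subtype.ext e))).trans (orderOf_dvd_natCard _))
  rw [h3, sup_bot_eq] at e
  exact hG ((e ▸ Q.isPGroup' : IsPGroup p (⊤ : Subgroup G)).of_equiv Subgroup.topEquiv).isNilpotent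

end CL.Fgs
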