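/-
An involutory automorphism inverting few elements of odd order.
-/
import Cfsg.Agent.Fgs.Flav10b
import Cfsg.Agent.Fgs.Dietzmann

set_option autoImplicit false

namespace CL.Fgs

open Subgroup CL.Grp

universe u

/-- The elements of odd order inverted by `α`. -/
def invOdd {G : Type*} [Group G] (α : MulAut G) : Set G := {g | Odd (orderOf g) ∧ α g = g⁻¹}

section
variable {G H : Type*} [Group G] [Group H]

theorem odd_orderOf_pow_two_pow [Finite G] (x : G) {K : ℕ} (hK : Nat.card G ≤ K) :
    Odd (orderOf (x ^ 2 ^ K)) := by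
  have h0 : orderOf x ≠ 0 := (orderOf_pos x).ne'
  obtain ⟨a, b, hb, e⟩ := Nat.exists_eq_two_pow_mul_odd h0
  have ha : a ≤ K := by
    have h1 : 2 ^ a ≤ orderOf x := by rw [e]; exact Nat.le_mul_of_pos_right _ hb.pos
    exact (Nat.lt_two_pow_self.le.trans h1).trans (orderOf_le_card.trans hK)
  refine hb.of_dvd_nat (orderOf_dvd_of_pow_eq_one ?_)
  rw [← pow_mul]
  refine orderOf_dvd_iff_pow_eq_one.1 ?_
  rw [e]; exact Nat.mul_dvd_mul_right (pow_dvd_pow 2 ha) b

theorem pow_mem_invOdd {α : MulAut G} {x : G} (hx : x ∈ invOdd α) (n : ℕ) : x ^ n ∈ invOdd α :=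
  ⟨hx.1.of_dvd_nat (orderOf_pow_dvd n), by rw [map_pow, hx.2, inv_pow]⟩

theorem one_mem_invOdd (α : MulAut G) : (1 : G) ∈ invOdd α := ⟨by simp, by simp⟩

theorem inv_mem_invOdd {α : MulAut G} {x : G} (hx : x ∈ invOdd α) : x⁻¹ ∈ invOdd α :=
  ⟨by rw [orderOf_inv]; exact hx.1, by rw [map_inv, hx.2]⟩

theorem orderOf_le_ncard_invOdd [Finite G] {α : MulAut G} {x : G} (hx : x ∈ invOdd α) :
    orderOf x ≤ (invOdd α).ncard := by
  rw [← Nat.card_zpowers, ← SetLike.coe_sort_coe, Nat.card_coe_set_eq]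
  refine Set.ncard_le_ncard (fun y hy => ?_) (Set.toFinite _)
  obtain ⟨n, rfl⟩ := mem_powers_iff_mem_zpowers.2 hy
  exact pow_mem_invOdd hx n

theorem image_invOdd [Finite G] {α : MulAut G} (hα : ∀ x, α (α x) = x) {β : MulAut H} {π : G →* H}
    (hπ : Function.Surjective π) (h : ∀ x, β (π x) = π (α x)) : π '' invOdd α = invOdd β := by
  haveI : Finite H := Finite.of_surjective π hπ
  ext y
  constructor
  · rintro ⟨x, hx, rfl⟩
    exact ⟨hx.1.of_dvd_nat (orderOf_map_dvd π x), by rw [h, hx.2, map_inv]⟩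
  · intro hy
    obtain ⟨r, hr⟩ := hy.1
    obtain ⟨k, hk⟩ := hπ (y ^ (r + 1))
    have h1 : π (k * (α k)⁻¹) = y := by
      rw [map_mul, map_inv, ← h, hk, map_pow, hy.2, inv_pow, inv_inv, ← pow_add,
        show r + 1 + (r + 1) = orderOf y + 1 by omega, pow_succ, pow_orderOf_eq_one, one_mul]
    refine ⟨(k * (α k)⁻¹) ^ 2 ^ (Nat.card G * (orderOf y).totient), ⟨odd_orderOf_pow_two_pow _
      (Nat.le_mul_of_pos_right _ (Nat.totient_pos.2 (orderOf_pos y))), ?_⟩, ?_⟩
    · rw [map_pow, ← inv_pow]; congr 1; simp [hα]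
    · rw [map_pow, h1, pow_mul]
      conv_rhs => rw [← pow_one y]
      exact pow_eq_pow_iff_modEq.2 (Nat.ModEq.pow_totient
        (Nat.Coprime.pow_left _ (Nat.coprime_two_left.2 hy.1)))

theorem closure_invOdd_of_surj [Finite G] {α : MulAut G} (hα : ∀ x, α (α x) = x) {β : MulAut H}
    {π : G →* H} (hπ : Function.Surjective π) (h : ∀ x, β (π x) = π (α x))
    (hJ : closure (invOdd α) = ⊤) : closure (invOdd β) = ⊤ := by
  rw [← image_invOdd hα hπ h, ← MonoidHom.map_closure, hJ, map_top_of_surjective π hπ]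

theorem exists_small_class [Finite G] {α : MulAut G} (hα : ∀ x, α (α x) = x) {c M : ℕ}
    (hc : {x | α x = x}.ncard ≤ c) (hM : (invOdd α).ncard ≤ M) :
    Nat.card G ≤ c ∨ ∃ y : G, y ≠ 1 ∧ (y ∈ invOdd α ∨ (α y = y ∧ y ^ 2 = 1)) ∧
      (centralizer ({y} : Set G)).index ≤ c * (M + c) := by
  classical
  haveI := Fintype.ofFinite G
  set I : Finset G := Finset.univ.filter fun x => α x = x⁻¹ with hI
  have h1 : Nat.card G ≤ c * I.card := by
    rw [Nat.card_eq_fintype_card, ← Finset.card_univ]
    refine Finset.card_le_mul_card_image_of_maps_to (f := fun x => x * (α x)⁻¹) (fun x _ => ?_) c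
      fun b hb => ?_
    · simp [hI, hα]
    · rcases (Finset.univ.filter fun x => x * (α x)⁻¹ = b).eq_empty_or_nonempty with e | ⟨x₀, hx₀⟩
      · rw [e]; simp
      · refine le_trans ?_ hc
        rw [← Set.ncard_coe_finset]
        refine Set.ncard_le_ncard_of_injOn (fun x => x₀⁻¹ * x) (fun x hx => ?_)
          (fun x _ y _ e => mul_left_cancel e) (Set.toFinite _)
        simp only [Finset.coe_filter, Finset.mem_univ, true_and, Set.mem_ofPred_eq,
          Finset.mem_filter] at hx hx₀ ⊢
        have : α x = b⁻¹ * x := by rw [← hx]; group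
        have h' : α x₀ = b⁻¹ * x₀ := by rw [← hx₀]; group
        rw [map_mul, map_inv, this, h']; group
  set Y : Finset G := Finset.univ.filter fun y => y ≠ 1 ∧ (y ∈ invOdd α ∨ (α y = y ∧ y ^ 2 = 1)) with hY
  have hYc : Y.card ≤ M + c := by
    rw [← Set.ncard_coe_finset]
    refine le_trans (Set.ncard_le_ncard (t := invOdd α ∪ {x | α x = x}) (fun y hy => ?_) (Set.toFinite _))
      ((Set.ncard_union_le _ _).trans (add_le_add hM hc))
    simp only [hY, Finset.coe_filter, Finset.mem_univ, true_and, Set.mem_ofPred_eq] at hy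
    exact hy.2.imp id fun h => h.1
  have hcov : ∀ x ∈ I, x ≠ 1 → ∃ y ∈ Y, x ∈ centralizer ({y} : Set G) := by
    intro x hx hx1
    have hx' : α x = x⁻¹ := by simpa [hI] using hx
    rcases Nat.even_or_odd (orderOf x) with ⟨r, hr⟩ | ho
    · have h2 : (x ^ r) ^ 2 = 1 := by rw [← pow_mul, mul_two, ← hr, pow_orderOf_eq_one]
      refine ⟨x ^ r, ?_, mem_centralizer_singleton_iff.2 (Commute.self_pow x r).eq⟩
      simp only [hY, Finset.mem_filter, Finset.mem_univ, true_and]
      have := orderOf_pos x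
      refine ⟨pow_ne_one_of_lt_orderOf (by omega) (by omega), Or.inr ⟨?_, h2⟩⟩
      rw [map_pow, hx', inv_pow, inv_eq_iff_mul_eq_one, ← sq, h2]
    · refine ⟨x, ?_, mem_centralizer_singleton_iff.2 rfl⟩
      simp only [hY, Finset.mem_filter, Finset.mem_univ, true_and]
      exact ⟨hx1, Or.inl ⟨ho, hx'⟩⟩
  rcases Y.eq_empty_or_nonempty with e | hne
  · left
    have : I.card ≤ 1 := by
      refine Finset.card_le_one.2 fun a ha b hb => ?_
      have k : ∀ x ∈ I, x = 1 := fun x hx => by
        by_contra h; obtain ⟨y, hy, -⟩ := hcov x hx h; rw [e] at hy; simp at hy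
      rw [k a ha, k b hb]
    nlinarith
  · right
    obtain ⟨y, hy, hmax⟩ := Y.exists_max_image (fun y => Nat.card (centralizer ({y} : Set G))) hne
    have hy' := hy
    simp only [hY, Finset.mem_filter, Finset.mem_univ, true_and] at hy'
    refine ⟨y, hy'.1, hy'.2, ?_⟩
    have h2 : I.card ≤ Y.card * Nat.card (centralizer ({y} : Set G)) := by
      have : I ⊆ Y.biUnion fun z => Finset.univ.filter (· ∈ centralizer ({z} : Set G)) := by
        intro x hx
        simp only [Finset.mem_biUnion, Finset.mem_filter, Finset.mem_univ, true_and]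
        by_cases h : x = 1
        · exact ⟨y, hy, h ▸ one_mem _⟩
        · exact hcov x hx h
      refine (Finset.card_le_card this).trans (Finset.card_biUnion_le_card_mul _ _ _ fun z hz => ?_)
      refine le_trans (le_of_eq ?_) (hmax z hz)
      rw [Nat.card_eq_fintype_card, Fintype.card_subtype]
    have h3 := (centralizer ({y} : Set G)).index_mul_card
    have h4 : 0 < Nat.card (centralizer ({y} : Set G)) := Nat.card_pos
    refine Nat.le_of_mul_le_mul_right ?_ h4
    rw [h3, mul_assoc]
    exact h1.trans (Nat.mul_le_mul_left _ (h2.trans (Nat.mul_le_mul_right _ hYc)))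

theorem exists_quot_aut (α : MulAut G) (hα : ∀ x, α (α x) = x) (N : Subgroup G) [N.Normal]
    (hN : ∀ x ∈ N, α x ∈ N) : ∃ β : MulAut (G ⧸ N), (∀ x, β (β x) = x) ∧
      ∀ x, β (QuotientGroup.mk' N x) = QuotientGroup.mk' N (α x) := by
  have h : N.map (α : G →* G) = N :=
    le_antisymm (by rintro _ ⟨x, hx, rfl⟩; exact hN x hx) fun x hx => ⟨α x, hN x hx, hα x⟩
  refine ⟨QuotientGroup.congr N N α h, fun x => ?_, fun x => rfl⟩
  induction x using QuotientGroup.induction_on with
  | H x => exact congrArg QuotientGroup.mk (hα x)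

end

theorem ncard_conj_le {G : Type*} [Group G] [Finite G] (y : G) :
    {z | ∃ g : G, g * y * g⁻¹ = z}.ncard ≤ (centralizer ({y} : Set G)).index := by
  rw [index_eq_card, ← Set.ncard_univ]
  refine le_trans (Set.ncard_le_ncard (t := (fun q : G ⧸ centralizer ({y} : Set G) =>
    q.out * y * q.out⁻¹) '' Set.univ) ?_ (Set.toFinite _)) (Set.ncard_image_le (Set.toFinite _))
  rintro _ ⟨g, rfl⟩
  refine ⟨g, trivial, ?_⟩
  obtain ⟨c, hc⟩ := QuotientGroup.mk_out_eq_mul (centralizer ({y} : Set G)) g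
  have := mem_centralizer_singleton_iff.1 c.2
  simp only [hc]
  rw [mul_assoc g, this]; group

theorem card_le_of_invOdd (m : ℕ) : ∃ b : ℕ, ∀ (G : Type u) [Group G] [Finite G] (α : MulAut G),
    (∀ x, α (α x) = x) → closure (invOdd α) = ⊤ → (invOdd α).ncard ≤ m → Nat.card G ≤ b := by
  induction m with
  | zero =>
    refine ⟨0, fun G _ _ α _ _ h => ?_⟩
    have := (Set.ncard_pos (Set.toFinite _)).2 ⟨1, one_mem_invOdd α⟩
    omega
  | succ m ih =>
  obtain ⟨b, ih⟩ := ih
  set M := m + 1 with hM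
  set c := M ^ M with hc
  set d := 2 * (c * (M + c)) with hd
  set B := c + (d + 1) ^ (d * (M + 2)) * b with hB
  refine ⟨(B * M + 1) ^ (B * M * M.factorial), fun G _ _ α hα hJ hm => ?_⟩
  obtain ⟨β, hβ, hπ⟩ := exists_quot_aut α hα (center G) fun x hx =>
    mem_center_iff.2 fun g => by
      have := congrArg α (mem_center_iff.1 hx (α g))
      rwa [map_mul, map_mul, hα] at this
  set π := QuotientGroup.mk' (center G) with hπd
  have hs : Function.Surjective π := QuotientGroup.mk'_surjective _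
  have hcent : ∀ g : G, (∀ j ∈ invOdd α, g * j = j * g) → g ∈ center G := fun g hg => by
    have : closure (invOdd α) ≤ centralizer {g} :=
      (closure_le _).2 fun j hj => mem_centralizer_singleton_iff.2 (hg j hj).symm
    exact mem_center_iff.2 fun x => mem_centralizer_singleton_iff.1 (this (hJ ▸ mem_top x))
  have hJβ := image_invOdd hα hs hπ
  have hmβ : (invOdd β).ncard ≤ M := by rw [← hJβ]; exact (Set.ncard_image_le (Set.toFinite _)).trans hm
  have hfix : {x | β x = x}.ncard ≤ c := by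
    have hmem : ∀ x : {x | β x = x}, ∀ j : invOdd α, x.1.out * j * x.1.out⁻¹ ∈ invOdd α := by
      intro x j
      have h1 : π (α x.1.out) = π x.1.out := by
        rw [← hπ]; simp only [hπd, QuotientGroup.mk'_apply, QuotientGroup.out_eq']; exact x.2
      have h2 : (x.1.out)⁻¹ * α x.1.out ∈ center G := QuotientGroup.eq.1 h1.symm
      refine ⟨by rw [orderOf_conj']; exact j.2.1, ?_⟩
      have h3 := mem_center_iff.1 h2 (j : G)⁻¹
      rw [map_mul, map_mul, map_inv, j.2.2]
      calc α x.1.out * (j : G)⁻¹ * (α x.1.out)⁻¹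
          = x.1.out * ((x.1.out⁻¹ * α x.1.out) * (j : G)⁻¹) * (α x.1.out)⁻¹ := by group
        _ = _ := by rw [← h3]; group
    have hinj : Function.Injective fun (x : {x | β x = x}) (j : invOdd α) =>
        (⟨_, hmem x j⟩ : invOdd α) := by
      intro x y e
      refine Subtype.ext ?_
      rw [← QuotientGroup.out_eq' x.1, ← QuotientGroup.out_eq' y.1]
      refine QuotientGroup.eq.2 (hcent _ fun j hj => ?_)
      have := congrArg Subtype.val (congrFun e ⟨j, hj⟩)
      simp only at this
      calc x.1.out⁻¹ * y.1.out * j = x.1.out⁻¹ * (y.1.out * j * y.1.out⁻¹) * y.1.out := by group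
        _ = _ := by rw [← this]; group
    have := Nat.card_le_card_of_injective _ hinj
    rw [Nat.card_fun, Nat.card_coe_set_eq, Nat.card_coe_set_eq] at this
    exact this.trans ((Nat.pow_le_pow_left hm _).trans (Nat.pow_le_pow_right (by omega) hm))
  have hH : Nat.card (G ⧸ center G) ≤ B := by
    rcases exists_small_class hβ hfix hmβ with h | ⟨y, hy1, hy, hidx⟩
    · omega
    set Y : Set (G ⧸ center G) := {z | ∃ g, g * y * g⁻¹ = z} ∪ {z | ∃ g, g * y⁻¹ * g⁻¹ = z} with hY
    have hYc : Y.ncard ≤ d := by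
      refine (Set.ncard_union_le _ _).trans ?_
      have a1 := ncard_conj_le y
      have a2 := ncard_conj_le y⁻¹
      have a3 : centralizer ({y⁻¹} : Set (G ⧸ center G)) = centralizer {y} := by
        ext x; simp only [mem_centralizer_singleton_iff]
        exact ⟨fun h => Commute.inv_right_iff.1 h,
          fun h => (show Commute x y from h).inv_right⟩
      rw [a3] at a2; omega
    have hconj : ∀ g, ∀ z ∈ Y, g * z * g⁻¹ ∈ Y := by
      rintro g _ (⟨h, rfl⟩ | ⟨h, rfl⟩)
      · exact Or.inl ⟨g * h, by group⟩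
      · exact Or.inr ⟨g * h, by group⟩
    have hord : orderOf y ≤ M + 2 := by
      rcases hy with hy | hy
      · exact (orderOf_le_ncard_invOdd hy).trans (by omega)
      · exact (orderOf_le_of_pow_eq_one two_pos hy.2).trans (by omega)
    have hN := card_closure_le_of_conj_closed (Y := Y) (orderOf_pos y)
      (fun x _ z hz => by simpa using hconj x⁻¹ z hz)
      (by rintro _ (⟨h, rfl⟩ | ⟨h, rfl⟩)
          · exact Or.inr ⟨h, by group⟩
          · exact Or.inl ⟨h, by group⟩)
      (by rintro _ (⟨h, rfl⟩ | ⟨h, rfl⟩) <;> simp [conj_pow])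
    haveI : (closure Y).Normal := ⟨fun x hx g => by
      have : closure Y ≤ (closure Y).comap (MulAut.conj g).toMonoidHom :=
        (closure_le _).2 fun z hz => subset_closure (hconj g z hz)
      exact this hx⟩
    have hβy : β y = y ∨ β y = y⁻¹ := hy.elim (fun h => Or.inr h.2) fun h => Or.inl h.1
    obtain ⟨γ, hγ, hρ⟩ := exists_quot_aut β hβ (closure Y) fun x hx => by
      have : closure Y ≤ (closure Y).comap β.toMonoidHom := by
        refine (closure_le _).2 ?_
        rintro _ (⟨h, rfl⟩ | ⟨h, rfl⟩) <;> refine subset_closure ?_ <;> rcases hβy with e | e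
        · exact Or.inl ⟨β h, by simp [e]⟩
        · exact Or.inr ⟨β h, by simp [e]⟩
        · exact Or.inr ⟨β h, by simp [e]⟩
        · exact Or.inl ⟨β h, by simp [e]⟩
      exact this hx
    have hyY : y ∈ closure Y := subset_closure (Or.inl ⟨1, by group⟩)
    have hJβ' := closure_invOdd_of_surj hα hs hπ hJ
    have hlt : (invOdd γ).ncard < (invOdd β).ncard := by
      rw [← image_invOdd hβ (QuotientGroup.mk'_surjective _) hρ]
      refine lt_of_le_of_ne (Set.ncard_image_le (Set.toFinite _)) fun e => ?_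
      have hinj := (Set.ncard_image_iff (Set.toFinite _)).1 e
      rcases hy with hy | hy
      · exact hy1 (hinj hy (one_mem_invOdd β) (by simpa using hyY))
      · obtain ⟨g, rfl⟩ := hs y
        refine hy1 ((QuotientGroup.eq_one_iff g).2 (hcent g fun j hj => ?_))
        have hj' : π j ∈ invOdd β := hJβ ▸ ⟨j, hj, rfl⟩
        have h1 : π g * π j * (π g)⁻¹ = π j := by
          refine hinj ⟨by rw [orderOf_conj']; exact hj'.1, ?_⟩ hj' ?_
          · rw [map_mul, map_mul, map_inv, hy.1, hj'.2]; group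
          · have : QuotientGroup.mk' (closure Y) (π g) = 1 := (QuotientGroup.eq_one_iff _).2 hyY
            rw [map_mul, map_mul, map_inv, this]; group
        have h2 : j⁻¹ * (g * j * g⁻¹) ∈ center G := QuotientGroup.eq.1 h1.symm
        have h3 : g ^ 2 ∈ center G := (QuotientGroup.eq_one_iff _).1 hy.2
        set z := j⁻¹ * (g * j * g⁻¹) with hz
        have h4 : g * j * g⁻¹ = j * z := by rw [hz]; group
        have h5 : z ^ 2 = 1 := by
          have a : g * (j * z) * g⁻¹ = j := by
            rw [← h4]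
            calc g * (g * j * g⁻¹) * g⁻¹ = g ^ 2 * j * (g ^ 2)⁻¹ := by simp only [sq]; group
              _ = j := by rw [← mem_center_iff.1 h3 j]; group
          have b : g * (j * z) * g⁻¹ = j * z * z := by
            rw [← mul_assoc g j, mul_assoc _ z, ← mem_center_iff.1 h2 g⁻¹, ← mul_assoc, h4]
          rw [b, mul_assoc] at a
          rw [sq]; simpa using a
        have h6 : z ^ orderOf j = 1 := by
          have a : (g * j * g⁻¹) ^ orderOf j = 1 := by rw [conj_pow, pow_orderOf_eq_one]; group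
          rwa [h4, (show Commute j z from mem_center_iff.1 h2 j).mul_pow, pow_orderOf_eq_one,
            one_mul] at a
        obtain ⟨r, hr⟩ := hj.1
        rw [hr, pow_succ, pow_mul, h5, one_pow, one_mul] at h6
        rw [h6, mul_one] at h4
        rw [← mul_inv_eq_iff_eq_mul]; exact h4
    have h7 := ih _ γ hγ (closure_invOdd_of_surj hβ (QuotientGroup.mk'_surjective _) hρ hJβ') (by omega)
    rw [card_eq_card_quotient_mul_card_subgroup (closure Y), mul_comm]
    refine le_trans (Nat.mul_le_mul (hN.trans ?_) h7) (Nat.le_add_left _ _)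
    exact (Nat.pow_le_pow_left (by omega) _).trans
      (Nat.pow_le_pow_right (by omega) (Nat.mul_le_mul hYc hord))
  set Y : Set G := {z | ∃ g : G, ∃ j ∈ invOdd α, g * j * g⁻¹ = z} with hY
  have hYc : Y.ncard ≤ B * M := by
    have : Y ⊆ (fun q : (G ⧸ center G) × G => q.1.out * q.2 * q.1.out⁻¹) '' (Set.univ ×ˢ invOdd α) := by
      rintro _ ⟨g, j, hj, rfl⟩
      refine ⟨(g, j), ⟨trivial, hj⟩, ?_⟩
      obtain ⟨z, hz⟩ := QuotientGroup.mk_out_eq_mul (center G) g
      simp only [hz]
      rw [mul_assoc g, ← mem_center_iff.1 z.2 j]; group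
    refine (Set.ncard_le_ncard this (Set.toFinite _)).trans ((Set.ncard_image_le (Set.toFinite _)).trans ?_)
    rw [Set.ncard_prod, Set.ncard_univ]
    exact Nat.mul_le_mul hH hm
  have hN := card_closure_le_of_conj_closed (Y := Y) (Nat.factorial_pos M)
    (by rintro x - _ ⟨g, j, hj, rfl⟩; exact ⟨x⁻¹ * g, j, hj, by group⟩)
    (by rintro _ ⟨g, j, hj, rfl⟩; exact ⟨g, j⁻¹, inv_mem_invOdd hj, by group⟩)
    (by
      rintro _ ⟨g, j, hj, rfl⟩
      rw [conj_pow, orderOf_dvd_iff_pow_eq_one.1 (Nat.dvd_factorial (orderOf_pos j)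
        ((orderOf_le_ncard_invOdd hj).trans hm))]; group)
  have htop : closure Y = ⊤ := eq_top_iff.2 (hJ.symm.le.trans
    (closure_mono fun j hj => ⟨1, j, hj, by group⟩))
  rw [htop, card_top] at hN
  exact hN.trans ((Nat.pow_le_pow_left (by omega) _).trans
    (Nat.pow_le_pow_right (by omega) (Nat.mul_le_mul_right _ hYc)))

theorem closure_invOdd {G : Type u} [Group G] [Finite G] (α : MulAut G) (hα : ∀ x, α (α x) = x)
    (hG : closure (Set.range (fun c : G => c * (α c)⁻¹)) = ⊤) : closure (invOdd α) = ⊤ := by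
  refine eq_top_iff.2 ((closure_engel_aut α hG (Nat.card G + 1)).symm.le.trans (closure_mono ?_))
  rintro _ ⟨c, rfl⟩
  have h1 : α (c * (α c)⁻¹) = (c * (α c)⁻¹)⁻¹ := by simp [hα]
  have h2 : ∀ k : ℕ, (fun c : G => c * (α c)⁻¹)^[k + 1] c = (c * (α c)⁻¹) ^ 2 ^ k := by
    intro k
    induction k with
    | zero => simp
    | succ k ih => rw [Function.iterate_succ_apply', ih, map_pow, h1, inv_pow, inv_inv, ← pow_add, pow_succ 2, mul_two]
  rw [h2]
  exact ⟨odd_orderOf_pow_two_pow _ le_rfl, by rw [map_pow, h1, inv_pow]⟩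

end CL.Fgs
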