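/-
An elementary abelian `p`-group on which an element of prime order `q ≠ p` acts irreducibly and non-trivially has
order `p ^ e`, `e` the multiplicative order of `p` modulo `q`.
-/
import Cfsg.Agent.Fgs.CycloMod
import Cfsg.Agent.Loc.ElemAb

namespace CL.Fgs

open Polynomial Cfsg CL.Loc

theorem finrank_eq_orderOf_of_irreducible {p q : ℕ} [hp : Fact p.Prime] [hq : Fact q.Prime] (hpq : p ≠ q)
    {V : Type*} [AddCommGroup V] [Module (ZMod p) V] [Finite V] {φ : Module.End (ZMod p) V}
    (hφ : φ ^ q = 1) (h1 : φ ≠ 1)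
    (hirr : ∀ W : Submodule (ZMod p) V, (∀ w ∈ W, φ w ∈ W) → W = ⊥ ∨ W = ⊤) :
    Module.finrank (ZMod p) V = orderOf (p : ZMod q) := by
  have hker : ∀ (g : (ZMod p)[X]) (v : V), v ≠ 0 → aeval φ g v = 0 → aeval φ g = 0 := by
    intro g v hv hg
    rcases hirr (LinearMap.ker (aeval φ g)) (fun w hw => by
      rw [LinearMap.mem_ker] at hw ⊢
      rw [← map_aeval_of_comm (β := φ) (fun _ => rfl), hw, map_zero]) with h | h
    · exact absurd ((Submodule.mem_bot _).1 (h ▸ LinearMap.mem_ker.2 hg)) hv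
    · exact LinearMap.ker_eq_top.1 h
  have hf : ∀ v, φ v = v → v = 0 := by
    intro v hv
    by_contra h0
    have := hker (X - 1) v h0 (by simp [hv])
    exact h1 (by simpa [sub_eq_zero] using this)
  obtain ⟨v, hv⟩ : ∃ v : V, v ≠ 0 := by
    by_contra hc
    push Not at hc
    exact h1 (LinearMap.ext fun v => by rw [hc v, map_zero, map_zero])
  have : Nontrivial V := ⟨v, 0, hv⟩
  have : Module.Finite (ZMod p) V := Module.Finite.of_finite
  have hint : IsIntegral (ZMod p) φ := LinearMap.isIntegral φ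
  have hprime : Prime (minpoly (ZMod p) φ) := by
    refine ⟨minpoly.ne_zero hint, minpoly.not_isUnit _ _, fun a b hab => ?_⟩
    have h0 : aeval φ (a * b) = 0 := minpoly.dvd_iff.1 hab
    by_cases hb : aeval φ b v = 0
    · exact Or.inr (minpoly.dvd _ _ (hker b v hv hb))
    · refine Or.inl (minpoly.dvd _ _ (hker a _ hb ?_))
      rw [← Module.End.mul_apply, ← map_mul, h0]; rfl
  have hdeg := natDegree_of_dvd_cyclotomic_of_irreducible (K := ZMod p) (p := p) (f := 1)
    (by simp) ((Nat.coprime_primes hp.out hq.out).2 hpq)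
    (minpoly.dvd _ _ (aeval_cyclotomic_eq_zero_of_fpf hφ hf)) hprime.irreducible
  rw [← orderOf_units, ZMod.coe_unitOfCoprime, pow_one] at hdeg
  rw [← hdeg, ← finrank_quotient_span_eq_natDegree]
  let ev : (ZMod p)[X] →ₗ[ZMod p] V :=
    (LinearMap.applyₗ v).comp (aeval φ : (ZMod p)[X] →ₐ[ZMod p] Module.End (ZMod p) V).toLinearMap
  have hev : Function.Surjective ev := by
    rw [← LinearMap.range_eq_top]
    refine (hirr (endCyc φ v) fun w hw => endCyc_le_of_mem hw (mem_endCyc.2 ⟨X, by simp⟩)).resolve_left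
      fun h => hv ((Submodule.mem_bot _).1 (h ▸ self_mem_endCyc φ v))
  have hk : LinearMap.ker ev = (Ideal.span {minpoly (ZMod p) φ}).restrictScalars (ZMod p) := by
    ext g
    rw [LinearMap.mem_ker, Submodule.restrictScalars_mem, Ideal.mem_span_singleton, minpoly.dvd_iff]
    exact ⟨hker g v hv, fun h => by change aeval φ g v = 0; rw [h]; rfl⟩
  rw [← (ev.quotKerEquivOfSurjective hev).finrank_eq, (Submodule.quotEquivOfEq _ _ hk).finrank_eq,
    (Submodule.Quotient.restrictScalarsEquiv (ZMod p) _).finrank_eq]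

theorem card_eq_pow_orderOf_of_irreducible {G : Type*} [Group G] {p q : ℕ} [hp : Fact p.Prime]
    [hq : Fact q.Prime] (hpq : p ≠ q) {A : Subgroup G} [Finite A] (hA : IsElementaryAbelian p A) {x : G}
    (hx : x ∈ Subgroup.normalizer (A : Set G)) (hxq : x ^ q ∈ Subgroup.centralizer (A : Set G))
    (hn : x ∉ Subgroup.centralizer (A : Set G))
    (hirr : ∀ B : Subgroup G, B ≤ A → (∀ b ∈ B, x * b * x⁻¹ ∈ B) → B = ⊥ ∨ B = A) :
    Nat.card A = p ^ orderOf (p : ZMod q) := by
  rw [EAMod.card_eq_pow_finrank hA,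
    finrank_eq_orderOf_of_irreducible hpq (φ := (conjRep hA ⟨x, hx⟩).toLinearMap) ?_ ?_ ?_]
  · have : conjRep hA ⟨x, hx⟩ ^ q = 1 := by
      rw [← map_pow, conjRep_eq_one_iff]; exact hxq
    exact (map_pow LinearEquiv.automorphismGroup.toLinearMapMonoidHom _ q).symm.trans (by rw [this, map_one])
  · intro h
    exact hn ((conjRep_eq_one_iff hA ⟨x, hx⟩).1 (LinearEquiv.toLinearMap_injective h))
  · intro W hW
    rcases hirr (EAMod.grp W) (EAMod.grp_le hA W) (by
      rintro _ ⟨w, hw, rfl⟩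
      exact ⟨_, hW w hw, rfl⟩) with h | h
    · left; rw [← EAMod.sub_grp hA W, h, EAMod.sub_bot]
    · right; rw [← EAMod.sub_grp hA W, h, EAMod.sub_self]

end CL.Fgs
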