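/-
Project AX: a strongly self-centralizing subgroup of index two in its normalizer (interface).
-/
import Cfsg.Agent.Char.ClassAlg
import Cfsg.Agent.Char.Galois
import Cfsg.Agent.Char.Congruence
import Cfsg.Agent.Char.Integrality
import Cfsg.Agent.Char.Kernel

set_option autoImplicit false
set_option linter.unusedSectionVars false

namespace CL.Ix2

open Cfsg Subgroup

universe u

/-- the order of `g` is prime to `m` -/
def Reg {G : Type u} [Group G] (m : ℕ) (g : G) : Prop := (orderOf g).Coprime m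

/-- order of the centralizer -/
noncomputable def cc {G : Type u} [Group G] (g : G) : ℕ := Nat.card (centralizer ({g} : Set G))

/-- size of the conjugacy class -/
noncomputable def cl {G : Type u} [Group G] (g : G) : ℕ := (centralizer ({g} : Set G)).index

/-- number of ways of writing `a` as a product of a conjugate of `g` and a conjugate of `h` -/
noncomputable def np {G : Type u} [Group G] (g h a : G) : ℕ :=
  Nat.card {p : G × G // IsConj g p.1 ∧ IsConj h p.2 ∧ p.1 * p.2 = a}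

section
variable {G : Type u} [Group G]

/-- the basic hypothesis -/
structure CC (A : Subgroup G) (m : ℕ) : Prop where
  card : Nat.card A = m
  five : 5 ≤ m
  cent : ∀ a ∈ A, a ≠ 1 → centralizer ({a} : Set G) = A
  idx : A.relIndex (normalizer (A : Set G)) = 2

open Classical in
/-- group-theoretic consequences of `CC` -/
structure CC2 [Fintype G] (A : Subgroup G) (m : ℕ) : Prop where
  odd : Odd m
  hall : m.Coprime A.index
  sing_iff : ∀ g : G, ¬ Reg m g ↔ ∃ a ∈ A, a ≠ 1 ∧ IsConj a g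
  cop_c : ∀ g : G, g ≠ 1 → Reg m g → (cc g).Coprime m
  inv : ∃ t : G, orderOf t = 2 ∧ (∀ a ∈ A, t * a * t⁻¹ = a⁻¹) ∧ (∀ b ∈ A, IsConj t (t * b)) ∧
    ∀ x a : G, a ∈ A → a ≠ 1 → x * a * x⁻¹ = a⁻¹ → t⁻¹ * x ∈ A
  sum_sing : ∀ φ : G → ℂ, (∀ g h : G, IsConj g h → φ g = φ h) →
    (2 * m : ℂ) * ∑ g with ¬ Reg m g, φ g = Nat.card G * ∑ a with a ∈ A ∧ a ≠ 1, φ a
  index_mod : (m : ℤ) ∣ (A.index : ℤ) - 2

/-- the character data: `X` is the non-exceptional character, `ζ` an exceptional one -/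
structure Ch (A : Subgroup G) (m f F k : ℕ) (δ : ℤ) (X : G → ℤ) (ζ : G → ℂ) : Prop where
  sign : δ = 1 ∨ δ = -1
  F_eq : (F : ℤ) = f + δ
  two_le_f : 2 ≤ f
  two_le_F : 2 ≤ F
  k_eq : (f : ℤ) = k * m + δ
  chi : IsIrrCharacter G fun g => (X g : ℂ)
  zeta : IsIrrCharacter G ζ
  one : X 1 = f
  reg : ∀ g : G, Reg m g → ζ g = X g + δ
  sing : ∀ a ∈ A, a ≠ 1 → X a = δ
  pairs : ∀ g h a : G, Reg m g → Reg m h → a ∈ A → a ≠ 1 →
    (np g h a : ℤ) * cc g * cc h * f * F = Nat.card G * (f - X g) * (f - X h)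

/-- first half of the numerical data -/
structure DA (m f F j k : ℕ) (δ : ℤ) (X : G → ℤ) : Prop where
  five : 5 ≤ m
  odd : Odd m
  sign : δ = 1 ∨ δ = -1
  F_eq : (F : ℤ) = f + δ
  two_le_f : 2 ≤ f
  two_le_F : 2 ≤ F
  k_eq : (f : ℤ) = k * m + δ
  card : Nat.card G = m * f * F * j ^ 2
  jsq : (m : ℤ) ∣ (j : ℤ) ^ 2 - 1
  cop : m.Coprime (f * F * j)
  conj : ∀ g h : G, IsConj g h → X g = X h
  one : X 1 = f
  sing : ∀ g : G, ¬ Reg m g → X g = δ ∧ cc g = m
  cop_c : ∀ g : G, g ≠ 1 → Reg m g → (cc g).Coprime m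
  lt : ∀ g : G, g ≠ 1 → X g < f
  dvd : ∀ g : G, g ≠ 1 → Reg m g → (cc g : ℤ) ∣ j * (f - X g)
  inv_conj : ∀ s t : G, orderOf s = 2 → orderOf t = 2 → IsConj s t
  inv_c : ∀ t : G, orderOf t = 2 → (cc t : ℤ) = j * (f - X t)

open Classical in
/-- second half of the numerical data -/
structure DB [Fintype G] (m f F j k : ℕ) (δ : ℤ) (X : G → ℤ) : Prop where
  inv_bd : ∀ t : G, orderOf t = 2 → |X t| ≤ k + δ ∧ |X t + δ| ≤ k
  ord_bd : ∀ (g : G) (r : ℕ), r.Prime → orderOf g = r → Reg m g →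
    ((r : ℤ) - 1) * (f - X g) ≤ r * f ∧ ((r : ℤ) - 1) * (f - X g) ≤ r * F
  cong : ∀ (g : G) (r e : ℕ), r.Prime → g ^ r ^ e = 1 → (r : ℤ) ∣ f - X g
  dz0 : ∀ r : ℕ, r.Prime → ¬ r ∣ m * F * j → ∀ g : G, r ∣ orderOf g → X g = 0
  dz1 : ∀ r : ℕ, r.Prime → ¬ r ∣ m * f * j → ∀ g : G, r ∣ orderOf g → X g = -δ
  sum1 : ∑ g with Reg m g, X g * (X g + δ) = f * F * j ^ 2
  sum2 : ∑ g with Reg m g, (X g + δ) ^ 2 = 2 * f * F * j ^ 2

structure Dat [Fintype G] (m f F j k : ℕ) (δ : ℤ) (X : G → ℤ) : Prop extends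
  DA m f F j k δ X, DB m f F j k δ X

end

/-- `G` is `PSL₂(q)` -/
def L2 (G : Type u) [Group G] (q : ℕ) : Prop :=
  ∃ (F : Type) (_ : Field F) (_ : Fintype F), Fintype.card F = q ∧
    Nonempty (G ≃* Matrix.ProjectiveSpecialLinearGroup (Fin 2) F)

def Goal (G : Type u) [Group G] : Prop :=
  L2 G 5 ∨ L2 G 7 ∨ L2 G 9 ∨ L2 G 8 ∨ L2 G 16 ∨ L2 G 25 ∨ L2 G 27 ∨ L2 G 81 ∨ L2 G 2401 ∨
    ∃ (F : Type) (_ : Field F) (_ : Fintype F), Fintype.card F = 4 ∧
      Nonempty (G ≃* Matrix.ProjectiveSpecialLinearGroup (Fin 3) F)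

/-- tuples `(f, F, p, j, x)` -/
abbrev Tup := ℕ × ℕ × ℕ × ℕ × ℤ

/-- the centralizer of an involution is a 2-group -/
def LC : List Tup := [(4, 3, 5, 1, 0), (8, 9, 7, 1, 0), (9, 8, 5, 1, 1), (15, 16, 7, 1, -1), (16, 15, 17, 1, 0),
  (63, 64, 31, 1, -1), (64, 63, 5, 1, 0), (64, 63, 13, 1, 0), (6, 7, 5, 4, -2)]

/-- Sylow 2-subgroups of order 4 -/
def LW : List Tup := [(20, 21, 19, 1, 0), (21, 20, 11, 1, 1), (27, 28, 13, 1, -1), (28, 27, 29, 1, 0),
  (35, 36, 17, 1, -1), (36, 35, 37, 1, 0), (21, 20, 11, 45, 1), (27, 28, 13, 25, -1)]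

def LA : List Tup := [(24, 25, 23, 1, 0), (48, 49, 47, 1, 0), (80, 81, 79, 1, 0), (224, 225, 223, 1, 0),
  (2400, 2401, 2399, 1, 0), (225, 224, 113, 1, 1)]

def LT : List Tup := [(25, 24, 13, 1, 1), (49, 48, 5, 1, 1), (81, 80, 41, 1, 1), (2401, 2400, 1201, 1, 1)]

def LK : List Tup := [(49, 48, 5, 9, 1), (63, 64, 31, 63, -1), (64, 63, 5, 21, 0), (64, 63, 5, 9, 0),
  (64, 63, 13, 25, 0), (64, 63, 13, 105, 0), (81, 80, 41, 245, 1)]

def StepG : Prop := ∀ (G : Type u) [Group G] [Fintype G] (A : Subgroup G) (m : ℕ), CC A m → CC2 A m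

def StepC1 : Prop := ∀ (G : Type u) [Group G] [Fintype G] [IsSimpleGroup G] (p : ℕ) (P : Sylow p G), p.Prime →
  ¬ IsMulCommutative G → CC (P : Subgroup G) p →
  ∃ (f F k : ℕ) (δ : ℤ) (X : G → ℤ) (ζ : G → ℂ), Ch (P : Subgroup G) p f F k δ X ζ

def StepCA : Prop := ∀ (G : Type u) [Group G] [Fintype G] [IsSimpleGroup G] (A : Subgroup G) (m f F k : ℕ) (δ : ℤ)
  (X : G → ℤ) (ζ : G → ℂ), CC A m → CC2 A m → Ch A m f F k δ X ζ → ∃ j : ℕ, DA m f F j k δ X

def StepCB : Prop := ∀ (G : Type u) [Group G] [Fintype G] (A : Subgroup G) (m f F j k : ℕ) (δ : ℤ)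
  (X : G → ℤ) (ζ : G → ℂ), CC A m → CC2 A m → Ch A m f F k δ X ζ → DA m f F j k δ X → DB m f F j k δ X

/-- consecutive 7-smooth numbers -/
def Stormer : Prop := ∀ n : ℕ, 0 < n → (∀ r : ℕ, r.Prime → r ∣ n * (n + 1) → r ≤ 7) →
  n ∈ [1, 2, 3, 4, 5, 6, 7, 8, 9, 14, 15, 20, 24, 27, 35, 48, 49, 63, 80, 125, 224, 2400, 4374]

def StepN : Prop := ∀ (G : Type u) [Group G] [Fintype G] (p f F j k : ℕ) (δ : ℤ) (X : G → ℤ), p.Prime →
  4 ∣ Nat.card G → (∀ r : ℕ, r.Prime → r ∣ f * F * j → r ≤ 7) → Dat p f F j k δ X →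
  ∀ t : G, orderOf t = 2 → (f, F, p, j, X t) ∈ LC ++ LW ++ LA ++ LT ++ LK

/-- what has to be shown for the tuples in a list -/
def Res (L : List Tup) : Prop := ∀ (G : Type u) [Group G] [Fintype G] [IsSimpleGroup G] (p f F j k : ℕ) (δ : ℤ)
  (X : G → ℤ), ¬ IsMulCommutative G → Dat p f F j k δ X → ∀ t : G, orderOf t = 2 →
  (f, F, p, j, X t) ∈ L → Goal G

/-- the case `p = 3` -/
def Step3 : Prop := ∀ (G : Type u) [Group G] [Finite G] [IsSimpleGroup G] (w : G), ¬ IsMulCommutative G →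
  cc w = 3 → ¬ 9 ∣ Nat.card G → Goal G

variable {G : Type u} [Group G]

theorem cc_mul_cl (g : G) : cc g * cl g = Nat.card G := card_mul_index _

theorem cc_dvd (g : G) : cc g ∣ Nat.card G := ⟨_, (cc_mul_cl g).symm⟩

theorem Reg.conj {m : ℕ} {g h : G} (e : IsConj g h) (hg : Reg m g) : Reg m h := by
  obtain ⟨c, rfl⟩ := isConj_iff.1 e
  have := (MulAut.conj c).orderOf_eq g
  rw [MulAut.conj_apply] at this
  unfold Reg
  rwa [this]

theorem reg_one (m : ℕ) : Reg m (1 : G) := by simp [Reg]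

variable {m f F j k : ℕ} {δ : ℤ} {X : G → ℤ}

theorem DA.nonneg (h : DA m f F j k δ X) (g : G) : 0 ≤ X g * (X g + δ) := by
  rcases h.sign with e | e <;> rw [e]
  · rcases le_or_gt 0 (X g) with h | h
    · positivity
    · exact mul_nonneg_of_nonpos_of_nonpos h.le (by omega)
  · rcases le_or_gt (X g) 0 with h | h
    · exact mul_nonneg_of_nonpos_of_nonpos h (by omega)
    · exact mul_nonneg h.le (by omega)

/-- an element of order dividing `f * F * j` power (a prime divisor of it) is regular -/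
theorem DA.reg_of_pow (h : DA m f F j k δ X) {g : G} {r e : ℕ} (hr : r ∣ f * F * j) (hg : g ^ r ^ e = 1) :
    Reg m g :=
  Nat.Coprime.coprime_dvd_left (orderOf_dvd_of_pow_eq_one hg)
    (Nat.Coprime.pow_left _ (Nat.Coprime.coprime_dvd_left hr h.cop.symm))

/-- the centralizer of a regular element has order dividing `f * F * j ^ 2` -/
theorem DA.cc_dvd (h : DA m f F j k δ X) {g : G} (h1 : g ≠ 1) (hg : Reg m g) : cc g ∣ f * F * j ^ 2 := by
  refine (h.cop_c g h1 hg).dvd_of_dvd_mul_left ?_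
  have := CL.Ix2.cc_dvd g
  rwa [h.card, mul_assoc m, mul_assoc m] at this

open Classical in
/-- sums of class functions over a family of classes -/
theorem sum_classes [Fintype G] (φ : G → ℤ) (hφ : ∀ g h : G, IsConj g h → φ g = φ h) (T : Finset G)
    (hT : ∀ g ∈ T, ∀ h ∈ T, IsConj g h → g = h) :
    ∑ x with ∃ g ∈ T, IsConj g x, φ x = ∑ g ∈ T, (cl g : ℤ) * φ g := by
  have e : (Finset.univ.filter fun x : G => ∃ g ∈ T, IsConj g x) =
      T.biUnion fun g => Finset.univ.filter fun x => IsConj g x := by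
    ext x; simp
  rw [e, Finset.sum_biUnion]
  · refine Finset.sum_congr rfl fun g _ => ?_
    rw [Finset.sum_congr rfl fun x hx => (hφ g x (Finset.mem_filter.1 hx).2).symm, Finset.sum_const, nsmul_eq_mul,
      cl, ← CL.Char.card_isConj_eq_index, Nat.card_eq_fintype_card, Fintype.card_subtype]
  · intro g hg h hh hne
    refine Finset.disjoint_left.2 fun x h1 h2 => hne (hT g hg h hh ?_)
    exact (Finset.mem_filter.1 h1).2.trans (Finset.mem_filter.1 h2).2.symm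

open Classical in
/-- the contribution bound -/
theorem Dat.bound [Fintype G] (h : Dat m f F j k δ X) (T : Finset G)
    (hT : ∀ g ∈ T, ∀ h ∈ T, IsConj g h → g = h) (h1 : ∀ g ∈ T, g ≠ 1 ∧ Reg m g) :
    ∑ g ∈ T, (cl g : ℤ) * (X g * (X g + δ)) ≤ f * F * (j ^ 2 - 1) := by
  rw [← sum_classes (fun g => X g * (X g + δ)) (fun g g' e => by simp only [h.conj g g' e]) T hT]
  have h2 := h.sum1
  rw [← Finset.add_sum_erase _ _ (show (1 : G) ∈ _ from Finset.mem_filter.2 ⟨Finset.mem_univ _, reg_one m⟩),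
    h.one, ← h.F_eq] at h2
  have h3 : ∑ x with ∃ g ∈ T, IsConj g x, X x * (X x + δ) ≤
      ∑ x ∈ (Finset.univ.filter fun g : G => Reg m g).erase 1, X x * (X x + δ) := by
    refine Finset.sum_le_sum_of_subset_of_nonneg (fun x hx => ?_) fun x _ _ => h.toDA.nonneg x
    obtain ⟨g, hg, e⟩ := (Finset.mem_filter.1 hx).2
    refine Finset.mem_erase.2 ⟨fun e1 => (h1 g hg).1 ?_, Finset.mem_filter.2 ⟨Finset.mem_univ _, (h1 g hg).2.conj e⟩⟩
    rwa [e1, isConj_one_left] at e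
  linarith

/-- an element of prime order `r` central in a Sylow `r`-subgroup -/
theorem exists_central [Finite G] {r : ℕ} (hr : r.Prime) (hd : r ∣ Nat.card G) :
    ∃ g : G, orderOf g = r ∧ ¬ r ∣ cl g := by
  have := Fact.mk hr
  obtain ⟨P⟩ : Nonempty (Sylow r G) := inferInstance
  have hP : Nontrivial (P : Subgroup G) := (P : Subgroup G).nontrivial_iff_ne_bot.2 (P.ne_bot_of_dvd_card hd)
  have hc := P.isPGroup'.center_nontrivial
  have h2 : r ∣ Nat.card (center (P : Subgroup G)) := by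
    obtain ⟨n, hn⟩ := (P.isPGroup'.to_subgroup (center _)).exists_card_eq
    rw [hn]
    refine dvd_pow_self r fun e => ?_
    rw [e, pow_zero] at hn
    exact (Finite.one_lt_card (α := center (P : Subgroup G))).ne' hn
  obtain ⟨z, hz⟩ := exists_prime_orderOf_dvd_card' r h2
  refine ⟨((z : (P : Subgroup G)) : G), by rw [orderOf_coe, orderOf_coe, hz], fun e => P.not_dvd_index (e.trans ?_)⟩
  refine index_dvd_of_le fun x hx => mem_centralizer_singleton_iff.2 ?_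
  exact congrArg Subtype.val ((mem_center_iff.1 z.2) ⟨x, hx⟩)

end CL.Ix2
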