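/-
Groups whose class sizes have at most two prime divisors: definitions, steps, basic lemmas, assembly.
-/
import Cfsg.Agent.Even.Amb
import Cfsg.Agent.Grp.SylowIn

set_option autoImplicit false
set_option linter.unusedSectionVars false

namespace CL.TwoPr

open Cfsg Subgroup CL.Even CL.Grp

universe u

/-- every class size has at most two prime divisors -/
def Hy (G : Type u) [Group G] : Prop := ∀ x : G, (centralizer ({x} : Set G)).index.primeFactors.card ≤ 2

/-- the class size of `x` is prime to `r` -/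
def Nu {G : Type u} [Group G] (r : ℕ) (x : G) : Prop := ¬ r ∣ (centralizer ({x} : Set G)).index

/-- all Sylow `r`-subgroups are abelian -/
def Ab (r : ℕ) (G : Type u) [Group G] : Prop := ∀ P : Sylow r G, IsMulCommutative (P : Subgroup G)

/-- the Sylow `r`-subgroups have automizer of order two -/
def M2 (r : ℕ) (G : Type u) [Group G] : Prop :=
  ∀ P : Sylow r G, (𝒞((P : Subgroup G))).relIndex (𝒩((P : Subgroup G))) = 2

/-- the simple case after counting -/
structure Tri (G : Type u) [Group G] (p : ℕ) : Prop where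
  simple : IsSimpleGroup G
  nab : ¬ IsMulCommutative G
  prime : p = 5 ∨ p = 7 ∨ p = 13 ∨ p = 17
  fac : (Nat.card G).primeFactors = {2, 3, p}
  ex : ∀ x : G, Nu 2 x ∨ Nu 3 x ∨ Nu p x
  n23 : ∀ x : G, x ≠ 1 → Nu 2 x → ¬ Nu 3 x
  n2p : ∀ x : G, x ≠ 1 → Nu 2 x → ¬ Nu p x
  n3p : ∀ x : G, x ≠ 1 → Nu 3 x → ¬ Nu p x
  ab3 : Ab 3 G
  abp : Ab p G

/-- the simple groups that occur -/
def Good (T : Type u) [Group T] : Prop := ∃ p, Tri T p ∧ Ab 2 T ∧
  (Nat.card T = 60 ∧ Nonempty (T ≃* alternatingGroup (Fin 5)) ∨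
    Nat.card T = 504 ∧ Nonempty (T ≃* Matrix.ProjectiveSpecialLinearGroup (Fin 2) (GaloisField 2 3)))

/-- counting -/
def StepA : Prop := ∀ (G : Type u) [Group G] [Finite G] [IsSimpleGroup G], ¬ IsMulCommutative G → Hy G →
  ∃ p, Tri G p ∧ (Ab 2 G ∨ M2 3 G ∧ M2 p G)

/-- the principal block for an abelian Sylow subgroup with automizer of order two -/
def StepB : Prop := ∀ (G : Type u) [Group G] [Finite G] [IsSimpleGroup G] (r : ℕ) (P : Sylow r G), r.Prime → r ≠ 2 →
  ¬ IsMulCommutative G → Ab r G → M2 r G → 9 ≤ Nat.card (P : Subgroup G) →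
  ∃ d : ℕ, 2 ≤ d ∧ d ∣ Nat.card G ∧ d + 1 ∣ Nat.card G ∧ ¬ r ∣ d ∧ ¬ r ∣ d + 1 ∧ Nat.card (P : Subgroup G) ≤ d + 2

def StepC : Prop := ∀ (G : Type u) [Group G] [Finite G] (p : ℕ), Tri G p → M2 3 G → M2 p G → Ab 2 G

def StepD : Prop := ∀ (G : Type u) [Group G] [Finite G] (p : ℕ), Tri G p → Ab 2 G → Good G

/-- no proper almost simple extension -/
def StepE : Prop := ∀ (G : Type u) [Group G] [Finite G] (T : Subgroup G) [T.Normal], Hy G → Good T → 𝒞(T) = ⊥ →
  T = ⊤

/-- trivial solvable radical -/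
def StepF : Prop := ∀ (G : Type u) [Group G] [Finite G] [Nontrivial G], Hy G →
  (∀ N : Subgroup G, N.Normal → Group.IsSolvable N → N = ⊥) → Good G

/-- the central extension splits -/
def StepG : Prop := ∀ (G : Type u) [Group G] [Finite G] (R : Subgroup G) [R.Normal], Hy G → Group.IsSolvable R →
  Good (G ⧸ R) → center G = R ∧ R ⊓ _root_.commutator G = ⊥ ∧ R ⊔ _root_.commutator G = ⊤

/-- the simple case -/
def Simp : Prop := ∀ (G : Type u) [Group G] [Finite G] [IsSimpleGroup G], ¬ IsMulCommutative G → Hy G → Good G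

variable {G : Type u} [Group G] [Finite G] {p r : ℕ} {x y : G}

theorem index_dvd_normal (N : Subgroup G) [N.Normal] (x : N) :
    (centralizer ({x} : Set N)).index ∣ (centralizer ({(x : G)} : Set G)).index := by
  have e : centralizer ({x} : Set N) = (centralizer ({(x : G)} : Set G)).subgroupOf N := by
    ext y
    simp only [mem_centralizer_singleton_iff, mem_subgroupOf, Subtype.ext_iff, coe_mul]
  rw [e]
  generalize centralizer ({(x : G)} : Set G) = C
  have h1 := relIndex_mul_relIndex (C ⊓ N) C (C ⊔ N) inf_le_left le_sup_left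
  have h2 := relIndex_mul_relIndex (C ⊓ N) N (C ⊔ N) inf_le_right le_sup_right
  rw [inf_relIndex_right, relIndex_sup_right, ← h1, inf_relIndex_left, mul_comm] at h2
  exact (Nat.eq_of_mul_eq_mul_left (Nat.pos_of_ne_zero index_ne_zero_of_finite) h2).dvd.trans
    (relIndex_dvd_index_of_le le_sup_left)

theorem index_dvd_surj {H : Type u} [Group H] (f : G →* H) (hf : Function.Surjective f) (x : G) :
    (centralizer ({f x} : Set H)).index ∣ (centralizer ({x} : Set G)).index := by
  refine (index_dvd_of_le (H := (centralizer ({x} : Set G)).map f) ?_).trans (index_map_dvd _ hf)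
  rintro _ ⟨y, hy, rfl⟩
  rw [mem_centralizer_singleton_iff, ← map_mul, mem_centralizer_singleton_iff.1 hy, map_mul]

theorem Hy.normal (h : Hy G) (N : Subgroup G) [N.Normal] : Hy N := fun x =>
  (Finset.card_le_card (Nat.primeFactors_mono (index_dvd_normal N x) index_ne_zero_of_finite)).trans (h x)

theorem Hy.of_surj (h : Hy G) {H : Type u} [Group H] (f : G →* H) (hf : Function.Surjective f) : Hy H := fun y => by
  obtain ⟨x, rfl⟩ := hf y
  exact (Finset.card_le_card (Nat.primeFactors_mono (index_dvd_surj f hf x) index_ne_zero_of_finite)).trans (h x)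

/-- `C(x) ≤ C(y)` -/
theorem Nu.mono (h : Nu r x) (hle : ∀ g : G, g * x = x * g → g * y = y * g) : Nu r y := fun e =>
  h (e.trans (index_dvd_of_le fun g hg =>
    mem_centralizer_singleton_iff.2 (hle g (mem_centralizer_singleton_iff.1 hg))))

theorem Nu.pow (h : Nu r x) (k : ℕ) : Nu r (x ^ k) := h.mono fun _ hg => (Commute.pow_right hg k).eq

theorem nu_iff [Fact r.Prime] : Nu r x ↔ ∃ P : Sylow r G, ∀ g ∈ (P : Subgroup G), g * x = x * g := by
  refine ⟨fun h => ?_, fun ⟨P, hP⟩ e => P.not_dvd_index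
    (e.trans (index_dvd_of_le fun g hg => mem_centralizer_singleton_iff.2 (hP g hg)))⟩
  obtain ⟨S, hS⟩ := exists_isSylowIn r (centralizer ({x} : Set G))
  obtain ⟨P, rfl⟩ := isSylowIn_top_iff.1 (show IsSylowIn r S ⊤ from ⟨le_top, hS.isPGroup, fun e => by
    rw [← relIndex_mul_relIndex _ _ _ hS.le le_top, (Fact.out : r.Prime).dvd_mul, relIndex_top_right] at e
    exact e.elim hS.not_dvd h⟩)
  exact ⟨P, fun g hg => mem_centralizer_singleton_iff.1 (hS.le hg)⟩

theorem Ab.nu [Fact r.Prime] (h : Ab r G) {k : ℕ} (hx : x ^ r ^ k = 1) : Nu r x := by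
  obtain ⟨P, hP⟩ := (show IsPGroup r (zpowers x) from fun g => ⟨k, by
    obtain ⟨_, i, rfl⟩ := g
    exact Subtype.ext (by simp only [coe_pow, coe_mk, coe_one]; rw [← zpow_natCast, ← zpow_mul, mul_comm, zpow_mul,
      zpow_natCast, hx, one_zpow])⟩).exists_le_sylow
  exact nu_iff.2 ⟨P, fun g hg => congrArg Subtype.val ((h P).is_comm.comm ⟨g, hg⟩ ⟨x, hP (mem_zpowers x)⟩)⟩

/-- commuting elements of coprime orders -/
theorem nu_mul (hc : x * y = y * x) (ho : (orderOf x).Coprime (orderOf y)) (h : Nu r (x * y)) : Nu r x ∧ Nu r y := by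
  have key : ∀ {x y : G}, x * y = y * x → (orderOf x).Coprime (orderOf y) → Nu r (x * y) → Nu r x :=
    fun {x y} hc ho h => by
      obtain ⟨m, hm⟩ := exists_pow_eq_self_of_coprime ho.symm
      have := (h.pow (orderOf y)).pow m
      rwa [Commute.mul_pow hc, pow_orderOf_eq_one, mul_one, hm] at this
  exact ⟨key hc ho h, key hc.symm ho.symm (hc ▸ h)⟩

theorem Tri.fact (h : Tri G p) : Fact p.Prime := ⟨by rcases h.prime with rfl | rfl | rfl | rfl <;> norm_num⟩

theorem Tri.cases (h : Tri G p) (hr : r.Prime) (hd : r ∣ Nat.card G) : r = 2 ∨ r = 3 ∨ r = p := by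
  have : r ∈ (Nat.card G).primeFactors := Nat.mem_primeFactors.2 ⟨hr, hd, Nat.card_pos.ne'⟩
  simpa [h.fac] using this

theorem Tri.nu_unique (h : Tri G p) (hx : x ≠ 1) {s : ℕ} (hr : r = 2 ∨ r = 3 ∨ r = p) (hs : s = 2 ∨ s = 3 ∨ s = p)
    (h1 : Nu r x) (h2 : Nu s x) : r = s := by
  have := h.n23 x hx
  have := h.n2p x hx
  have := h.n3p x hx
  rcases hr with rfl | rfl | rfl <;> rcases hs with rfl | rfl | rfl <;> tauto

/-- the centralizer of a non-identity `r`-element that centralizes a Sylow `r`-subgroup is an `r`-group, when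
elements of the other prime orders also centralize Sylow subgroups for their primes -/
theorem Tri.isPGroup_cent (h : Tri G p) (hx : x ≠ 1) (hr : r.Prime) {k : ℕ} (hk : x ^ r ^ k = 1) (hn : Nu r x)
    (hab : ∀ s, s = 2 ∨ s = 3 ∨ s = p → s ≠ r → Ab s G) : IsPGroup r (centralizer ({x} : Set G)) := by
  have := Fact.mk hr
  have hrG : r = 2 ∨ r = 3 ∨ r = p := h.cases hr (by
    obtain ⟨j, -, hj⟩ := (Nat.dvd_prime_pow hr).1 (orderOf_dvd_of_pow_eq_one hk)
    refine dvd_trans ?_ (orderOf_dvd_natCard x)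
    rw [hj]
    exact dvd_pow_self r fun e => hx (orderOf_eq_one_iff.1 (by rw [hj, e, pow_zero])))
  refine IsPGroup.of_card (n := (Nat.card (centralizer ({x} : Set G))).factorization r) ?_
  refine Nat.eq_pow_of_factorization_eq_single Nat.card_pos.ne' (Finsupp.ext fun s => ?_) 
  by_cases e : r = s
  · subst e; simp
  rw [Finsupp.single_eq_of_ne (Ne.symm e)]
  by_contra hs
  have hsp := Nat.prime_of_mem_primeFactors (Nat.support_factorization _ ▸ Finsupp.mem_support_iff.2 hs)
  have := Fact.mk hsp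
  obtain ⟨y, hy⟩ := exists_prime_orderOf_dvd_card' s (Nat.dvd_of_factorization_pos hs)
  rw [← orderOf_coe] at hy
  have hsG := h.cases hsp (hy ▸ orderOf_dvd_natCard _)
  have y1 : (y : G) ≠ 1 := fun e => by rw [e, orderOf_one] at hy; exact hsp.one_lt.ne hy
  have hc : x * y = y * x := (mem_centralizer_singleton_iff.1 y.2).symm
  have ho : (orderOf x).Coprime (orderOf (y : G)) := hy ▸ (Nat.Coprime.pow_left k
    ((Nat.coprime_primes hr hsp).2 e)).coprime_dvd_left (orderOf_dvd_of_pow_eq_one hk)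
  have hy' : Nu s (y : G) := (hab s hsG (Ne.symm e)).nu (k := 1) (by rw [pow_one, ← hy, pow_orderOf_eq_one])
  obtain ⟨t, ht, h1⟩ : ∃ t, (t = 2 ∨ t = 3 ∨ t = p) ∧ Nu t (x * y) := by
    rcases h.ex (x * y) with e | e | e <;> exact ⟨_, by simp, e⟩
  exact e ((h.nu_unique hx hrG ht hn (nu_mul hc ho h1).1).trans (h.nu_unique y1 ht hsG (nu_mul hc ho h1).2 hy'))

/-- a non-identity element of the centre of a Sylow 2-subgroup `S` has centralizer `S` -/
theorem Tri.cent_eq (h : Tri G p) (S : Sylow 2 G) (hx : x ≠ 1) (hS : x ∈ (S : Subgroup G))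
    (hc : ∀ g ∈ (S : Subgroup G), g * x = x * g) : centralizer ({x} : Set G) = S := by
  obtain ⟨k, hk⟩ := S.isPGroup' ⟨x, hS⟩
  exact S.is_maximal' (h.isPGroup_cent hx Nat.prime_two (congrArg Subtype.val hk) (nu_iff.2 ⟨S, hc⟩)
    fun s hs e => by rcases hs with rfl | rfl | rfl; exacts [absurd rfl e, h.ab3, h.abp])
    fun g hg => mem_centralizer_singleton_iff.2 (hc g hg)

/-- the centre of a Sylow 2-subgroup does not have index four -/
theorem Tri.ab_of_index (h : Tri G p) (S : Sylow 2 G) (hi : (center (S : Subgroup G)).index ∣ 4) :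
    IsMulCommutative (S : Subgroup G) := by
  by_contra hna
  have hsq : ∀ u : (S : Subgroup G), u ^ 2 ∈ center (S : Subgroup G) := fun u => by
    by_contra e
    have h1 : orderOf (QuotientGroup.mk' (center (S : Subgroup G)) u) ∣ 2 ^ 2 :=
      (_root_.orderOf_dvd_natCard _).trans hi
    obtain ⟨j, hj, h2⟩ := (Nat.dvd_prime_pow Nat.prime_two).1 h1
    have h3 : j = 2 := by
      by_contra h3
      refine e ((QuotientGroup.eq_one_iff _).1 (show QuotientGroup.mk' _ (u ^ 2) = 1 from ?_))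
      rw [map_pow, ← orderOf_dvd_iff_pow_eq_one, h2]
      exact (pow_dvd_pow 2 (show j ≤ 1 by omega)).trans (by norm_num)
    have : IsCyclic ((S : Subgroup G) ⧸ center (S : Subgroup G)) := isCyclic_of_orderOf_eq_card _
      (Nat.dvd_antisymm (_root_.orderOf_dvd_natCard _) (hi.trans (by rw [h2, h3]; norm_num)))
    exact hna (MonoidHom.isMulCommutative_of_isCyclic_of_ker_le_center
      (QuotientGroup.mk' (center (S : Subgroup G))) (QuotientGroup.ker_mk' _).le)
  have key : ∀ u : (S : Subgroup G), u ∉ center (S : Subgroup G) → u ^ 2 = 1 := fun u hu => by_contra fun e => by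
    have e1 : ((u : G) ^ 2) ≠ 1 := fun e' => e (Subtype.ext e')
    have hc : ∀ g ∈ (S : Subgroup G), g * u ^ 2 = u ^ 2 * g := fun g hg =>
      congrArg Subtype.val (mem_center_iff.1 (hsq u) ⟨g, hg⟩)
    have h2 : Nu 2 ((u : G) ^ 2) := nu_iff.2 ⟨S, hc⟩
    have h3 : Nu 2 (u : G) := (h.ex u).elim id fun e => e.elim (fun e => absurd (e.pow 2) (h.n23 _ e1 h2))
      fun e => absurd (e.pow 2) (h.n2p _ e1 h2)
    obtain ⟨S', hS'⟩ := nu_iff.1 h3
    have h4 : (S' : Subgroup G) ≤ S := h.cent_eq S e1 (pow_mem u.2 2) hc ▸ fun g hg =>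
      mem_centralizer_singleton_iff.2 (Commute.pow_right (hS' g hg) 2).eq
    have h5 : (S : Subgroup G) = S' := S'.is_maximal' S.isPGroup' h4
    exact hu (mem_center_iff.2 fun g => Subtype.ext (hS' g (h5 ▸ g.2)))
  obtain ⟨u, hu⟩ : ∃ u : (S : Subgroup G), u ∉ center (S : Subgroup G) := by
    by_contra e
    push Not at e
    exact hna ⟨⟨fun a b => mem_center_iff.1 (e b) a⟩⟩
  have all : ∀ v : (S : Subgroup G), v * v = 1 := fun v => by
    by_cases hv : v ∈ center (S : Subgroup G)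
    · have := key (u * v) fun e => hu (by simpa using mul_mem e (inv_mem hv))
      rwa [Commute.mul_pow (mem_center_iff.1 hv u), key u hu, one_mul, pow_two] at this
    · rw [← pow_two, key v hv]
  exact hna ⟨⟨fun a b => by
    rw [← inv_eq_of_mul_eq_one_right (all (a * b)), mul_inv_rev, inv_eq_of_mul_eq_one_right (all a),
      inv_eq_of_mul_eq_one_right (all b)]⟩⟩

/-- in a good group the centralizer of a non-identity element is a Sylow subgroup -/
theorem Tri.cent_sylow (h : Tri G p) (h2 : Ab 2 G) (hx : x ≠ 1) :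
    ∃ (r : ℕ) (P : Sylow r G), (r = 2 ∨ r = 3 ∨ r = p) ∧ centralizer ({x} : Set G) = P := by
  have hab : ∀ s, s = 2 ∨ s = 3 ∨ s = p → Ab s G := fun s hs => by
    rcases hs with rfl | rfl | rfl; exacts [h2, h.ab3, h.abp]
  obtain ⟨r, hr, hd⟩ := Nat.exists_prime_and_dvd (mt orderOf_eq_one_iff.1 hx)
  have := Fact.mk hr
  have hrG := h.cases hr (hd.trans (orderOf_dvd_natCard x))
  have ho := orderOf_pow_orderOf_div (orderOf_pos x).ne' hd
  have y1 : x ^ (orderOf x / r) ≠ 1 := fun e => by rw [e, orderOf_one] at ho; exact hr.one_lt.ne ho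
  have hk : (x ^ (orderOf x / r)) ^ r ^ 1 = 1 := by rw [pow_one]; exact orderOf_dvd_iff_pow_eq_one.1 ho.dvd
  have h3 := (h.isPGroup_cent y1 hr hk ((hab r hrG).nu hk) fun s hs _ => hab s hs).to_le
    (H := centralizer ({x} : Set G)) fun g hg => mem_centralizer_singleton_iff.2
      (Commute.pow_right (mem_centralizer_singleton_iff.1 hg) _).eq
  obtain ⟨k, hk'⟩ := h3 ⟨x, mem_centralizer_singleton_iff.2 rfl⟩
  obtain ⟨P, hP⟩ := nu_iff.1 ((hab r hrG).nu (x := x) (congrArg Subtype.val hk'))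
  exact ⟨r, P, hrG, P.is_maximal' h3 fun g hg => mem_centralizer_singleton_iff.2 (hP g hg)⟩

theorem simp_of (hA : StepA.{u}) (hC : StepC.{u}) (hD : StepD.{u}) : Simp.{u} := fun G _ _ _ hG h => by
  obtain ⟨p, h1, h2⟩ := hA G hG h
  exact hD G p h1 (h2.elim id fun e => hC G p h1 e.1 e.2)

theorem final_of (hF : StepF.{u}) (hG : StepG.{u}) (h : Hy G) :
    Group.IsSolvable G ∨ ∃ S : Subgroup G, S.Normal ∧ center G ⊓ S = ⊥ ∧ center G ⊔ S = ⊤ ∧
      (Nonempty (S ≃* alternatingGroup (Fin 5)) ∨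
        Nonempty (S ≃* Matrix.ProjectiveSpecialLinearGroup (Fin 2) (GaloisField 2 3))) := by
  refine or_iff_not_imp_left.2 fun hns => ?_
  obtain ⟨R, ⟨hR, hs⟩, hmax⟩ := Set.exists_max_image {N : Subgroup G | N.Normal ∧ Group.IsSolvable N}
    (fun N => Nat.card N) (Set.toFinite _) ⟨⊥, inferInstance, inferInstance⟩
  have : Nontrivial (G ⧸ R) := QuotientGroup.nontrivial_iff.2 fun e => hns (by
    subst e; exact Group.isSolvable_of_surjective (f := (⊤ : Subgroup G).subtype) fun g => ⟨⟨g, trivial⟩, rfl⟩)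
  have hg := hF (G ⧸ R) (h.of_surj _ (QuotientGroup.mk'_surjective R)) fun N hN hsN => by
    have h1 : R ≤ N.comap (QuotientGroup.mk' R) := QuotientGroup.le_comap_mk' R N
    have h2 : Group.IsSolvable (N.comap (QuotientGroup.mk' R)) := Group.isSolvable_of_ker_le_range (inclusion h1)
      ((QuotientGroup.mk' R).subgroupComap N) fun g hg =>
        ⟨⟨g, (QuotientGroup.eq_one_iff _).1 (congrArg Subtype.val hg)⟩, rfl⟩
    have h3 := eq_of_le_of_card_ge h1 (hmax _ ⟨inferInstance, h2⟩)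
    rw [← map_comap_eq_self_of_surjective (QuotientGroup.mk'_surjective R) N, ← h3, QuotientGroup.map_mk'_self]
  obtain ⟨h1, h2, h3⟩ := hG G R h hs hg
  have e : _root_.commutator G ≃* G ⧸ R := MulEquiv.ofBijective
    ((QuotientGroup.mk' R).comp (_root_.commutator G).subtype) ⟨(injective_iff_map_eq_one _).2 fun g hg =>
      Subtype.ext (mem_bot.1 (h2.le ⟨(QuotientGroup.eq_one_iff _).1 hg, g.2⟩)), fun q => by
      obtain ⟨g, rfl⟩ := QuotientGroup.mk'_surjective R q
      obtain ⟨a, ha, b, hb, rfl⟩ := mem_sup_of_normal_left.1 (h3.ge (mem_top g))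
      exact ⟨⟨b, hb⟩, by simp [(QuotientGroup.eq_one_iff a).2 ha]⟩⟩
  obtain ⟨p, -, -, h4⟩ := hg
  exact ⟨_, inferInstance, h1 ▸ h2, h1 ▸ h3, h4.imp (fun h => h.2.map e.trans) fun h => h.2.map e.trans⟩

end CL.TwoPr
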