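/-
Two consecutive character degrees from the principal block (abelian Sylow subgroup, automizer of order two).
-/
import Cfsg.Agent.Fgs.TwoPrDefs
import Cfsg.Agent.Blk.AbelFrob
import Cfsg.Agent.Blk.TildeInt
import Cfsg.Agent.Char.Integrality
import Cfsg.Agent.Char.Linear
import Cfsg.Agent.Transfer.Control

set_option autoImplicit false
set_option linter.unusedSectionVars false

namespace CL.TwoPr

open Cfsg Subgroup CL.Even CL.Grp CL.Char CL.Blk

universe u

variable {G : Type u} [Group G]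

theorem b_perfect [IsSimpleGroup G] (hG : ¬ IsMulCommutative G) : _root_.commutator G = ⊤ :=
  (IsSimpleGroup.eq_bot_or_eq_top_of_normal (_root_.commutator G) inferInstance).resolve_left fun e =>
    hG ⟨⟨fun a b => by
      rw [← commutatorElement_eq_one_iff_mul_comm, ← mem_bot (G := G), ← e]
      exact commutator_mem_commutator (mem_top a) (mem_top b)⟩⟩

theorem b_abFrob [Fintype G] {r : ℕ} [Fact r.Prime] (P : Sylow r G) (hG : _root_.commutator G = ⊤)
    (hP : IsMulCommutative (P : Subgroup G)) (h2 : (𝒞((P : Subgroup G))).relIndex (𝒩((P : Subgroup G))) = 2) :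
    AbFrob P := by
  have hc : ∀ a ∈ (P : Subgroup G), ∀ b ∈ (P : Subgroup G), a * b = b * a := fun a ha b hb =>
    congrArg Subtype.val (hP.is_comm.comm ⟨a, ha⟩ ⟨b, hb⟩)
  refine ⟨fun a b => hP.is_comm.comm a b, fun y hy hy1 n ⟨hn1, hn2⟩ => by_contra fun hn => hy1 ?_⟩
  have hN : ∀ m ∈ 𝒩((P : Subgroup G)), m * y = y * m := fun m hm => by
    by_cases e : m ∈ 𝒞((P : Subgroup G))
    · exact (e y hy).symm
    · have h3 : (⟨m, hm⟩ : 𝒩((P : Subgroup G))) * ⟨n, hn2⟩ ∈
          (𝒞((P : Subgroup G))).subgroupOf (𝒩((P : Subgroup G))) :=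
        (mul_mem_iff_of_index_two h2).2 (iff_of_false e hn)
      have h4 : y * (m * n) = m * n * y := (mem_subgroupOf.1 h3) y hy
      have h5 : n * y = y * n := mem_centralizer_singleton_iff.1 hn1
      rw [mul_assoc m, h5, ← mul_assoc, ← mul_assoc] at h4
      exact (mul_right_cancel h4).symm
  have h3 := CL.Transfer.pow_index_mem_commutator (P : Subgroup G) hy (hG ▸ mem_top y) fun k g hg => by
    obtain ⟨m, hm, e⟩ := CL.Transfer.fusion_normalizer_of_comm P hP (y ^ k) (pow_mem hy k) g⁻¹ (by rwa [inv_inv])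
    rw [inv_inv] at e
    rw [← e, (Commute.pow_right (hN m hm) k).eq, mul_inv_cancel_right]
  have h4 : ⁅(P : Subgroup G), (P : Subgroup G)⁆ = ⊥ :=
    commutator_eq_bot_iff_le_centralizer.2 fun a ha b hb => hc b hb a ha
  rw [h4] at h3
  exact mem_bot.1 (CL.Transfer.mem_of_pow_mem_of_coprime h3
    (P.card_coprime_index.symm.coprime_dvd_right (orderOf_dvd_natCard _ hy)))

theorem b_deg [Finite G] (hG : _root_.commutator G = ⊤) {χ : IrrCharacter G} (h : χ ≠ irrOne G) :
    ∃ n : ℕ, 2 ≤ n ∧ n ∣ Nat.card G ∧ (χ : G → ℂ) 1 = n := by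
  obtain ⟨n, hn, e⟩ := isIrr_exists_degree χ.2
  refine ⟨n, by_contra fun h1 => h ?_, isIrr_degree_dvd_card χ.2 e, e⟩
  obtain rfl : n = 1 := by omega
  obtain ⟨l, hl⟩ := χ.2.isCharacter.exists_monoidHom_of_one (by rw [e, Nat.cast_one])
  refine Subtype.ext (funext fun g => ?_)
  rw [hl, irrOne_apply]
  exact congrArg Units.val (mem_commutator_iff_forall_monoidHom.1 (hG ▸ mem_top g) l)

theorem b_dvd {χ : G → ℂ} (h : IsCharacter G χ) (P : Subgroup G) [Finite P] {a : ℤ} {n : ℕ} (h1 : χ 1 = n)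
    (ha : ∀ y ∈ P, y ≠ 1 → χ y = a) : (Nat.card P : ℤ) ∣ n - a := by
  classical
  have := Fintype.ofFinite P
  obtain ⟨k, hk⟩ := (h.restrict P).exists_nat_classInner isCharacter_one
  have h2 : ∑ y : P, (χ y - a) = n - a := by
    rw [Finset.sum_eq_single 1 (fun y _ hy => by rw [ha y y.2 fun e => hy (Subtype.ext e), sub_self])
      fun e => absurd (Finset.mem_univ _) e, coe_one, h1]
  simp only [classInner_def, map_one, mul_one] at hk
  rw [inv_mul_eq_iff_eq_mul₀ natCard_ne_zero] at hk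
  rw [Finset.sum_sub_distrib, hk, Finset.sum_const, Finset.card_univ, ← Nat.card_eq_fintype_card,
    nsmul_eq_mul] at h2
  refine ⟨k - a, ?_⟩
  have h3 : ((n - a : ℤ) : ℂ) = ((Nat.card P * (k - a) : ℤ) : ℂ) := by push_cast; linear_combination -h2
  exact_mod_cast h3

theorem stepB : StepB.{u} := fun G _ _ _ r P hr hr2 hG hab hm h9 => by
  classical
  have := Fact.mk hr
  have := Fintype.ofFinite G
  have := Fintype.ofFinite (P : Subgroup G)
  have hp := b_perfect hG
  obtain ⟨M, hM⟩ := exists_isPModular hr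
  obtain ⟨D⟩ := (b_abFrob P hp (hab P) (hm P)).nonempty_data hM (hm P) (by omega)
  have hY : (4 : ℤ) ≤ D.Y.card := by have := D.card_Y; omega
  have hn := D.norm
  rw [← Finset.add_sum_erase _ _ D.one_mem, D.a_one] at hn
  have hs : ((D.X.erase (irrOne G)).card : ℤ) ≤ ∑ χ ∈ D.X.erase (irrOne G), D.a χ ^ 2 := by
    rw [Finset.card_eq_sum_ones]
    push_cast
    exact Finset.sum_le_sum fun χ hχ => (one_le_sq_iff_one_le_abs _).2
      (Int.one_le_abs (D.a_ne χ (Finset.mem_of_mem_erase hχ)))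
  have hd : D.d = 0 := by_contra fun hd => by
    have : 1 ≤ D.d ^ 2 := (one_le_sq_iff_one_le_abs _).2 (Int.one_le_abs hd)
    push_cast at hn
    nlinarith [sq_nonneg (D.d - D.δ), Int.natCast_nonneg (D.X.erase (irrOne G)).card]
  have h1 : ∑ χ ∈ D.X.erase (irrOne G), D.a χ ^ 2 = 1 := by
    rw [hd] at hn
    push_cast at hn
    nlinarith [D.δ_mul_δ]
  obtain ⟨χ, hχ⟩ : ∃ χ, D.X.erase (irrOne G) = {χ} := Finset.card_eq_one.1 (by
    by_contra e
    rw [Finset.card_eq_zero.1 (show (D.X.erase (irrOne G)).card = 0 by omega), Finset.sum_empty] at h1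
    omega)
  obtain ⟨hχ1, hχX⟩ := Finset.mem_erase.1 (hχ ▸ Finset.mem_singleton_self χ : χ ∈ D.X.erase (irrOne G))
  rw [hχ, Finset.sum_singleton, sq_eq_one_iff] at h1
  obtain ⟨η, hη⟩ : D.Y.Nonempty := Finset.card_pos.1 (by omega)
  have h2 := D.rel_pRegular hM P.isPGroup' hη (g := 1) (by rw [orderOf_one]; exact hr.not_dvd_one)
  obtain ⟨x, x2, xd, hx⟩ := b_deg hp hχ1
  obtain ⟨e, e2, ed, he⟩ := b_deg hp (χ := η) fun e => Finset.disjoint_left.1 D.disj D.one_mem (e ▸ hη)
  rw [← Finset.add_sum_erase _ _ D.one_mem, hχ, Finset.sum_singleton, D.a_one, hd, hx, he, irrOne_apply] at h2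
  have h3 : -D.δ * e + 1 + D.a χ * x = 0 := by
    have : ((-D.δ * e + 1 + D.a χ * x : ℤ) : ℂ) = 0 := by push_cast at h2 ⊢; linear_combination h2
    exact_mod_cast this
  have h4 := b_dvd χ.2.isCharacter (P : Subgroup G) hx (D.val_X χ hχX)
  have h5 : (r : ℤ) ∣ x - D.a χ := by
    obtain ⟨k, hk⟩ := P.isPGroup'.exists_card_eq
    refine (Int.natCast_dvd_natCast.2 ?_).trans h4
    rw [hk]
    exact dvd_pow_self r fun e => by rw [e, pow_zero] at hk; omega
  have h6 : ∀ k : ℕ, k = 1 ∨ k = 2 → ¬ (r : ℤ) ∣ k := fun k hk e => by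
    rcases hk with rfl | rfl
    · exact hr.not_dvd_one (Int.natCast_dvd_natCast.1 e)
    · exact hr2 ((Nat.prime_dvd_prime_iff_eq hr Nat.prime_two).1 (Int.natCast_dvd_natCast.1 e))
  rcases h1 with h1 | h1 <;> rw [h1] at h3 h4 h5
  · obtain rfl : e = x + 1 := by rcases D.sign with h | h <;> rw [h] at h3 <;> omega
    have := Int.le_of_dvd (by omega) h4
    refine ⟨x, x2, xd, ed, fun h => h6 1 (.inl rfl) ?_, fun h => h6 2 (.inr rfl) ?_, by omega⟩
    · exact (dvd_sub (Int.natCast_dvd_natCast.2 h) h5).trans (dvd_of_eq (by omega))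
    · exact (dvd_sub (Int.natCast_dvd_natCast.2 h) h5).trans (dvd_of_eq (by omega))
  · obtain rfl : x = e + 1 := by rcases D.sign with h | h <;> rw [h] at h3 <;> omega
    have := Int.le_of_dvd (by omega) h4
    refine ⟨e, e2, ed, xd, fun h => h6 2 (.inr rfl) ?_, fun h => h6 1 (.inl rfl) ?_, by omega⟩
    · exact (dvd_sub h5 (Int.natCast_dvd_natCast.2 h)).trans (dvd_of_eq (by omega))
    · exact (dvd_sub h5 (Int.natCast_dvd_natCast.2 h)).trans (dvd_of_eq (by omega))

end CL.TwoPr
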