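/-
Project AX (helper18 for helper72): the principal block and the structure constants.
-/
import Cfsg.Agent.Fgs.Ix2Defs
import Cfsg.Agent.Fgs.TwoPrB

set_option autoImplicit false
set_option linter.unusedSectionVars false

namespace CL.Ix2

open scoped ComplexConjugate
open Cfsg Subgroup CL.Char CL.Blk CL.TwoPr

universe u

variable {G : Type u} [Group G] [Fintype G] {M : Ideal AlgInt} {p : ℕ} [Fact p.Prime]

open Classical in
theorem c1_vanish (hM : IsPModular p M) {P : Sylow p G} (h : AbFrob P) {u : G} (hu : u ∈ (P : Subgroup G))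
    (h0 : u ≠ 1) (hC : centralizer ({u} : Set G) = P) {χ : IrrCharacter G} (hχ : χ ∉ principalBlock M G) :
    (χ : G → ℂ) u = 0 := by
  have h1 := sum_principal_column_self hM (exists_orderOf_eq_of_mem P.isPGroup' hu)
  rw [h.degSq_eq hM hu h0, ← hC, ← sum_irr_mul_conj_self,
    ← Finset.sum_filter_add_sum_filter_not Finset.univ (· ∈ principalBlock M G)] at h1
  simp only [irr_conj, left_eq_add, irr_mul_inv_eq_normSq] at h1
  have h2 : ∑ ξ : IrrCharacter G with ξ ∉ principalBlock M G, ‖(ξ : G → ℂ) u‖ ^ 2 = 0 := by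
    exact_mod_cast h1
  have h3 := (Finset.sum_eq_zero_iff_of_nonneg fun _ _ => sq_nonneg _).1 h2 χ
    (Finset.mem_filter.2 ⟨Finset.mem_univ _, hχ⟩)
  simpa using h3

open Classical in
theorem c1_shape (hM : IsPModular p M) {P : Subgroup G} [Fintype P] (hP : IsPGroup p P) (D : AbFrobData M P 2) :
    D.d = 0 ∧ ∃ χ, D.X.erase (irrOne G) = {χ} ∧ (D.a χ = 1 ∨ D.a χ = -1) := by
  have hY : (2 : ℤ) ≤ D.Y.card := by have := D.two_le; omega
  have hn := D.norm
  rw [← Finset.add_sum_erase _ _ D.one_mem, D.a_one] at hn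
  have hs : ((D.X.erase (irrOne G)).card : ℤ) ≤ ∑ χ ∈ D.X.erase (irrOne G), D.a χ ^ 2 := by
    rw [Finset.card_eq_sum_ones]
    push_cast
    exact Finset.sum_le_sum fun χ hχ => (one_le_sq_iff_one_le_abs _).2
      (Int.one_le_abs (D.a_ne χ (Finset.mem_of_mem_erase hχ)))
  have hc := Int.natCast_nonneg (D.X.erase (irrOne G)).card
  push_cast at hn
  have hd : D.d = 0 := by_contra fun hd => by
    have h1 : 1 ≤ D.d ^ 2 := (one_le_sq_iff_one_le_abs _).2 (Int.one_le_abs hd)
    by_cases h2 : D.Y.card = 2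
    · have h3 : 1 ≤ (D.d - D.δ) ^ 2 := (one_le_sq_iff_one_le_abs _).2 (Int.one_le_abs (sub_ne_zero.2 (D.d_ne h2)))
      rw [h2] at hn
      push_cast at hn
      have h4 : D.d ^ 2 = 1 := by omega
      have h5 : (D.d - D.δ) ^ 2 = 1 := by omega
      rw [sq_eq_one_iff] at h4 h5
      have := D.sign
      omega
    · have h3 : (3 : ℤ) ≤ D.Y.card := by have := D.two_le; omega
      have h4 : (D.d - D.δ) ^ 2 = 0 := by nlinarith [sq_nonneg (D.d - D.δ)]
      have h5 : (D.Y.card : ℤ) = 3 := by nlinarith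
      have h6 : (D.X.erase (irrOne G)).card = 0 := by
        have : ((D.X.erase (irrOne G)).card : ℤ) ≤ 0 := by nlinarith
        omega
      obtain ⟨η, hη⟩ : D.Y.Nonempty := Finset.card_pos.1 (by omega)
      have h7 := D.rel_pRegular hM hP hη (g := 1) (by rw [orderOf_one]; exact (Fact.out : p.Prime).not_dvd_one)
      obtain ⟨n, -, hn'⟩ := isIrr_exists_degree η.2
      rw [← Finset.add_sum_erase _ _ D.one_mem, Finset.card_eq_zero.1 h6, Finset.sum_empty, D.a_one, hn',
        irrOne_apply, sub_eq_zero.1 (pow_eq_zero_iff two_ne_zero |>.1 h4),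
        show (D.Y.card : ℂ) = 3 by exact_mod_cast h5] at h7
      have h8 : 2 * (D.δ * n) + 1 = 0 := by
        have : ((2 * (D.δ * n) + 1 : ℤ) : ℂ) = 0 := by push_cast at h7 ⊢; linear_combination h7
        exact_mod_cast this
      omega
  have h1 : ∑ χ ∈ D.X.erase (irrOne G), D.a χ ^ 2 = 1 := by
    rw [hd] at hn
    nlinarith [D.δ_mul_δ]
  obtain ⟨χ, hχ⟩ : ∃ χ, D.X.erase (irrOne G) = {χ} := Finset.card_eq_one.1 (by
    by_contra e
    rw [Finset.card_eq_zero.1 (show (D.X.erase (irrOne G)).card = 0 by omega), Finset.sum_empty] at h1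
    omega)
  rw [hχ, Finset.sum_singleton, sq_eq_one_iff] at h1
  exact ⟨hd, χ, hχ, h1⟩

open Classical in
theorem c1_sum {P : Subgroup G} [Fintype P] (D : AbFrobData M P 2) {χ : IrrCharacter G}
    (hχ : D.X.erase (irrOne G) = {χ}) (φ : IrrCharacter G → ℂ) (h0 : ∀ θ ∉ principalBlock M G, φ θ = 0) :
    ∑ θ, φ θ = φ (irrOne G) + φ χ + ∑ η ∈ D.Y, φ η := by
  rw [← Finset.sum_filter_add_sum_filter_not Finset.univ (· ∈ principalBlock M G),
    Finset.sum_eq_zero fun θ hθ => h0 θ (Finset.mem_filter.1 hθ).2, add_zero]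
  have := D.union
  rw [Finset.filter_congr_decidable] at this ⊢
  rw [this, Finset.sum_union D.disj, ← Finset.add_sum_erase _ _ D.one_mem, hχ, Finset.sum_singleton]

theorem c1_sing {P : Sylow p G} (hC : CC (P : Subgroup G) p) {g : G} (hg : p ∣ orderOf g) :
    ∃ a ∈ (P : Subgroup G), a ≠ 1 ∧ IsConj a g := by
  have hp : p.Prime := Fact.out
  have h1 := orderOf_pow_orderOf_div (orderOf_pos g).ne' hg
  have h2 : IsPGroup p (zpowers (g ^ (orderOf g / p))) := IsPGroup.of_card (n := 1) (by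
    rw [Nat.card_zpowers, h1, pow_one])
  obtain ⟨Q, hQ⟩ := h2.exists_le_sylow
  obtain ⟨x, rfl⟩ := MulAction.exists_smul_eq G P Q
  obtain ⟨a, ha, e⟩ := hQ (mem_zpowers _)
  have e' : x * a * x⁻¹ = g ^ (orderOf g / p) := e
  have a1 : a ≠ 1 := fun e0 => by
    rw [e0, mul_one, mul_inv_cancel] at e'
    rw [← e', orderOf_one] at h1
    exact hp.one_lt.ne h1
  have h3 : x⁻¹ * g * x ∈ (P : Subgroup G) := by
    rw [← hC.cent a ha a1, mem_centralizer_singleton_iff, show a = x⁻¹ * (x * a * x⁻¹) * x by group, e']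
    have := (Commute.refl g).pow_right (orderOf g / p)
    calc x⁻¹ * g * x * (x⁻¹ * g ^ (orderOf g / p) * x) = x⁻¹ * (g * g ^ (orderOf g / p)) * x := by group
      _ = _ := by rw [this.eq]; group
  refine ⟨_, h3, fun e0 => ?_, isConj_iff.2 ⟨x, by group⟩⟩
  have : g = 1 := by rw [show g = x * (x⁻¹ * g * x) * x⁻¹ by group, e0]; group
  rw [this, orderOf_one] at hg
  exact hp.not_dvd_one hg

theorem c1_inv {A : Subgroup G} {m : ℕ} (hC : CC A m) : ∃ t : G, orderOf t = 2 := by
  have := Fact.mk Nat.prime_two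
  refine exists_prime_orderOf_dvd_card' 2 (Dvd.dvd.trans ?_ A.index_dvd_card)
  rw [← hC.idx]
  exact relIndex_dvd_index_of_le le_normalizer

theorem stepC1 : StepC1.{u} := fun G _ _ _ p P hp hG hC => by
  classical
  have := Fact.mk hp
  have := Fintype.ofFinite (P : Subgroup G)
  have hperf := b_perfect hG
  have h5 := hC.five
  obtain ⟨M, hM⟩ := exists_isPModular hp
  have hcm : ∀ a ∈ (P : Subgroup G), ∀ b ∈ (P : Subgroup G), a * b = b * a := fun a ha b hb => by
    by_cases e : b = 1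
    · rw [e, mul_one, one_mul]
    · exact mem_centralizer_singleton_iff.1 (hC.cent b hb e ▸ ha)
  obtain ⟨a0, ha0, a01⟩ : ∃ a ∈ (P : Subgroup G), a ≠ 1 := by
    by_contra hc
    push Not at hc
    have := hC.card
    rw [(eq_bot_iff_forall _).2 hc, card_bot] at this
    omega
  have hCP : centralizer ((P : Subgroup G) : Set G) = P := le_antisymm (fun x hx => by
    rw [← hC.cent a0 ha0 a01]; exact mem_centralizer_singleton_iff.2 (hx a0 ha0).symm)
    fun a ha b hb => hcm b hb a ha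
  have hA : AbFrob P := ⟨fun a b => Subtype.ext (hcm a a.2 b b.2), fun y hy hy1 n hn => by
    rw [hCP, ← hC.cent y hy hy1]; exact hn.1⟩
  obtain ⟨D⟩ := hA.nonempty_data hM (m := 2) (by rw [hCP]; exact hC.idx) (by rw [hC.card]; omega)
  obtain ⟨hd, χ, hχ, hδ⟩ := c1_shape hM P.isPGroup' D
  obtain ⟨hχ1, hχX⟩ := Finset.mem_erase.1 (hχ ▸ Finset.mem_singleton_self χ : χ ∈ D.X.erase (irrOne G))
  obtain ⟨η, hη⟩ : D.Y.Nonempty := Finset.card_pos.1 (by have := D.two_le; omega)
  have r0 : ∀ g, ¬ p ∣ orderOf g → -D.δ * (η : G → ℂ) g + 1 + D.a χ * (χ : G → ℂ) g = 0 := fun g hg => by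
    have h2 := D.rel_pRegular hM P.isPGroup' hη hg
    rw [← Finset.add_sum_erase _ _ D.one_mem, hχ, Finset.sum_singleton, D.a_one, hd, irrOne_apply] at h2
    push_cast at h2
    linear_combination h2
  have o1 : ¬ p ∣ orderOf (1 : G) := by rw [orderOf_one]; exact hp.not_dvd_one
  obtain ⟨f, f2, -, hf⟩ := b_deg hperf hχ1
  obtain ⟨F, F2, -, hF⟩ := b_deg hperf (χ := η) fun e => Finset.disjoint_left.1 D.disj D.one_mem (e ▸ hη)
  have h3 : -D.δ * F + 1 + D.a χ * f = 0 := by
    have h2 := r0 1 o1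
    rw [hf, hF] at h2
    exact_mod_cast h2
  have hδ' : D.δ = D.a χ := by rcases hδ with e | e <;> rcases D.sign with e' | e' <;> rw [e, e'] at h3 ⊢ <;> omega
  have hval := D.val_X χ hχX
  have h4 := b_dvd χ.2.isCharacter (P : Subgroup G) hf hval
  rw [hδ'] at r0 h3
  generalize D.a χ = δ at *
  have hFf : (F : ℤ) = f + δ := by rcases hδ with e | e <;> rw [e] at h3 ⊢ <;> omega
  have δδ : (δ : ℂ) * δ = 1 := by rcases hδ with e | e <;> simp [e]
  have r1 : ∀ g, ¬ p ∣ orderOf g → (η : G → ℂ) g = (χ : G → ℂ) g + δ := fun g hg => by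
    linear_combination (-δ) * r0 g hg + ((χ : G → ℂ) g - (η : G → ℂ) g) * δδ
  have hFc : (F : ℂ) = f + δ := by exact_mod_cast hFf
  have f0 : (f : ℂ) ≠ 0 := Nat.cast_ne_zero.2 (by omega)
  have F0 : (F : ℂ) ≠ 0 := Nat.cast_ne_zero.2 (by omega)
  have hS : ∀ a ∈ (P : Subgroup G), a ≠ 1 → ∑ θ ∈ D.Y, conj ((θ : G → ℂ) a) = -δ := fun a ha a1 => by
    have h := sum_irr_mul_conj_of_not_isConj (g := 1) (h := a) fun e => a1 (isConj_one_right.1 e)
    rw [c1_sum D hχ _ fun θ hθ => by rw [c1_vanish hM hA ha a1 (hC.cent a ha a1) hθ, map_zero, mul_zero],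
      Finset.sum_congr rfl fun θ hθ => by rw [D.Y_eq_pRegular hM P.isPGroup' hθ hη o1, hF], ← Finset.mul_sum,
      hf, hval a ha a1, irrOne_apply, irrOne_apply, map_one, map_intCast] at h
    refine mul_left_cancel₀ F0 ?_
    linear_combination h + δ * hFc + δδ
  have pr : ∀ g h a, ¬ p ∣ orderOf g → ¬ p ∣ orderOf h → a ∈ (P : Subgroup G) → a ≠ 1 →
      (np g h a : ℂ) * cc g * cc h * f * F = Nat.card G * (f - (χ : G → ℂ) g) * (f - (χ : G → ℂ) h) := by
    intro g h a hg hh ha a1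
    have e := classAlg_card_pairs g h a
    rw [c1_sum D hχ _ fun θ hθ => by
        rw [c1_vanish hM hA ha a1 (hC.cent a ha a1) hθ, map_zero, mul_zero, zero_div],
      Finset.sum_congr rfl fun θ hθ => by
        rw [D.Y_eq_pRegular hM P.isPGroup' hθ hη o1, D.Y_eq_pRegular hM P.isPGroup' hθ hη hg,
          D.Y_eq_pRegular hM P.isPGroup' hθ hη hh, hF, r1 g hg, r1 h hh], ← Finset.sum_div, ← Finset.mul_sum,
      hS a ha a1, hf, hval a ha a1, CL.Char.card_isConj_eq_index,
      CL.Char.card_isConj_eq_index] at e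
    simp only [irrOne_apply, map_one, map_intCast] at e
    have e1 : (cc g : ℂ) * cl g = Nat.card G := by exact_mod_cast cc_mul_cl g
    have e2 : (cc h : ℂ) * cl h = Nat.card G := by exact_mod_cast cc_mul_cl h
    have G0 : (Nat.card G : ℂ) ≠ 0 := natCard_ne_zero
    change (np g h a : ℂ) = (cl g : ℂ) * (cl h : ℂ) / _ * _ at e
    have e3 : (1 * 1 * 1 / 1 + (χ : G → ℂ) g * (χ : G → ℂ) h * δ / f +
        ((χ : G → ℂ) g + δ) * ((χ : G → ℂ) h + δ) * -δ / F) * f * F =
        (f - (χ : G → ℂ) g) * (f - (χ : G → ℂ) h) := by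
      field_simp
      rw [hFc]
      linear_combination ((χ : G → ℂ) g * (χ : G → ℂ) h - f * ((χ : G → ℂ) g + (χ : G → ℂ) h) - f * δ) * δδ
    rw [e, mul_assoc (Nat.card G : ℂ), ← e3]
    generalize (1 * 1 * 1 / 1 + (χ : G → ℂ) g * (χ : G → ℂ) h * δ / f +
        ((χ : G → ℂ) g + δ) * ((χ : G → ℂ) h + δ) * -δ / F) = T
    have e4 : (cl g : ℂ) * cl h / Nat.card G * cc g * cc h = Nat.card G := by
      field_simp
      linear_combination (cc h * cl h) * e1 + Nat.card G * e2
    linear_combination (T * f * F) * e4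
  obtain ⟨t, ht⟩ := c1_inv hC
  have pt : ¬ p ∣ orderOf t := fun e => by rw [ht] at e; have := Nat.le_of_dvd two_pos e; omega
  obtain ⟨x, hx⟩ : ∃ x : ℤ, (χ : G → ℂ) t = x := genChar_exists_int_of_forall_pow χ.2.isGeneralizedCharacter
      fun m hm => by
    have h2 : Odd m := Nat.coprime_two_right.1 (hm.coprime_dvd_right (ht ▸ orderOf_dvd_natCard t))
    obtain ⟨k, rfl⟩ := h2
    rw [pow_succ, pow_mul, ← ht, pow_orderOf_eq_one, one_pow, one_mul]
  have hx' : (f : ℂ) - x ≠ 0 := fun e => by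
    have h2 : t ∈ charKer (χ : G → ℂ) := χ.2.mem_charKer.2 (by rw [hx, hf]; exact (sub_eq_zero.1 e).symm)
    rw [χ.2.charKer_eq_bot_of_simple fun e => hχ1 (Subtype.ext e), mem_bot] at h2
    rw [h2, orderOf_one] at ht
    omega
  have hint : ∀ g, ∃ z : ℤ, (χ : G → ℂ) g = z := fun g => by
    by_cases hg : p ∣ orderOf g
    · obtain ⟨a, ha, a1, e⟩ := c1_sing hC hg
      exact ⟨δ, by rw [← hval a ha a1]; exact (χ.2.isClassFunction.apply_eq_of_isConj e).symm⟩
    · refine genChar_exists_int_of_rat χ.2.isGeneralizedCharacter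
        (q := f - np g t a0 * cc g * cc t * f * F / (Nat.card G * (f - x))) ?_
      have e := pr g t a0 hg pt ha0 a01
      have G0 : (Nat.card G : ℂ) ≠ 0 := natCard_ne_zero
      rw [hx] at e
      push_cast
      rw [e]
      field_simp
      ring
  choose X hX using hint
  have hR : ∀ g : G, Reg p g → ¬ p ∣ orderOf g := fun g hg => hp.coprime_iff_not_dvd.1 (Nat.Coprime.symm hg)
  rw [hC.card] at h4
  obtain ⟨k, hk⟩ := h4
  have k0 : 0 ≤ k := by
    by_contra hc
    have : (p : ℤ) * k ≤ p * (-1) := mul_le_mul_of_nonneg_left (by omega) (by omega)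
    omega
  obtain ⟨k, rfl⟩ := Int.eq_ofNat_of_zero_le k0
  refine ⟨f, F, k, δ, X, η, hδ, hFf, f2, F2, by linear_combination hk, ?_, η.2, ?_, fun g hg => ?_, fun a ha a1 => ?_,
    fun g h a hg hh ha a1 => ?_⟩
  · rw [show (fun g => (X g : ℂ)) = χ from funext fun g => (hX g).symm]; exact χ.2
  · exact_mod_cast (hX 1).symm.trans hf
  · rw [r1 g (hR g hg), hX]
  · exact_mod_cast (hX a).symm.trans (hval a ha a1)
  · have e := pr g h a (hR g hg) (hR h hh) ha a1
    rw [hX, hX] at e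
    exact_mod_cast e

end CL.Ix2
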