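/-
Project AX (helper18 for helper72): the order formula.
-/
import Cfsg.Agent.Fgs.Ix2Defs
import Cfsg.Agent.Grp.Frob

set_option autoImplicit false
set_option linter.unusedSectionVars false

namespace CL.Ix2

open Cfsg Subgroup CL.Char

universe u

variable {G : Type u} [Group G]

theorem ca_np (g h a : G) : np g h a = Nat.card {x : G | IsConj g x ∧ IsConj h (x⁻¹ * a)} :=
  Nat.card_congr
    { toFun := fun p => ⟨p.1.1, p.2.1, by rw [inv_mul_eq_iff_eq_mul.2 p.2.2.2.symm]; exact p.2.2.1⟩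
      invFun := fun x => ⟨(x.1, x.1⁻¹ * a), x.2.1, x.2.2, mul_inv_cancel_left _ _⟩
      left_inv := fun p => Subtype.ext (Prod.ext rfl (inv_mul_eq_iff_eq_mul.2 p.2.2.2.symm))
      right_inv := fun _ => rfl }

theorem ca_cent [Finite G] {χ : G → ℂ} (h : IsIrrCharacter G χ) (g : G) {x : ℤ} {d : ℕ} (hx : χ g = x) (hd : χ 1 = d)
    (h0 : d ≠ 0) : (d : ℤ) ∣ cl g * x := by
  have h1 := isIrr_isIntegral_central h g
  rw [hx, hd] at h1
  obtain ⟨z, hz⟩ := exists_int_of_isIntegral_ratCast (q := (cl g : ℚ) * x / d) (by push_cast; exact h1)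
  refine ⟨z, ?_⟩
  have d0 : (d : ℂ) ≠ 0 := Nat.cast_ne_zero.2 h0
  push_cast at hz
  rw [div_eq_iff d0, mul_comm (z : ℂ)] at hz
  exact_mod_cast hz

theorem ca_sq {t x : G} (ht : orderOf t = 2) (h : IsConj t x) : x * x = 1 := by
  obtain ⟨c, rfl⟩ := isConj_iff.1 h
  rw [conj_mul, ← sq, ← ht, pow_orderOf_eq_one]; group

theorem ca_inv {x a : G} (hx : x * x = 1) (hy : x⁻¹ * a * (x⁻¹ * a) = 1) : x * a * x⁻¹ = a⁻¹ := by
  rw [eq_inv_iff_mul_eq_one, ← hy, inv_eq_of_mul_eq_one_right hx]; group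

theorem stepCA : StepCA.{u} := fun G _ _ _ A m f F k δ X ζ hC h2 hX => by
  classical
  have h5 := hC.five
  have f2 := hX.two_le_f
  have F2 := hX.two_le_F
  have hF := hX.F_eq
  have hk := hX.k_eq
  have δδ : δ * δ = 1 := by rcases hX.sign with e | e <;> simp [e]
  have conj : ∀ g h : G, IsConj g h → X g = X h := fun g h e => by
    exact_mod_cast hX.chi.isClassFunction.apply_eq_of_isConj e
  have c1 : (fun g => (X g : ℂ)) 1 = f := by simp only [hX.one, Int.cast_natCast]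
  have lt : ∀ g : G, g ≠ 1 → X g < f := fun g hg => by
    have h1 := hX.chi.isCharacter.norm_le g
    rw [charDegree_eq_of_eq c1, Complex.norm_intCast] at h1
    have h3 : X g ≤ f := by exact_mod_cast (le_abs_self _).trans h1
    refine lt_of_le_of_ne h3 fun e => hg ?_
    have h4 : g ∈ charKer fun g => (X g : ℂ) := hX.chi.mem_charKer.2 (by simp only [e, hX.one])
    rwa [hX.chi.charKer_eq_bot_of_simple fun e => by
      have := (congrFun e 1).symm.trans c1
      have : 1 = f := by exact_mod_cast this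
      omega, mem_bot] at h4
  have ccc : ∀ g h : G, IsConj g h → cc g = cc h := fun g h e => card_centralizer_eq_of_isConj e
  obtain ⟨t, ht, -, tc, tA⟩ := h2.inv
  obtain ⟨a, ha, a1⟩ : ∃ a ∈ A, a ≠ 1 := by
    by_contra hc
    push Not at hc
    have := hC.card
    rw [(eq_bot_iff_forall _).2 hc, card_bot] at this
    omega
  have rg : ∀ s : G, orderOf s = 2 → Reg m s := fun s hs => by
    unfold Reg; rw [hs]; exact Nat.coprime_two_left.2 h2.odd
  have ne1 : ∀ s : G, orderOf s = 2 → s ≠ 1 := fun s hs e => by rw [e, orderOf_one] at hs; omega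
  have G0 : (0 : ℤ) < Nat.card G := by exact_mod_cast Nat.card_pos
  have key : ∀ s x : G, orderOf s = 2 → IsConj t x → IsConj s (x⁻¹ * a) → t⁻¹ * x ∈ A := fun s x hs h1 h3 =>
    tA x a ha a1 (ca_inv (ca_sq ht h1) (ca_sq hs h3))
  have key2 : ∀ x : G, t⁻¹ * x ∈ A → IsConj t x ∧ IsConj t (x⁻¹ * a) := fun x hx => by
    have h1 : IsConj t x := by simpa using tc _ hx
    refine ⟨h1, ?_⟩
    rw [inv_eq_of_mul_eq_one_right (ca_sq ht h1)]
    simpa [mul_assoc] using tc _ (A.mul_mem hx ha)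
  have ic : ∀ s : G, orderOf s = 2 → IsConj t s := fun s hs => by
    by_contra hc
    have h1 := hX.pairs t s a (rg t ht) (rg s hs) ha a1
    have h3 : np t s a = 0 := by
      rw [ca_np, Nat.card_eq_zero]
      exact .inl ⟨fun x => hc ((key2 _ (key s x hs x.2.1 x.2.2)).2.trans x.2.2.symm)⟩
    rw [h3] at h1
    have := mul_pos (mul_pos G0 (sub_pos.2 (lt t (ne1 t ht)))) (sub_pos.2 (lt s (ne1 s hs)))
    simp only [Nat.cast_zero, zero_mul] at h1
    omega
  have ntt : np t t a = m := by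
    rw [ca_np, ← hC.card]
    exact Nat.card_congr
      { toFun := fun x => ⟨t⁻¹ * x, key t x ht x.2.1 x.2.2⟩
        invFun := fun b => ⟨t * b, key2 _ (by simp)⟩
        left_inv := fun x => Subtype.ext (by simp)
        right_inv := fun b => Subtype.ext (by simp) }
  have hcn := cc_mul_cl t
  have hm : m ∣ cl t := (h2.cop_c t (ne1 t ht) (rg t ht)).symm.dvd_of_dvd_mul_left (by
    rw [hcn, ← hC.card]; exact A.card_subgroup_dvd_card)
  obtain ⟨n, hn⟩ := hm
  have d1 := ca_cent hX.chi t (x := X t) rfl c1 (by omega)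
  have d2 := ca_cent hX.zeta t (x := X t + δ) (d := F) (by rw [hX.reg t (rg t ht)]; push_cast; rfl) (by
    rw [hX.reg 1 (reg_one m), hX.one]; exact_mod_cast hF.symm) (by omega)
  have hw := sub_pos.2 (lt t (ne1 t ht))
  have e0 := hX.pairs t t a (rg t ht) (rg t ht) ha a1
  have c0 : (0 : ℤ) < cc t := by exact_mod_cast (Nat.card_pos : 0 < cc t)
  have hcn' : (Nat.card G : ℤ) = cc t * (m * n) := by rw [← hcn, hn]; push_cast; ring
  have m0 : (0 : ℤ) < m := by omega
  rw [ntt, hcn'] at e0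
  have e1 : (cc t : ℤ) * f * F = n * (f - X t) * (f - X t) :=
    mul_left_cancel₀ (mul_pos m0 c0).ne' (by linear_combination e0)
  obtain ⟨l, hl⟩ := h2.odd
  have hl' : (m : ℤ) = 2 * l + 1 := by exact_mod_cast hl
  have k1 : IsCoprime (f : ℤ) m := ⟨δ, -δ * k, by linear_combination δ * hk + δδ⟩
  have k2 : IsCoprime (F : ℤ) m := ⟨(l + 1) * δ, -(l + 1) * δ * k - 1, by
    linear_combination (l + 1) * δ * hF + (l + 1) * δ * hk + 2 * (l + 1) * δδ - hl'⟩
  have k3 : IsCoprime (f : ℤ) F := ⟨-δ, δ, by linear_combination δ * hF + δδ⟩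
  rw [hn] at d1 d2
  push_cast at d1 d2
  have d3 : (f : ℤ) ∣ n * (f - X t) := k1.dvd_of_dvd_mul_left (by
    rw [show (m : ℤ) * (n * (f - X t)) = f * (m * n) - m * n * X t by ring]; exact dvd_sub (dvd_mul_right _ _) d1)
  have d4 : (F : ℤ) ∣ n * (f - X t) := k2.dvd_of_dvd_mul_left (by
    rw [show (m : ℤ) * (n * (f - X t)) = F * (m * n) - m * n * (X t + δ) by rw [hF]; ring]
    exact dvd_sub (dvd_mul_right _ _) d2)
  obtain ⟨j, hj⟩ := k3.mul_dvd d3 d4
  have fF : (0 : ℤ) < f * F := by positivity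
  have j0 : 0 ≤ j := nonneg_of_mul_nonneg_right (by rw [← hj]; positivity) fF |> id
  obtain ⟨j, rfl⟩ := Int.eq_ofNat_of_zero_le j0
  have hc : (cc t : ℤ) = j * (f - X t) := mul_left_cancel₀ fF.ne' (by linear_combination e1 + (f - X t) * hj)
  have hG : (Nat.card G : ℤ) = m * f * F * j ^ 2 := by rw [hcn', hc]; linear_combination (m * j : ℤ) * hj
  have hG' : Nat.card G = m * f * F * j ^ 2 := by exact_mod_cast hG
  have hi : A.index = f * F * j ^ 2 := Nat.eq_of_mul_eq_mul_left (by omega : 0 < m) (by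
    conv_lhs => rw [← hC.card, card_mul_index, hG']
    ring)
  have jp : (0 : ℤ) < j := (mul_pos_iff_of_pos_right hw).1 (hc ▸ c0)
  refine ⟨j, h5, ⟨l, hl⟩, hX.sign, hF, f2, F2, hk, hG', ?_, ?_, conj, hX.one, fun g hg => ?_, h2.cop_c, lt,
    fun g g1 hg => ?_, fun s s' hs hs' => (ic s hs).symm.trans (ic s' hs'), fun s hs => ?_⟩
  · have h1 := h2.index_mod
    rw [hi] at h1
    push_cast at h1
    have k4 : IsCoprime (m : ℤ) 2 := ⟨1, -l, by linear_combination hl'⟩
    refine k4.dvd_of_dvd_mul_left ?_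
    rw [show 2 * ((j : ℤ) ^ 2 - 1) = f * F * j ^ 2 - 2 - m * (k * (k * m + 3 * δ) * j ^ 2) by
      rw [hF, hk]; linear_combination (-2 * (j : ℤ) ^ 2) * δδ]
    exact dvd_sub h1 (dvd_mul_right _ _)
  · have h1 := h2.hall
    rw [hi] at h1
    exact h1.coprime_dvd_right ⟨j, by ring⟩
  · obtain ⟨b, hb, b1, e⟩ := (h2.sing_iff g).1 hg
    exact ⟨by rw [← conj b g e, hX.sing b hb b1], by rw [← ccc b g e, cc, hC.cent b hb b1, hC.card]⟩
  · have h1 : m ∣ np t g a := by
      rw [ca_np, ← hC.card]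
      refine CL.Grp.card_dvd_card_of_conj_free A _ (fun b hb x hx => ⟨hx.1.trans (isConj_iff.2 ⟨b, rfl⟩),
        hx.2.trans (isConj_iff.2 ⟨b, ?_⟩)⟩) fun b hb x hx e => by_contra fun b1 => ?_
      · have : b * a = a * b := mem_centralizer_singleton_iff.1 (hC.cent a ha a1 ▸ hb)
        calc b * (x⁻¹ * a) * b⁻¹ = b * x⁻¹ * b⁻¹ * (b * a * b⁻¹) := by group
          _ = _ := by rw [this]; group
      · have hx' : x ∈ A := by
          rw [← hC.cent b hb b1, mem_centralizer_singleton_iff]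
          exact (mul_inv_eq_iff_eq_mul.1 e).symm
        exact (h2.sing_iff t).2 ⟨x, hx', fun e1 => ne1 t ht (isConj_one_left.1 (e1 ▸ hx.1)), hx.1.symm⟩ (rg t ht)
    obtain ⟨y, hy⟩ := h1
    have e := hX.pairs t g a (rg t ht) hg ha a1
    rw [hy, hc, hG] at e
    push_cast at e
    exact ⟨y, mul_left_cancel₀ (mul_pos (mul_pos (mul_pos m0 fF) jp) hw).ne' (by linear_combination -e)⟩
  · rw [← ccc t s (ic s hs), ← conj t s (ic s hs), hc]

end CL.Ix2
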