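/-
Project AX, job AX-CB (helper8 for helper72): character sums and bounds.
-/
import Cfsg.Agent.Fgs.Ix2Defs
import Cfsg.Agent.Char.PiSection
import Cfsg.Agent.Char.Linear

set_option autoImplicit false
set_option linter.unusedSectionVars false

namespace CL.Ix2

open Cfsg Subgroup CL.Char

universe u

variable {G : Type u} [Group G]

open Classical in
/-- A character that is constant outside a subgroup of index two. -/
theorem cb_dih [Fintype G] {θ : G → ℂ} (hθ : IsCharacter G θ) {H : Subgroup G} (h2 : H.index = 2) {y c : ℤ}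
    (hy : ∀ g, g ∉ H → θ g = y) (hc : ∑ g with g ∈ H, θ g = c * Nat.card H) : |y| ≤ c := by
  have hn : ((Finset.univ.filter fun g => ¬ g ∈ H).card : ℂ) = Nat.card H := by
    have h1 := Finset.card_filter_add_card_filter_not (s := Finset.univ) (· ∈ H)
    have h3 := H.card_mul_index
    rw [Finset.card_univ, ← Nat.card_eq_fintype_card, ← Fintype.card_subtype, ← Nat.card_eq_fintype_card] at h1
    rw [h2] at h3
    exact congrArg _ (by omega)
  have key : ∀ ε : ℤ, ε * ε = 1 → 0 ≤ c + ε * y := fun ε hε => by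
    have hε' : (ε : ℂ) * ε = 1 := by exact_mod_cast hε
    obtain ⟨n, e⟩ := hθ.exists_nat_classInner (isIrrCharacter_of_map_mul (χ := fun g => if g ∈ H then 1 else (ε : ℂ))
      (if_pos (one_mem H)) fun a b => by
        have := mul_mem_iff_of_index_two h2 (a := a) (b := b)
        by_cases ha : a ∈ H <;> by_cases hb : b ∈ H <;> simp_all).isCharacter
    rw [classInner_def, inv_mul_eq_iff_eq_mul₀ natCard_ne_zero, ← Finset.sum_filter_add_sum_filter_not _ (· ∈ H),
      Finset.sum_congr rfl (g := θ) (fun g hg => by rw [if_pos (Finset.mem_filter.1 hg).2, map_one, mul_one]),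
      Finset.sum_congr (s₁ := Finset.univ.filter fun g => ¬ g ∈ H) rfl (g := fun _ => (y : ℂ) * ε) (fun g hg => by
        rw [if_neg (Finset.mem_filter.1 hg).2, hy g (Finset.mem_filter.1 hg).2, map_intCast]),
      hc, Finset.sum_const, nsmul_eq_mul, hn, ← H.card_mul_index, h2] at e
    have h1 : ((c + ε * y : ℤ) : ℂ) = ((2 * n : ℕ) : ℤ) :=
      mul_left_cancel₀ (natCard_ne_zero (G := H)) (by push_cast at e ⊢; linear_combination e)
    rw [Int.cast_injective h1]
    exact Int.natCast_nonneg _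
  have h1 := key 1 rfl
  have h3 := key (-1) rfl
  exact abs_le.2 ⟨by omega, by omega⟩

/-- A character with a rational value at an element of prime order. -/
theorem cb_ord [Finite G] {θ : G → ℂ} (hθ : IsCharacter G θ) {g : G} {r : ℕ} (hr : r.Prime) (hg : orderOf g = r)
    {d y : ℤ} (h1 : θ 1 = d) (hy : θ g = y) : 0 ≤ d + (r - 1) * y := by
  classical
  have := Fintype.ofFinite (zpowers g)
  obtain ⟨k, hk⟩ := (hθ.restrict (zpowers g)).exists_nat_classInner isCharacter_one
  have h2 : ∑ x : zpowers g, (θ x - y) = d - y := by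
    rw [Finset.sum_eq_single 1 (fun x _ hx => ?_) fun e => absurd (Finset.mem_univ _) e, coe_one, h1]
    obtain ⟨x, hx'⟩ := x
    obtain ⟨i, rfl⟩ := mem_powers_iff_mem_zpowers.2 hx'
    rw [sub_eq_zero, ← hy]
    refine genChar_pow_eq_of_rat hθ.isGeneralizedCharacter (q := y) (by exact_mod_cast hy) ?_
    rw [hg]
    exact ((Nat.Prime.coprime_iff_not_dvd hr).2 fun e => hx (Subtype.ext (orderOf_dvd_iff_pow_eq_one.1 (hg ▸ e)))).symm
  simp only [classInner_def, map_one, mul_one] at hk
  rw [inv_mul_eq_iff_eq_mul₀ natCard_ne_zero] at hk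
  rw [Finset.sum_sub_distrib, hk, Finset.sum_const, Finset.card_univ, ← Nat.card_eq_fintype_card,
    nsmul_eq_mul, Nat.card_zpowers, hg] at h2
  have h3 : ((d + (r - 1) * y : ℤ) : ℂ) = ((r * k : ℕ) : ℤ) := by push_cast; linear_combination -h2
  rw [Int.cast_injective h3]
  exact Int.natCast_nonneg _

open Classical in
theorem cb_inv [Fintype G] {A : Subgroup G} {m : ℕ} (h : CC A m) (h' : CC2 A m) {θ : G → ℂ} (hθ : IsCharacter G θ)
    (hc : ∀ s t : G, orderOf s = 2 → orderOf t = 2 → IsConj s t) {t : G} (ht : orderOf t = 2) {y c : ℤ}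
    (hy : θ t = y) (hs : θ 1 + ∑ a with a ∈ A ∧ a ≠ 1, θ a = c * m) : |y| ≤ c := by
  obtain ⟨s, so, si, sc, -⟩ := h'.inv
  have sN : s ∈ normalizer (A : Set G) := mem_normalizer_fintype fun a ha => by rw [si a ha]; exact inv_mem ha
  have sA : s ∉ A := fun e => (Nat.not_even_iff_odd.2 h'.odd)
    (even_iff_two_dvd.2 (by rw [← so, ← h.card]; exact Subgroup.orderOf_dvd_natCard _ e))
  refine cb_dih (hθ.restrict (normalizer (A : Set G))) h.idx (fun g hg => ?_) ?_
  · have h1 : s⁻¹ * g ∈ A := (mul_mem_iff_of_index_two h.idx (a := ⟨_, inv_mem sN⟩) (b := g)).2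
      (iff_of_false (fun e => sA (inv_mem_iff.1 e)) hg)
    have h2 := (hc t s ht so).trans (sc _ h1)
    rw [mul_inv_cancel_left] at h2
    exact (hθ.isClassFunction.apply_eq_of_isConj h2).symm.trans hy
  · rw [Nat.card_congr (subgroupOfEquivOfLe le_normalizer).toEquiv, h.card, ← hs,
      show (Finset.univ.filter fun a => a ∈ A ∧ a ≠ 1) = (Finset.univ.filter (· ∈ A)).erase 1 by ext; simp [and_comm],
      Finset.add_sum_erase _ _ (by simp)]
    exact Finset.sum_bij (fun g _ => (g : G)) (fun g hg => by simpa [mem_subgroupOf] using hg)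
      (fun _ _ _ _ e => Subtype.ext e)
      (fun a ha => ⟨⟨a, le_normalizer (Finset.mem_filter.1 ha).2⟩, by simpa [mem_subgroupOf] using ha, rfl⟩)
      fun _ _ => rfl

theorem stepCB : StepCB.{u} := by
  intro G _ _ A m f F j k δ X ζ h h' hC D
  classical
  have d2 : δ * δ = 1 := by rcases D.sign with e | e <;> rw [e] <;> rfl
  have z1 : ζ 1 = F := by rw [hC.reg 1 (reg_one m), D.one]; exact_mod_cast D.F_eq.symm
  have x1 : ((X 1 : ℤ) : ℂ) = f := by rw [D.one, Int.cast_natCast]
  have m0 : (m : ℂ) ≠ 0 := Nat.cast_ne_zero.2 (by have := D.five; omega)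
  have cA : ((Finset.univ.filter fun a => a ∈ A ∧ a ≠ 1).card : ℂ) = m - 1 := by
    rw [show (Finset.univ.filter fun a => a ∈ A ∧ a ≠ 1) = (Finset.univ.filter (· ∈ A)).erase 1 by
      ext; simp [and_comm], eq_sub_iff_add_eq, ← h.card, Nat.card_eq_fintype_card, Fintype.card_subtype,
      ← Finset.card_erase_add_one (show (1 : G) ∈ Finset.univ.filter (· ∈ A) by simp)]
    push_cast; rfl
  obtain ⟨Nr, hNr⟩ : ∃ Nr : ℤ, Nr = (Finset.univ.filter fun g : G => Reg m g).card := ⟨_, rfl⟩
  obtain ⟨Ns, hNs⟩ : ∃ Ns : ℤ, Ns = (Finset.univ.filter fun g : G => ¬ Reg m g).card := ⟨_, rfl⟩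
  obtain ⟨N, hN⟩ : ∃ N : ℤ, N = f * F * j ^ 2 := ⟨_, rfl⟩
  have cG : (Nat.card G : ℤ) = m * N := by rw [D.card, hN]; push_cast; ring
  have cG' : (Nat.card G : ℂ) = m * N := by exact_mod_cast cG
  have e1 : Nr + Ns = m * N := by
    rw [← cG, Nat.card_eq_fintype_card, ← Finset.card_univ,
      ← Finset.card_filter_add_card_filter_not (s := Finset.univ) (Reg m), hNr, hNs, Nat.cast_add]
  have e2 : 2 * Ns = N * (m - 1) := by
    have := h'.sum_sing (fun _ => 1) fun _ _ _ => rfl
    rw [Finset.sum_const, Finset.sum_const, nsmul_eq_mul, nsmul_eq_mul, cA, cG'] at this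
    have h1 : ((2 * Ns : ℤ) : ℂ) = ((N * (m - 1) : ℤ) : ℂ) :=
      mul_left_cancel₀ m0 (by rw [hNs]; push_cast; linear_combination this)
    exact_mod_cast h1
  have sp : ∀ φ : ℤ → ℤ, ∑ g, φ (X g) = ∑ g with Reg m g, φ (X g) + Ns * φ δ := fun φ => by
    rw [← Finset.sum_filter_add_sum_filter_not _ (Reg m), Finset.sum_congr (s₁ := Finset.univ.filter fun g => ¬ Reg m g)
      rfl (g := fun _ => φ δ) fun g hg => by rw [(D.sing g (Finset.mem_filter.1 hg).2).1], Finset.sum_const,
      nsmul_eq_mul, hNs]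
  have s1 : ∑ g with Reg m g, X g + Ns * δ = 0 := by
    have := hC.chi.sum_eq_zero fun e => by
      have h1 : (f : ℂ) = 1 := x1.symm.trans (congrFun e 1)
      have h2 : f = 1 := by exact_mod_cast h1
      have := D.two_le_f; omega
    rw [← sp fun x => x]; exact_mod_cast this
  have s2 : ∑ g with Reg m g, X g ^ 2 + Ns * δ ^ 2 = m * N := by
    have := irr_sum_norm_sq hC.chi
    simp only [Complex.norm_intCast, sq_abs] at this
    rw [← sp (· ^ 2), ← cG]; exact_mod_cast this
  have s3 : ∑ a with a ∈ A ∧ a ≠ 1, ζ a = -2 * δ := by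
    have h1 := hC.zeta.sum_eq_zero fun e => by
      have h1 : (F : ℂ) = 1 := z1.symm.trans (congrFun e 1)
      have h2 : F = 1 := by exact_mod_cast h1
      have := D.two_le_F; omega
    have h2 := h'.sum_sing ζ fun _ _ => hC.zeta.isClassFunction.apply_eq_of_isConj
    have h3 : ∑ g with Reg m g, ζ g = ((δ * N : ℤ) : ℂ) := by
      rw [Finset.sum_congr rfl fun g hg => hC.reg g (Finset.mem_filter.1 hg).2]
      have : ∑ g with Reg m g, (X g + δ) = δ * N := by
        rw [Finset.sum_add_distrib, Finset.sum_const, nsmul_eq_mul, ← hNr]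
        linear_combination s1 + δ * e1 - δ * e2
      exact_mod_cast this
    rw [← Finset.sum_filter_add_sum_filter_not _ (Reg m), h3] at h1
    have h4 := natCard_ne_zero (G := G)
    refine mul_left_cancel₀ h4 ?_
    rw [← h2, cG']
    push_cast at h1
    linear_combination 2 * m * h1
  have kC : (f : ℂ) = k * m + δ := by exact_mod_cast D.k_eq
  have FC : (F : ℂ) = f + δ := by exact_mod_cast D.F_eq
  refine ⟨fun t ht => ⟨cb_inv h h' hC.chi.isCharacter D.inv_conj ht rfl ?_, cb_inv h h' hC.zeta.isCharacter D.inv_conj ht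
    (by rw [hC.reg t (by rw [Reg, ht]; exact Nat.coprime_two_left.2 D.odd)]; push_cast; rfl) ?_⟩,
    fun g r hr hg hR => ⟨?_, ?_⟩, fun g r e hr hg => ?_, fun r hr hd g hg => ?_, fun r hr hd g hg => ?_, ?_, ?_⟩
  · rw [Finset.sum_congr rfl (g := fun _ => (δ : ℂ)) fun a ha => by
      rw [hC.sing a (Finset.mem_filter.1 ha).2.1 (Finset.mem_filter.1 ha).2.2], Finset.sum_const, nsmul_eq_mul, cA, x1]
    push_cast; linear_combination kC
  · rw [s3, z1]; push_cast; linear_combination kC + FC
  · have := cb_ord hC.chi.isCharacter hr hg (d := f) x1 rfl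
    linarith
  · have := cb_ord hC.zeta.isCharacter hr hg (d := F) (y := X g + δ) z1 (by rw [hC.reg g hR]; push_cast; rfl)
    have h1 := D.F_eq
    linear_combination this - (r - 1) * h1
  · exact (isGenChar_intModEq_one hC.chi.isGeneralizedCharacter hr hg rfl x1).dvd
  · have := irr_eq_zero_of_defect_zero hr hC.chi (k := m * F * j * j) x1 (by rw [D.card]; ring)
      (fun e => hd ((hr.dvd_mul.1 e).elim id fun e => e.mul_left _)) hg
    exact_mod_cast this
  · have h1 := irr_eq_zero_of_defect_zero hr hC.zeta (k := m * f * j * j) z1 (by rw [D.card]; ring)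
      (fun e => hd ((hr.dvd_mul.1 e).elim id fun e => e.mul_left _)) hg
    rw [hC.reg g (by_contra fun e => hd ((hg.trans ((D.sing g e).2 ▸ Subgroup.orderOf_dvd_natCard _
      (mem_centralizer_singleton_iff.2 rfl))).trans ((dvd_mul_right m f).mul_right j)))] at h1
    have h2 : X g + δ = 0 := by exact_mod_cast h1
    omega
  · simp only [mul_add, Finset.sum_add_distrib, ← Finset.sum_mul, ← sq]
    linear_combination s2 + δ * s1 - e2 - 2 * Ns * d2 + hN
  · simp only [add_sq, Finset.sum_add_distrib, ← Finset.sum_mul, ← Finset.mul_sum, Finset.sum_const, nsmul_eq_mul,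
      ← hNr]
    linear_combination s2 + 2 * δ * s1 + e1 - 2 * e2 + (Nr - 3 * Ns) * d2 + 2 * hN

end CL.Ix2
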