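/-
Project AX, step G: group-theoretic consequences of the basic hypothesis.
-/
import Cfsg.Agent.Fgs.Ix2Defs
import Cfsg.Agent.Perm.Rk3a

set_option autoImplicit false

namespace CL.Ix2

open Subgroup

universe u

variable {G : Type u} [Group G] {A : Subgroup G} {m : ℕ} (h : CC A m)
include h

theorem CC.g_mem {a x : G} (ha : a ∈ A) (h1 : a ≠ 1) (e : x * a = a * x) : x ∈ A :=
  h.cent a ha h1 ▸ mem_centralizer_singleton_iff.2 e

theorem CC.g_comm {a b : G} (ha : a ∈ A) (hb : b ∈ A) : b * a = a * b := by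
  rcases eq_or_ne a 1 with rfl | h1
  · simp
  · exact mem_centralizer_singleton_iff.1 ((h.cent a ha h1).ge hb)

theorem CC.g_ti {b g : G} (hb : b ∈ A) (h1 : b ≠ 1) (hg : g * b * g⁻¹ ∈ A) : g ∈ normalizer (A : Set G) :=
  mem_normalizer_iff.2 fun x => ⟨fun hx => h.g_mem hg (by simpa [mul_inv_eq_iff_eq_mul] using h1) (by
    rw [conj_mul, conj_mul, h.g_comm hb hx]), fun hx => h.g_mem hb h1 (by
      simpa only [conj_mul, mul_left_inj, mul_right_inj] using h.g_comm hg hx)⟩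

theorem CC.g_cardN : Nat.card (normalizer (A : Set G)) = m * 2 := by
  rw [← (A.subgroupOf _).card_mul_index, Nat.card_congr (subgroupOfEquivOfLe le_normalizer).toEquiv, h.card, ← h.idx,
    relIndex]

variable [Fintype G]

theorem CC.g_syl {r : ℕ} (hr : r.Prime) (hm : r ∣ m) : ∃ R : Sylow r G, (R : Subgroup G) ≤ A := by
  have := Fact.mk hr
  obtain ⟨a, ha⟩ := exists_prime_orderOf_dvd_card' r (h.card ▸ hm)
  rw [← orderOf_coe] at ha
  have h1 : (a : G) ≠ 1 := fun e => hr.one_lt.ne (by rw [← ha, e, orderOf_one])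
  obtain ⟨R, hR⟩ := (IsPGroup.of_card (n := 1) ((Nat.card_zpowers (a : G)).trans (ha.trans (pow_one r).symm))).exists_le_sylow
  have : Nontrivial (R : Subgroup G) := ⟨⟨a, hR (mem_zpowers _)⟩, 1, fun e => h1 (congrArg Subtype.val e)⟩
  have := R.isPGroup'.center_nontrivial
  obtain ⟨z, hz⟩ := exists_ne (1 : center (R : Subgroup G))
  have h2 : ∀ x ∈ (R : Subgroup G), x * z = z * x := fun x hx => congrArg Subtype.val (mem_center_iff.1 z.2 ⟨x, hx⟩)
  exact ⟨R, fun x hx => h.g_mem (h.g_mem a.2 h1 (h2 _ (hR (mem_zpowers _))).symm)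
    (fun e => hz (Subtype.ext (Subtype.ext e))) (h2 x hx)⟩

theorem CC.g_hall : m.Coprime A.index := Nat.coprime_of_dvd fun r hr hm hi => by
  have := Fact.mk hr
  obtain ⟨R, hR⟩ := h.g_syl hr hm
  exact R.not_dvd_index (hi.trans (index_dvd_of_le hR))

theorem CC.g_odd : Odd m := Nat.coprime_two_right.1 (h.g_hall.coprime_dvd_right
  ⟨_, by rw [← relIndex_mul_index (le_normalizer (H := A)), h.idx]⟩)

theorem CC.g_sing (g : G) : ¬ Reg m g ↔ ∃ a ∈ A, a ≠ 1 ∧ IsConj a g := by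
  refine ⟨fun hg => ?_, fun ⟨a, ha, h1, e⟩ hg => h1 (orderOf_eq_one_iff.1
    ((hg.conj e.symm).eq_one_of_dvd (h.card ▸ A.orderOf_dvd_natCard ha)))⟩
  obtain ⟨r, hr, ⟨k, hk⟩, hm⟩ := Nat.Prime.not_coprime_iff_dvd.1 hg
  have := Fact.mk hr
  have h0 : k ≠ 0 := by rintro rfl; exact (orderOf_pos g).ne' hk
  have h1 : orderOf (g ^ k) = r := by
    rw [orderOf_pow' g h0, hk, Nat.gcd_mul_left_left, Nat.mul_div_cancel _ (Nat.pos_of_ne_zero h0)]
  obtain ⟨R, hR⟩ := h.g_syl hr hm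
  obtain ⟨R', hR'⟩ := (IsPGroup.of_card (n := 1)
    ((Nat.card_zpowers (g ^ k)).trans (h1.trans (pow_one r).symm))).exists_le_sylow
  obtain ⟨x, rfl⟩ := MulAction.exists_smul_eq G R' R
  have h2 : x * g ^ k * x⁻¹ ∈ A := hR ⟨_, hR' (mem_zpowers _), rfl⟩
  have h3 : g ^ k ≠ 1 := fun e => hr.one_lt.ne (by rw [← h1, e, orderOf_one])
  refine ⟨x * g * x⁻¹, h.g_mem h2 (by simpa [mul_inv_eq_iff_eq_mul] using h3) (by group), fun e => h3 ?_,
    (isConj_iff.2 ⟨x, rfl⟩).symm⟩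
  rw [show g = 1 by simpa [mul_inv_eq_iff_eq_mul] using e, one_pow]

theorem CC.g_cop (g : G) (h1 : g ≠ 1) (hg : Reg m g) : (cc g).Coprime m := Nat.coprime_of_dvd fun r hr hc hm => by
  have := Fact.mk hr
  obtain ⟨y, hy⟩ := exists_prime_orderOf_dvd_card' r hc
  rw [← orderOf_coe] at hy
  obtain ⟨a, ha, h2, e⟩ := (h.g_sing y).1 fun e => hr.one_lt.ne' (Nat.Coprime.eq_one_of_dvd (hy ▸ e) hm)
  obtain ⟨x, hx⟩ := isConj_iff.1 e.symm
  refine (h.g_sing g).2 ⟨x * g * x⁻¹, h.g_mem ha h2 ?_, by simpa [mul_inv_eq_iff_eq_mul] using h1,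
    (isConj_iff.2 ⟨x, rfl⟩).symm⟩ hg
  rw [← hx, conj_mul, conj_mul, mem_centralizer_singleton_iff.1 y.2]

theorem CC.g_inv : ∃ t : G, orderOf t = 2 ∧ (∀ a ∈ A, t * a * t⁻¹ = a⁻¹) ∧ (∀ b ∈ A, IsConj t (t * b)) ∧
    ∀ x a : G, a ∈ A → a ≠ 1 → x * a * x⁻¹ = a⁻¹ → t⁻¹ * x ∈ A := by
  have : Fact (Nat.Prime 2) := ⟨Nat.prime_two⟩
  obtain ⟨⟨t, ht⟩, h2⟩ := exists_prime_orderOf_dvd_card' 2 (h.g_cardN ▸ dvd_mul_left 2 m)
  rw [← orderOf_coe] at h2
  have tt : t * t = 1 := by rw [← pow_two, ← h2]; exact pow_orderOf_eq_one t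
  have h3 : ∀ a ∈ A, t * a * t⁻¹ = a⁻¹ := fun a ha => by
    have h4 := (mem_normalizer_iff.1 ht a).1 ha
    refine eq_inv_of_mul_eq_one_right (by_contra fun h5 => ?_)
    have h6 := A.orderOf_dvd_natCard (h.g_mem (x := t) (mul_mem ha h4) h5 (by
      rw [← mul_inv_eq_iff_eq_mul, ← conj_mul, ← h.g_comm ha h4]
      congr 1
      rw [← mul_assoc, ← mul_assoc, tt, one_mul, mul_assoc, ← mul_inv_rev, tt, inv_one, mul_one]))
    rw [show orderOf t = 2 from h2, h.card] at h6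
    exact Nat.not_even_iff_odd.2 h.g_odd (even_iff_two_dvd.2 h6)
  refine ⟨t, h2, h3, fun b hb => ?_, fun x a ha h1 e => h.g_mem ha h1 ?_⟩
  · obtain ⟨k, hk⟩ := h.g_odd
    have h4 : b ^ (2 * k + 1) = 1 := by rw [← hk, ← h.card, ← orderOf_dvd_iff_pow_eq_one]; exact A.orderOf_dvd_natCard hb
    refine isConj_iff.2 ⟨(b ^ (k + 1))⁻¹, ?_⟩
    rw [inv_inv, ← h3 _ (pow_mem hb _), inv_mul_cancel_right, mul_assoc, ← pow_add,
      show k + 1 + (k + 1) = 2 * k + 1 + 1 by ring, pow_succ, h4, one_mul]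
  · rw [← mul_inv_eq_iff_eq_mul, mul_inv_rev, mul_assoc, mul_assoc, ← mul_assoc a, ← mul_assoc x, ← mul_assoc x, e,
      ← h3 a ha]
    group

open Classical in
theorem CC.g_sum (φ : G → ℂ) (hφ : ∀ g h : G, IsConj g h → φ g = φ h) :
    (2 * m : ℂ) * ∑ g with ¬ Reg m g, φ g = Nat.card G * ∑ a with a ∈ A ∧ a ≠ 1, φ a := by
  have h1 := Finset.sum_fiberwise_of_maps_to (s := Finset.univ ×ˢ Finset.univ.filter fun a => a ∈ A ∧ a ≠ 1)
    (t := Finset.univ.filter fun g => ¬ Reg m g) (g := fun p : G × G => p.1 * p.2 * p.1⁻¹) (fun p hp => by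
      simp only [Finset.mem_product, Finset.mem_filter, Finset.mem_univ, true_and] at hp ⊢
      exact (h.g_sing _).2 ⟨p.2, hp.1, hp.2, isConj_iff.2 ⟨_, rfl⟩⟩) fun p => φ p.2
  rw [Finset.sum_product' (f := fun _ a => φ a), Finset.sum_const, Finset.card_univ, nsmul_eq_mul, ← Nat.card_eq_fintype_card] at h1
  rw [← h1, Finset.mul_sum]
  refine Finset.sum_congr rfl fun g hg => ?_
  obtain ⟨a, ha, h2, e⟩ := (h.g_sing g).1 (Finset.mem_filter.1 hg).2
  obtain ⟨x, rfl⟩ := isConj_iff.1 e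
  rw [Finset.sum_congr rfl fun p hp => hφ p.2 _ (isConj_iff.2 ⟨p.1, (Finset.mem_filter.1 hp).2⟩), Finset.sum_const,
    nsmul_eq_mul]
  congr 1
  have h3 : (Finset.univ.filter fun n => n ∈ normalizer (A : Set G)).card = m * 2 := by
    rw [← h.g_cardN, Nat.card_eq_fintype_card, Fintype.card_subtype]
  rw [← Finset.card_bij (fun n _ => (x * n, n⁻¹ * a * n)) ?_ ?_ ?_, h3]
  · push_cast; ring
  · simp only [Finset.mem_product, Finset.mem_filter, Finset.mem_univ, true_and]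
    exact fun n hn => ⟨⟨(mem_normalizer_iff''.1 hn a).1 ha, by simpa [mul_assoc, inv_mul_eq_one] using h2⟩, by group⟩
  · exact fun _ _ _ _ e => mul_left_cancel (congrArg Prod.fst e)
  · simp only [Finset.mem_product, Finset.mem_filter, Finset.mem_univ, true_and]
    rintro ⟨y, b⟩ ⟨hb, e⟩
    have h4 : x⁻¹ * y * b * (x⁻¹ * y)⁻¹ = a := by
      rw [← mul_left_cancel_iff (a := x), ← mul_right_cancel_iff (a := x⁻¹), ← e]; group
    exact ⟨x⁻¹ * y, h.g_ti hb.1 hb.2 (h4 ▸ ha), Prod.ext (by group) (by rw [← h4]; group)⟩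

theorem CC.g_index : (m : ℤ) ∣ (A.index : ℤ) - 2 := by
  have h1 := CL.Rk3.card_dvd_mul (fun (p : G × G) (x : G) => p.1 * x * p.2⁻¹) (by simp) (fun _ _ _ => by simp [mul_assoc])
    (A.prod A) 1 {x | x ∈ normalizer (A : Set G)}ᶜ (fun p hp x hx e => hx (by
      simpa [mul_assoc] using mul_mem (mul_mem (inv_mem (le_normalizer hp.1)) e) (le_normalizer hp.2))) fun x hx => by
    refine Set.ncard_eq_one.2 ⟨1, Set.eq_singleton_iff_unique_mem.2 ⟨⟨one_mem _, by simp⟩, fun p hp => ?_⟩⟩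
    have e : x⁻¹ * p.1 * x⁻¹⁻¹ = p.2 := by rw [inv_inv, mul_assoc, mul_inv_eq_iff_eq_mul.1 hp.2, inv_mul_cancel_left]
    have h2 : p.1 = 1 := by_contra fun h2 => hx ((inv_mem_iff).1 (h.g_ti hp.1.1 h2 (e ▸ hp.1.2)))
    exact Prod.ext h2 (by rw [← e, h2]; simp)
  have h2 := Set.ncard_add_ncard_compl {x | x ∈ normalizer (A : Set G)}
  rw [show Set.ncard {x | x ∈ normalizer (A : Set G)} = m * 2 from h.g_cardN, ← A.card_mul_index, h.card] at h2
  rw [Nat.card_congr (A.prodEquiv A).toEquiv, Nat.card_prod, h.card, one_mul] at h1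
  obtain ⟨k, hk⟩ := h1
  have h0 : (m : ℤ) ≠ 0 := by have := h.five; omega
  exact ⟨k, mul_left_cancel₀ h0 (by rw [hk] at h2; zify at h2; linear_combination -h2)⟩

omit h [Fintype G] in
theorem stepG : StepG.{u} := fun _ _ _ _ _ h =>
  ⟨h.g_odd, h.g_hall, h.g_sing, h.g_cop, h.g_inv, h.g_sum, h.g_index⟩

end CL.Ix2
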