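/-
Project AX, the case `j = 1`: counting.
-/
import Cfsg.Agent.Fgs.Ix2Defs

set_option autoImplicit false
set_option linter.unusedSectionVars false

namespace CL.Ix2

open Cfsg Subgroup

universe u

variable {G : Type u} [Group G] [Fintype G] {m f F k : ℕ} {δ : ℤ} {X : G → ℤ}

theorem j1_cop (h : DA m f F 1 k δ X) : f.Coprime F := by
  have h1 := h.F_eq
  rcases h.sign with e | e <;> rw [e] at h1
  · obtain rfl : F = f + 1 := by omega
    simp
  · obtain rfl : f = F + 1 := by omega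
    simp

open Classical in
theorem j1_S (h : Dat m f F 1 k δ X) :
    ∑ g ∈ (Finset.univ.filter fun g : G => Reg m g).erase 1, (X g + δ) ^ 2 = F * k * m := by
  have h2 := h.sum2
  rw [← Finset.add_sum_erase _ _ (show (1 : G) ∈ _ from Finset.mem_filter.2 ⟨Finset.mem_univ _, reg_one m⟩),
    h.one, ← h.F_eq] at h2
  have h3 := h.F_eq
  have h4 := h.k_eq
  have : (F : ℤ) * k * m = 2 * f * F * (1 : ℕ) ^ 2 - F ^ 2 := by
    have : (k : ℤ) * m = 2 * f - F := by linarith
    rw [mul_assoc, this]; push_cast; ring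
  linarith

/-- elements whose order is divisible by a prime divisor of `f` -/
theorem j1_f (h : Dat m f F 1 k δ X) {r : ℕ} (hr : r.Prime) (hf : r ∣ f) {g : G} (hg : r ∣ orderOf g) :
    g ≠ 1 ∧ Reg m g ∧ X g = 0 ∧ ∃ c, 0 < c ∧ cc g * c = f ∧ cl g = c * (m * F) := by
  have h1 : g ≠ 1 := by
    rintro rfl
    rw [orderOf_one] at hg
    exact hr.one_lt.ne' (Nat.dvd_one.1 hg)
  have h0 : X g = 0 := by
    refine h.dz0 r hr (fun e => ?_) g hg
    rw [mul_one] at e
    rcases (Nat.Prime.dvd_mul hr).1 e with e | e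
    · exact hr.one_lt.ne' (Nat.eq_one_of_dvd_coprimes h.cop e (by rw [mul_one]; exact hf.mul_right _))
    · exact hr.one_lt.ne' (Nat.eq_one_of_dvd_coprimes (j1_cop h.toDA) hf e)
  have h2 : Reg m g := by
    by_contra e
    have := (h.sing g e).1
    rcases h.sign with e | e <;> omega
  have h3 := h.dvd g h1 h2
  rw [h0, sub_zero, Nat.cast_one, one_mul, Int.natCast_dvd_natCast] at h3
  obtain ⟨c, hc⟩ := h3
  have h4 := cc_mul_cl g
  have h5 : 0 < cc g := Nat.card_pos
  have h6 := h.two_le_f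
  refine ⟨h1, h2, h0, c, Nat.pos_of_ne_zero (by rintro rfl; omega), hc.symm, Nat.eq_of_mul_eq_mul_left h5 ?_⟩
  rw [h4, h.card, hc]; ring

open Classical in
theorem j1_bound (h : Dat m f F 1 k δ X) (T : Finset G) (hT : ∀ g ∈ T, ∀ h ∈ T, IsConj g h → g = h)
    (h1 : ∀ g ∈ T, ∃ r : ℕ, r.Prime ∧ r ∣ f ∧ r ∣ orderOf g) : ∑ g ∈ T, cl g ≤ k * (m * F) := by
  have hδ : δ ^ 2 = 1 := by rcases h.sign with e | e <;> rw [e] <;> norm_num
  have h2 := sum_classes (fun g => (X g + δ) ^ 2) (fun g g' e => by simp only [h.conj g g' e]) T hT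
  have h3 : ∑ x with ∃ g ∈ T, IsConj g x, (X x + δ) ^ 2 ≤
      ∑ x ∈ (Finset.univ.filter fun g : G => Reg m g).erase 1, (X x + δ) ^ 2 := by
    refine Finset.sum_le_sum_of_subset_of_nonneg (fun x hx => ?_) fun x _ _ => sq_nonneg _
    obtain ⟨g, hg, e⟩ := (Finset.mem_filter.1 hx).2
    obtain ⟨r, hr, hf, hd⟩ := h1 g hg
    obtain ⟨a, b, -⟩ := j1_f h hr hf hd
    refine Finset.mem_erase.2 ⟨fun e1 => a ?_, Finset.mem_filter.2 ⟨Finset.mem_univ _, b.conj e⟩⟩
    rwa [e1, isConj_one_left] at e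
  rw [h2, j1_S h, Finset.sum_congr rfl (g := fun g => (cl g : ℤ)) fun g hg => by
    obtain ⟨r, hr, hf, hd⟩ := h1 g hg
    rw [(j1_f h hr hf hd).2.2.1, zero_add, hδ, mul_one]] at h3
  have : ((∑ g ∈ T, cl g : ℕ) : ℤ) ≤ (k * (m * F) : ℕ) := by push_cast; linarith
  exact_mod_cast this

theorem j1_orderOf_conj {g h : G} (e : IsConj g h) : orderOf g = orderOf h := by
  obtain ⟨c, rfl⟩ := isConj_iff.1 e
  exact ((MulAut.conj c).orderOf_eq g).symm

theorem j1_ex (h : Dat m f F 1 k δ X) {r : ℕ} (hr : r.Prime) (hf : r ∣ f) : ∃ g : G, orderOf g = r := by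
  have := Fact.mk hr
  refine exists_prime_orderOf_dvd_card' r ?_
  rw [h.card]
  exact ((hf.mul_left _).mul_right _).mul_right _

theorem j1_pos (h : Dat m f F 1 k δ X) : 0 < m * F := Nat.mul_pos (by have := h.five; omega) (by have := h.two_le_F; omega)

/-- one class -/
theorem j1_one (h : Dat m f F 1 k δ X) {r : ℕ} (hr : r.Prime) (hf : r ∣ f) {g : G} (hg : r ∣ orderOf g) :
    ∃ c, 0 < c ∧ cc g * c = f ∧ c ≤ k := by
  obtain ⟨-, -, -, c, h1, h2, h3⟩ := j1_f h hr hf hg
  have := j1_bound h {g} (by simp +contextual) (by simpa using ⟨r, hr, hf, hg⟩)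
  rw [Finset.sum_singleton, h3] at this
  exact ⟨c, h1, h2, Nat.le_of_mul_le_mul_right this (j1_pos h)⟩

open Classical in
/-- elements of different orders -/
theorem j1_card (h : Dat m f F 1 k δ X) (T : Finset G) (hT : ∀ g ∈ T, ∀ h ∈ T, orderOf g = orderOf h → g = h)
    (h1 : ∀ g ∈ T, ∃ r : ℕ, r.Prime ∧ r ∣ f ∧ r ∣ orderOf g) : T.card ≤ k := by
  have h2 := j1_bound h T (fun a ha b hb e => hT a ha b hb (j1_orderOf_conj e)) h1
  have h3 : T.card * (m * F) ≤ ∑ g ∈ T, cl g := by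
    rw [← smul_eq_mul]
    refine Finset.card_nsmul_le_sum _ _ _ fun g hg => ?_
    obtain ⟨r, hr, hf, hd⟩ := h1 g hg
    obtain ⟨-, -, -, c, h1, h2, h3⟩ := j1_f h hr hf hd
    rw [h3]
    exact Nat.le_mul_of_pos_left _ h1
  exact Nat.le_of_mul_le_mul_right (h3.trans h2) (j1_pos h)

theorem j1_two (h : Dat m f F 1 k δ X) {r s : ℕ} (hr : r.Prime) (hs : s.Prime) (hrs : r ≠ s) (h1 : r ∣ f)
    (h2 : s ∣ f) : 2 ≤ k := by
  classical
  obtain ⟨a, ha⟩ := j1_ex h hr h1
  obtain ⟨b, hb⟩ := j1_ex h hs h2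
  have hab : a ≠ b := by rintro rfl; exact hrs (ha.symm.trans hb)
  have := j1_card h {a, b} (by
    simp only [Finset.mem_insert, Finset.mem_singleton]
    rintro x (rfl | rfl) y (rfl | rfl) e <;> first | rfl | omega) (by
    simp only [Finset.mem_insert, Finset.mem_singleton]
    rintro x (rfl | rfl)
    · exact ⟨r, hr, h1, ha ▸ dvd_rfl⟩
    · exact ⟨s, hs, h2, hb ▸ dvd_rfl⟩)
  rwa [Finset.card_pair hab] at this

theorem j1_225 (h : Dat m 225 F 1 2 δ X) : False := by
  classical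
  have p3 : Nat.Prime 3 := by norm_num
  have p5 : Nat.Prime 5 := by norm_num
  obtain ⟨a, ha⟩ := j1_ex h p3 (by norm_num)
  obtain ⟨c, h1, h2, h3⟩ := j1_one h p3 (by norm_num) (ha ▸ dvd_rfl : 3 ∣ orderOf a)
  have h5 : 5 ∣ cc a := by interval_cases c <;> omega
  have := Fact.mk p5
  obtain ⟨⟨b, hb⟩, e⟩ := exists_prime_orderOf_dvd_card' 5 h5
  rw [orderOf_mk] at e
  have hc : Commute a b := (mem_centralizer_singleton_iff.1 hb).symm
  have h15 : orderOf (a * b) = 15 := by
    rw [hc.orderOf_mul_eq_mul_orderOf_of_coprime (by rw [ha, e]; norm_num), ha, e]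
  have := j1_card h {a, b, a * b} (by
    simp only [Finset.mem_insert, Finset.mem_singleton]
    rintro x (rfl | rfl | rfl) y (rfl | rfl | rfl) e <;> first | rfl | omega) (by
    simp only [Finset.mem_insert, Finset.mem_singleton]
    rintro x (rfl | rfl | rfl)
    · exact ⟨3, p3, by norm_num, ha ▸ dvd_rfl⟩
    · exact ⟨5, p5, by norm_num, e ▸ dvd_rfl⟩
    · exact ⟨3, p3, by norm_num, by rw [h15]; norm_num⟩)
  rw [Finset.card_eq_three.2 ⟨a, b, a * b, by rintro rfl; omega, fun e => by rw [← e] at h15; omega,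
    fun e => by rw [← e] at h15; omega, rfl⟩] at this
  omega

theorem resA : Res.{u} LA := by
  intro G _ _ _ p f F j k δ X _ h t _ hm
  have h1 := h.F_eq
  have h2 := h.k_eq
  simp only [LA, List.mem_cons, Prod.mk.injEq, List.not_mem_nil, or_false] at hm
  exfalso
  rcases hm with ⟨rfl, rfl, rfl, rfl, -⟩ | ⟨rfl, rfl, rfl, rfl, -⟩ | ⟨rfl, rfl, rfl, rfl, -⟩ |
    ⟨rfl, rfl, rfl, rfl, -⟩ | ⟨rfl, rfl, rfl, rfl, -⟩ | ⟨rfl, rfl, rfl, rfl, -⟩
  · have := j1_two h (r := 2) (s := 3) (by norm_num) (by norm_num) (by norm_num) (by norm_num) (by norm_num)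
    omega
  · have := j1_two h (r := 2) (s := 3) (by norm_num) (by norm_num) (by norm_num) (by norm_num) (by norm_num)
    omega
  · have := j1_two h (r := 2) (s := 5) (by norm_num) (by norm_num) (by norm_num) (by norm_num) (by norm_num)
    omega
  · have := j1_two h (r := 2) (s := 7) (by norm_num) (by norm_num) (by norm_num) (by norm_num) (by norm_num)
    omega
  · have := j1_two h (r := 2) (s := 3) (by norm_num) (by norm_num) (by norm_num) (by norm_num) (by norm_num)
    omega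
  · obtain rfl : k = 2 := by omega
    exact j1_225 h

open Classical in
/-- if `f` is a power of `r`, the number of elements of order divisible by `r` -/
theorem j1_count (h : Dat m f F 1 k δ X) {r e : ℕ} (hr : r.Prime) (hf : f = r ^ e) :
    (Finset.univ.filter fun g : G => r ∣ orderOf g).card = F * k * m := by
  have hδ : δ ^ 2 = 1 := by rcases h.sign with e | e <;> rw [e] <;> norm_num
  have hd : r ∣ f := by
    rw [hf]
    refine dvd_pow_self r ?_
    rintro rfl
    have := h.two_le_f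
    rw [pow_zero] at hf
    omega
  have h2 := j1_S h
  rw [← Finset.sum_subset (s₁ := Finset.univ.filter fun g : G => r ∣ orderOf g) (fun g hg => ?_) (fun g hg hn => ?_),
    Finset.sum_congr rfl (g := fun _ => (1 : ℤ)) fun g hg => by
      rw [(j1_f h hr hd (Finset.mem_filter.1 hg).2).2.2.1, zero_add, hδ]] at h2
  · simp only [Finset.sum_const, nsmul_eq_mul, mul_one] at h2
    exact_mod_cast h2
  · obtain ⟨a, b, -⟩ := j1_f h hr hd (Finset.mem_filter.1 hg).2
    exact Finset.mem_erase.2 ⟨a, Finset.mem_filter.2 ⟨Finset.mem_univ _, b⟩⟩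
  · obtain ⟨a, b⟩ := Finset.mem_erase.1 hg
    have b := (Finset.mem_filter.1 b).2
    obtain ⟨l, hl, hlg⟩ := Nat.exists_prime_and_dvd (n := orderOf g) (by simpa using a)
    rw [h.dz1 l hl (fun e => ?_) g hlg]
    · simp
    rw [mul_one] at e
    rcases (Nat.Prime.dvd_mul hl).1 e with e | e
    · exact hl.one_lt.ne' (Nat.eq_one_of_dvd_coprimes b hlg e)
    · rw [hf] at e
      rw [(Nat.prime_dvd_prime_iff_eq hl hr).1 (hl.dvd_of_dvd_pow e)] at hlg
      exact hn (Finset.mem_filter.2 ⟨Finset.mem_univ _, hlg⟩)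

end CL.Ix2
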