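/-
Project AX, the case `j = 1`: Sylow subgroups which are the centralizers of their elements.
-/
import Cfsg.Agent.Fgs.Ix2Defs
import Cfsg.Agent.Grp.Frob2
import Cfsg.Agent.S0340
import Cfsg.Agent.Fgs.CondSylMin

set_option autoImplicit false
set_option linter.unusedSectionVars false

namespace CL.Ix2

open Cfsg Subgroup

universe u

/-- a non-abelian group of order `r ^ 4` has a class of size `r` -/
theorem j1_cube {P : Type u} [Group P] [Finite P] {r : ℕ} (hr : r.Prime) (h : Nat.card P = r ^ 4)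
    (hna : center P ≠ ⊤) : ∃ g : P, (centralizer ({g} : Set P)).index = r := by
  have := Fact.mk hr
  have hP : IsPGroup r P := IsPGroup.of_card h
  have hq : Nontrivial (P ⧸ center P) := QuotientGroup.nontrivial_iff.2 hna
  obtain ⟨⟨z, hz⟩, hz1⟩ := @exists_ne _ (hP.to_quotient (center P)).center_nontrivial 1
  obtain ⟨g, rfl⟩ := QuotientGroup.mk_surjective z
  have hg : g ∉ center P := fun e => hz1 (Subtype.ext ((QuotientGroup.eq_one_iff g).2 e))
  refine ⟨g, ?_⟩
  have h1 : (centralizer ({g} : Set P)).index ≤ Nat.card (center P) := by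
    rw [← CL.Char.card_isConj_eq_index]
    refine Nat.card_le_card_of_injective (fun x => ⟨g⁻¹ * x.1, ?_⟩) fun x y e => ?_
    · obtain ⟨x, hx⟩ := x
      obtain ⟨c, rfl⟩ := isConj_iff.1 hx
      rw [← QuotientGroup.eq]
      have := mem_center_iff.1 hz (c : P ⧸ center P)
      rw [QuotientGroup.mk_mul, QuotientGroup.mk_mul, this, QuotientGroup.mk_inv, mul_inv_cancel_right]
    · exact Subtype.ext (mul_left_cancel (congrArg Subtype.val e))
  have h2 : Nat.card (center P) < Nat.card (centralizer ({g} : Set P)) := by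
    have hle : center P ≤ centralizer ({g} : Set P) := center_le_centralizer _
    refine lt_of_le_of_ne (card_le_of_le hle) fun e => hg ?_
    rw [eq_of_le_of_card_ge hle e.ge]
    exact mem_centralizer_singleton_iff.2 rfl
  have h3 := card_mul_index (centralizer ({g} : Set P))
  rw [h] at h3
  obtain ⟨a, ha, e⟩ := (Nat.dvd_prime_pow hr).1 (Dvd.intro_left _ h3)
  have h4 : a ≠ 0 := by
    rintro rfl
    rw [pow_zero, index_eq_one] at e
    refine hg (mem_center_iff.2 fun x => ?_)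
    exact mem_centralizer_singleton_iff.1 (e ▸ mem_top x)
  have h5 : ¬ 2 ≤ a := by
    intro h5
    have h6 : r ^ 2 ≤ r ^ a := Nat.pow_le_pow_right hr.pos h5
    rw [e] at h1 h3
    have h7 : r ^ 2 * r ^ 2 < Nat.card (centralizer ({g} : Set P)) * r ^ a :=
      Nat.mul_lt_mul_of_lt_of_le (by omega) h6 (pow_pos hr.pos _)
    rw [h3, ← pow_add] at h7
    exact lt_irrefl _ h7
  obtain rfl : a = 1 := by omega
  rw [e, pow_one]

variable {G : Type u} [Group G] [Finite G] {r : ℕ} [hr : Fact r.Prime]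

theorem j1_sylow {f e : ℕ} (hf : f = r ^ e) (hR : ∀ R : Sylow r G, Nat.card R = f) {K : Subgroup G}
    (hK : Nat.card K = f) : ∃ R : Sylow r G, (R : Subgroup G) = K := by
  obtain ⟨R, h⟩ := (IsPGroup.of_card (hK.trans hf)).exists_le_sylow
  exact ⟨R, (eq_of_le_of_card_ge h (by rw [hK]; exact (hR R).le)).symm⟩

theorem j1_norm {R U : Subgroup G} (hR : Nat.card R = r ^ 4) (hU : Nat.card U = r ^ 3) (h : U ≤ R) :
    R ≤ normalizer (U : Set G) := by
  refine (normal_subgroupOf_iff_le_normalizer h).1 (normal_of_index_eq_minFac_card ?_)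
  have h1 := card_mul_index (U.subgroupOf R)
  rw [Nat.card_congr (subgroupOfEquivOfLe h).toEquiv, hU, hR] at h1
  rw [hR, hr.out.pow_minFac (by norm_num)]
  refine Nat.eq_of_mul_eq_mul_left (pow_pos hr.out.pos 3) ?_
  rw [h1]; ring

/-- if all centralizers of `r`-elements have the order `r ^ 4` of a Sylow subgroup then it is abelian -/
theorem j1_abel (hR : ∀ R : Sylow r G, Nat.card R = r ^ 4)
    (hC : ∀ (R : Sylow r G), ∀ g ∈ R, g ≠ 1 → cc g = r ^ 4)
    (hn : ∀ n : ℕ, n ∣ r ^ 3 - 1 → n ∣ Nat.card G → n ≡ 1 [MOD r] → n = 1) (R : Sylow r G) :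
    center (R : Subgroup G) = ⊤ := by
  by_contra hna
  obtain ⟨⟨g, hg⟩, h1⟩ := j1_cube hr.out (hR R) hna
  have hg1 : g ≠ 1 := by
    rintro rfl
    have : centralizer ({⟨1, hg⟩} : Set (R : Subgroup G)) = ⊤ :=
      eq_top_iff.2 fun x _ => mem_centralizer_singleton_iff.2 (Subtype.ext (by simp))
    rw [this, index_top] at h1
    exact hr.out.one_lt.ne h1
  obtain ⟨S, hS⟩ := j1_sylow rfl hR (hC R g hg hg1)
  set U : Subgroup G := (R : Subgroup G) ⊓ S with hU
  have h2 : centralizer ({⟨g, hg⟩} : Set (R : Subgroup G)) = U.subgroupOf R := by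
    ext x
    rw [mem_subgroupOf, hU, mem_inf, hS, mem_centralizer_singleton_iff, mem_centralizer_singleton_iff,
      Subtype.ext_iff]
    simp
  have h3 : Nat.card U = r ^ 3 := by
    have := card_mul_index (U.subgroupOf R)
    rw [← h2, h1, h2, Nat.card_congr (subgroupOfEquivOfLe inf_le_left).toEquiv] at this
    refine Nat.eq_of_mul_eq_mul_right hr.out.pos (this.trans ?_)
    exact (hR R).trans (by ring)
  have h4 := j1_norm (hR R) h3 inf_le_left
  have h5 := j1_norm (hR S) h3 inf_le_right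
  set Y := normalizer (U : Set G)
  have h6 := card_sylow_modEq_one r Y
  have h7 : Nat.card (Sylow r Y) ∣ Nat.card Y := (R.subtype h4).card_dvd_index.trans (index_dvd_card _)
  have h8 : Nat.card (Sylow r Y) ∣ r ^ 3 - 1 := by
    refine (Nat.dvd_iff_prime_pow_dvd_dvd _ _).2 fun l a hl hd => ?_
    rcases Nat.eq_zero_or_pos a with rfl | ha
    · simp
    have hlr : l ≠ r := by
      rintro rfl
      have := (Nat.modEq_zero_iff_dvd.2 ((dvd_pow_self l ha.ne').trans hd)).symm.trans h6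
      exact hl.one_lt.ne' (Nat.dvd_one.1 (Nat.modEq_zero_iff_dvd.1 this.symm))
    have := Fact.mk hl
    obtain ⟨K, hK⟩ := Sylow.exists_subgroup_card_pow_prime l (hd.trans h7)
    rw [← hK, ← h3, ← card_map_of_injective (K := K) Y.subtype_injective]
    refine CL.Grp.card_dvd_card_sub_one_of_fpf (map_subtype_le K) fun b hb hb1 => ?_
    refine eq_bot_iff.2 fun u hu => mem_bot.2 (by_contra fun hu1 => hb1 ?_)
    have e1 : orderOf b ∣ r ^ 4 := by
      rw [← hC R u hu.1.1 hu1]
      exact Subgroup.orderOf_dvd_natCard _ (mem_centralizer_singleton_iff.2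
        (mem_centralizer_singleton_iff.1 hu.2).symm)
    have e2 : orderOf b ∣ l ^ a := by
      rw [← hK, ← card_map_of_injective (K := K) Y.subtype_injective]
      exact Subgroup.orderOf_dvd_natCard _ hb
    exact orderOf_eq_one_iff.1 (Nat.eq_one_of_dvd_coprimes
      (Nat.coprime_pow_primes _ _ hr.out hl hlr.symm) e1 e2)
  have h9 := hn _ h8 (h7.trans (card_subgroup_dvd_card Y)) h6
  have : Subsingleton (Sylow r Y) := (Nat.card_eq_one_iff_unique.1 h9).1
  have e : R = S := Sylow.subtype_injective (Subsingleton.elim (R.subtype h4) (S.subtype h5))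
  rw [hU, ← e, inf_idem] at h3
  have := (hR R).symm.trans h3
  exact absurd (Nat.pow_right_injective hr.out.two_le this) (by norm_num)

section
variable (hC : ∀ R : Sylow r G, ∀ g ∈ R, g ≠ 1 → centralizer ({g} : Set G) = R)
include hC

theorem j1_ti {R S : Sylow r G} {g : G} (h1 : g ∈ R) (h2 : g ∈ S) (h : g ≠ 1) : R = S :=
  Sylow.ext ((hC R g h1 h).symm.trans (hC S g h2 h))

theorem j1_fix {R S : Sylow r G} {g : G} (h1 : g ∈ R) (h2 : g • S = S) (h : R ≠ S) : g = 1 := by
  by_contra h3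
  refine h (j1_ti hC h1 ?_ h3)
  have : g ∈ (R : Subgroup G) ⊓ normalizer (S : Set G) := ⟨h1, Sylow.smul_eq_iff_mem_normalizer.1 h2⟩
  rw [R.isPGroup'.inf_normalizer_sylow S] at this
  exact this.2

open Classical in
theorem j1_nsyl [Fintype G] {f : ℕ} (hR : ∀ R : Sylow r G, Nat.card R = f)
    (hp : ∀ g : G, r ∣ orderOf g → ∃ n, g ^ r ^ n = 1) :
    (Finset.univ.filter fun g : G => r ∣ orderOf g).card = Nat.card (Sylow r G) * (f - 1) := by
  have := Fintype.ofFinite (Sylow r G)
  have e : (Finset.univ.filter fun g : G => r ∣ orderOf g) =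
      Finset.univ.biUnion fun R : Sylow r G => (Finset.univ.filter fun g : G => g ∈ R).erase 1 := by
    ext g
    simp only [Finset.mem_filter, Finset.mem_univ, true_and, Finset.mem_biUnion, Finset.mem_erase]
    constructor
    · intro hg
      obtain ⟨n, hn⟩ := hp g hg
      have : IsPGroup r (zpowers g) := by
        obtain ⟨a, -, ha⟩ := (Nat.dvd_prime_pow hr.out).1 (orderOf_dvd_of_pow_eq_one hn)
        exact IsPGroup.of_card ((Nat.card_zpowers g).trans ha)
      obtain ⟨R, hR⟩ := this.exists_le_sylow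
      refine ⟨R, ?_, hR (mem_zpowers g)⟩
      rintro rfl
      rw [orderOf_one] at hg
      exact hr.out.one_lt.ne' (Nat.dvd_one.1 hg)
    · rintro ⟨R, h1, h2⟩
      obtain ⟨n, hn⟩ := R.isPGroup' ⟨g, h2⟩
      obtain ⟨a, -, ha⟩ := (Nat.dvd_prime_pow hr.out).1 (orderOf_dvd_of_pow_eq_one (congrArg Subtype.val hn))
      rw [ha]
      refine dvd_pow_self r ?_
      rintro rfl
      exact h1 (orderOf_eq_one_iff.1 ha)
  rw [e, Finset.card_biUnion, Finset.sum_congr rfl (g := fun _ => f - 1) fun R _ => ?_]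
  · simp
  · rw [Finset.card_erase_of_mem (Finset.mem_filter.2 ⟨Finset.mem_univ _, (show (1 : G) ∈ R from R.one_mem)⟩),
      ← hR R, Nat.card_eq_fintype_card, Fintype.card_subtype]
    rfl
  · intro R _ S _ hne
    refine Finset.disjoint_left.2 fun g h1 h2 => hne ?_
    exact j1_ti hC (Finset.mem_filter.1 (Finset.mem_erase.1 h1).2).2
      (Finset.mem_filter.1 (Finset.mem_erase.1 h2).2).2 (Finset.mem_erase.1 h1).1

theorem j1_inj {R S : Sylow r G} (h : R ≠ S) {x y : G} (hx : x ∈ R) (hy : y ∈ R) (e : x • S = y • S) : x = y := by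
  have := j1_fix hC (R.mul_mem (R.inv_mem hy) hx) (S := S) (by rw [mul_smul, e, inv_smul_smul]) h
  exact (inv_mul_eq_one.1 this).symm

omit hC in
theorem j1_self {R : Sylow r G} {x : G} (hx : x ∈ R) : x • R = R :=
  Sylow.smul_eq_iff_mem_normalizer.2 (le_normalizer hx)

theorem j1_tr {f : ℕ} (hR : ∀ R : Sylow r G, Nat.card R = f) (hn : Nat.card (Sylow r G) = f + 1)
    {R S T : Sylow r G} (h : R ≠ S) (h' : R ≠ T) : ∃ x ∈ R, x • S = T := by
  classical
  let φ : R → {T : Sylow r G // T ≠ R} := fun x => ⟨x.1 • S, fun e => h (by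
    rw [← inv_smul_smul x.1 S, e, j1_self (R.inv_mem x.2)])⟩
  have hφ : Function.Injective φ := fun x y e => Subtype.ext (j1_inj hC h x.2 y.2 (congrArg Subtype.val e))
  have hc : Nat.card R = Nat.card {T : Sylow r G // T ≠ R} := by
    have := Fintype.ofFinite (Sylow r G)
    rw [hR, Nat.card_eq_fintype_card, Fintype.card_subtype_compl, ← Nat.card_eq_fintype_card, hn]
    simp
  obtain ⟨x, hx⟩ := (hφ.bijective_of_nat_card_le hc.ge).2 ⟨T, h'.symm⟩
  exact ⟨x, x.2, congrArg Subtype.val hx⟩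

theorem j1_zass [IsSimpleGroup G] {f : ℕ} (hR : ∀ R : Sylow r G, Nat.card R = f) (hf : 2 ≤ f)
    (hn : Nat.card (Sylow r G) = f + 1) (hG : (f + 1) ^ 2 < Nat.card G) : IsZassenhausGroup G (Sylow r G) := by
  have hnt : Nontrivial (Sylow r G) := Finite.one_lt_card_iff_nontrivial.1 (by omega)
  have hex : ∀ R : Sylow r G, ∃ g ∈ R, g ≠ 1 := fun R => by
    have : Nontrivial R := Finite.one_lt_card_iff_nontrivial.1 (by rw [hR]; omega)
    obtain ⟨x, hx⟩ := exists_ne (1 : R)
    exact ⟨x, x.2, fun e => hx (Subtype.ext e)⟩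
  refine ⟨⟨fun {a b} e => ?_⟩, MulAction.is_two_pretransitive_iff.2 fun {a b c d} h1 h2 => ?_,
    fun g a b c h1 h2 h3 e1 e2 e3 => ?_, ?_, fun N hN ht => ?_⟩
  · rcases (MulAction.toPermHom G (Sylow r G)).normal_ker.eq_bot_or_eq_top with h | h
    · exact (MonoidHom.ker_eq_bot_iff _).1 h (Equiv.ext e)
    · obtain ⟨R, S, hne⟩ := exists_pair_ne (Sylow r G)
      obtain ⟨g, hg, hg1⟩ := hex R
      have : g ∈ (MulAction.toPermHom G (Sylow r G)).ker := h ▸ mem_top g
      exact absurd (j1_fix hC hg (S := S) (Equiv.ext_iff.1 this S) hne) hg1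
  · obtain ⟨g, rfl⟩ := MulAction.exists_smul_eq G a c
    obtain ⟨x, hx, e⟩ := j1_tr hC hR hn (R := g • a) (S := g • b) (fun e => h1 (smul_left_cancel g e)) h2
    exact ⟨x * g, by rw [mul_smul, j1_self hx], by rw [mul_smul, e]⟩
  · obtain ⟨x, hx, e⟩ := j1_tr hC hR hn h1 h3
    have hx1 : x ≠ 1 := by
      rintro rfl
      exact h2 (by simpa using e)
    have h4 : g * x * g⁻¹ ∈ a := (mem_normalizer_iff.1 (Sylow.smul_eq_iff_mem_normalizer.1 e1) x).1 hx
    have h5 := j1_inj hC h1 h4 hx (by rw [mul_smul, mul_smul, inv_smul_eq_iff.2 e2.symm, e, e3])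
    have h6 : g ∈ centralizer ({x} : Set G) := mem_centralizer_singleton_iff.2 (mul_inv_eq_iff_eq_mul.1 h5)
    rw [hC a x hx hx1] at h6
    exact j1_fix hC h6 e2 h1
  · by_contra h
    push Not at h
    obtain ⟨R, S, hne⟩ := exists_pair_ne (Sylow r G)
    have := Nat.card_le_card_of_injective (fun g : G => (g • R, g • S)) fun x y e => by
      by_contra h1
      have e1 := congrArg Prod.fst e
      have e2 := congrArg Prod.snd e
      simp only at e1 e2
      exact h (y⁻¹ * x) (fun e => h1 (inv_mul_eq_one.1 e).symm) R S hne (by rw [mul_smul, e1, inv_smul_smul])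
        (by rw [mul_smul, e2, inv_smul_smul])
    rw [Nat.card_prod, hn, ← sq] at this
    omega
  · obtain ⟨R, S, hne⟩ := exists_pair_ne (Sylow r G)
    rcases hN.eq_bot_or_eq_top with rfl | rfl
    · obtain ⟨⟨x, hx⟩, e⟩ := ht.exists_smul_eq R S
      obtain rfl := mem_bot.1 hx
      exact absurd ((one_smul G R).symm.trans e) hne
    · obtain ⟨g, hg, hg1⟩ := hex R
      refine ⟨R, fun e => hg1 ?_⟩
      have : (⟨g, mem_top g⟩ : (⊤ : Subgroup G)) ∈ MulAction.stabilizer (⊤ : Subgroup G) R := j1_self hg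
      rw [e, mem_bot] at this
      exact congrArg Subtype.val this

end

theorem j1_phi {a b : ℕ} (h : a ≤ b) : a * (a ^ 2 - 1) ≤ b * (b ^ 2 - 1) :=
  Nat.mul_le_mul h (Nat.sub_le_sub_right (Nat.pow_le_pow_left h 2) 1)

omit hr in
/-- identification of a simple Zassenhaus group by its order -/
theorem j1_ident [IsSimpleGroup G] {Ω : Type u} [MulAction G Ω] [Finite Ω] (hZ : IsZassenhausGroup G Ω) {f a : ℕ}
    (h3 : 3 ∣ Nat.card G) (h1 : a * (a ^ 2 - 1) < Nat.card G) (h2 : Nat.card G < (a + 1) * ((a + 1) ^ 2 - 1))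
    (h4 : f * (f ^ 2 - 1) < 2 * Nat.card G) (h5 : 2 * Nat.card G < (f + 2) * ((f + 2) ^ 2 - 1)) :
    L2 G (f + 1) := by
  rcases Cfsg.Agent.S0340.result hZ with ⟨K, _, _, ⟨e⟩⟩ | ⟨-, n, -, e⟩
  · refine ⟨K, inferInstance, inferInstance, ?_, ⟨e⟩⟩
    have h := CL.Fgs.card_psl_two_mul_gcd K
    rw [← Nat.card_congr e.toEquiv] at h
    rcases (Nat.dvd_prime Nat.prime_two).1 (Nat.gcd_dvd_left 2 (Fintype.card K - 1)) with g | g <;> rw [g] at h
    · rcases le_or_gt (Fintype.card K) a with l | l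
      · have := j1_phi l; omega
      · have := j1_phi (show a + 1 ≤ _ from l); omega
    · rcases lt_trichotomy (Fintype.card K) (f + 1) with l | l | l
      · have := j1_phi (show _ ≤ f from Nat.le_of_lt_succ l); omega
      · exact l
      · have := j1_phi (show f + 2 ≤ _ from l); omega
  · exfalso
    have hq : 2 ^ (2 * n + 1) % 3 = 2 := by
      rw [pow_succ, pow_mul, Nat.mul_mod, Nat.pow_mod]; simp
    generalize 2 ^ (2 * n + 1) = q at e hq
    rw [e] at h3
    obtain ⟨c, rfl⟩ : ∃ c, q = 3 * c + 2 := ⟨q / 3, by omega⟩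
    have : (3 * c + 2) ^ 2 * ((3 * c + 2) ^ 2 + 1) * (3 * c + 2 - 1) ≡ 2 ^ 2 * (2 ^ 2 + 1) * 1 [MOD 3] := by
      have h0 : 3 * c + 2 ≡ 2 [MOD 3] := by unfold Nat.ModEq; omega
      exact ((h0.pow 2).mul ((h0.pow 2).add_right 1)).mul (by unfold Nat.ModEq; omega)
    have := (Nat.modEq_zero_iff_dvd.2 h3).symm.trans this
    norm_num [Nat.ModEq] at this

end CL.Ix2
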