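/-
Project AX, the case `j = 1`: the tuples of `LT`.
-/
import Cfsg.Agent.Fgs.Ix2J1a
import Cfsg.Agent.Fgs.Ix2J1b

set_option autoImplicit false
set_option linter.unusedSectionVars false

namespace CL.Ix2

open Cfsg Subgroup

universe u

variable {G : Type u} [Group G] [Fintype G] {m f F k : ℕ} {δ : ℤ} {X : G → ℤ} {r e : ℕ} [hr : Fact r.Prime]

theorem j1_dvd (h : Dat m f F 1 k δ X) (hf : f = r ^ e) : r ∣ f := by
  rw [hf]
  refine dvd_pow_self r ?_
  rintro rfl
  have := h.two_le_f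
  rw [pow_zero] at hf
  omega

theorem j1_cardR (h : Dat m f F 1 k δ X) (hf : f = r ^ e) (R : Sylow r G) : Nat.card R = f := by
  have h0 : Nat.card G ≠ 0 := Nat.card_pos.ne'
  have h1 : Nat.card G = r ^ e * (m * F) := by rw [h.card, hf]; ring
  rw [R.card_eq_multiplicity, hf]
  congr 1
  refine le_antisymm (Nat.le_of_lt_succ (not_le.1 fun l => ?_))
    ((hr.out.pow_dvd_iff_le_factorization h0).1 ⟨_, h1⟩)
  have := (hr.out.pow_dvd_iff_le_factorization h0).2 l
  rw [h1, pow_succ] at this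
  have hd := j1_dvd h hf
  rcases (Nat.Prime.dvd_mul hr.out).1 (Nat.dvd_of_mul_dvd_mul_left (pow_pos hr.out.pos e) this) with l | l
  · exact hr.out.one_lt.ne' (Nat.eq_one_of_dvd_coprimes h.cop l (by rw [mul_one]; exact hd.mul_right _))
  · exact hr.out.one_lt.ne' (Nat.eq_one_of_dvd_coprimes (j1_cop h.toDA) hd l)

omit [Fintype G] in
theorem j1_ord {R : Sylow r G} {g : G} (h2 : g ∈ R) (h1 : g ≠ 1) : r ∣ orderOf g := by
  obtain ⟨n, hn⟩ := R.isPGroup' ⟨g, h2⟩
  obtain ⟨a, -, ha⟩ := (Nat.dvd_prime_pow hr.out).1 (orderOf_dvd_of_pow_eq_one (congrArg Subtype.val hn))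
  rw [ha]
  refine dvd_pow_self r ?_
  rintro rfl
  exact h1 (orderOf_eq_one_iff.1 ha)

theorem j1_main (h : Dat m f F 1 k δ X) (hf : f = r ^ e) (hA : ∀ R : Sylow r G, center (R : Subgroup G) = ⊤) :
    (∀ R : Sylow r G, ∀ g ∈ R, g ≠ 1 → centralizer ({g} : Set G) = R) ∧
      Nat.card (Sylow r G) * (f - 1) = F * k * m := by
  have hd := j1_dvd h hf
  have hC : ∀ R : Sylow r G, ∀ g ∈ R, g ≠ 1 → centralizer ({g} : Set G) = R := by
    intro R g hg h1
    obtain ⟨-, -, -, c, h2, h3, -⟩ := j1_f h hr.out hd (j1_ord hg h1)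
    refine (eq_of_le_of_card_ge (fun x hx => mem_centralizer_singleton_iff.2 ?_) ?_).symm
    · have : (⟨g, hg⟩ : (R : Subgroup G)) ∈ center (R : Subgroup G) := hA R ▸ mem_top _
      exact congrArg Subtype.val (mem_center_iff.1 this ⟨x, hx⟩)
    · rw [j1_cardR h hf R, ← h3]
      exact Nat.le_mul_of_pos_right _ h2
  refine ⟨hC, ?_⟩
  rw [← j1_count h hr.out hf, ← j1_nsyl hC (j1_cardR h hf) fun g hg => ⟨e, ?_⟩]
  obtain ⟨-, -, -, c, -, h3, -⟩ := j1_f h hr.out hd hg
  rw [← hf, ← h3, ← orderOf_dvd_iff_pow_eq_one]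
  exact (Subgroup.orderOf_dvd_natCard _ (mem_centralizer_singleton_iff.2 rfl)).mul_right _

theorem j1_sq (h : Dat m f F 1 k δ X) (hf : f = r ^ 2) (R : Sylow r G) : center (R : Subgroup G) = ⊤ :=
  eq_top_iff.2 fun x _ => mem_center_iff.2 fun y =>
    IsPGroup.commutative_of_card_eq_prime_sq ((j1_cardR h hf R).trans hf) y x

theorem j1_four (h : Dat m f F 1 2 δ X) (hf : f = r ^ 4) (h2 : r ≠ 2)
    (hn : ∀ n : ℕ, n ∣ r ^ 3 - 1 → n ∣ Nat.card G → n ≡ 1 [MOD r] → n = 1) (R : Sylow r G) :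
    center (R : Subgroup G) = ⊤ := by
  refine j1_abel (fun R => (j1_cardR h hf R).trans hf) (fun R g hg h1 => ?_) hn R
  obtain ⟨c, h3, h4, h5⟩ := j1_one h hr.out (j1_dvd h hf) (j1_ord hg h1)
  interval_cases c
  · rw [← hf, ← h4, mul_one]
  · exact absurd ((Nat.prime_dvd_prime_iff_eq Nat.prime_two hr.out).1
      (Nat.prime_two.dvd_of_dvd_pow (hf ▸ Dvd.intro_left _ h4))).symm h2

theorem resT : Res.{u} LT := by
  intro G _ _ _ p f F j k δ X _ h t _ hm
  have h1 := h.F_eq
  have h2 := h.k_eq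
  have h3 := h.card
  simp only [LT, List.mem_cons, Prod.mk.injEq, List.not_mem_nil, or_false] at hm
  rcases hm with ⟨rfl, rfl, rfl, rfl, -⟩ | ⟨rfl, rfl, rfl, rfl, -⟩ | ⟨rfl, rfl, rfl, rfl, -⟩ |
    ⟨rfl, rfl, rfl, rfl, -⟩
  · obtain rfl : k = 2 := by omega
    have := Fact.mk (by norm_num : Nat.Prime 5)
    have hf : 25 = 5 ^ 2 := by norm_num
    obtain ⟨hC, hn⟩ := j1_main h hf (j1_sq h hf)
    have := j1_ident (j1_zass hC (j1_cardR h hf) (by norm_num) (by omega) (by omega)) (f := 24) (a := 19)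
      (by omega) (by omega) (by omega) (by omega) (by omega)
    unfold Goal; tauto
  · obtain rfl : k = 10 := by omega
    have := Fact.mk (by norm_num : Nat.Prime 7)
    have hf : 49 = 7 ^ 2 := by norm_num
    obtain ⟨-, hn⟩ := j1_main h hf (j1_sq h hf)
    obtain ⟨R⟩ : Nonempty (Sylow 7 G) := inferInstance
    have h4 := R.card_dvd_index.trans (index_dvd_card _)
    rw [show Nat.card (Sylow 7 G) = 50 by omega, h3] at h4
    norm_num at h4
  · obtain rfl : k = 2 := by omega
    have := Fact.mk (by norm_num : Nat.Prime 3)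
    have hf : 81 = 3 ^ 4 := by norm_num
    obtain ⟨hC, hn⟩ := j1_main h hf (j1_four h hf (by norm_num) fun n a b c => by
      have := Nat.dvd_gcd a b
      rw [h3] at this
      norm_num at this
      have l := Nat.le_of_dvd (by norm_num) this
      interval_cases n <;> simp_all [Nat.ModEq])
    have := j1_ident (j1_zass hC (j1_cardR h hf) (by norm_num) (by omega) (by omega)) (f := 80) (a := 64)
      (by omega) (by omega) (by omega) (by omega) (by omega)
    unfold Goal; tauto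
  · obtain rfl : k = 2 := by omega
    have := Fact.mk (by norm_num : Nat.Prime 7)
    have hf : 2401 = 7 ^ 4 := by norm_num
    obtain ⟨hC, hn⟩ := j1_main h hf (j1_four h hf (by norm_num) fun n a b c => by
      have := Nat.dvd_gcd a b
      rw [h3] at this
      norm_num at this
      have l := Nat.le_of_dvd (by norm_num) this
      interval_cases n <;> simp_all [Nat.ModEq])
    have := j1_ident (j1_zass hC (j1_cardR h hf) (by norm_num) (by omega) (by omega)) (f := 2400) (a := 1905)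
      (by omega) (by omega) (by omega) (by omega) (by omega)
    unfold Goal; tauto

end CL.Ix2
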