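/-
Project AX: the numerical sift.
-/
import Cfsg.Agent.Fgs.Ix2Defs

set_option autoImplicit false
set_option maxRecDepth 100000
set_option synthInstance.maxSize 2000

namespace CL.Ix2

open Cfsg Subgroup

universe u

/-- the bound on the `r`-part of `j` -/
def nB (r f F b : ℕ) : Prop :=
  b = 0 ∨ ((r - 1) * (r ^ b * (f * F).gcd (r ^ 9)) ≤ r * f ∧ (r - 1) * (r ^ b * (f * F).gcd (r ^ 9)) ≤ r * F)
instance (r f F b : ℕ) : Decidable (nB r f F b) := by unfold nB; infer_instance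
/-- the final test -/
def nT (f F p j : ℕ) : Prop := p ∣ j ^ 2 - 1 → 4 ∣ p * f * F * j ^ 2 → 
  ∀ w ∈ List.range' (F - (2 * f - F) / p) (2 * ((2 * f - F) / p) + 1), 2 * f ≤ (2 * f - F) / p + F + w → w ∣ f * F * j → p * f * F * j / w % 2 = 1 →
    (f, F, p, j, (f : ℤ) - w) ∈ LC ++ LW ++ LA ++ LT ++ LK
instance (f F p j : ℕ) : Decidable (nT f F p j) := by unfold nT; infer_instance

/-- the loop over `j` -/
def nJ (f F p : ℕ) : Prop := ∀ b < 15, nB 3 f F b → ∀ c < 15, nB 5 f F c →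
  ∀ d < 15, nB 7 f F d → ∀ a < 15, nT f F p (2 ^ a * 3 ^ b * 5 ^ c * 7 ^ d)
instance (f F p : ℕ) : Decidable (nJ f F p) := by unfold nJ; infer_instance
/-- the loop over `p` -/
def nP (f F : ℕ) : Prop := 2 ≤ f → 2 ≤ F → f ≤ 4375 ∧ ∀ p ∈ List.range (2 * f - F + 1), p ∣ 2 * f - F → 5 ≤ p →
  (∀ d < 67, 2 ≤ d → d ∣ p → d = p) → nJ f F p
instance (f F : ℕ) : Decidable (nP f F) := by unfold nP; infer_instance

theorem n_sift : ∀ n ∈ [1, 2, 3, 4, 5, 6, 7, 8, 9, 14, 15, 20, 24, 27, 35, 48, 49, 63, 80, 125, 224, 2400, 4374],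
    nP n (n + 1) ∧ nP (n + 1) n := by decide +kernel

theorem n_exp {r b : ℕ} (hr : 2 ≤ r) (h : r ^ b < 2 ^ 15) : b < 15 :=
  (Nat.pow_lt_pow_iff_right (by omega)).1 ((Nat.pow_le_pow_left hr b).trans_lt h)

theorem nB.lt {r f F b : ℕ} (h : nB r f F b) (hr : 2 ≤ r) (h7 : r ≤ 7) (hf : f ≤ 4375) : b < 15 := by
  rcases h with h | ⟨h, -⟩
  · omega
  have h1 : 0 < (f * F).gcd (r ^ 9) := Nat.gcd_pos_of_pos_right _ (by positivity)
  have h2 : r ^ b ≤ (r - 1) * (r ^ b * (f * F).gcd (r ^ 9)) :=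
    (Nat.le_mul_of_pos_right _ h1).trans (Nat.le_mul_of_pos_left _ (by omega))
  have h3 : r * f ≤ 7 * 4375 := Nat.mul_le_mul h7 hf
  exact n_exp hr (by omega)

theorem n_smooth {j : ℕ} (h0 : j ≠ 0) (h : ∀ r : ℕ, r.Prime → r ∣ j → r ≤ 7) :
    ∃ a b c d, j = 2 ^ a * 3 ^ b * 5 ^ c * 7 ^ d := by
  induction j using Nat.strong_induction_on with
  | _ j ih =>
    by_cases e : j = 1
    · exact ⟨0, 0, 0, 0, e⟩
    obtain ⟨r, hr, i, rfl⟩ := Nat.exists_prime_and_dvd e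
    have hi : i ≠ 0 := fun e => h0 (by simp [e])
    obtain ⟨a, b, c, d, rfl⟩ := ih i (lt_mul_of_one_lt_left (by omega) hr.one_lt) hi
      fun s hs h' => h s hs (h'.mul_left r)
    have := h r hr (dvd_mul_right _ _)
    interval_cases r <;> first | exact absurd hr (by decide) | skip
    exacts [⟨a + 1, b, c, d, by ring⟩, ⟨a, b + 1, c, d, by ring⟩, ⟨a, b, c + 1, d, by ring⟩, ⟨a, b, c, d + 1, by ring⟩]

theorem Dat.nB {G : Type u} [Group G] [Fintype G] {p f F j k : ℕ} {δ : ℤ} {X : G → ℤ} (h : Dat p f F j k δ X)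
    {r b o : ℕ} (hr : r.Prime) (e : j = r ^ b * o) (ho : r.Coprime o) : nB r f F b := by
  refine or_iff_not_imp_left.2 fun h0 => ?_
  have hj : r ∣ j := e ▸ (dvd_pow_self r h0).mul_right o
  obtain ⟨g, og, hg⟩ := exists_central (G := G) hr (h.card ▸ (hj.trans (dvd_pow_self j two_ne_zero)).mul_left _)
  have g1 : g ≠ 1 := fun e => hr.one_lt.ne' (by rw [← og, e, orderOf_one])
  have rg : Reg p g := h.toDA.reg_of_pow (e := 1) (hj.mul_left _) (by rw [pow_one, ← og, pow_orderOf_eq_one])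
  obtain ⟨s, -, hs⟩ := (Nat.dvd_prime_pow hr).1 (Nat.gcd_dvd_right (f * F) (r ^ 9))
  obtain ⟨u, hu⟩ : r ^ s ∣ f * F := hs ▸ Nat.gcd_dvd_left _ _
  obtain ⟨w, hw⟩ := Int.eq_ofNat_of_zero_le (sub_nonneg.2 (h.lt g g1).le)
  have h1 : r ^ b * (r ^ b * r ^ s) ∣ cc g := by
    refine Nat.Coprime.dvd_of_dvd_mul_right (n := cl g) ?_ ⟨p * u * o ^ 2, ?_⟩
    · rw [← pow_add, ← pow_add]
      exact ((Nat.Prime.coprime_iff_not_dvd hr).2 hg).pow_left _
    · rw [cc_mul_cl, h.card, mul_assoc p, hu, e]; ring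
  have h2 := h.dvd g g1 rg
  rw [hw, ← Nat.cast_mul, Int.natCast_dvd_natCast, e, mul_assoc] at h2
  have h3 : r ^ b * r ^ s ≤ w := Nat.le_of_dvd (by have := h.lt g g1; omega)
    ((show (r ^ b * r ^ s).Coprime o by rw [← pow_add]; exact ho.pow_left _).dvd_of_dvd_mul_left
      (Nat.dvd_of_mul_dvd_mul_left (pow_pos hr.pos b) (h1.trans h2)))
  have h4 := h.ord_bd g r hr og rg
  rw [hw, ← Nat.cast_pred hr.pos] at h4
  rw [hs]
  exact ⟨(Nat.mul_le_mul_left _ h3).trans (by exact_mod_cast h4.1),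
    (Nat.mul_le_mul_left _ h3).trans (by exact_mod_cast h4.2)⟩

theorem stepN (hS : Stormer) : StepN.{u} := by
  intro G _ _ p f F j k δ X hp h4 h7 h t ht
  have t1 : t ≠ 1 := fun e => by simp [e] at ht
  have hG : Nat.card G ≠ 0 := Nat.card_pos.ne'
  have j0 : j ≠ 0 := fun e => hG (by rw [h.card, e]; rfl)
  obtain ⟨w, hw⟩ := Int.eq_ofNat_of_zero_le (sub_nonneg.2 (h.lt t t1).le)
  have w0 : 0 < w := by have := h.lt t t1; omega
  have hc : cc t = j * w := by have := h.inv_c t ht; rw [hw] at this; exact_mod_cast this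
  have hn : p * f * F * j = w * cl t := Nat.eq_of_mul_eq_mul_left (Nat.pos_of_ne_zero j0) (by
    rw [← mul_assoc j w, ← hc, cc_mul_cl, h.card]; ring)
  have ho : cl t % 2 = 1 := by
    obtain ⟨g, og, hg⟩ := exists_central (G := G) Nat.prime_two (Dvd.dvd.trans (by decide) h4)
    have e : cc g = cc t := by
      have := h.inv_c g og
      rw [h.conj g t (h.inv_conj g t og ht), ← h.inv_c t ht] at this
      exact_mod_cast this
    have := (cc_mul_cl g).trans (cc_mul_cl t).symm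
    rw [e] at this
    rw [Nat.eq_of_mul_eq_mul_left (hc ▸ Nat.mul_pos (Nat.pos_of_ne_zero j0) w0) this] at hg
    omega
  have hd : w ∣ f * F * j := (Nat.Coprime.coprime_dvd_left (hc ▸ dvd_mul_left w j) (h.cop_c t t1
    (by rw [Reg, ht]; exact Nat.coprime_two_left.2 h.odd))).dvd_of_dvd_mul_left
      ⟨cl t, by rw [← hn]; ring⟩
  obtain ⟨a, b, c, d, e⟩ := n_smooth j0 fun r hr h => h7 r hr (h.mul_left _)
  have cp : ∀ r s e : ℕ, (h : r.Coprime s := by decide) → r.Coprime (s ^ e) := fun _ _ e h => h.pow_right e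
  have b3 := h.nB (b := b) (o := 2 ^ a * 5 ^ c * 7 ^ d) Nat.prime_three (by rw [e]; ring)
    (((cp _ _ _).mul_right (cp _ _ _)).mul_right (cp _ _ _))
  have b5 := h.nB (b := c) (o := 2 ^ a * 3 ^ b * 7 ^ d) Nat.prime_five (by rw [e]; ring)
    (((cp _ _ _).mul_right (cp _ _ _)).mul_right (cp _ _ _))
  have b7 := h.nB (b := d) (o := 2 ^ a * 3 ^ b * 5 ^ c) Nat.prime_seven (by rw [e]; ring)
    (((cp _ _ _).mul_right (cp _ _ _)).mul_right (cp _ _ _))
  have hf := h.two_le_f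
  have hF := h.two_le_F
  have e1 := h.F_eq
  have e2 := h.k_eq
  have hk : 2 * f - F = p * k := by
    have : ((2 * f - F : ℕ) : ℤ) = (p * k : ℕ) := by
      rw [Nat.cast_sub (by rcases h.sign with e | e <;> omega)]; push_cast; linarith
    exact_mod_cast this
  have hk' : (2 * f - F) / p = k := by rw [hk, Nat.mul_div_cancel_left _ hp.pos]
  obtain ⟨x1, x2⟩ := h.inv_bd t ht
  rw [abs_le] at x1 x2
  obtain ⟨s1, s2⟩ : f ≤ 4375 ∧ _ := by
    refine (?_ : nP f F) hf hF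
    rcases h.sign with e | e
    · obtain rfl : F = f + 1 := by omega
      exact (n_sift f (hS f (by omega) fun r hr h => h7 r hr (h.mul_right _))).1
    · obtain rfl : f = F + 1 := by omega
      exact (n_sift F (hS F (by omega) fun r hr h => h7 r hr ((mul_comm F _ ▸ h).mul_right _))).2
  have k1 : 0 < 2 * f - F := by rcases h.sign with e | e <;> omega
  have kp : k ≤ 2 * f - F := hk ▸ Nat.le_mul_of_pos_left _ hp.pos
  have ha : 2 ^ a ≤ w := Nat.le_of_dvd w0 ((Nat.Coprime.pow_left a (Nat.coprime_two_left.2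
    (Nat.odd_iff.2 ho))).dvd_of_dvd_mul_right (hn ▸ Dvd.dvd.mul_left ⟨3 ^ b * 5 ^ c * 7 ^ d, by rw [e]; ring⟩ _))
  have := s2 p (List.mem_range.2 (Nat.lt_succ_of_le (Nat.le_of_dvd k1 ⟨k, hk⟩))) ⟨k, hk⟩ h.five
    (fun d _ h2 hd => ((Nat.dvd_prime hp).1 hd).resolve_left (by omega)) b (b3.lt (by omega) (by omega) s1) b3
    c (b5.lt (by omega) (by omega) s1) b5 d (b7.lt (by omega) (by omega) s1) b7 a
    (n_exp le_rfl (by rcases h.sign with e | e <;> omega))
  rw [← e] at this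
  have := this (by
    have := h.jsq
    rwa [← Nat.cast_pow, ← Nat.cast_pred (by positivity), Int.natCast_dvd_natCast] at this) (h.card ▸ h4) w
    (List.mem_range'_1.2 (by rcases h.sign with e | e <;> omega)) (by omega) hd (by rw [hn, Nat.mul_div_cancel_left _ w0, ho])
  rwa [show X t = f - w by omega]

end CL.Ix2
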