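/-
Project AX, step ST: Størmer's theorem on consecutive 7-smooth numbers.
-/
import Cfsg.Agent.Fgs.Ix2Defs

set_option autoImplicit false

namespace CL.Ix2

open Pell

/-- the powers of a solution of Pell's equation -/
def stPw (d x y : ℕ) : ℕ → ℕ × ℕ
  | 0 => (1, 0)
  | k + 1 => ((stPw d x y k).1 * x + d * ((stPw d x y k).2 * y), (stPw d x y k).1 * y + (stPw d x y k).2 * x)

def stBad (y : ℕ) : Bool := decide (y < 2 ^ 100) && decide (¬ y ∣ 210 ^ 100)

def stL : List ℕ := [1, 2, 3, 4, 5, 6, 7, 8, 9, 14, 15, 20, 24, 27, 35, 48, 49, 63, 80, 125, 224, 2400, 4374]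

def stChk (t : ℕ × ℕ × ℕ) : Bool :=
  decide (t.2.1 ^ 2 = 1 + t.1 * t.2.2 ^ 2) && decide (1 < t.2.1) &&
    (List.range t.2.1).all (fun x => (List.range t.2.2).all fun y => decide (x ≤ 1 ∨ x ^ 2 ≠ 1 + t.1 * y ^ 2)) &&
    [5, 6, 7, 8, 9].all (fun k => stBad (stPw t.1 t.2.1 t.2.2 k).2) &&
    [2, 3, 5, 7].all (fun l => decide (l ∣ t.1 * (stPw t.1 t.2.1 t.2.2 24).2)) &&
    [1, 2, 3, 4].all fun k => stBad (stPw t.1 t.2.1 t.2.2 k).2 || decide ((stPw t.1 t.2.1 t.2.2 k).1 % 2 = 0) ||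
      decide ((stPw t.1 t.2.1 t.2.2 k).1 / 2 ∈ stL)

def stT : List (ℕ × ℕ × ℕ) := [(2, 3, 2), (3, 2, 1), (5, 9, 4), (6, 5, 2), (7, 8, 3), (10, 19, 6), (14, 15, 4),
  (15, 4, 1), (21, 55, 12), (30, 11, 2), (35, 6, 1), (42, 13, 2), (70, 251, 30), (105, 41, 4), (210, 29, 2)]

theorem st_table : ∀ t ∈ stT, stChk t = true := by decide +kernel

theorem st_div : ∀ D < 211, D ∣ 210 → D = 1 ∨ ∃ t ∈ stT, t.1 = D := by decide +kernel

theorem st_small {r : ℕ} (hr : r.Prime) (h : r ≤ 7) : r = 2 ∨ r = 3 ∨ r = 5 ∨ r = 7 := by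
  interval_cases r <;> simp_all (config := { decide := true })

theorem st_bad {y : ℕ} (h0 : y ≠ 0) (h : ∀ r : ℕ, r.Prime → r ∣ y → r ≤ 7) : stBad y = false := by
  by_contra hb
  simp only [stBad, Bool.not_eq_false, Bool.and_eq_true, decide_eq_true_eq] at hb
  refine hb.2 ((Nat.dvd_iff_prime_pow_dvd_dvd _ _).2 fun p k hp hk => ?_)
  rcases eq_or_ne k 0 with rfl | h1
  · exact one_dvd _
  have h2 : k < 100 := (Nat.pow_lt_pow_iff_right one_lt_two).1
    ((Nat.pow_le_pow_left hp.two_le k).trans_lt ((Nat.le_of_dvd (Nat.pos_of_ne_zero h0) hk).trans_lt hb.1))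
  refine (pow_dvd_pow_of_dvd ?_ k).trans (pow_dvd_pow 210 h2.le)
  rcases st_small hp (h p hp ((dvd_pow_self p h1).trans hk)) with rfl | rfl | rfl | rfl <;> norm_num

variable {d : ℤ}

/-- the solutions whose second coordinate is divisible by `c` -/
def stH (d c : ℤ) : Subgroup (Solution₁ d) where
  carrier := {b | c ∣ b.y}
  one_mem' := dvd_zero c
  mul_mem' := fun ha hb => (dvd_add (Dvd.dvd.mul_left hb _) (Dvd.dvd.mul_right ha _)).trans (Solution₁.y_mul _ _).symm.dvd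
  inv_mem' := fun ha => (dvd_neg.2 ha).trans (Solution₁.y_inv _).symm.dvd

theorem st_cong (a : Solution₁ d) (k : ℕ) : ∃ u, (a ^ k).y = a.y * u ∧ d * a.y ^ 2 ∣ (a ^ k).x - a.x ^ k ∧
    d * a.y ^ 2 ∣ u * a.x - k * a.x ^ k := by
  induction k with
  | zero => exact ⟨0, by simp, by simp, by simp⟩
  | succ k ih =>
    obtain ⟨u, h1, ⟨v, h2⟩, ⟨w, h3⟩⟩ := ih
    refine ⟨(a ^ k).x + u * a.x, by rw [pow_succ, Solution₁.y_mul, h1]; ring, ⟨v * a.x + u, ?_⟩, ⟨(v + w) * a.x, ?_⟩⟩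
    · rw [pow_succ, Solution₁.x_mul, h1]; linear_combination a.x * h2
    · push_cast; linear_combination a.x * h2 + a.x * h3

theorem st_prime {a : Solution₁ d} (ha : IsFundamental a) {q : ℕ} (hq : q.Prime) (h7 : 7 < q)
    (h24 : ∀ l : ℕ, l.Prime → l ≤ 7 → (l : ℤ) ∣ d * (a ^ 24).y) :
    ∃ l : ℕ, l.Prime ∧ (l : ℤ) ∣ (a ^ q).y ∧ 7 < l := by
  obtain ⟨u, h1, -, h2⟩ := st_cong a q
  have h3 : (a ^ (1 : ℤ)).y < (a ^ (q : ℤ)).y := ha.y_strictMono (by exact_mod_cast hq.one_lt)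
  rw [zpow_one, zpow_natCast, h1] at h3
  have h4 : 1 < u := by nlinarith [ha.2.1]
  obtain ⟨l, hl, h5⟩ := Nat.exists_prime_and_dvd (n := u.natAbs) (by omega)
  rw [← Int.natCast_dvd] at h5
  have h6 : (l : ℤ) ∣ (a ^ q).y := h1 ▸ h5.mul_left _
  refine ⟨l, hl, h6, not_le.1 fun h => ?_⟩
  have hp := Nat.prime_iff_prime_int.1 hl
  have h8 : (l : ℤ) ∣ d * a.y ^ 2 := by
    rcases hp.dvd_or_dvd (h24 l hl h) with e | e
    · exact e.mul_right _
    · obtain ⟨s, t, hst⟩ : IsCoprime ((24 : ℕ) : ℤ) (q : ℤ) := Nat.isCoprime_iff_coprime.2 (by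
        rw [Nat.coprime_comm, hq.coprime_iff_not_dvd]
        intro h
        have := Nat.le_of_dvd (by norm_num) h
        interval_cases q <;> simp_all (config := { decide := true }))
      have : a ∈ stH d l := by
        rw [← zpow_one a, ← hst, zpow_add, mul_comm s, mul_comm t, zpow_mul, zpow_mul, zpow_natCast, zpow_natCast]
        exact mul_mem (zpow_mem (show _ ∈ stH d l from e) _) (zpow_mem (show _ ∈ stH d l from h6) _)
      exact (dvd_pow this two_ne_zero).mul_left _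
  rcases hp.dvd_or_dvd ((dvd_sub_right (h5.mul_right a.x)).1 (h8.trans h2)) with e | e
  · have := Nat.le_of_dvd hq.pos (Int.natCast_dvd_natCast.1 e)
    have := (Nat.prime_dvd_prime_iff_eq hl hq).1 (Int.natCast_dvd_natCast.1 e)
    omega
  · rw [a.prop_y] at h8
    exact hp.not_dvd_one ((dvd_sub_right (dvd_pow (hp.dvd_of_dvd_pow e) two_ne_zero)).1 h8)

theorem stormer : Stormer := by
  intro n hn h
  obtain ⟨D, s, hD, hsq⟩ := Nat.sq_mul_squarefree (n * (n + 1))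
  have h1 : D ∣ 210 := (Nat.dvd_iff_prime_pow_dvd_dvd _ _).2 fun p k hp hk => by
    rcases k with _ | _ | k
    · exact one_dvd _
    · rw [zero_add, pow_one] at hk ⊢
      rcases st_small hp (h p hp (hk.trans (Dvd.intro_left _ hD))) with rfl | rfl | rfl | rfl <;> norm_num
    · exact (hp.not_isUnit (hsq p (Dvd.dvd.trans ⟨p ^ k, by ring⟩ hk))).elim
  obtain ⟨⟨D, x, y⟩, ht, rfl⟩ := (st_div D (Nat.lt_succ_of_le (Nat.le_of_dvd (by norm_num) h1)) h1).resolve_left (by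
    rintro rfl
    rcases le_or_gt s n with h | h <;> nlinarith)
  have hc := st_table _ ht
  simp only [stChk, Bool.and_eq_true, Bool.or_eq_true, decide_eq_true_eq, List.all_eq_true, List.mem_range] at hc hD
  obtain ⟨⟨⟨⟨⟨c1, c2⟩, c3⟩, c4⟩, c5⟩, c6⟩ := hc
  let a : Solution₁ (D : ℤ) := Solution₁.mk x y (by zify at c1; rw [c1]; ring)
  have y0 : 0 < y := Nat.pos_of_ne_zero (by rintro rfl; nlinarith)
  have ha : IsFundamental a := ⟨by simpa [a] using c2, by simpa [a] using y0, fun {b} hb => not_lt.1 fun hx => by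
    have e := b.prop_x
    obtain ⟨z, hz⟩ := Int.eq_ofNat_of_zero_le (show 0 ≤ b.x by omega)
    rw [hz, ← sq_abs b.y, Int.abs_eq_natAbs] at e
    rw [hz] at hb hx
    have e' : z ^ 2 = 1 + D * b.y.natAbs ^ 2 := by exact_mod_cast e
    have hx' : z < x := by simpa [a] using hx
    refine (c3 z hx' _ (lt_of_pow_lt_pow_left₀ 2 y0.le (lt_of_mul_lt_mul_left (a := D) ?_ (Nat.zero_le _)))).elim
      (by omega) fun h => h e'
    have := Nat.pow_lt_pow_left hx' two_ne_zero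
    omega⟩
  have hpw : ∀ k, (a ^ k).x = (stPw D x y k).1 ∧ (a ^ k).y = (stPw D x y k).2 := fun k => by
    induction k with
    | zero => exact ⟨rfl, rfl⟩
    | succ k ih => rw [pow_succ, Solution₁.x_mul, Solution₁.y_mul, ih.1, ih.2]; simp [a, stPw]
  let b : Solution₁ (D : ℤ) := Solution₁.mk (2 * n + 1 : ℕ) (2 * s : ℕ) (by zify at hD; push_cast; linear_combination -4 * hD)
  obtain ⟨N, hN⟩ := ha.eq_pow_of_nonneg (a := b) (by simp only [b, Solution₁.x_mk]; positivity)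
    (by simp only [b, Solution₁.y_mk]; positivity)
  have s0 : s ≠ 0 := by rintro rfl; simp at hD; omega
  have h2 : ∀ k, k ∣ N → (a ^ k).y ∣ (2 * s : ℕ) := by
    rintro k ⟨m, rfl⟩
    exact (show b ∈ stH D (a ^ k).y from hN ▸ pow_mul a k m ▸ pow_mem (show a ^ k ∈ stH _ _ from dvd_rfl) m)
  have h3 : ∀ r : ℕ, r.Prime → r ∣ 2 * s → r ≤ 7 := fun r hr hd => (hr.dvd_mul.1 hd).elim
    (fun e => (Nat.le_of_dvd two_pos e).trans (by norm_num)) fun e => h r hr (hD ▸ (dvd_pow e two_ne_zero).mul_right _)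
  have h4 : ∀ k, k ∣ N → stBad (stPw D x y k).2 = false := fun k hk => by
    have := h2 k hk
    rw [(hpw k).2, Int.natCast_dvd_natCast] at this
    exact st_bad (ne_zero_of_dvd_ne_zero (by omega) this) fun r hr hd => h3 r hr (hd.trans this)
  have h5 : ∀ k ∈ [5, 6, 7, 8, 9], ¬ k ∣ N := fun k hk hd => by simpa [h4 k hd] using c4 k hk
  have h6 : N ∣ 12 := (Nat.dvd_iff_prime_pow_dvd_dvd _ _).2 fun p k hp hk => by
    rcases eq_or_ne k 0 with rfl | h0
    · exact one_dvd _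
    have hp' := (dvd_pow_self p h0).trans hk
    rcases le_or_gt p 7 with h7 | h7
    · rcases st_small hp h7 with rfl | rfl | rfl | rfl
      · exact (pow_dvd_pow 2 (not_lt.1 fun h => h5 8 (by simp) ((pow_dvd_pow 2 h).trans hk) : k ≤ 2)).trans (by norm_num)
      · exact (pow_dvd_pow 3 (not_lt.1 fun h => h5 9 (by simp) ((pow_dvd_pow 3 h).trans hk) : k ≤ 1)).trans (by norm_num)
      · exact (h5 5 (by simp) hp').elim
      · exact (h5 7 (by simp) hp').elim
    · obtain ⟨l, hl, e, h8⟩ := st_prime ha hp h7 fun l hl h => by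
        rw [(hpw 24).2]
        exact_mod_cast c5 l (by simpa using st_small hl h)
      exact absurd (h3 l hl (Int.natCast_dvd_natCast.1 (e.trans (h2 p hp')))) (by omega)
  have h7 : N ∈ [1, 2, 3, 4] := by
    have := Nat.le_of_dvd (by norm_num) h6
    have := h5 6 (by simp)
    interval_cases N <;> simp_all
  have h8 : (stPw D x y N).1 = 2 * n + 1 := by
    have := (hpw N).1
    rw [← hN] at this
    exact Int.natCast_inj.1 this.symm
  have h9 := c6 N h7
  rw [h4 N dvd_rfl, h8] at h9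
  rcases h9 with (h9 | h9) | h9
  · exact absurd h9 (by simp)
  · omega
  · rwa [show (2 * n + 1) / 2 = n by omega] at h9

end CL.Ix2
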