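/-
Normal subgroups whose non-central elements have maximal centralizers (helper97).
-/
import Cfsg.Agent.Fgs.ClassTwo
import Cfsg.Agent.Fgs.Camina
import Cfsg.Agent.Fgs.FrobBridge
import Cfsg.Agent.Fgs.DJT
import Cfsg.Agent.Grp.ThompsonFpf
import Cfsg.Agent.Grp.ZJ
import Cfsg.Agent.Grp.PGroupFrattini
import Cfsg.Agent.Grp.Frattini

namespace CL.Fgs

open Subgroup Cfsg CL.Grp
open scoped Pointwise commutatorElement

variable {G : Type*} [Group G]

/-- Every element of `N` outside `Z(N)` has a maximal centralizer in `G`; `f` is the quotient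
map by `Z(N)`. -/
structure MaxCent {X : Type*} [Group X] (N : Subgroup G) (f : G →* X) : Prop where
  normal : N.Normal
  surj : Function.Surjective f
  ker : ∀ g, f g = 1 ↔ g ∈ N ∧ g ∈ centralizer (N : Set G)
  max : ∀ x ∈ N, x ∉ centralizer (N : Set G) → IsCoatom (cent(x))

namespace MaxCent

variable {X : Type*} [Group X] {N : Subgroup G} {f : G →* X}

theorem ker_le (h : MaxCent N f) : f.ker ≤ N := fun g hg => ((h.ker g).1 hg).1

theorem ker_le_cent (h : MaxCent N f) {x : G} (hx : x ∈ N) : f.ker ≤ cent(x) :=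
  fun g hg => mem_cent'.2 (((h.ker g).1 hg).2 x hx)

theorem max' (h : MaxCent N f) {x : G} (hx : x ∈ N) (h1 : f x ≠ 1) : IsCoatom (cent(x)) :=
  h.max x hx fun e => h1 ((h.ker x).2 ⟨hx, e⟩)

theorem not_le (h : MaxCent N f) {x : G} (hx : x ∈ N) (h1 : f x ≠ 1) : ¬ N ≤ cent(x) :=
  fun e => h1 ((h.ker x).2 ⟨hx, fun g hg => mem_cent.1 (e hg)⟩)

theorem comap_map (h : MaxCent N f) {x : G} (hx : x ∈ N) : ((cent(x)).map f).comap f = cent(x) :=
  comap_map_eq_self (h.ker_le_cent hx)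

theorem mem_map (h : MaxCent N f) {x g : G} (hx : x ∈ N) : f g ∈ (cent(x)).map f ↔ g ∈ cent(x) := by
  rw [← mem_comap, h.comap_map hx]

theorem max_map (h : MaxCent N f) {x : G} (hx : x ∈ N) (h1 : f x ≠ 1) :
    IsCoatom ((cent(x)).map f) := by
  refine ⟨fun e => (h.max' hx h1).1 ?_, fun K hK => ?_⟩
  · rw [← h.comap_map hx, e, comap_top]
  · have : K.comap f = ⊤ := (h.max' hx h1).2 _ (lt_of_le_of_ne (map_le_iff_le_comap.1 hK.le)
      fun e => hK.ne (by rw [e, map_comap_eq_self_of_surjective h.surj]))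
    rw [← map_comap_eq_self_of_surjective h.surj K, this, ← MonoidHom.range_eq_map,
      MonoidHom.range_eq_top.2 h.surj]

theorem cent_eq (h : MaxCent N f) {x y : G} (hx : x ∈ N) (hy : y ∈ N) (h1 : f x ≠ 1)
    (h2 : f y ≠ 1) (hc : Commute x y) (ho : (orderOf x).Coprime (orderOf y)) :
    cent(x) = cent(y) := by
  have e := cent_mul_of_coprime hc ho
  have h3 : IsCoatom (cent(x * y)) := h.max' (mul_mem hx hy) fun e' =>
    h.not_le hx h1 (le_trans (fun g hg => mem_cent.2 (((h.ker _).1 e').2 g hg)) (e ▸ inf_le_left))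
  rw [(h3.le_iff.1 (e ▸ inf_le_left)).resolve_left (h.max' hx h1).1,
    (h3.le_iff.1 (e ▸ inf_le_right)).resolve_left (h.max' hy h2).1]

theorem mem_of_map_mem (h : MaxCent N f) {g : G} (hg : f g ∈ N.map f) : g ∈ N := by
  rwa [← mem_comap, comap_map_eq_self h.ker_le] at hg

theorem map_le_of_eq_one (h : MaxCent N f) {x : G} (h1 : f x = 1) :
    N.map f ≤ (cent(x)).map f :=
  map_mono fun g hg => mem_cent.2 (((h.ker x).1 h1).2 g hg)

variable [Finite G]

theorem finite (h : MaxCent N f) : Finite X := Finite.of_surjective f h.surj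

theorem exists_lift (h : MaxCent N f) {π : Set ℕ} {H : Subgroup G} {u : X} (hu : u ∈ H.map f)
    (hπ : IsPiElt π u) : ∃ x ∈ H, IsPiElt π x ∧ f x = u := by
  obtain ⟨x, hx, rfl⟩ := hu
  haveI := h.finite
  exact ⟨piPart π x, piPart_mem hx, isPiElt_piPart π x, by rw [map_piPart, piPart_eq_self hπ]⟩

theorem elementary (h : MaxCent N f) {p : ℕ} [Fact p.Prime] (hN : IsPGroup p (N.map f)) :
    IsElementaryAbelian p (N.map f) := by
  haveI := h.finite
  haveI := h.normal.map f h.surj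
  set Φ := (frattini (N.map f)).map (N.map f).subtype with hΦ
  haveI : Φ.Normal := inferInstance
  have h1 : ∀ x ∈ N, Φ ≤ (cent(x)).map f := fun x hx => by
    by_cases e : f x = 1
    · exact (map_subtype_le _).trans (h.map_le_of_eq_one e)
    by_contra hn
    have h2 := dedekind_right (A := Φ) (B := (cent(x)).map f) (C := N.map f)
      (by rw [normalizer_eq_top]; exact le_top) (map_subtype_le _)
    rw [sup_eq_top_of_isCoatom (h.max_map hx e) hn, top_inf_eq] at h2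
    have h3 := le_of_le_sup_map_frattini le_rfl inf_le_right h2.le
    exact h.not_le hx e fun g hg => (h.mem_map hx).1 (h3 (mem_map_of_mem f hg)).1
  have h2 : frattini (N.map f) = ⊥ := by
    rw [← map_eq_bot_iff_of_injective _ (N.map f).subtype_injective, eq_bot_iff]
    intro u hu
    obtain ⟨g, hg, rfl⟩ := map_subtype_le _ hu
    exact (h.ker g).2 ⟨hg, fun x hx => mem_cent'.1 ((h.mem_map hx).1 (h1 x hx hu))⟩
  obtain ⟨h3, h4⟩ := (frattini_eq_bot_iff_pGroup hN).1 h2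
  exact ⟨h3, fun a ha => congrArg Subtype.val (h4 ⟨a, ha⟩)⟩

omit [Finite G] in
theorem _root_.CL.Fgs.exists_isPiElt_of_not_isPGroup [Finite X] {q : ℕ} [Fact q.Prime]
    {H : Subgroup X} (h : ¬ IsPGroup q H) :
    ∃ p : ℕ, p.Prime ∧ p ≠ q ∧ ∃ u ∈ H, u ≠ 1 ∧ IsPiElt {p} u := by
  by_contra hn
  push Not at hn
  refine h (isPGroup_of_forall_isPiElt fun x hx p hp hd => ?_)
  by_contra hq
  have h1 : piPart {p} x = 1 := by
    by_contra e
    exact hn p hp hq _ (piPart_mem hx) e (isPiElt_piPart _ _)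
  exact piPart_eq_one_iff.1 h1 p hp hd rfl

theorem exists_isPGroup (h : MaxCent N f) {K : Subgroup X} (hK : IsMinNormal K)
    (hKN : K ≤ N.map f) : ∃ p : ℕ, p.Prime ∧ IsPGroup p K := by
  haveI := h.finite
  haveI := hK.normal
  by_contra hn
  push Not at hn
  obtain ⟨p, hp, hp2, u, hu, hu1, hup⟩ := exists_isPiElt_of_not_isPGroup (hn 2 Nat.prime_two)
  haveI := Fact.mk hp
  obtain ⟨x, hx, hxp, rfl⟩ := h.exists_lift (hKN hu) hup
  set M := (cent(x)).map f with hM
  have hcen : ∀ y ∈ M ⊓ K, IsPiElt {p}ᶜ y → M ≤ cent(y) := fun y hy hyp => by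
    obtain ⟨y, hy', hyp', rfl⟩ := h.exists_lift hy.1 hyp
    by_cases e : f y = 1
    · rw [e, cent_one]; exact le_top
    · rw [hM, h.cent_eq hx (h.mem_of_map_mem (hKN hy.2)) hu1 e (mem_cent'.1 hy')
        (hxp.coprime hyp')]
      exact map_cent_le f y
  obtain ⟨R, A, hR, -, -⟩ := exists_direct_in (p := p) (C := M ⊓ K) fun y hy hyp => by
    rw [relIndex_eq_one.2 (inf_le_left.trans (hcen y hy hyp))]
    exact hp.not_dvd_one
  have hRp : IsPGroup p R := isPGroup_of_forall_isPiElt fun u hu => ((hR u).1 hu).2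
  have hRH : R ≤ M ⊓ K := fun u hu => ((hR u).1 hu).1
  have hMR : M ≤ normalizer (R : Set X) := fun m hm => mem_normalizer_fintype fun u hu =>
    (hR _).2 ⟨mem_inf.2 ⟨M.mul_mem (M.mul_mem hm (hRH hu).1) (M.inv_mem hm),
      hK.normal.conj_mem _ (hRH hu).2 m⟩, ((hR u).1 hu).2.conj m⟩
  have key : ∀ U ≤ R, U ≠ ⊥ → M ≤ normalizer (U : Set X) →
      K ⊓ normalizer (U : Set X) ≤ M ⊓ K := fun U hU hU1 hMU => by
    rcases (h.max_map hx hu1).le_iff.1 hMU with e | e
    · haveI := normalizer_eq_top_iff.1 e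
      exact (hn p hp (hK.eq_of_le hU1 (hU.trans (hRH.trans inf_le_right)) ▸ hRp.to_le hU)).elim
    · rw [e, inf_comm]
  have hR1 : R ≠ ⊥ := fun e => hu1 (mem_bot.1 (e ▸ (hR _).2
    ⟨⟨mem_map_of_mem f (self_mem_cent x), hu⟩, hup⟩))
  have hH : HasNormalPComplement p (M ⊓ K : Subgroup X) :=
    hasNormalPComplement_iff_mul.2 fun a b ha hb => by
      rw [← isPiElt_compl_singleton_iff_coprime hp, ← isPiElt_coe_iff] at ha hb ⊢
      exact ha.mul hb (mem_cent.1 (hcen b b.2 hb a.2.1))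
  have hS : IsSylowIn p R K := isSylowIn_of_maximal (hRH.trans inf_le_right) hRp
    fun U hU h1 h2 => by
      by_contra hne
      refine (lt_inf_normalizer_of_isPGroup hU (lt_of_le_of_ne h1 (Ne.symm hne))).not_ge
        fun v hv => (hR v).2 ⟨key R le_rfl hR1 hMR ⟨h2 hv.1, hv.2⟩, isPiElt_singleton_of_mem hU hv.1⟩
  have hc : HasNormalPComplement p K := by
    refine thompson_normal_p_complement_in hp2 hS (HasNormalPComplement.of_le hH (key _
      (CL.Loc.thompsonSubgroupOf_le R) (thompsonSubgroupOf_ne_bot' (Or.inl rfl) hRp hR1)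
      (hMR.trans (CL.Loc.normalizer_le_normalizer_thompsonSubgroupOf R))))
      (HasNormalPComplement.of_le hH ?_)
    refine le_trans (inf_le_inf_left _ (le_normalizer_of_le_centralizer le_rfl))
      (key _ inf_le_left (inf_centralizer_ne_bot_of_isPGroup hRp hR1)
        (le_normalizer_inf hMR (CL.Grp.le_normalizer_centralizer' hMR)))
  rcases hK.eq_bot_or_top_of_characteristic (pResidual p K) with e | e
  · exact hn p hp (pResidual_eq_bot_iff.1 e)
  · have := hasNormalPComplement_iff_forall_mem.1 hc ⟨f x, hu⟩ (e ▸ mem_top _)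
    rw [← isPiElt_compl_singleton_iff_coprime hp, ← isPiElt_coe_iff] at this
    exact hu1 (hup.eq_one this)

theorem exists_prime_index (h : MaxCent N f) {K : Subgroup X} (hK : IsMinNormal K)
    (hKN : K ≤ N.map f) {p : ℕ} [hp : Fact p.Prime] (hKp : IsPGroup p K)
    (hN : ¬ IsPGroup p (N.map f)) :
    ∃ r : ℕ, r.Prime ∧ r ≠ p ∧ K.relIndex (N.map f) = r ∧
      (∀ y ∈ N.map f, y ∉ K → ∀ k ∈ K, Commute k y → k = 1) := by
  haveI := h.finite
  haveI := hK.normal
  obtain ⟨hab, hexp⟩ := hK.isElementaryAbelian_of_isPGroup hKp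
  set A := N ⊓ centralizer ((K.comap f : Subgroup G) : Set G) with hA
  have hmem : ∀ y ∈ N, y ∈ A ↔ K ≤ (cent(y)).map f := fun y hy =>
    ⟨fun hyA k hk => by
      obtain ⟨k, rfl⟩ := h.surj k
      exact mem_map_of_mem f (mem_cent.2 (hyA.2 k hk)),
    fun e => ⟨hy, fun k hk => mem_cent.1 ((h.mem_map hy).1 (e hk))⟩⟩
  have hne : ∀ y ∈ N, y ∉ A → f y ≠ 1 := fun y hy hyA e =>
    hyA ((hmem y hy).2 (hKN.trans (h.map_le_of_eq_one e)))
  have dich : ∀ y ∈ N, y ∉ A → K ⊔ (cent(y)).map f = ⊤ ∧ K ⊓ (cent(y)).map f = ⊥ :=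
    fun y hy hyA => by
    have h2 : ¬ K ≤ (cent(y)).map f := fun e => hyA ((hmem y hy).2 e)
    have h3 := sup_eq_top_of_isCoatom (h.max_map hy (hne y hy hyA)) h2
    haveI := normal_inf_of_abelian_of_sup_eq_top h3
    refine ⟨h3, ?_⟩
    by_contra e
    exact h2 (hK.eq_of_le e inf_le_left ▸ inf_le_right)
  have dich' : ∀ y ∈ N, y ∉ A → ∀ k, f k ∈ K → Commute k y → f k = 1 := fun y hy hyA k hk e =>
    mem_bot.1 ((dich y hy hyA).2 ▸ ⟨hk, mem_map_of_mem f (mem_cent.2 e)⟩)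
  have hKA : ∀ y, f y ∈ K → y ∈ A := fun y hy => by
    have hyN := h.mem_of_map_mem (hKN hy)
    by_contra hyA
    exact hne y hyN hyA (dich' y hyN hyA y hy (Commute.refl y))
  obtain ⟨u, hu, hu1⟩ := (bot_or_exists_ne_one K).resolve_left hK.ne_bot
  obtain ⟨x, hx, hxp, rfl⟩ := h.exists_lift (hKN hu) (isPiElt_singleton_of_mem hKp hu)
  have dec : ∀ y ∈ N, y ∉ A → ∀ a ∈ A, ∃ d ∈ A, Commute d y ∧ f (a * d⁻¹) ∈ K :=
    fun y hy hyA a ha => by
    obtain ⟨k, hk, _, ⟨d, hd, rfl⟩, e⟩ := mem_sup_of_normal_left.1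
      ((dich y hy hyA).1 ▸ mem_top (f a))
    have h1 : f (a * d⁻¹) ∈ K := by rw [map_mul, map_inv, ← e, mul_inv_cancel_right]; exact hk
    refine ⟨d, ?_, mem_cent.1 hd, h1⟩
    have := mul_mem (inv_mem (hKA _ h1)) ha
    simpa using this
  have hd' : ∀ y ∈ N, y ∉ A → ∀ d ∈ A, Commute d y → f (piPart {p}ᶜ d) = 1 :=
    fun y hy hyA d hd hc => by
    by_contra e
    have h1 : piPart {p}ᶜ d ∈ A := piPart_mem hd
    have := h.cent_eq hx h1.1 hu1 e (h1.2 x hu) (hxp.coprime (isPiElt_piPart _ _))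
    exact hu1 (dich' y hy hyA x hu (mem_cent'.1 (this ▸ mem_cent.2 (commute_piPart hc.symm))))
  obtain ⟨r, hr, hrp, v, hv, hv1, hvr⟩ := exists_isPiElt_of_not_isPGroup hN
  obtain ⟨y, hy, hyr, rfl⟩ := h.exists_lift hv hvr
  have hrp' : ({r} : Set ℕ) ⊆ {p}ᶜ := Set.singleton_subset_iff.2 hrp
  have hyA : y ∉ A := fun hyA => by
    obtain ⟨y₀, hy₀, hy₀'⟩ := SetLike.not_le_iff_exists.1 (h.not_le hx hu1)
    have h1 : y₀ ∉ A := fun e => hy₀' (mem_cent'.2 (e.2 x hu))
    obtain ⟨d, hd, hc, hk⟩ := dec y₀ hy₀ h1 y hyA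
    have h2 : IsPiElt {p} (f d) := by
      rw [← piPart_mul_piPart_compl {p} d, map_mul, hd' y₀ hy₀ h1 d hd hc, mul_one]
      exact (isPiElt_piPart _ _).map f
    have h3 := (isPiElt_singleton_of_mem hKp hk).mul h2 (Commute.map (hd.2 _ hk) f)
    rw [← map_mul, inv_mul_cancel_right] at h3
    exact hv1 (h3.eq_one (hvr.mono hrp'))
  have hAK : ∀ a ∈ A, f a ∈ K := fun a ha => by
    obtain ⟨d, hd, hc, hk⟩ := dec y hy hyA a ha
    have h1 : f (piPart {p} d) = 1 := by
      by_contra e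
      have h1 : piPart {p} d ∈ A := piPart_mem hd
      have := h.cent_eq h1.1 hy e hv1 (commute_piPart hc.symm).symm
        ((isPiElt_piPart _ _).coprime (hyr.mono hrp'))
      exact hyA ⟨hy, fun k hk => mem_cent.1 (this ▸ mem_cent.2 (h1.2 k hk))⟩
    have h2 : f d = 1 := by
      rw [← piPart_mul_piPart_compl {p} d, map_mul, hd' y hy hyA d hd hc, h1, mul_one]
    rwa [map_mul, map_inv, h2, inv_one, mul_one] at hk
  have hMx : (cent(x)).map f ⊓ N.map f ≤ K := by
    rintro _ ⟨h1, n, hn, rfl⟩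
    by_contra e
    exact hu1 (dich' n hn (fun e' => e (hAK n e')) x hu (mem_cent'.1 ((h.mem_map hx).1 h1)))
  have hgen : ∀ w ∈ N, f w ∉ K → N.map f ≤ K ⊔ zpowers (f w) := fun w hw hwK => by
    have h1 := (dich w hw fun e => hwK (hAK w e)).1
    have hBN : K ⊔ zpowers (f w) ≤ N.map f :=
      sup_le hKN (zpowers_le.2 (mem_map_of_mem f hw))
    haveI : (K ⊔ zpowers (f w)).Normal := normal_of_sup_le_normalizer h1
      (le_sup_left.trans le_normalizer) (fun m hm => by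
        refine (conj_smul_eq_self_iff _ _).1 ?_
        rw [smul_sup, (conj_smul_eq_self_iff _ _).2 (cent_le_normalizer_zpowers _
          (map_cent_le f w hm)), (conj_smul_eq_self_iff m K).2 (by
            rw [normalizer_eq_top]; trivial)])
    have h2 := dedekind_right (A := K ⊔ zpowers (f w)) (B := (cent(x)).map f) (C := N.map f)
      (by rw [normalizer_eq_top]; exact le_top) hBN
    rw [sup_eq_top_of_isCoatom (h.max_map hx hu1) fun e => hwK (hMx
      ⟨e (mem_sup_right (mem_zpowers _)), mem_map_of_mem f hw⟩), top_inf_eq] at h2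
    exact h2.le.trans (sup_le le_rfl (hMx.trans le_sup_left))
  set g := QuotientGroup.mk' K with hg
  have hgy : g (f y) ≠ 1 := fun e => hyA (hKA y ((QuotientGroup.eq_one_iff _).1 e))
  obtain ⟨s, k, hs, hk⟩ := exists_pow_orderOf_prime hgy
  have hsr : s = r := (hvr.map g).pow k s hs (hk ▸ dvd_rfl)
  subst hsr
  have hidx : K.relIndex (N.map f) = s := by
    rw [← card_map_mk', ← hk, ← Nat.card_zpowers]
    congr 2
    refine le_antisymm ((map_mono (hgen (y ^ k) (pow_mem hy k) fun e => ?_)).trans ?_)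
      (zpowers_le.2 (pow_mem (mem_map_of_mem g hv) k))
    · have e' : g (f (y ^ k)) = 1 := (QuotientGroup.eq_one_iff _).2 e
      rw [← map_pow, ← map_pow, e', orderOf_one] at hk
      exact hs.one_lt.ne hk
    · rw [Subgroup.map_sup, (Subgroup.map_eq_bot_iff _).2 (QuotientGroup.ker_mk' K).ge, bot_sup_eq,
        MonoidHom.map_zpowers, map_pow, map_pow]
  refine ⟨s, hr, hrp, hidx, ?_⟩
  rintro _ ⟨w, hw, rfl⟩ hwK k hk hc
  obtain ⟨k, rfl⟩ := h.surj k
  have hkN := h.mem_of_map_mem (hKN hk)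
  refine dich' w hw (fun e => hwK (hAK w e)) k hk ?_
  set z := k⁻¹ * w * k * w⁻¹ with hz
  have hz1 : f z = 1 := by
    simp only [hz, map_mul, map_inv]
    rw [mul_assoc _ (f w), ← hc.eq]; group
  have hzC := ((h.ker z).1 hz1).2
  have h1 := pow_conj_eq_of_conj_eq_mul (g := w) (x := k) (z := z) (hzC w hw) (by rw [hz]; group) s
  have h2 := pow_conj_eq_of_conj_eq_mul (g := k⁻¹) (x := w) (z := z) (hzC _ (inv_mem hkN))
    (by rw [hzC w hw, hz]; group) p
  have h3 : f (w ^ s) ∈ K := by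
    have := pow_index_mem (H := K.subgroupOf (N.map f)) ⟨f w, mem_map_of_mem f hw⟩
    rw [map_pow, ← hidx]
    exact this
  have h4 : f (k⁻¹ ^ p) = 1 := by rw [map_pow, map_inv]; exact hexp _ (inv_mem hk)
  rw [← (hKA _ h3).2 k hk, mul_inv_cancel_right, left_eq_mul] at h1
  rw [← ((h.ker _).1 h4).2 w hw, mul_inv_cancel_right, left_eq_mul] at h2
  have h5 : z = 1 := mem_bot.1 (mem_of_pow_mem_coprime ((Nat.coprime_primes hr hp.out).2 hrp)
    (mem_bot.2 h1) (mem_bot.2 h2))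
  calc k * w = k * (z * w) := by rw [h5, one_mul]
    _ = w * k := by rw [hz]; group

/-- Structure of `N / Z(N)`. -/
theorem cases (h : MaxCent N f) : (∃ p : ℕ, p.Prime ∧ IsElementaryAbelian p (N.map f)) ∨
    ∃ (K : Subgroup X) (p r : ℕ), p.Prime ∧ r.Prime ∧ r ≠ p ∧ K.Normal ∧ K ≠ ⊥ ∧ K ≤ N.map f ∧
      IsElementaryAbelian p K ∧ K.relIndex (N.map f) = r ∧
      ∀ y ∈ N.map f, y ∉ K → ∀ k ∈ K, Commute k y → k = 1 := by
  haveI := h.finite
  haveI := h.normal.map f h.surj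
  by_cases h0 : N.map f = ⊥
  · exact Or.inl ⟨2, Nat.prime_two, h.elementary (h0 ▸ IsPGroup.of_bot)⟩
  obtain ⟨K, hK, hKN⟩ := exists_isMinNormal_le _ h0
  obtain ⟨p, hp, hKp⟩ := h.exists_isPGroup hK hKN
  haveI := Fact.mk hp
  by_cases hN : IsPGroup p (N.map f)
  · exact Or.inl ⟨p, hp, h.elementary hN⟩
  obtain ⟨r, h1, h2, h3, h4⟩ := h.exists_prime_index hK hKN hKp hN
  exact Or.inr ⟨K, p, r, hp, h1, h2, hK.normal, hK.ne_bot, hKN,
    hK.isElementaryAbelian_of_isPGroup hKp, h3, h4⟩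

end MaxCent

/-- A group with an elementary abelian normal subgroup of prime index on which outside elements
act without fixed points is a Frobenius group. -/
theorem exists_frob_of_prime_index [Finite G] {K : Subgroup G} [K.Normal] (h0 : K ≠ ⊥) {p r : ℕ}
    (hp : p.Prime) (hr : r.Prime) (hrp : r ≠ p) (hexp : ∀ k ∈ K, k ^ p = 1) (hi : K.index = r)
    (h : ∀ y, y ∉ K → ∀ k ∈ K, Commute k y → k = 1) :
    ∃ Q : Subgroup G, IsFrobeniusComplement Q ∧ Nat.card Q = r ∧ frobeniusKernel Q = K := by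
  haveI := Fact.mk hr
  obtain ⟨y, hy⟩ := exists_prime_orderOf_dvd_card' (G := G) r (hi ▸ K.index_dvd_card)
  have hQ : Nat.card (zpowers y) = r := by rw [Nat.card_zpowers, hy]
  have h1 : K ⊓ zpowers y = ⊥ := (eq_bot_iff_forall _).2 fun u hu =>
    mem_bot.1 (mem_of_pow_mem_coprime ((Nat.coprime_primes hr hp).2 hrp)
      (mem_bot.2 (orderOf_dvd_iff_pow_eq_one.1 (hQ ▸ orderOf_dvd_natCard _ hu.2)))
      (mem_bot.2 (hexp u hu.1)))
  have h2 : K.IsComplement' (zpowers y) :=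
    isComplement'_of_card_mul_and_disjoint (by rw [hQ, ← hi, card_mul_index])
      (disjoint_iff.2 h1)
  have h3 : zpowers y ≠ ⊥ := fun e => by
    rw [e, card_bot] at hQ; exact hr.one_lt.ne hQ
  have h4 := frob_top_of_isComplement' h2 h0 h3 fun x hx hx1 => (eq_bot_iff_forall _).2
    fun k hk => h x (fun e => hx1 (mem_bot.1 (h1 ▸ ⟨e, hx⟩))) k hk.1 (mem_cent.1 hk.2)
  exact ⟨_, frob_top_isFrobeniusComplement h4, hQ, frob_top_kernel h4⟩

end CL.Fgs
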