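/-
2-groups without non-cyclic abelian subgroups of order 8 (helper20).
-/
import Cfsg.Agent.Even.NGrp.Char2a
import Cfsg.Agent.Grp.ExtraBasic
import Cfsg.Agent.Grp.PGroupMaxClass
import Cfsg.Agent.Grp.PGroupCyc

set_option autoImplicit false

open Cfsg CL.Grp CL.Odd CL.NGrp CL.Loc
open scoped Pointwise commutatorElement

namespace CL.Fgs.NC8

variable {G : Type*} [Group G] [Finite G] {A B H T U X Y : Subgroup G}

/-- `Y` contains a non-cyclic abelian subgroup of order 8 -/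
def NC (Y : Subgroup G) : Prop := ∃ A : Subgroup G, A ≤ Y ∧ IsMulCommutative A ∧ ¬ IsCyclic A ∧ Nat.card A = 8

omit [Finite G] in
theorem NC.mono (h : NC X) (hle : X ≤ Y) : NC Y := let ⟨A, h1, h2⟩ := h; ⟨A, h1.trans hle, h2⟩

theorem exists_between (hA : IsPGroup 2 A) (hU : U ≤ A) {k : ℕ} (hk : Nat.card U = 2 ^ k) (h3 : k ≤ 3)
    (h8 : 4 < Nat.card A) : ∃ B : Subgroup G, U ≤ B ∧ B ≤ A ∧ Nat.card B = 8 := by
  have h9 : 2 ^ 3 ∣ Nat.card A := by
    obtain ⟨n, hn⟩ := hA.exists_card_eq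
    rw [hn] at h8 ⊢
    exact pow_dvd_pow 2 ((Nat.pow_lt_pow_iff_right (n := 2) one_lt_two).1 h8)
  obtain ⟨K, h1, h2⟩ := Sylow.exists_subgroup_card_pow_prime_le 2 h9 (U.subgroupOf A)
    (by rw [card_subgroupOf_of_le hU, hk]) h3
  refine ⟨K.map A.subtype, ?_, Subgroup.map_subtype_le K, by
    rw [Subgroup.card_map_of_injective A.subtype_injective, h1]; rfl⟩
  rw [← Subgroup.map_subgroupOf_eq_of_le hU]
  exact Subgroup.map_mono h2

omit [Finite G] in
theorem not_cyclic_of_exp {n : ℕ} (hn : 0 < n) (h : ∀ x ∈ A, x ^ n = 1) (hc : n < Nat.card A) : ¬ IsCyclic A := fun e => by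
  obtain ⟨x, rfl⟩ := cyclic_iff.1 e
  rw [Nat.card_zpowers] at hc
  exact hc.not_ge (Nat.le_of_dvd hn (orderOf_dvd_of_pow_eq_one (h x (Subgroup.mem_zpowers x))))

theorem nc_of_exp (hA : IsPGroup 2 A) (hab : IsMulCommutative A) (h : ∀ x ∈ A, x ^ 4 = 1) (h8 : 4 < Nat.card A) :
    NC A := by
  obtain ⟨B, -, h1, h2⟩ := exists_between hA bot_le (k := 0) (by simp) (by norm_num) h8
  exact ⟨B, h1, abelian_of_le hab h1, not_cyclic_of_exp four_pos (fun x hx => h x (h1 hx)) (by omega), h2⟩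

theorem cent_four_le (hY : IsPGroup 2 Y) (hn : ¬ NC Y) (hU : IsElementaryAbelian 2 U) (h4 : Nat.card U = 4)
    (hle : U ≤ Y) : Y ⊓ C[U] ≤ U := fun x hx => by
  by_contra hx'
  have h1 : U ⊔ Subgroup.zpowers x ≤ Y := sup_le hle (Subgroup.zpowers_le.2 hx.1)
  have h2 := abelian_sup hU.1 (abelian_zpowers x) (zpowers_le_cent.2 hx.2)
  obtain ⟨B, e1, e2, e3⟩ := exists_between (hY.to_le h1) le_sup_left (k := 2) h4 (by norm_num)
    (h4 ▸ CL.Grp.card_lt_card_of_lt (lt_of_le_of_ne le_sup_left fun e =>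
      hx' (e ▸ Subgroup.mem_sup_right (Subgroup.mem_zpowers x))))
  exact hn ⟨B, e2.trans h1, abelian_of_le h2 e2,
    fun hc => not_cyclic_of_exp two_pos hU.2 (by omega) (cyclic_of_le hc e1), e3⟩

theorem cases_of_not_nc (hY : IsPGroup 2 Y) (hn : ¬ NC Y) :
    IsCyclic Y ∨ (IsElementaryAbelian 2 Y ∧ Nat.card Y = 4) ∨ ∃ (n : ℕ) (a b : Y), DQSGen n a b := by
  by_cases h : ∀ E : Subgroup Y, IsElementaryAbelian 2 E → Nat.card E ≠ 2 ^ 2
  · rcases isCyclic_or_quaternion_of_forall_ea hY h with h1 | ⟨-, n, a, b, h1, -⟩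
    · exact .inl h1
    · exact .inr (.inr ⟨n, a, b, h1⟩)
  push Not at h
  obtain ⟨E, e1, e2⟩ := h
  have hU := ea_map e1 Y.subtype
  have h4 : Nat.card (E.map Y.subtype) = 4 := by rw [Subgroup.card_map_of_injective Y.subtype_injective, e2]; rfl
  have hle := Subgroup.map_subtype_le E
  generalize E.map Y.subtype = U at hU h4 hle
  have hc := cent_four_le hY hn hU h4 hle
  rcases hle.eq_or_lt with rfl | hlt
  · exact .inr (.inl ⟨hU, h4⟩)
  obtain ⟨z, hz, h1⟩ := ne_bot_iff.1 (center_ne_bot_of_nil hY.isNilpotent (ne_bot_of_gt hlt))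
  have hzU : z ∈ U := hc ⟨hz.1, cent_anti hle hz.2⟩
  have hF : Four U U z := ⟨hU, h4, le_rfl, le_norm_self U, hzU, h1, cent_anti hle hz.2⟩
  obtain ⟨x, hx, hxn⟩ := hF.exists_notMem
  obtain ⟨m, hm⟩ := hY.exists_card_eq
  have h8 := CL.Grp.card_lt_card_of_lt hlt
  rw [h4, hm] at h8
  have h3 : 2 < m := (Nat.pow_lt_pow_iff_right (n := 2) one_lt_two).1 h8
  obtain ⟨a, b, hab⟩ := exists_dqsGen_of_card_centralizer_le (G := Y) (n := m - 1) (by omega)
    (by rw [hm, Nat.sub_add_cancel (by omega)]) ⟨x, hle hx⟩ (by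
      rw [← h4, ← card_subgroupOf_of_le hle]
      refine Subgroup.card_le_of_le fun y hy => hc ⟨y.2, hF.mem_cent hx hxn (mem_c1.2 (hz.2 y y.2)) ?_⟩
      exact mem_c1.2 (congrArg Subtype.val (mem_c1.1 hy)))
  exact .inr (.inr ⟨_, a, b, hab⟩)

/-- `H` is a quaternion group of order 8 with involution `z` -/
structure Q8 (H : Subgroup G) (z : G) : Prop where
  card : Nat.card H = 8
  extra : IsExtraspecial 2 H
  center : Z[H] = Subgroup.zpowers z
  sq : z ^ 2 = 1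
  ne : z ≠ 1
  sq_eq : ∀ y ∈ H, y ∉ Subgroup.zpowers z → y ^ 2 = z
  iso : Nonempty (H ≃* QuaternionGroup (2 ^ (0 + 1)))

theorem q8_of {a b : Y} (h : DQSGen 2 a b) (h1 : b ^ 2 = a ^ 2 ^ (2 - 1)) (h2 : b * a * b⁻¹ = a⁻¹) :
    Q8 Y ((a : G) ^ 2) := by
  have hz : orderOf ((a : G) ^ 2) = 2 := by
    rw [← Subgroup.coe_pow, Subgroup.orderOf_coe]; exact h.orderOf_z
  have hz2 : ((a : G) ^ 2) ^ 2 = 1 := orderOf_dvd_iff_pow_eq_one.1 hz.dvd
  have hc : Z[Y] = Subgroup.zpowers ((a : G) ^ 2) := by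
    rw [← center_map_subtype, h.center_eq, MonoidHom.map_zpowers]; rfl
  refine ⟨h.card, isExtraspecial_of_center h.card_center (by rw [h.commutator_eq, h.center_eq]; exact le_rfl)
    h.not_isMulCommutative h.isPGroup, hc, hz2, fun e => by simp [e] at hz,
    fun y hy hn => ?_, h.nonempty_quaternion h1 h2⟩
  have h3 : (⟨y, hy⟩ : Y) ^ 2 ∈ Subgroup.center Y := by
    rw [h.center_eq, show (2 : ℕ) ^ (2 - 1) = 2 from rfl, ← h.commutator_eq]; exact h.sq_mem_commutator _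
  have h4 : y ^ 2 ∈ Subgroup.zpowers ((a : G) ^ 2) := by
    rw [← hc, ← center_map_subtype]; exact ⟨_, h3, rfl⟩
  refine ((mem_zp2 hz2).1 h4).resolve_left fun e => hn ?_
  rw [← hc, ← center_map_subtype]
  exact ⟨⟨y, hy⟩, h.mem_center_of_sq_eq_one h1 h2 (Subtype.ext e), rfl⟩

theorem cases_normal [Y.Normal] (hY : IsPGroup 2 Y) (hn : ¬ NC Y) :
    (IsElementaryAbelian 2 Y ∧ Nat.card Y = 4) ∨
      (∃ d ∈ Y, (Subgroup.zpowers d).Normal ∧ Y ⊓ C1[d] ≤ Subgroup.zpowers d) ∨ ∃ z, Q8 Y z := by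
  rcases cases_of_not_nc hY hn with h | h | ⟨n, a, b, h⟩
  · obtain ⟨d, rfl⟩ := cyclic_iff.1 h
    exact .inr (.inl ⟨d, Subgroup.mem_zpowers d, inferInstance, inf_le_left⟩)
  · exact .inl h
  have key : (∀ g : Y, g ∉ Subgroup.zpowers a → orderOf g ≠ 2 ^ n) → ∃ d ∈ Y, (Subgroup.zpowers d).Normal ∧
      Y ⊓ C1[d] ≤ Subgroup.zpowers d := fun hg => by
    refine ⟨a, a.2, norm_eq_top_iff.1 (top_le_iff.1 fun g _ => mem_norm_of_cj_le ?_), fun y hy => ?_⟩
    · rw [cj_zpowers, Subgroup.zpowers_le]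
      have h1 : (⟨g * a * g⁻¹, Subgroup.Normal.conj_mem inferInstance _ a.2 g⟩ : Y) ∈ Subgroup.zpowers a := by
        by_contra e
        refine hg _ e ?_
        rw [← Subgroup.orderOf_coe, ← h.ord, ← Subgroup.orderOf_coe a]
        exact CL.Odd.orderOf_conj g a
      obtain ⟨k, hk⟩ := h1
      exact ⟨k, congrArg Subtype.val hk⟩
    · have h1 : (⟨y, hy.1⟩ : Y) ∈ Subgroup.zpowers a := by
        rw [← h.centralizer_zpowers, centralizer_zpowers]
        exact mem_c1.2 (Subtype.ext (mem_c1.1 hy.2))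
      obtain ⟨k, hk⟩ := h1
      exact ⟨k, congrArg Subtype.val hk⟩
  have h2 := h.two_le
  by_cases h3 : 3 ≤ n
  · refine .inr (.inl (key fun g hg e => ?_))
    have e1 := orderOf_dvd_of_mem_zpowers (h.sq_mem_of_notMem hg)
    rw [h.orderOf_z, orderOf_dvd_iff_pow_eq_one, ← pow_mul, ← orderOf_dvd_iff_pow_eq_one, e] at e1
    have := (Nat.pow_dvd_pow_iff_le_right (k := n) (l := 2) one_lt_two).1 e1
    omega
  obtain rfl : n = 2 := by omega
  rcases h.rel with ⟨e1, e2⟩ | ⟨e1, e2⟩ | ⟨e, -⟩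
  · refine .inr (.inl (key fun g hg e => ?_))
    obtain ⟨i, rfl | rfl⟩ := h.elt g
    · exact hg ⟨i, rfl⟩
    · have e3 : (a ^ i * b) ^ 2 = 1 := by
        have e4 : b * a ^ i * b⁻¹ = (a ^ i)⁻¹ := by rw [← conj_zpow, e2, inv_zpow]
        calc (a ^ i * b) ^ 2 = a ^ i * (b * a ^ i * b⁻¹) * b ^ 2 := by rw [sq, sq]; group
          _ = 1 := by rw [e4, e1]; group
      have := Nat.le_of_dvd two_pos (orderOf_dvd_of_pow_eq_one e3)
      omega
  · exact .inr (.inr ⟨_, q8_of h e1 e2⟩)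
  · omega

theorem odd_cent_cyclic {d w : G} [(Subgroup.zpowers d).Normal] (hd : IsPGroup 2 (Subgroup.zpowers d))
    (hw : Odd (orderOf w)) : w ∈ C[Subgroup.zpowers d] := by
  have h1 : orderOf (MulAut.conjNormal (H := Subgroup.zpowers d) w) = 1 := by
    obtain ⟨k, hk⟩ := hd.exists_card_eq
    have h2 := orderOf_dvd_natCard (MulAut.conjNormal (H := Subgroup.zpowers d) w)
    rw [IsCyclic.card_mulAut, hk] at h2
    have h3 : Nat.totient (2 ^ k) ∣ 2 ^ k := by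
      rcases k with _ | k
      · simp
      · rw [Nat.totient_prime_pow_succ Nat.prime_two]; simp [pow_succ]
    exact Nat.eq_one_of_dvd_coprimes (Nat.Coprime.pow_right k (Nat.coprime_two_right.2 hw))
      (orderOf_map_dvd _ w) (h2.trans h3)
  rw [orderOf_eq_one_iff] at h1
  intro x hx
  have := congrArg Subtype.val (DFunLike.congr_fun h1 ⟨x, hx⟩)
  rw [MulAut.conjNormal_apply] at this
  exact (mul_inv_eq_iff_eq_mul.1 this).symm

theorem odd_cent {d w : G} [H.Normal] [(Subgroup.zpowers d).Normal] (hH : IsPGroup 2 H) (hd : d ∈ H)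
    (hc : H ⊓ C1[d] ≤ Subgroup.zpowers d) (hw : Odd (orderOf w)) : w ∈ C[H] := fun x hx => by
  have hD := hH.to_le (Subgroup.zpowers_le.2 hd)
  have h1 := odd_cent_cyclic hD hw
  have h2 : x⁻¹ * (w * x * w⁻¹) ∈ Subgroup.zpowers d := by
    refine hc ⟨H.mul_mem (H.inv_mem hx) (Subgroup.Normal.conj_mem inferInstance _ hx w), mem_c1_iff_conj.2 ?_⟩
    have e1 : w⁻¹ * d * w = d := by rw [mul_assoc, h1 d (Subgroup.mem_zpowers d)]; group
    have e2 := h1 _ (Subgroup.Normal.conj_mem inferInstance _ (Subgroup.mem_zpowers d) x)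
    calc _ = x⁻¹ * (w * (x * (w⁻¹ * d * w) * x⁻¹)) * w⁻¹ * x := by group
      _ = d := by rw [e1, ← e2]; group
  obtain ⟨e, he, h3⟩ : ∃ e ∈ Subgroup.zpowers d, w * x * w⁻¹ = x * e := ⟨_, h2, by group⟩
  have h4 : ∀ n : ℕ, w ^ n * x * (w ^ n)⁻¹ = x * e ^ n := fun n => by
    induction n with
    | zero => simp
    | succ n ih =>
      have e3 := h1 _ (Subgroup.pow_mem _ he n)
      calc _ = w * (w ^ n * x * (w ^ n)⁻¹) * w⁻¹ := by rw [pow_succ']; group
        _ = w * x * w⁻¹ * (w * e ^ n) * w⁻¹ := by rw [ih]; group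
        _ = _ := by rw [h3, ← e3, pow_succ']; group
  have h5 := h4 (orderOf w)
  rw [pow_orderOf_eq_one, one_mul, inv_one, mul_one, left_eq_mul] at h5
  obtain ⟨k, hk⟩ := hD ⟨e, he⟩
  have h6 : e = 1 := orderOf_eq_one_iff.1 (Nat.eq_one_of_dvd_coprimes
    (Nat.Coprime.pow_right k (Nat.coprime_two_right.2 hw)) (orderOf_dvd_of_pow_eq_one h5)
    (orderOf_dvd_of_pow_eq_one (congrArg Subtype.val hk)))
  rw [h6, mul_one] at h3
  exact (mul_inv_eq_iff_eq_mul.1 h3).symm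

theorem card_le_eight (hT : IsPGroup 2 T) (hU : IsElementaryAbelian 2 U) (h4 : Nat.card U = 4) (hle : U ≤ T)
    (hn : T ≤ N[U]) (hc : T ⊓ C[U] ≤ U) : Nat.card T ≤ 8 := by
  obtain ⟨z, hz⟩ := exists_four_of hT hU h4 hle hn
  have h1 := hz.relIndex_le le_rfl
  have h2 := card_inf_mul_relIndex C[U] T
  have h3 := Subgroup.card_le_of_le (inf_comm T C[U] ▸ hc)
  nlinarith

omit [Finite G] in
theorem relIndex_le_two (h : ∀ a ∈ B, ∀ b ∈ B, a ∉ H → b ∉ H → a * b ∈ H) : H.relIndex B ≤ 2 := by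
  by_cases h1 : B ≤ H
  · rw [Subgroup.relIndex_eq_one.2 h1]; omega
  obtain ⟨a, ha, hn⟩ := SetLike.not_le_iff_exists.1 h1
  refine le_of_eq (Subgroup.index_eq_two_iff.2 ⟨⟨a, ha⟩, fun b => ?_⟩)
  by_cases hb : (b : G) ∈ H
  · exact Or.inr ⟨hb, fun e => hn ((Subgroup.mul_mem_cancel_left _ hb).1 e)⟩
  · exact Or.inl ⟨h b b.2 a ha hb hn, hb⟩

namespace Q8
variable {z : G} (h : Q8 H z)
include h

omit [Finite G] in
theorem card_z : Nat.card (Subgroup.zpowers z) = 2 := by rw [Nat.card_zpowers, orderOf_eq_prime h.sq h.ne]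

omit [Finite G] in
theorem ord {y : G} (hy : y ∈ H) (hn : y ∉ Subgroup.zpowers z) : orderOf y = 4 :=
  orderOf_eq_prime_pow (p := 2) (n := 1) (by rw [pow_one, h.sq_eq y hy hn]; exact h.ne)
    (by rw [show 2 ^ (1 + 1) = 2 * 2 from rfl, pow_mul, h.sq_eq y hy hn, h.sq])

omit [Finite G] in
theorem not_abelian : ¬ IsMulCommutative H := extra_not_isMulCommutative h.extra

theorem card_le_four {K : Subgroup G} (hK : K < H) : Nat.card K ≤ 4 := by
  by_contra e
  have h1 := pow_succ_le_card_of_lt (k := 2) (h.extra.1.1.to_le hK.le) (by omega)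
  have h2 := CL.Grp.card_lt_card_of_lt hK
  rw [h.card] at h2
  omega

theorem eq_zpowers {K : Subgroup G} (hK : K < H) {y : G} (hy : y ∈ K) (hn : y ∉ Subgroup.zpowers z) :
    Subgroup.zpowers y = K :=
  Subgroup.eq_of_le_of_card_ge (Subgroup.zpowers_le.2 hy)
    (by rw [Nat.card_zpowers, h.ord (hK.le hy) hn]; exact h.card_le_four hK)

theorem abelian_of_lt {K : Subgroup G} (hK : K < H) : IsMulCommutative K := by
  by_cases e : K ≤ Subgroup.zpowers z
  · exact abelian_of_le (abelian_zpowers z) e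
  · obtain ⟨y, hy, hn⟩ := SetLike.not_le_iff_exists.1 e
    exact h.eq_zpowers hK hy hn ▸ abelian_zpowers y

/-- a self-centralising normal `Q₈` -/
theorem not_nc [H.Normal] (hc : C[H] ≤ H) : ¬ NC (⊤ : Subgroup G) := by
  rintro ⟨B, -, hB, hnc, h8⟩
  have hZ : (Subgroup.zpowers z).Normal := h.center ▸ inferInstance
  have hT : IsPGroup 2 ↥(B ⊔ H) := (IsPGroup.of_card (n := 3) h8).to_sup_of_normal_right h.extra.1.1
  have hBH : ¬ B ≤ H := fun e => h.not_abelian (Subgroup.eq_of_le_of_card_ge e (by rw [h8, h.card]) ▸ hB)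
  have inn : ∀ β : G, ⁅Subgroup.zpowers β, H⁆ ≤ Subgroup.zpowers z → β ∈ H := fun β hβ =>
    sup_le le_rfl hc (extra_mem_sup_centralizer h.extra fun x hx =>
      h.center ▸ hβ (Subgroup.commutator_mem_commutator (Subgroup.mem_zpowers β) hx))
  have hne : H ≠ ⊥ := fun e => by have := h.card; rw [e, Subgroup.card_bot] at this; omega
  have hK := comm_lt_of_nil hT.isNilpotent le_sup_right Subgroup.le_normalizer_of_normal hne
  obtain ⟨β, hβ, hβH⟩ := SetLike.not_le_iff_exists.1 hBH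
  have cK : ∀ t ∈ B, ∀ x ∈ H, ⁅t, x⁆ ∈ ⁅H, B ⊔ H⁆ := fun t ht x hx => by
    rw [Subgroup.commutator_comm]; exact Subgroup.commutator_mem_commutator (Subgroup.mem_sup_left ht) hx
  have hKZ : ¬ ⁅H, B ⊔ H⁆ ≤ Subgroup.zpowers z := fun e => hβH (inn β (by
    rw [Subgroup.commutator_comm]
    exact (Subgroup.commutator_mono le_rfl (Subgroup.zpowers_le.2 (Subgroup.mem_sup_left hβ))).trans e))
  have hK2 := comm_lt_of_nil hT.isNilpotent (hK.le.trans le_sup_right) (right_le_norm_comm _ _)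
    fun e => hKZ (e ▸ bot_le)
  generalize ⁅H, B ⊔ H⁆ = K at hK cK hKZ hK2
  have hK3 : ⁅K, B ⊔ H⁆ ≤ Subgroup.zpowers z := fun u hu => by
    by_contra e
    exact hK2.not_ge ((h.eq_zpowers hK (hK2.le hu) e).ge.trans (Subgroup.zpowers_le.2 hu))
  have clA : ∀ t ∈ B, ∀ x ∈ H, x ∉ K → ⁅t, x⁆ ∈ Subgroup.zpowers z → t ∈ H := fun t ht x hx hn hm => inn t (by
    have e1 : K ⊔ Subgroup.zpowers x = H := by
      by_contra e
      obtain ⟨y, hy, hyn⟩ := SetLike.not_le_iff_exists.1 hKZ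
      have e2 := h.eq_zpowers (lt_of_le_of_ne (sup_le hK.le (Subgroup.zpowers_le.2 hx)) e)
        (Subgroup.mem_sup_left hy) hyn
      rw [h.eq_zpowers hK hy hyn] at e2
      exact hn (e2 ▸ Subgroup.mem_sup_right (Subgroup.mem_zpowers x))
    rw [← e1]
    refine CL.Grp.commutator_sup_right_le ?_ ?_
    · rw [Subgroup.commutator_comm]
      exact (Subgroup.commutator_mono le_rfl (Subgroup.zpowers_le.2 (Subgroup.mem_sup_left ht))).trans hK3
    · rw [Subgroup.zpowers_eq_closure t, Subgroup.zpowers_eq_closure x, commutator_closure_le_iff]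
      rintro _ rfl _ rfl
      exact hm)
  obtain ⟨x, hx, hxK⟩ := SetLike.exists_of_lt hK
  obtain ⟨y, hy, hyn⟩ := SetLike.not_le_iff_exists.1 hKZ
  have hzK : Subgroup.zpowers z ≤ K := Subgroup.zpowers_le.2 (h.sq_eq y (hK.le hy) hyn ▸ K.pow_mem hy 2)
  have hi : (Subgroup.zpowers z).relIndex K = 2 := by
    have e1 := card_eq_relIndex_mul_card hzK
    rw [h.card_z, ← h.eq_zpowers hK hy hyn, Nat.card_zpowers, h.ord (hK.le hy) hyn, h.eq_zpowers hK hy hyn] at e1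
    omega
  have clB : ∀ a ∈ B, ∀ b ∈ B, a ∉ H → b ∉ H → a * b ∈ H := fun a ha b hb ha' hb' => by
    refine clA _ (B.mul_mem ha hb) x hx hxK ?_
    have e1 : ⁅a * b, x⁆ = ⁅⁅b, x⁆, a⁆⁻¹ * (⁅b, x⁆ * ⁅a, x⁆) := by simp only [commutatorElement_def]; group
    rw [e1]
    refine mul_mem (inv_mem (hK3 (Subgroup.commutator_mem_commutator (cK b hb x hx) (Subgroup.mem_sup_left ha)))) ?_
    exact (mul_mem_iff_of_relIndex_two hi (cK b hb x hx) (cK a ha x hx)).2
      (iff_of_false (fun e => hb' (clA b hb x hx hxK e)) fun e => ha' (clA a ha x hx hxK e))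
  obtain ⟨u, hu, hun⟩ : ∃ u ∈ H ⊓ B, u ∉ Subgroup.zpowers z := SetLike.not_le_iff_exists.1 fun e => by
    have e1 := Subgroup.card_le_of_le e
    have e2 := card_inf_mul_relIndex H B
    have e3 := relIndex_le_two clB
    rw [h.card_z] at e1
    nlinarith
  have e4 := commutatorElement_eq_one_iff_mul_comm.2 (abelian_iff_comm.1 hB β hβ u hu.2)
  have huK : u ∈ K := by
    by_contra e
    exact hβH (clA β hβ u hu.1 e (e4 ▸ one_mem _))
  have e5 : ⁅β, x⁆ ∈ C1[β] := by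
    refine (show K ≤ C1[β] from ?_) (cK β hβ x hx)
    rw [← h.eq_zpowers hK huK hun]
    exact Subgroup.zpowers_le.2 (mem_c1.2 (abelian_iff_comm.1 hB u hu.2 β hβ))
  have e6 : ⁅β ^ 2, x⁆ = z := by
    rw [comm_pow_left (mem_c1_iff_commute.1 e5).symm]
    exact h.sq_eq _ (hK.le (cK β hβ x hx)) fun e => hβH (clA β hβ x hx hxK e)
  have e7 : β ^ 2 ∉ Subgroup.zpowers z := fun e => by
    rw [← h.center] at e
    exact h.ne (e6 ▸ commutatorElement_eq_one_iff_mul_comm.2 (e.2 x hx).symm)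
  have e8 := h.ord (by rw [_root_.sq]; exact clB β hβ β hβ hβH hβH) e7
  have e9 : orderOf β = 2 ^ (2 + 1) := orderOf_eq_prime_pow (fun e => by
      have : (β ^ 2) ^ 2 = 1 := by rw [← pow_mul]; exact e
      have := Nat.le_of_dvd two_pos (orderOf_dvd_of_pow_eq_one this)
      omega)
    (by rw [show 2 ^ (2 + 1) = 2 * 4 from rfl, pow_mul, ← e8, pow_orderOf_eq_one])
  exact hnc (cyclic_iff.2 ⟨β, Subgroup.eq_of_le_of_card_ge (Subgroup.zpowers_le.2 hβ)
    (by rw [Nat.card_zpowers, e9, h8]; rfl)⟩)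

end Q8

end CL.Fgs.NC8
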