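/-
Solvable groups minimal with a non-cyclic abelian subgroup of order 8 (helper20).
-/
import Cfsg.Agent.Fgs.NC8a
import Cfsg.Agent.Grp.Hall
import Cfsg.Agent.Grp.Fitting
import Cfsg.Agent.Grp.PGroupFrattini
import Cfsg.Agent.Grp.Frattini
import Mathlib.GroupTheory.Transfer

set_option autoImplicit false

open Cfsg CL.Grp CL.Odd CL.NGrp CL.Loc
open scoped Pointwise commutatorElement

namespace CL.Fgs.NC8

variable {G : Type*} [Group G] [Finite G] {A B H T U W X Y : Subgroup G}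

/-- the minimality hypothesis, `W` a Hall `2'`-subgroup -/
structure Min (W : Subgroup G) : Prop where
  odd : Odd (Nat.card W)
  top : ∀ Y : Subgroup G, NC Y → Y ⊔ W = ⊤
  ex : NC (⊤ : Subgroup G)

theorem exists_min [Group.IsSolvable G] (h8 : NC (⊤ : Subgroup G))
    (hmin : ∀ R : Subgroup G, R ≠ ⊤ → (∃ k : ℕ, R.index = 2 ^ k) → ¬ NC R) : ∃ W : Subgroup G, Min W := by
  obtain ⟨W, h1, h2⟩ := exists_piHall_of_solvable {2}ᶜ G
  refine ⟨W, Nat.not_even_iff_odd.1 fun e => h1 2 Nat.prime_two e.two_dvd rfl, fun Y hY => ?_, h8⟩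
  by_contra e
  refine hmin _ e ⟨_, Nat.eq_prime_pow_of_unique_prime_dvd Subgroup.index_ne_zero_of_finite fun {q} hq hd => ?_⟩
    (hY.mono le_sup_left)
  by_contra e2
  exact h2 q hq e2 (hd.trans (Subgroup.index_dvd_of_le le_sup_right))

theorem Min.eq (h : Min W) (X : Sylow 2 G) (hY : IsPGroup 2 Y) (hW : W ≤ N[Y]) (hn : NC Y) :
    Y.Normal ∧ Y = X := by
  have h1 := h.top Y hn
  have h2 : Y.Normal := norm_eq_top_iff.1 (top_le_iff.1 (h1 ▸ sup_le (le_norm_self Y) hW))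
  refine ⟨h2, Subgroup.eq_of_le_of_card_ge (hY.le_sylow_of_normal X) ?_⟩
  have h3 := card_sup_dvd hW
  rw [sup_comm, h1, Subgroup.card_top] at h3
  obtain ⟨k, hk⟩ := X.isPGroup'.exists_card_eq
  exact Nat.le_of_dvd Nat.card_pos ((hk ▸ Nat.Coprime.pow_left k (Nat.coprime_two_left.2 h.odd)).dvd_of_dvd_mul_left
    ((Subgroup.card_subgroup_dvd_card _).trans h3))

theorem Min.odd_mem (h : Min W) {w : G} (hw : w ∈ W) : Odd (orderOf w) :=
  h.odd.of_dvd_nat (Subgroup.orderOf_dvd_natCard W hw)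

theorem Min.normal [Group.IsSolvable G] (h : Min W) (hO : pPrimeCore 2 G = ⊥) (X : Sylow 2 G) :
    (X : Subgroup G).Normal := by
  have hc := centralizer_pCore_le_of_isSolvable hO
  have hH : IsPGroup 2 (pCore 2 G) := pCore_isPGroup 2 G
  have hN : (pCore 2 G).Normal := inferInstance
  generalize pCore 2 G = H at hc hH hN
  by_cases hn : NC H
  · exact (h.eq X hH Subgroup.le_normalizer_of_normal hn).2 ▸ hN
  obtain ⟨B, -, hB, hnc, h8⟩ := h.ex
  have hB2 : IsPGroup 2 B := IsPGroup.of_card (n := 3) h8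
  rcases cases_normal hH hn with ⟨e1, e2⟩ | ⟨d, hd, e1, e2⟩ | ⟨z, e⟩
  · have e3 := card_le_eight (hB2.to_sup_of_normal_right hH) e1 e2 le_sup_right Subgroup.le_normalizer_of_normal
      (inf_le_right.trans hc)
    have e4 : B = B ⊔ H := Subgroup.eq_of_le_of_card_ge le_sup_left (h8 ▸ e3)
    have e5 : B ≤ H := fun x hx => hc fun y hy => abelian_iff_comm.1 hB y (e4 ▸ Subgroup.mem_sup_right hy) x hx
    have := Subgroup.card_le_of_le e5
    omega
  · have e3 := h.eq X hB2 (fun w hw => by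
      obtain ⟨k, hk⟩ := hH ⟨w, hc (odd_cent hH hd e2 (h.odd_mem hw))⟩
      rw [orderOf_eq_one_iff.1 (Nat.eq_one_of_dvd_coprimes (Nat.Coprime.pow_right k (Nat.coprime_two_right.2
        (h.odd_mem hw))) dvd_rfl (orderOf_dvd_of_pow_eq_one (congrArg Subtype.val hk)))]
      exact one_mem _) ⟨B, le_rfl, hB, hnc, h8⟩
    exact e3.2 ▸ e3.1
  · exact absurd h.ex (e.not_nc hc)

/-- the normal non-abelian Sylow 2-subgroup -/
structure St (X : Subgroup G) : Prop where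
  pg : IsPGroup 2 X
  nrm : X.Normal
  nc : NC X
  na : ¬ IsMulCommutative X
  lt : ∀ Y : Subgroup G, Y.Normal → Y < X → ¬ NC Y
  odd : ¬ ∀ w : G, Odd (orderOf w) → w ∈ C[X]
  idx : Odd X.index

theorem Min.st (h : Min W) (X : Sylow 2 G) (hN : (X : Subgroup G).Normal) (hna : ¬ IsMulCommutative X) :
    St (X : Subgroup G) := by
  obtain ⟨B, -, hB, hnc, h8⟩ := h.ex
  have hB2 : IsPGroup 2 B := IsPGroup.of_card (n := 3) h8
  have hle : B ≤ X := le_sup_left.trans (X.is_maximal' (hB2.to_sup_of_normal_right X.isPGroup') le_sup_right).le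
  refine ⟨X.isPGroup', hN, ⟨B, hle, hB, hnc, h8⟩, hna, fun Y hY hlt hn => hlt.ne
    (h.eq X (X.isPGroup'.to_le hlt.le) Subgroup.le_normalizer_of_normal hn).2, fun e => hna ?_,
    Nat.not_even_iff_odd.1 fun e => X.not_dvd_index e.two_dvd⟩
  exact (h.eq X hB2 (fun w hw => cent_le_norm B (cent_anti hle (e w (h.odd_mem hw)))) ⟨B, le_rfl, hB, hnc, h8⟩).2 ▸ hB

omit [Finite G] in
theorem cent_of_normal {z : G} (hz : z ^ 2 = 1) (hN : (Subgroup.zpowers z).Normal) (g : G) : g * z * g⁻¹ = z := by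
  rcases (mem_zp2 hz).1 (hN.conj_mem _ (Subgroup.mem_zpowers z) g) with e | e
  · rw [e, eq_comm, ← conj_eq_one_iff (a := g), e]
  · exact e

omit [Finite G] in
theorem mem_of_odd {g : G} {n : ℕ} (h2 : g ^ 2 ∈ H) (hn : g ^ n ∈ H) (ho : Odd n) : g ∈ H := by
  obtain ⟨k, rfl⟩ := ho
  rwa [pow_succ, pow_mul, H.mul_mem_cancel_left (H.pow_mem h2 k)] at hn

/-- the elements of `Z(X)` with square in `K` -/
def sqPre (X K : Subgroup G) : Subgroup G where
  carrier := {c | c ∈ Z[X] ∧ c ^ 2 ∈ K}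
  one_mem' := ⟨one_mem _, by simp⟩
  mul_mem' := fun {a b} ha hb => ⟨mul_mem ha.1 hb.1, by
    rw [Commute.mul_pow (hb.1.2 a ha.1.1)]; exact mul_mem ha.2 hb.2⟩
  inv_mem' := fun {a} ha => ⟨inv_mem ha.1, by rw [inv_pow]; exact inv_mem ha.2⟩

instance (X K : Subgroup G) [X.Normal] [K.Normal] : (sqPre X K).Normal :=
  ⟨fun a ha g => ⟨Subgroup.Normal.conj_mem inferInstance _ ha.1 g, by
    rw [conj_pow]; exact Subgroup.Normal.conj_mem inferInstance _ ha.2 g⟩⟩

namespace St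
variable (h : St X)
include h

theorem card_gt : 8 < Nat.card X := by
  obtain ⟨B, hle, hB, -, h8⟩ := h.nc
  exact h8 ▸ CL.Grp.card_lt_card_of_lt (lt_of_le_of_ne hle fun e => h.na (e ▸ hB))

theorem le_center [Y.Normal] (hle : Y ≤ X) (hY : IsMulCommutative Y) : Y ≤ Z[X] := by
  have := h.nrm
  by_contra hn
  have h1 : X ⊓ C[Y] < X := lt_of_le_of_ne inf_le_left fun e => hn (le_inf hle (le_cent_comm.1 (inf_eq_left.1 e)))
  have h2 : Y ≤ X ⊓ C[Y] := le_inf hle (abelian_iff.1 hY)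
  rcases cases_normal (h.pg.to_le h1.le) (h.lt _ inferInstance h1) with ⟨e1, e2⟩ | ⟨d, hd, e1, e2⟩ | ⟨z, e⟩
  · exact h.card_gt.not_ge (card_le_eight h.pg e1 e2 h1.le Subgroup.le_normalizer_of_normal
      (inf_le_inf_left X (cent_anti h2)))
  · have e3 : Y ≤ Subgroup.zpowers d := fun y hy => e2 ⟨h2 hy, mem_c1.2 (hd.2 y hy)⟩
    refine h.odd fun w hw => odd_cent h.pg hd.1 (fun x hx => e2 ⟨⟨hx.1, cent_anti e3 ?_⟩, hx.2⟩) hw
    rw [centralizer_zpowers]; exact hx.2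
  · have e1 : (Subgroup.zpowers z).Normal := e.center ▸ inferInstance
    refine hn (le_inf hle fun y hy x _ => ?_)
    have e2 : y ∈ Z[X ⊓ C[Y]] := ⟨h2 hy, fun u hu => (hu.2 y hy).symm⟩
    rcases (mem_zp2 e.sq).1 (e.center ▸ e2) with rfl | rfl
    · simp
    · exact mul_inv_eq_iff_eq_mul.1 (cent_of_normal e.sq e1 x)

theorem cases [Y.Normal] (hlt : Y < X) : Y ≤ Z[X] ∨ ∃ z, Q8 Y z := by
  rcases cases_normal (h.pg.to_le hlt.le) (h.lt _ inferInstance hlt) with ⟨e1, -⟩ | ⟨d, hd, e1, e2⟩ | e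
  · exact .inl (h.le_center hlt.le e1.1)
  · have e3 := h.le_center (Subgroup.zpowers_le.2 (hlt.le hd)) (abelian_zpowers d)
    exact .inl fun y hy => e3 (e2 ⟨hy, mem_c1.2 ((e3 (Subgroup.mem_zpowers d)).2 y (hlt.le hy))⟩)
  · exact .inr e

omit [Finite G] in
theorem center_lt : Z[X] < X := lt_of_le_of_ne inf_le_left fun e => h.na (abelian_iff.2 (inf_eq_left.1 e))

theorem card_le_four (hY : Y ≤ Z[X]) [Y.Normal] (h4 : ∀ y ∈ Y, y ^ 4 = 1) : Nat.card Y ≤ 4 := by
  by_contra e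
  exact h.lt Y inferInstance (hY.trans_lt h.center_lt) (nc_of_exp (h.pg.to_le (hY.trans inf_le_left))
    (abelian_of_le (abelian_center X) hY) h4 (by omega))

theorem exists_cen {z : G} (hz : z ^ 2 = 1) (hne : z ≠ 1) (hN : (Subgroup.zpowers z).Normal) (hzZ : z ∈ Z[X])
    (hn : ¬ Z[X] ≤ Subgroup.zpowers z) : ∃ c ∈ Z[X], c ∉ Subgroup.zpowers z ∧ c ^ 2 ∈ Subgroup.zpowers z ∧
      ∀ g : G, g * c * g⁻¹ = c := by
  classical
  have := h.nrm
  obtain ⟨x, hx, hxn⟩ := SetLike.not_le_iff_exists.1 hn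
  have hex : ∃ n : ℕ, x ^ 2 ^ n ∈ Subgroup.zpowers z := by
    obtain ⟨k, hk⟩ := h.pg ⟨x, hx.1⟩
    exact ⟨k, by rw [show x ^ 2 ^ k = 1 from congrArg Subtype.val hk]; exact one_mem _⟩
  obtain ⟨n, hn1⟩ : ∃ n, Nat.find hex = n + 1 := Nat.exists_eq_succ_of_ne_zero fun e =>
    hxn (by simpa [e] using Nat.find_spec hex)
  have h1 : x ^ 2 ^ n ∉ Subgroup.zpowers z := Nat.find_min hex (by omega)
  have h2 : (x ^ 2 ^ n) ^ 2 ∈ Subgroup.zpowers z := by rw [← pow_mul, ← pow_succ, ← hn1]; exact Nat.find_spec hex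
  have h3 : x ^ 2 ^ n ∈ Z[X] := pow_mem hx _
  generalize x ^ 2 ^ n = c at h1 h2 h3
  have hc : c ∈ sqPre X (Subgroup.zpowers z) := ⟨h3, h2⟩
  have h4 : Subgroup.zpowers z ≤ sqPre X (Subgroup.zpowers z) :=
    Subgroup.zpowers_le.2 ⟨hzZ, pow_mem (Subgroup.mem_zpowers z) 2⟩
  have h5 := h.card_le_four (Y := sqPre X (Subgroup.zpowers z)) (fun y hy => hy.1) fun y hy => by
    rw [show 4 = 2 * 2 from rfl, pow_mul]
    rcases (mem_zp2 hz).1 hy.2 with e | e <;> simp [e, hz]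
  have h6 := card_eq_relIndex_mul_card h4
  rw [Nat.card_zpowers, orderOf_eq_prime hz hne] at h6
  have h7 : (Subgroup.zpowers z).relIndex (sqPre X (Subgroup.zpowers z)) = 2 := by
    have e1 : (Subgroup.zpowers z).relIndex (sqPre X (Subgroup.zpowers z)) ≠ 1 :=
      fun e => h1 (Subgroup.relIndex_eq_one.1 e ⟨h3, h2⟩)
    have e2 : 0 < Nat.card (sqPre X (Subgroup.zpowers z)) := Nat.card_pos
    omega
  refine ⟨c, h3, h1, h2, fun g => mem_c1_iff_conj.1 (mem_of_odd ?_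
    (mem_c1.2 (h3.2 _ (X.pow_index_mem g))) h.idx)⟩
  have h8 : c⁻¹ * (g * c * g⁻¹) ∈ Subgroup.zpowers z :=
    (mul_mem_iff_of_relIndex_two h7 (inv_mem hc) (Subgroup.Normal.conj_mem inferInstance _ hc g)).2
      (iff_of_false (fun e => h1 (inv_mem_iff.1 e)) fun e => h1 (by simpa [mul_assoc] using hN.conj_mem _ e g⁻¹))
  refine mem_c1_iff_conj.2 ?_
  have h9 : g ^ 2 * c * (g ^ 2)⁻¹ = c * (c⁻¹ * (g * c * g⁻¹)) * (g * (c⁻¹ * (g * c * g⁻¹)) * g⁻¹) := by
    rw [sq]; group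
  rcases (mem_zp2 hz).1 h8 with e | e
  · rw [h9, e]; group
  · rw [h9, e, cent_of_normal hz hN, mul_assoc, ← sq, hz, mul_one]

theorem extra (hc : ⁅X, X⁆ ≤ Z[X]) (h2 : Nat.card ↥Z[X] = 2) : IsExtraspecial 2 X ∧ 32 ≤ Nat.card X := by
  have h1 : IsExtraspecial 2 X := isExtraspecial_of_center
    (by rw [← h2, ← center_map_subtype, Subgroup.card_map_of_injective X.subtype_injective])
    (by rwa [← Subgroup.map_le_map_iff_of_injective X.subtype_injective, Subgroup.map_subtype_commutator,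
      center_map_subtype]) h.na h.pg
  obtain ⟨n, -, hn⟩ := extra_card h1
  have h3 := h.card_gt
  rw [hn] at h3 ⊢
  have h4 : 3 < 2 * n + 1 := (Nat.pow_lt_pow_iff_right (n := 3) one_lt_two).1 h3
  exact ⟨h1, Nat.pow_le_pow_right (i := 5) two_pos (by omega)⟩

theorem q8_comm [A.Normal] {z : G} (hA : Q8 A z) (hle : A ≤ X) : ⁅A, X⁆ ≤ Z[X] := by
  have := h.nrm
  have hK := comm_lt_of_nil h.pg.isNilpotent hle Subgroup.le_normalizer_of_normal
    fun e => by have := hA.card; rw [e, Subgroup.card_bot] at this; omega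
  exact h.le_center (hK.le.trans hle) (hA.abelian_of_lt hK)

theorem caseA [A.Normal] {z : G} (hA : Q8 A z) (hlt : A < X) :
    (IsExtraspecial 2 X ∧ 32 ≤ Nat.card X) ∨ (A.relIndex X = 2 ∧ A ⊔ (X ⊓ C[A]) = X) := by
  have := h.nrm
  have hN : (Subgroup.zpowers z).Normal := hA.center ▸ inferInstance
  have hzA : Subgroup.zpowers z ≤ A := hA.center ▸ inf_le_left
  have hz : z ∈ Z[X] := h.le_center (hzA.trans hlt.le) (abelian_zpowers z) (Subgroup.mem_zpowers z)
  have hK := h.q8_comm hA hlt.le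
  have hX : A ⊔ (X ⊓ C[A]) = X := le_antisymm (sup_le hlt.le inf_le_left) fun x hx => by
    obtain ⟨a, ha, c, hc, rfl⟩ := Subgroup.mem_sup_of_normal_left.1 (extra_mem_sup_centralizer hA.extra (g := x)
      fun a ha => by
        have e : ⁅x, a⁆ ∈ ⁅A, X⁆ := by
          rw [Subgroup.commutator_comm]; exact Subgroup.commutator_mem_commutator hx ha
        exact ⟨Subgroup.commutator_le_left A X e, cent_anti hlt.le (hK e).2⟩)
    exact Subgroup.mul_mem_sup ha ⟨(X.mul_mem_cancel_left (hlt.le ha)).1 hx, hc⟩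
  have hC : X ⊓ C[A] < X := lt_of_le_of_ne inf_le_left fun e =>
    hA.not_abelian (abelian_iff.2 (hlt.le.trans (inf_eq_left.1 e)))
  rcases h.cases hC with e | ⟨z', e⟩
  · obtain ⟨c, c1, c2, c3, c4⟩ := h.exists_cen hA.sq hA.ne hN hz fun e' =>
      hlt.not_ge (hX ▸ sup_le le_rfl (e.trans (e'.trans hzA)))
    have c5 : c ∉ A := fun e' => c2 (hA.center ▸ ⟨e', cent_anti hlt.le c1.2⟩)
    have c0 : (Subgroup.zpowers c).Normal := norm_eq_top_iff.1 (top_le_iff.1 fun g _ => mem_norm_of_cj_le (by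
      rw [cj_zpowers, c4]))
    have c6 : (A ⊔ Subgroup.zpowers c).Normal := inferInstance
    obtain ⟨a, ha, han⟩ : ∃ a ∈ A, a ∉ Subgroup.zpowers z := SetLike.not_le_iff_exists.1 fun e' =>
      hA.not_abelian (abelian_of_le (abelian_zpowers z) e')
    have c7 : Subgroup.zpowers a ⊔ Subgroup.zpowers c ≤ A ⊔ Subgroup.zpowers c :=
      sup_le_sup_right (Subgroup.zpowers_le.2 ha) _
    have c8 : A ⊔ Subgroup.zpowers c ≤ X := sup_le hlt.le (Subgroup.zpowers_le.2 c1.1)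
    have c9 := abelian_sup (abelian_zpowers a) (abelian_zpowers c)
      (Subgroup.zpowers_le.2 (cent_anti (Subgroup.zpowers_le.2 (hlt.le ha)) c1.2))
    have c10 : NC (A ⊔ Subgroup.zpowers c) := (nc_of_exp (h.pg.to_le (c7.trans c8)) c9 (fun y hy => by
      obtain ⟨u, hu, v, hv, rfl⟩ := Subgroup.mem_sup_of_normal_right.1 hy
      have e1 : c ^ 4 = 1 := by
        rw [show 4 = 2 * 2 from rfl, pow_mul]
        rcases (mem_zp2 hA.sq).1 c3 with e | e <;> simp [e, hA.sq]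
      rw [Commute.mul_pow (abelian_iff_comm.1 c9 u (Subgroup.mem_sup_left hu) v (Subgroup.mem_sup_right hv)),
        orderOf_dvd_iff_pow_eq_one.1 (hA.ord ha han ▸ orderOf_dvd_of_mem_zpowers hu), orderOf_dvd_iff_pow_eq_one.1
          ((orderOf_dvd_of_mem_zpowers hv).trans (orderOf_dvd_of_pow_eq_one e1)), mul_one]) (by
      rw [← hA.ord ha han, ← Nat.card_zpowers]
      exact CL.Grp.card_lt_card_of_lt (lt_of_le_of_ne le_sup_left fun e' => c5 (Subgroup.zpowers_le.2 ha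
        (e' ▸ Subgroup.mem_sup_right (Subgroup.mem_zpowers c)))))).mono c7
    have c11 : A ⊔ Subgroup.zpowers c = X := by_contra fun e' => h.lt _ c6 (lt_of_le_of_ne c8 e') c10
    exact .inr ⟨c11 ▸ relIndex_sup_zpowers_eq_prime A c5 (hzA c3), hX⟩
  · refine .inl (h.extra ?_ (le_antisymm ?_ ?_))
    · have e1 := commutator_sup_left_le hK (h.q8_comm e hC.le)
      rwa [hX] at e1
    · rw [← e.card_z, ← e.center]
      exact Subgroup.card_le_of_le (le_inf (inf_le_inf_left X (cent_anti hlt.le))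
        (inf_le_right.trans (cent_anti hC.le)))
    · rw [← hA.card_z]
      exact Subgroup.card_le_of_le (Subgroup.zpowers_le.2 hz)

theorem caseB (hb : ∀ Y : Subgroup G, Y.Normal → Y < X → Y ≤ Z[X]) :
    (IsExtraspecial 2 X ∧ 32 ≤ Nat.card X) ∨ (IsSpecial 2 X ∧ Nat.card (Subgroup.center X) = 4) := by
  have := h.nrm
  have : Nontrivial X := (Subgroup.nontrivial_iff_ne_bot X).2 fun e => h.na (e ▸ abelian_bot)
  have h1 : frattini X ≤ Subgroup.center X := by
    rw [← Subgroup.map_le_map_iff_of_injective X.subtype_injective, center_map_subtype]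
    refine hb _ inferInstance (lt_of_le_of_ne (Subgroup.map_subtype_le _) fun e => frattini_ne_top X ?_)
    rw [← (Subgroup.map_injective X.subtype_injective).eq_iff, e, ← MonoidHom.range_eq_map, Subgroup.range_subtype]
  obtain ⟨h2, h3⟩ := (frattini_le_iff_pGroup h.pg).1 h1
  have h4 : ⁅X, X⁆ ≤ Z[X] := by
    rw [← Subgroup.map_subtype_commutator, ← center_map_subtype]; exact Subgroup.map_mono h2
  have h5 : ⁅X, X⁆ ≤ sqPre X ⊥ := Subgroup.commutator_le.2 fun a ha b hb => by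
    have e := h4 (Subgroup.commutator_mem_commutator ha hb)
    refine ⟨e, ?_⟩
    rw [← comm_pow_left (e.2 a ha), Subgroup.mem_bot, commutatorElement_eq_one_iff_mul_comm]
    exact (congrArg Subtype.val (Subgroup.mem_center_iff.1 (h3 ⟨a, ha⟩) ⟨b, hb⟩)).symm
  have h6 : ∀ y ∈ ⁅X, X⁆, y ^ 2 = 1 := fun y hy => (h5 hy).2
  have h7 := h.card_le_four h4 fun y hy => by rw [show 4 = 2 * 2 from rfl, pow_mul, h6 y hy, one_pow]
  obtain ⟨z, hz, hne⟩ := ne_bot_iff.1 (fun e => h.na (abelian_iff_der.2 e))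
  have h8 : Nat.card (Subgroup.zpowers z) = 2 := by rw [Nat.card_zpowers, orderOf_eq_prime (h6 z hz) hne]
  have h9 : Nat.card ↥⁅X, X⁆ = 2 ∨ Nat.card ↥⁅X, X⁆ = 4 := by
    have e := h8 ▸ Subgroup.card_dvd_of_le (Subgroup.zpowers_le.2 hz)
    have e2 : 0 < Nat.card ↥⁅X, X⁆ := Nat.card_pos
    omega
  rcases h4.eq_or_lt with e | e
  · rcases h9 with e1 | e1
    · exact .inl (h.extra h4 (e ▸ e1))
    · have e2 : commutator X = Subgroup.center X := by
        rw [← (Subgroup.map_injective X.subtype_injective).eq_iff, Subgroup.map_subtype_commutator,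
          center_map_subtype, e]
      refine .inr ⟨⟨h.pg, le_antisymm h1 (e2 ▸ commutator_le_frattini h.pg), e2⟩, ?_⟩
      rw [← e1, e, ← center_map_subtype, Subgroup.card_map_of_injective X.subtype_injective]
  exfalso
  rcases h9 with e1 | e1; swap
  · exact e.not_ge fun y hy => cent_four_le (h.pg.to_le inf_le_left) (h.lt _ inferInstance h.center_lt)
      ⟨abelian_of_le (abelian_center X) h4, h6⟩ e1 h4
      ⟨hy, cent_anti (h4.trans inf_le_left) hy.2⟩
  have e2 : Subgroup.zpowers z = ⁅X, X⁆ := Subgroup.eq_of_le_of_card_ge (Subgroup.zpowers_le.2 hz) (by rw [e1, h8])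
  obtain ⟨c, c1, c2, c3, c4⟩ := h.exists_cen (h6 z hz) hne (e2 ▸ inferInstance) (h4 hz) (e2 ▸ e.not_ge)
  have e3 : ⁅X, ⊤⁆ = X := by_contra fun e' => by
    have e4 := hb _ inferInstance (lt_of_le_of_ne (Subgroup.commutator_le_left X ⊤) e')
    obtain ⟨B, hle, hB, hB'⟩ := h.nc
    have e5 : B ⊔ Z[X] ≤ X := sup_le hle inf_le_left
    refine h.lt _ (Subgroup.commutator_top_right_le_iff.1 ((Subgroup.commutator_mono e5 le_rfl).trans
      (e4.trans le_sup_right))) (lt_of_le_of_ne e5 fun e6 => h.na (e6 ▸ abelian_sup hB (abelian_center X)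
        (inf_le_right.trans (cent_anti hle)))) ⟨B, le_sup_left, hB, hB'⟩
  have e4 := MonoidHom.transfer_eq_pow (Abelianization.of (G := X)) c fun k g _ => by
    have e5 := congrArg (· ^ k) (c4 g⁻¹)
    rwa [conj_pow, inv_inv] at e5
  rw [Abelianization.commutator_subset_ker _ (Subgroup.commutator_mono le_top le_rfl (e3.ge c1.1)), eq_comm,
    ← MonoidHom.mem_ker, Abelianization.ker_of] at e4
  refine c2 (mem_of_odd c3 ?_ h.idx)
  rw [e2, ← Subgroup.map_subtype_commutator]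
  exact ⟨_, e4, rfl⟩

theorem main : (IsExtraspecial 2 X ∧ 32 ≤ Nat.card X) ∨
    (∃ (X₀ : Subgroup G) (k : ℕ), X₀ ≤ X ∧ X₀.relIndex X = 2 ∧ Nonempty (X₀ ≃* QuaternionGroup (2 ^ (k + 1))) ∧
      X₀ ⊔ (X ⊓ C[X₀]) = X) ∨ (IsSpecial 2 X ∧ Nat.card (Subgroup.center X) = 4) := by
  by_cases hb : ∀ Y : Subgroup G, Y.Normal → Y < X → Y ≤ Z[X]
  · exact (h.caseB hb).imp_right .inr
  push Not at hb
  obtain ⟨Y, h1, h2, h3⟩ := hb
  obtain ⟨z, hz⟩ := (h.cases h2).resolve_left h3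
  exact (h.caseA hz h2).imp_right fun e => .inl ⟨Y, 0, h2.le, e.1, hz.iso, e.2⟩

end St

end CL.Fgs.NC8
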