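import Cfsg.Agent.Grp.GlaubC
import Cfsg.Agent.Grp.ThompsonA
import Cfsg.Agent.Fgs.InvMax

/-! If `N(ZJ(S))` has odd order then all `p`-automizers are odd; coprime actions with nilpotent invariant subgroups. -/

set_option autoImplicit false
open Cfsg CL.Grp CL.Loc Subgroup
open scoped Pointwise

universe u

namespace CL.OddZJ
variable {G : Type*} [Group G] [Finite G] {p : ℕ} [hp : Fact p.Prime]

/-- every element normalizing a `p`-subgroup has an odd power centralizing it -/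
def OddAut (p : ℕ) (G : Type*) [Group G] : Prop :=
  ∀ X : Subgroup G, IsPGroup p X → ∀ g ∈ normalizer (X : Set G), ∃ m, Odd m ∧ g ^ m ∈ centralizer (X : Set G)

omit [Finite G] in
theorem two_dvd_card_fOver (hp2 : p ≠ 2) : 2 ∣ Nat.card (fOver (ZMod p)) := by
  let M : Matrix.SpecialLinearGroup (Fin 3) (ZMod p) := ⟨!![-1, 0, 0; 0, -1, 0; 0, 0, 1], by simp [Matrix.det_fin_three]⟩
  have hM : M ∈ fOver (ZMod p) := subset_closure ⟨rfl, rfl, rfl, rfl⟩
  have h2 : orderOf M = 2 := by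
    refine orderOf_eq_prime (Subtype.ext ?_) fun e => ?_
    · rw [pow_two]
      change !![(-1 : ZMod p), 0, 0; 0, -1, 0; 0, 0, 1] * !![(-1 : ZMod p), 0, 0; 0, -1, 0; 0, 0, 1] = 1
      rw [Matrix.one_fin_three]
      simp
    · have h1 : (-1 : ZMod p) = 1 := by simpa [M] using congrArg (fun N : Matrix.SpecialLinearGroup (Fin 3) (ZMod p) => N.1 0 0) e
      haveI : Fact (2 < p) := ⟨lt_of_le_of_ne hp.out.two_le (Ne.symm hp2)⟩
      exact ZMod.neg_one_ne_one h1
  exact h2 ▸ (fOver (ZMod p)).orderOf_dvd_natCard hM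

theorem oddAut_of_ctlFus {S M : Subgroup G} (hS : IsSylowIn p S ⊤) (h : CtlFus M S ⊤) (hM : Odd (Nat.card M)) :
    OddAut p G := fun X hX g hg => by
  obtain ⟨c, -, hc⟩ := hS.exists_conj_le hX le_top
  have h1 : MulAut.conj (c * g * c⁻¹) • MulAut.conj c • X = MulAut.conj c • X := by
    rw [conj_smul_conj_smul, inv_mul_cancel_right, ← conj_smul_conj_smul, (conj_smul_eq_self_iff g X).2 hg]
  obtain ⟨y, hy, e⟩ := h _ hc (c * g * c⁻¹) (mem_top _) (h1.symm ▸ hc)
  refine ⟨_, hM, mem_centralizer_iff.2 fun x hx => ?_⟩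
  have h2 : ∀ k : ℕ, ∀ x ∈ X, g ^ k * x * (g ^ k)⁻¹ ∈ X ∧ c * (g ^ k * x * (g ^ k)⁻¹) * c⁻¹ = y ^ k * (c * x * c⁻¹) * (y ^ k)⁻¹ := by
    intro k x hx
    refine ⟨(mem_normalizer_iff.1 (pow_mem hg k) x).1 hx, ?_⟩
    induction k with
    | zero => simp
    | succ k ih =>
      have h3 := e _ (conj_mem_conj_smul c ((mem_normalizer_iff.1 (pow_mem hg k) x).1 hx))
      calc _ = c * g * c⁻¹ * (c * (g ^ k * x * (g ^ k)⁻¹) * c⁻¹) * (c * g * c⁻¹)⁻¹ := by rw [pow_succ']; group
        _ = _ := by rw [h3, ih, pow_succ']; group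
  have h3 := (h2 (Nat.card M) x hx).2
  rw [show y ^ Nat.card M = 1 from congrArg Subtype.val (pow_card_eq_one' (x := (⟨y, hy⟩ : M)))] at h3
  have h4 : g ^ Nat.card M * x * (g ^ Nat.card M)⁻¹ = x := by simpa using h3
  exact (mul_inv_eq_iff_eq_mul.1 h4).symm

/-- **Glauberman**: `N(ZJ(S))` of odd order forces odd automizers. -/
theorem oddAut_of_odd_zj (hp2 : p ≠ 2) {S : Subgroup G} (hS : IsSylowIn p S ⊤)
    (h : Odd (Nat.card (normalizer (centerThompsonOf 0 S : Set G)))) : OddAut p G :=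
  oddAut_of_ctlFus hS (zj_ctlFus_of_not_involves_fOver hp2 hS fun h1 =>
    h.not_two_dvd_nat ((two_dvd_card_fOver hp2).trans (card_dvd_of_involves h1))) h

omit [Finite G] hp in
theorem OddAut.subgroup (h : OddAut p G) (K : Subgroup G) : OddAut p K := fun X hX g hg => by
  obtain ⟨m, hm, e⟩ := h (X.map K.subtype) (hX.map _) g (le_normalizer_map _ (mem_map_of_mem _ hg))
  exact ⟨m, hm, mem_centralizer_iff.2 fun x hx => Subtype.ext (mem_centralizer_iff.1 e x (mem_map_of_mem _ hx))⟩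

theorem OddAut.not_inverted (h : OddAut p G) (hp2 : p ≠ 2) {H : Type*} [Group H] {f : G →* H} (hf : Function.Surjective f)
    {c t : H} (hc : orderOf c = p) (ht : t * c * t⁻¹ = c⁻¹) : False := by
  obtain ⟨X, hX⟩ := exists_isSylowIn p ((zpowers c).comap f)
  obtain ⟨s, rfl⟩ := hf t
  have hn : ∀ {t : H}, t * c * t⁻¹ = c⁻¹ → ∀ x ∈ zpowers c, t * x * t⁻¹ = x⁻¹ := by
    rintro t ht _ ⟨k, rfl⟩
    simp only [← conj_zpow, ht, inv_zpow]
  have h1 : s ∈ normalizer (((zpowers c).comap f : Subgroup G) : Set G) := mem_normalizer_fintype fun x hx => by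
    change f _ ∈ zpowers c
    rw [map_mul, map_mul, map_inv, hn ht _ hx]
    exact inv_mem hx
  obtain ⟨y, hy, hys⟩ := hX.frattini (H := normalizer _) le_rfl h1
  obtain ⟨m, ⟨k, rfl⟩, e⟩ := h X hX.isPGroup _ hys
  have h2 : f (y * s) * c * (f (y * s))⁻¹ = c⁻¹ := by
    obtain ⟨j, hj⟩ := mem_zpowers_iff.1 hy
    rw [map_mul, ← hj, mul_inv_rev, show c ^ j * f s * c * ((f s)⁻¹ * (c ^ j)⁻¹) = c ^ j * (f s * c * (f s)⁻¹) * (c ^ j)⁻¹ by group, ht]
    group
  have h3 : f (y * s) ^ (2 * k + 1) * c * (f (y * s) ^ (2 * k + 1))⁻¹ = c⁻¹ := by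
    have h4 : Commute (f (y * s) ^ 2) c := by
      have h5 := hn h2 c⁻¹ (inv_mem (mem_zpowers c))
      rw [inv_inv, ← h2] at h5
      refine mul_inv_eq_iff_eq_mul.1 (Eq.trans ?_ h5)
      rw [pow_two]; group
    rw [pow_succ', pow_mul, mul_assoc (f _), (h4.pow_left k).eq, ← h2]; group
  have h4 : X.map f = zpowers c := by
    have h5 := isSylowIn_map hX f
    rw [map_comap_eq_self_of_surjective hf] at h5
    exact (h5.eq_of_le (IsPGroup.of_card (n := 1) (by rw [Nat.card_zpowers, hc, pow_one])) h5.le le_rfl).symm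
  obtain ⟨x, hx, rfl⟩ : c ∈ X.map f := h4 ▸ mem_zpowers c
  rw [← map_pow, ← map_mul, ← mem_centralizer_iff.1 e x hx, map_mul, mul_inv_cancel_right, eq_inv_iff_mul_eq_one, ← pow_two] at h3
  exact hp2 ((Nat.prime_dvd_prime_iff_eq hp.out Nat.prime_two).1 (hc ▸ orderOf_dvd_of_pow_eq_one h3))

theorem OddAut.not_involves_sfour (h : OddAut 3 G) : ¬ Involves (Equiv.Perm (Fin 4)) G := fun h1 => by
  haveI : Fact (Nat.Prime 3) := ⟨Nat.prime_three⟩
  obtain ⟨K, f, hf⟩ := involves_iff.1 h1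
  exact (h.subgroup K).not_inverted (by decide) hf (c := Equiv.swap 0 1 * Equiv.swap 1 2) (t := Equiv.swap 0 1)
    (orderOf_eq_prime (by decide) (by decide)) (by decide)

/-- Coprime action in which the proper invariant subgroups of order divisible by `p` are nilpotent. -/
theorem isSolvable_of_inv_nilpotent {A : Type*} [Group A] [Finite A] (hs : Group.IsSolvable A) (G : Type u) [Group G]
    [Finite G] : ∀ [MulDistribMulAction A G], (Nat.card A).Coprime (Nat.card G) → p ∣ Nat.card G →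
    (∀ H : Subgroup G, H ≠ ⊤ → (∀ a : A, ∀ x ∈ H, a • x ∈ H) → p ∣ Nat.card H → Group.IsNilpotent H) →
      Group.IsSolvable G := by
  refine induction_on_card (P := fun X _ _ => ∀ [MulDistribMulAction A X],
    (Nat.card A).Coprime (Nat.card X) → p ∣ Nat.card X →
    (∀ H : Subgroup X, H ≠ ⊤ → (∀ a : A, ∀ x ∈ H, a • x ∈ H) → p ∣ Nat.card H → Group.IsNilpotent H) →
      Group.IsSolvable X) ?_ G
  intro G _ _ ih _ hcop hpG h
  by_cases hN : ∃ N : Subgroup G, N.Normal ∧ N ≠ ⊥ ∧ Group.IsSolvable N ∧ ∀ a : A, ∀ x ∈ N, a • x ∈ N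
  · obtain ⟨N, hN, h1, h2, hNA⟩ := hN
    letI := quotAction N hNA
    have hc := hcop.coprime_dvd_right (card_quotient_dvd_card N)
    have key : ∀ H : Subgroup (G ⧸ N), H ≠ ⊤ → (∀ a : A, ∀ x ∈ H, a • x ∈ H) → p ∣ Nat.card (H.comap (QuotientGroup.mk' N)) →
        Group.IsNilpotent H := fun H h3 h4 h5 => by
      rw [← map_comap_eq_self_of_surjective (QuotientGroup.mk'_surjective N) H]
      exact isNilpotent_map (h _ (fun e => h3 (comap_injective
        (QuotientGroup.mk'_surjective N) (by simpa using e))) (CL.Fgs.inv_comap_mk' hNA h4) h5) _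
    have hq : Group.IsSolvable (G ⧸ N) := by
      by_cases h3 : p ∣ Nat.card (G ⧸ N)
      · refine ih (G ⧸ N) (Grp.card_quotient_lt h1) hc h3 fun H h4 h5 h6 => key H h4 h5 (h6.trans ?_)
        rw [← map_comap_eq_self_of_surjective (QuotientGroup.mk'_surjective N) H, comap_map_eq_self (by
          rw [QuotientGroup.ker_mk']; exact QuotientGroup.le_comap_mk' _ _)]
        exact card_map_dvd _ _
      · refine CL.Fgs.isSolvable_of_forall_inv_isNilpotent hs _ hc fun H h4 h5 => key H h4 h5 ?_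
        rw [card_eq_card_quotient_mul_card_subgroup N] at hpG
        exact ((hp.out.dvd_mul.1 hpG).resolve_left h3).trans (card_dvd_of_le (QuotientGroup.le_comap_mk' _ _))
    exact Group.isSolvable_of_ker_le_range N.subtype (QuotientGroup.mk' N) (by simp)
  push Not at hN
  replace hN : ∀ N : Subgroup G, N.Normal → N ≠ ⊥ → (∀ a : A, ∀ x ∈ N, a • x ∈ N) → ¬ Group.IsSolvable N :=
    fun N h1 h2 h3 h4 => let ⟨a, x, hx, h5⟩ := hN N h1 h2 h4; h5 (h3 a x hx)
  haveI : Nontrivial G := Finite.one_lt_card_iff_nontrivial.1 (hp.out.one_lt.trans_le (Nat.le_of_dvd Nat.card_pos hpG))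
  obtain ⟨N, ⟨hN1, hN2, hN3⟩, hmin⟩ := (Set.toFinite {N : Subgroup G | N.Normal ∧ N ≠ ⊥ ∧ ∀ a : A, ∀ x ∈ N, a • x ∈ N}).exists_minimal
    ⟨⊤, inferInstance, top_ne_bot, fun _ _ _ => mem_top _⟩
  have hNs := hN N hN1 hN2 hN3
  have hnc : ∀ (q : ℕ) [Fact q.Prime], q ∣ Nat.card N → ¬ HasNormalPComplement q G := fun q _ hq hc => by
    by_cases h1 : N ⊓ pResidual q G = ⊥
    · refine hNs (CL.Fgs.isSolvable_of_isPGroup' ((isPGroup_quotient_pResidual q G).of_injective
        ((QuotientGroup.mk' _).comp N.subtype) ((injective_iff_map_eq_one _).2 fun x hx => Subtype.ext ?_)))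
      exact mem_bot.1 (h1 ▸ ⟨x.2, (QuotientGroup.eq_one_iff _).1 hx⟩)
    · have h2 := hmin ⟨inferInstance, h1, fun a x hx => ⟨hN3 a x hx.1, smul_mem_of_characteristic _ a x hx.2⟩⟩ inf_le_left
      exact hasNormalPComplement_iff_not_dvd_pResidual.1 hc (hq.trans (card_dvd_of_le (h2.trans inf_le_right)))
  have hloc : ∀ {q : ℕ} [Fact q.Prime] (U : Subgroup G), IsPGroup q U → U ≠ ⊥ → (∀ a : A, a • U = U) →
      p ∣ Nat.card (normalizer (U : Set G)) → Group.IsNilpotent (normalizer (U : Set G)) := fun U h1 h2 h3 =>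
    h _ (fun e => hN U (normalizer_eq_top_iff.1 e) h2 (invariant_iff_smul_eq.2 h3) (CL.Fgs.isSolvable_of_isPGroup' h1))
      (CL.Fgs.inv_normalizer (invariant_iff_smul_eq.2 h3))
  have hzj : ∀ (q : ℕ) [Fact q.Prime], q ≠ 2 → q ∣ Nat.card N → ∀ Q : Sylow q G, (∀ a : A, ∀ x ∈ Q, a • x ∈ Q) →
      ¬ p ∣ Nat.card (normalizer (centerThompsonOf 0 (Q : Subgroup G) : Set G)) := fun q _ h2 hq Q hQ h3 => by
    have := hloc _ (Q.isPGroup'.to_le (centerThompsonOf_le _)) (centerThompsonOf_ne_bot' (Or.inr rfl) Q.isPGroup'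
      (Q.ne_bot_of_dvd_card (hq.trans (card_subgroup_dvd_card N)))) (fun a => by
        rw [CL.Fgs.smul_eq_map_toMulEquiv, map_centerThompsonOf (inf_ker_eq_bot_of_injective _ (MulEquiv.injective _)),
          ← CL.Fgs.smul_eq_map_toMulEquiv, invariant_iff_smul_eq.1 hQ]) h3
    exact hnc q hq (zj_hasNormalPComplement h2 (Or.inr rfl) Q (isStronglyClosed_self _) hasNormalPComplement_of_isNilpotent)
  obtain ⟨P, hP⟩ := act_exists_sylow p hcop (Or.inl hs)
  have hP1 := P.ne_bot_of_dvd_card hpG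
  have hpP : p ∣ Nat.card P := P.dvd_card_of_dvd_card hpG
  have hpN : p ∣ Nat.card N := by
    by_contra h1
    have h2 : N ⊔ P = ⊤ := by_contra fun e => hNs (by
      have := isNilpotent_of_le (h _ e (CL.Fgs.inv_sup hN3 hP) (hpP.trans (card_dvd_of_le le_sup_right))) le_sup_left
      infer_instance)
    have h3 : ∀ H : Subgroup G, N ⊔ H = ⊤ → N.index ∣ Nat.card H := fun H e => by
      rw [← relIndex_top_right, ← e, relIndex_sup_left]
      exact relIndex_dvd_card _ _
    obtain ⟨q, hq, hq2, hqN⟩ : ∃ q : ℕ, q.Prime ∧ q ≠ 2 ∧ q ∣ Nat.card N := by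
      by_contra h4
      push Not at h4
      exact hNs (CL.Fgs.isSolvable_of_isPGroup' (p := 2) (IsPGroup.iff_card.2 ⟨_,
        Nat.eq_prime_pow_of_unique_prime_dvd Nat.card_pos.ne' fun {d} hd hdG => by_contra fun e => h4 d hd e hdG⟩))
    haveI := Fact.mk hq
    obtain ⟨Q, hQ⟩ := act_exists_sylow q hcop (Or.inl hs)
    have h4 : (Q : Subgroup G) ≤ N := fun x hx => by
      obtain ⟨i, hi⟩ := IsPGroup.iff_card.1 P.isPGroup'
      obtain ⟨j, hj⟩ := IsPGroup.iff_card.1 Q.isPGroup'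
      have h5 : (orderOf x).Coprime N.index := Nat.Coprime.coprime_dvd_left ((Q : Subgroup G).orderOf_dvd_natCard hx)
        (Nat.Coprime.coprime_dvd_right (h3 _ h2) (by
          rw [hi, hj]; exact Nat.Coprime.pow _ _ ((Nat.coprime_primes hq hp.out).2 fun e => h1 (e ▸ hqN))))
      exact zpowers_le.2 (N.pow_index_mem x) (mem_zpowers_pow_iff.2 h5.symm)
    have h5 := h3 _ ((sup_comm _ _).trans (Q.normalizer_sup_eq_top' h4))
    refine hzj q hq2 hqN Q hQ (Dvd.dvd.trans ?_ (h5.trans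
      (card_dvd_of_le (normalizer_le_normalizer_centerThompsonOf 0 (Q : Subgroup G)))))
    exact (hp.out.dvd_mul.1 (N.index_mul_card ▸ hpG)).resolve_right h1
  have hNt : N = ⊤ := by_contra fun e => hNs (by have := h N e hN3 hpN; infer_instance)
  have hp2 : p = 2 := by_contra fun e => hzj p e hpN P hP (hpP.trans (card_dvd_of_le
    (le_normalizer.trans (normalizer_le_normalizer_centerThompsonOf 0 _))))
  subst hp2
  have h4 : ¬ Involves (Equiv.Perm (Fin 4)) G := fun h4 => by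
    haveI : Fact (Nat.Prime 3) := ⟨Nat.prime_three⟩
    obtain ⟨Q, hQ⟩ := act_exists_sylow 3 hcop (Or.inl hs)
    have h3 : 3 ∣ Nat.card N := by
      rw [hNt, card_top]
      exact (by simp [Fintype.card_perm, Nat.factorial] : 3 ∣ Nat.card (Equiv.Perm (Fin 4))).trans (card_dvd_of_involves h4)
    exact (oddAut_of_odd_zj (by decide) (isSylowIn_top Q) (Nat.not_even_iff_odd.1 fun e =>
      hzj 3 (by decide) h3 Q hQ e.two_dvd)).not_involves_sfour h4
  refine (hnc 2 hpN (thompsonA_normal_p_complement (Or.inr h4) P ?_ ?_)).elim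
  · rw [thompsonSubgroupAOf_eq]
    have := hloc _ (P.isPGroup'.to_le (thompsonSubgroupOf_le _)) (thompsonSubgroupOf_ne_bot' (Or.inr rfl) P.isPGroup' hP1)
      (fun a => by
        rw [CL.Fgs.smul_eq_map_toMulEquiv, map_thompsonSubgroupOf_of_injective _ (MulEquiv.injective _),
          ← CL.Fgs.smul_eq_map_toMulEquiv, invariant_iff_smul_eq.1 hP])
      (hpP.trans (card_dvd_of_le (le_normalizer.trans (normalizer_le_normalizer_thompsonSubgroupOf _))))
    exact hasNormalPComplement_of_isNilpotent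
  · have := isNilpotent_of_le (hloc _ (P.isPGroup'.to_inf_left (K := centralizer ((P : Subgroup G) : Set G)))
      (self_inf_centralizer_ne_bot_of_isPGroup P.isPGroup' hP1) (invariant_iff_smul_eq.1 fun a x hx =>
        ⟨hP a x hx.1, mem_centralizer_iff.2 fun y hy => by
          simpa [smul_mul'] using congrArg (a • ·) (mem_centralizer_iff.1 hx.2 _ (hP a⁻¹ y hy))⟩)
      (hpP.trans (card_dvd_of_le ((le_centralizer_iff.1 inf_le_right).trans (centralizer_le_normalizer _)))))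
      (centralizer_le_normalizer _)
    exact hasNormalPComplement_of_isNilpotent

end CL.OddZJ
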