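/-
Lifting real elements of odd order through arbitrary epimorphisms; groups whose real classes of
odd-order elements have size prime to the number of Sylow 2-subgroups are solvable (helper6).
-/
import Cfsg.Agent.Fgs.RealSyl1
import Cfsg.Agent.Fgs.CondFT
import Cfsg.Agent.Fgs.SylNum
import Cfsg.Agent.Char.RealPPrime
import Cfsg.Agent.Odd.FT
import Cfsg.Agent.S3933
import Cfsg.Agent.S3861

set_option autoImplicit false

namespace CL.Fgs.RealSyl

open Subgroup Cfsg CL.Fgs CL.Grp
open scoped Pointwise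

universe u

variable {G G' : Type*} [Group G] [Group G'] [Finite G]

theorem real_piPart (π : Set ℕ) {x : G} (h : IsConj x x⁻¹) :
    IsConj (piPart π x) (piPart π x)⁻¹ := by
  obtain ⟨t, ht⟩ := isConj_iff.1 h
  exact isConj_iff.2 ⟨t, by rw [← piPart_conj, ht, piPart_inv]⟩

theorem lift_two {f : G →* G'} (hf : Function.Surjective f) (hk : IsPGroup 2 f.ker) {y : G'}
    (ho : Odd (orderOf y)) (hr : IsConj y y⁻¹) :
    ∃ x : G, f x = y ∧ Odd (orderOf x) ∧ IsConj x x⁻¹ := by
  obtain ⟨x, hx, rfl⟩ := exists_isPiElt_map_eq f hf (isPiElt_compl_two_iff.2 ho)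
  obtain ⟨t, ht⟩ := isConj_iff.1 hr
  obtain ⟨t, rfl⟩ := hf t
  have hxo := isPiElt_compl_two_iff.1 hx
  have hc : (Nat.card f.ker).Coprime (Nat.card (zpowers x)) := by
    obtain ⟨k, hk⟩ := hk.exists_card_eq
    rw [hk, Nat.card_zpowers]
    exact (Nat.coprime_two_left.2 hxo).pow_left k
  have e : MulAut.conj t • zpowers x = zpowers (t * x * t⁻¹) := by
    rw [conj_smul_eq_map, MonoidHom.map_zpowers]; rfl
  haveI : Group.IsSolvable (MulAut.conj t • zpowers x : Subgroup G) := isSolvable_conj_smul _ _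
  obtain ⟨n, hn, hnt⟩ := schurZassenhaus_conj_of_sup_eq (N := f.ker)
    (H := MulAut.conj t • zpowers x) (K := zpowers x) (by rw [normalizer_eq_top]; exact le_top)
    (by rw [card_conj_smul]; exact hc) hc (by
      rw [sup_comm, sup_comm f.ker, ← comap_map_eq, ← comap_map_eq, e, MonoidHom.map_zpowers,
        MonoidHom.map_zpowers, map_mul, map_mul, map_inv, ht, zpowers_inv]) (Or.inr this)
  have h1 : n * (t * x * t⁻¹) * n⁻¹ ∈ zpowers x := by
    rw [← hnt]
    exact conj_mem_conj_smul n (conj_mem_conj_smul t (mem_zpowers x))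
  refine ⟨x, rfl, hxo, isConj_iff.2 ⟨n * t, ?_⟩⟩
  rw [← mul_eq_one_iff_eq_inv, show n * t * x * (n * t)⁻¹ = n * (t * x * t⁻¹) * n⁻¹ by group]
  refine (isPiElt_singleton_of_mem hk ?_).eq_one (hx.of_mem_zpowers (mul_mem h1 (mem_zpowers x)))
  rw [MonoidHom.mem_ker]
  simp only [map_mul, map_inv, ht, MonoidHom.mem_ker.1 hn]
  simp

theorem lift_odd {f : G →* G'} (hf : Function.Surjective f) (hk : Odd (Nat.card f.ker)) {y : G'}
    (hr : IsConj y y⁻¹) : ∃ x : G, f x = y ∧ IsConj x x⁻¹ := by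
  obtain ⟨x, rfl⟩ := hf y
  let e := QuotientGroup.quotientKerEquivOfSurjective f hf
  have he : ∀ w : G, e (w : G ⧸ f.ker) = f w := fun w => rfl
  have h1 : IsConj (x : G ⧸ f.ker) (x : G ⧸ f.ker)⁻¹ := by
    have := IsConj.map_inv e.symm.toMonoidHom hr
    rwa [← he, MulEquiv.coe_toMonoidHom, e.symm_apply_apply] at this
  obtain ⟨w, h2, h3⟩ := CL.Char.rpp_exists_real_lift hk h1
  exact ⟨w, by rw [← he, h2, he], h3⟩

/-- real elements of odd order lift through every epimorphism of finite groups -/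
theorem lift_real {f : G →* G'} (hf : Function.Surjective f) {y : G'}
    (ho : Odd (orderOf y)) (hr : IsConj y y⁻¹) :
    ∃ x : G, f x = y ∧ Odd (orderOf x) ∧ IsConj x x⁻¹ := by
  haveI : Finite G' := Finite.of_surjective f hf
  obtain ⟨P, hP⟩ := exists_isSylowIn 2 f.ker
  let H := normalizer (P : Set G)
  let Q := P.subgroupOf H
  haveI : Q.Normal := normal_in_normalizer
  have hQ : Q ≤ (f.comp H.subtype).ker := fun w hw => hP.le hw
  let φ : H ⧸ Q →* G' := QuotientGroup.lift Q (f.comp H.subtype) hQ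
  have hφ : Function.Surjective φ := by
    intro w
    obtain ⟨g, rfl⟩ := hf w
    obtain ⟨n, hn, h⟩ := hP.frattini (H := ⊤) (by rw [normalizer_eq_top]) (mem_top g)
    exact ⟨((⟨n * g, h⟩ : H) : H ⧸ Q), by simp [φ, MonoidHom.mem_ker.1 hn]⟩
  have hk : Odd (Nat.card φ.ker) := by
    rw [QuotientGroup.ker_lift, ← relIndex_ker, QuotientGroup.ker_mk', ← MonoidHom.comap_ker,
      comap_subtype, ← inf_subgroupOf_right, relIndex_subgroupOf inf_le_right,
      ← Nat.not_even_iff_odd, even_iff_two_dvd]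
    intro h
    apply hP.not_dvd
    rw [← relIndex_mul_relIndex P (f.ker ⊓ H) f.ker (le_inf hP.le le_normalizer) inf_le_left]
    exact h.mul_right _
  obtain ⟨w, hw, hwr⟩ := lift_odd hφ hk hr
  obtain ⟨x, h1, h2, h3⟩ := lift_two (QuotientGroup.mk'_surjective Q)
    (by rw [QuotientGroup.ker_mk']; exact hP.isPGroup.comap_subtype)
    (isPiElt_compl_two_iff.1 (isPiElt_piPart _ w)) (real_piPart _ hwr)
  refine ⟨x, ?_, by rwa [orderOf_coe], IsConj.map_inv H.subtype h3⟩
  have : φ (QuotientGroup.mk' Q x) = f x := rfl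
  rw [← this, h1, map_piPart, hw, piPart_eq_self (isPiElt_compl_two_iff.2 ho)]

/-- real elements of odd order have class size prime to the number of Sylow 2-subgroups -/
def Cop (X : Type*) [Group X] : Prop :=
  ∀ y : X, Odd (orderOf y) → IsConj y y⁻¹ → (cs(y)).Coprime (Nat.card (Sylow 2 X))

theorem tr_of_coprime {y : G} (h : (cs(y)).Coprime (Nat.card (Sylow 2 G))) : Tr y := by
  intro S S'
  obtain ⟨g, rfl⟩ := MulAction.exists_smul_eq G S S'
  rw [S.card_eq_index_normalizer] at h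
  obtain ⟨c, hc, n, hn, rfl⟩ := exists_mul_eq_of_coprime_index h g
  exact ⟨c, mem_cent.1 hc, by rw [mul_smul, Sylow.smul_eq_iff_mem_normalizer.2 hn]⟩

theorem isSolvable_of_cop {X : Type u} [Group X] [Finite X] (h : Cop X) : Group.IsSolvable X := by
  refine isSolvable_of_closed (P := fun X _ _ => Cop X) ?_ ?_ ?_ X h
  · intro X _ _ N _ hX y ho hr
    exact ((hX y (by rwa [orderOf_coe]) (IsConj.map_inv N.subtype hr)).coprime_dvd_left
      (cs_coe_dvd y)).coprime_dvd_right (Cfsg.Agent.S3933.card_sylow_normal_dvd 2 N)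
  · intro X _ _ N _ hX y ho hr
    obtain ⟨x, rfl, h1, h2⟩ := lift_real (QuotientGroup.mk'_surjective N) ho hr
    obtain ⟨S⟩ : Nonempty (Sylow 2 X) := inferInstance
    exact ((hX x h1 h2).coprime_dvd_left (cs_mk_dvd N x)).coprime_dvd_right
      (Dvd.intro _ (card_sylow_eq_quotient_mul N S).symm)
  · intro X _ _ _ hX
    by_cases h2 : 2 ∣ Nat.card X
    · exact simple_tr h2 fun e g _ ho hi => tr_of_coprime (hX g ho (isConj_iff.2 ⟨e, hi⟩))
    · exact CL.Odd.feit_thompson (Nat.odd_iff.2 (by omega))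

/-- a solvable group without proper normal subgroups of odd index has a nontrivial real
`q`-element for each odd prime `q` dividing its order -/
theorem exists_real_of_prime {q : ℕ} (hq : q.Prime) (hq2 : q ≠ 2) (X : Type u) [Group X]
    [Finite X] : Group.IsSolvable X → (∀ M : Subgroup X, M.Normal → Odd M.index → M = ⊤) →
    q ∣ Nat.card X → ∃ y : X, y ≠ 1 ∧ IsPiElt {q} y ∧ IsConj y y⁻¹ := by
  refine induction_on_card (P := fun X _ _ => Group.IsSolvable X →
    (∀ M : Subgroup X, M.Normal → Odd M.index → M = ⊤) →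
    q ∣ Nat.card X → ∃ y : X, y ≠ 1 ∧ IsPiElt {q} y ∧ IsConj y y⁻¹) ?_ X
  intro X _ _ ih hs hM hd
  haveI : Nontrivial X := Finite.one_lt_card_iff_nontrivial.1
    (hq.one_lt.trans_le (Nat.le_of_dvd Nat.card_pos hd))
  obtain ⟨p, N, hp, hN, hN1, -, hpN⟩ := hall_exists_abelian_normal_pgroup (G := X)
  haveI := Fact.mk hp
  by_cases h1 : q ∣ Nat.card (X ⧸ N)
  · obtain ⟨y, y1, yq, yr⟩ := ih (X ⧸ N) (card_quotient_lt_of_ne_bot hN1) inferInstance
      (fun M hMn hMo => by
        have := hM (M.comap (QuotientGroup.mk' N)) inferInstance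
          (by rwa [index_comap_of_surjective _ (QuotientGroup.mk'_surjective N)])
        rw [← map_comap_eq_self_of_surjective (QuotientGroup.mk'_surjective N) M, this,
          map_top_of_surjective _ (QuotientGroup.mk'_surjective N)]) h1
    obtain ⟨x, rfl, -, h3⟩ := lift_real (QuotientGroup.mk'_surjective N)
      (isPiElt_compl_two_iff.1 (yq.mono (by simpa using hq2.symm))) yr
    refine ⟨piPart {q} x, fun h => y1 ?_, isPiElt_piPart _ _, real_piPart _ h3⟩
    rw [← piPart_eq_self yq, ← map_piPart, h, map_one]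
  · obtain ⟨k, hk⟩ := hpN.exists_card_eq
    have h2 : q ∣ Nat.card N := by
      rw [card_eq_card_quotient_mul_card_subgroup N] at hd
      exact (hq.dvd_mul.1 hd).resolve_left h1
    obtain rfl : q = p := (Nat.prime_dvd_prime_iff_eq hq hp).1 (hq.dvd_of_dvd_pow (hk ▸ h2))
    by_cases h3 : CL.Char.rppGen 2 X ≤ centralizer (N : Set X)
    · exfalso
      rw [hM _ inferInstance CL.Char.rpp_odd_index, top_le_iff] at h3
      obtain ⟨M, hc⟩ := exists_right_complement'_of_coprime (N := N) (by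
        rw [hk]; exact ((Nat.Prime.coprime_iff_not_dvd hq).2 h1).pow_left k)
      have h4 : M = ⊤ := by
        refine hM M ?_ ?_
        · rw [← normalizer_eq_top_iff, eq_top_iff, ← hc.sup_eq_top, sup_le_iff]
          refine ⟨fun n hn => centralizer_le_normalizer _ fun m _ => ?_, le_normalizer⟩
          exact ((h3 ▸ mem_top m : m ∈ centralizer (N : Set X)) n hn).symm
        · rw [hc.index_eq_card, hk]
          exact (hq.odd_of_ne_two hq2).pow
      have := hc.disjoint
      rw [h4, disjoint_top] at this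
      exact hN1 this
    · rw [closure_le] at h3
      obtain ⟨t, ⟨j, hj⟩, ht⟩ := Set.not_subset.1 h3
      obtain ⟨y, yN, y1, yr⟩ := CL.Char.rpp_exists_real_mem (k := j)
        (by rw [← hj, pow_orderOf_eq_one]) ht
      exact ⟨y, y1, isPiElt_singleton_of_mem hpN yN, yr⟩

theorem isSolvable_of_normal_sylow {X : Type u} [Group X] [Finite X] (S : Sylow 2 X)
    [(S : Subgroup X).Normal] : Group.IsSolvable X := by
  haveI := S.isPGroup'.isNilpotent
  haveI : Group.IsSolvable (X ⧸ (S : Subgroup X)) :=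
    CL.Odd.feit_thompson (Nat.odd_iff.2 (by have := S.not_dvd_index; rw [index] at this; omega))
  exact solvable_of_ker_le_range (S : Subgroup X).subtype (QuotientGroup.mk' (S : Subgroup X))
    (by simp)

theorem even_cs {y : G} (y1 : y ≠ 1) (ho : Odd (orderOf y)) (hr : IsConj y y⁻¹) : 2 ∣ cs(y) := by
  by_contra h
  exact y1 (eq_one_of_odd_of_sq ho (sq_eq_one_of_real_of_odd_cs hr (Nat.odd_iff.2 (by omega))))

/-- if `p ∣ |z^G|` for a real `z`, and no real class size is divisible by `2p`, then `C(z)` lies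
in the normalizer of a Sylow 2-subgroup -/
theorem cent_le_normalizer {p : ℕ} (h : ∀ x : G, IsConj x x⁻¹ → ¬ (2 ∣ cs(x) ∧ p ∣ cs(x)))
    {z : G} (hz : IsConj z z⁻¹) (hp : p ∣ cs(z)) :
    ∃ S : Sylow 2 G, cent(z) ≤ normalizer ((S : Subgroup G) : Set G) := by
  have h2 : ¬ 2 ∣ cs(z) := fun h2 => h z hz ⟨h2, hp⟩
  have hzz := sq_eq_one_of_real_of_odd_cs hz (Nat.odd_iff.2 (by omega))
  obtain ⟨S, hS⟩ := exists_sylow_le_of_not_dvd_index h2
  have hn := (Cfsg.Agent.S3861.result (S.subtype hS)).1 fun x x1 xo xr => by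
    have hc : Commute (x : G) z := mem_cent.1 x.2
    have hco : (orderOf (x : G)).Coprime (orderOf z) :=
      ((isPiElt_two_of_sq hzz).coprime (isPiElt_compl_two_iff.2 (by rwa [orderOf_coe]))).symm
    obtain ⟨t, ht⟩ := isConj_iff.1 xr
    have ht' : (t : G) * x * (t : G)⁻¹ = (x : G)⁻¹ := congrArg Subtype.val ht
    refine h (x * z) (isConj_iff.2 ⟨t, ?_⟩) ⟨?_, hp.trans (cs_dvd_cs_mul_of_coprime' hc hco)⟩
    · rw [← conj_mul, ht', mem_cent_iff_conj.1 t.2, hc.eq, mul_inv_rev,
        inv_eq_of_mul_eq_one_right (a := z) (by rw [← sq, hzz])]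
    · exact (even_cs (fun h1 => x1 (Subtype.ext h1)) (by rwa [orderOf_coe])
        (isConj_iff.2 ⟨t, ht'⟩)).trans (cs_dvd_cs_mul_of_coprime hc hco)
  rw [Sylow.coe_subtype, normal_subgroupOf_iff_le_normalizer hS] at hn
  exact ⟨S, hn⟩

end CL.Fgs.RealSyl
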