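/-
Soft subgroups of `p`-groups (Héthelyi): self-centralizing abelian subgroups of index `p` in their normalizer.
-/
import Cfsg.Agent.Fgs.RankTwo

set_option autoImplicit false

namespace CL.Fgs

open Subgroup
open scoped commutatorElement

variable {G : Type*} [Group G] {p : ℕ}

/-- `A` is a soft subgroup -/
structure IsSoft (p : ℕ) (A : Subgroup G) : Prop where
  comm : IsMulCommutative A
  cent : centralizer (A : Set G) ≤ A
  idx : A.relIndex (normalizer (A : Set G)) = p

theorem normalizer_map_of_ker_le {G' : Type*} [Group G'] {f : G →* G'} (hf : Function.Surjective f) {K : Subgroup G}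
    (hK : f.ker ≤ K) : normalizer (K.map f : Set G') = (normalizer (K : Set G)).map f := by
  rw [← map_comap_eq_self_of_surjective hf (normalizer _), comap_normalizer_eq_of_surjective _ hf, comap_map_eq_self hK]

theorem relIndex_map_of_ker_le {G' : Type*} [Group G'] {f : G →* G'} {K : Subgroup G} (hK : f.ker ≤ K) (L : Subgroup G) :
    (K.map f).relIndex (L.map f) = K.relIndex L := by
  rw [← relIndex_comap, comap_map_eq_self hK]

theorem mem_centralizer_map_mk_iff {T K : Subgroup G} [T.Normal] {g : G} :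
    (g : G ⧸ T) ∈ centralizer (K.map (QuotientGroup.mk' T) : Set (G ⧸ T)) ↔ ∀ x ∈ K, ⁅x, g⁆ ∈ T := by
  have hq : ∀ x : G, (x : G ⧸ T) * g = g * x ↔ ⁅x, g⁆ ∈ T := fun x => by
    rw [← commutatorElement_eq_one_iff_mul_comm, ← QuotientGroup.eq_one_iff]; rfl
  exact ⟨fun h x hx => (hq x).1 (h _ (mem_map_of_mem _ hx)), by rintro h _ ⟨x, hx, rfl⟩; exact (hq x).2 (h x hx)⟩

theorem mem_normalizer_of_comm_mem [Finite G] {A : Subgroup G} {g : G} (h : ∀ a ∈ A, ⁅a, g⁆ ∈ A) :
    g ∈ normalizer (A : Set G) := mem_normalizer_fintype fun a ha => by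
  have := mul_mem (inv_mem (h a ha)) ha
  rwa [commutatorElement_inv, commutatorElement_def, inv_mul_cancel_right] at this

theorem IsSoft.subgroupOf {A H : Subgroup G} (h : IsSoft p A) (hH : normalizer (A : Set G) ≤ H) :
    IsSoft p (A.subgroupOf H) := by
  have := h.comm
  refine ⟨inferInstance, fun x hx => h.cent fun a ha => congrArg Subtype.val (hx ⟨a, hH (le_normalizer ha)⟩ ha), ?_⟩
  rw [← subgroupOf_normalizer_eq (le_normalizer.trans hH), relIndex_subgroupOf hH, h.idx]

variable [hp : Fact p.Prime] [Finite G]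

namespace IsSoft

variable {A : Subgroup G} (h : IsSoft p A)
include h

omit [Finite G] in
theorem sup_zpowers {g : G} (hg : g ∈ normalizer (A : Set G)) (hgA : g ∉ A) : A ⊔ zpowers g = normalizer (A : Set G) :=
  (CL.Grp.eq_or_eq_of_relIndex_prime le_sup_left (sup_le le_normalizer (zpowers_le.2 hg))
    (h.idx ▸ hp.out)).resolve_left fun e => hgA (e.le (mem_sup_right (mem_zpowers g)))

omit [Finite G] in
theorem exists_notMem : ∃ g ∈ normalizer (A : Set G), g ∉ A :=
  SetLike.not_le_iff_exists.1 fun e => hp.out.ne_one (h.idx ▸ relIndex_eq_one.2 e)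

omit [Finite G] hp in
theorem comm_self_le (T : Subgroup G) : ⁅A, A⁆ ≤ T :=
  (commutator_eq_bot_iff_le_centralizer.2 (le_centralizer_iff_isMulCommutative.2 h.comm)).le.trans bot_le

omit [Finite G] in
theorem comm_normalizer_le {T : Subgroup G} [T.Normal] {g : G} (hg : g ∈ normalizer (A : Set G)) (hgA : g ∉ A)
    (hT : ∀ a ∈ A, ⁅a, g⁆ ∈ T) : ⁅A, normalizer (A : Set G)⁆ ≤ T := by
  rw [← h.sup_zpowers hg hgA]
  refine CL.Grp.commutator_sup_right_le (h.comm_self_le T) ?_
  rw [zpowers_eq_closure, ← closure_eq A, CL.Grp.commutator_closure_le_iff]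
  rintro a ha _ rfl
  exact hT a ha

omit [Finite G] in
theorem comm_normalizer_self_le {T : Subgroup G} [T.Normal] (hT : ⁅A, normalizer (A : Set G)⁆ ≤ T) :
    ⁅normalizer (A : Set G), normalizer (A : Set G)⁆ ≤ T := by
  obtain ⟨g, hg, hgA⟩ := h.exists_notMem
  refine (commutator_mono (h.sup_zpowers hg hgA).ge le_rfl).trans (CL.Grp.commutator_sup_left_le hT ?_)
  rw [← h.sup_zpowers hg hgA]
  refine CL.Grp.commutator_sup_right_le ((Subgroup.commutator_comm _ _).le.trans
    ((commutator_mono le_rfl (zpowers_le.2 hg)).trans hT)) ?_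
  exact (commutator_eq_bot_iff_le_centralizer.2 (le_centralizer _)).le.trans bot_le

theorem normalizer_le (hG : IsPGroup p G) {K : Subgroup G} (hK : A < K) : normalizer (A : Set G) ≤ K := by
  have h1 := CL.Grp.lt_inf_normalizer_pGroup (hG.to_subgroup K) hK
  exact inf_eq_right.1 ((CL.Grp.eq_or_eq_of_relIndex_prime h1.le inf_le_right (h.idx ▸ hp.out)).resolve_left h1.ne')

/-- the image of `A` in a quotient -/
theorem map_mk {T : Subgroup G} [T.Normal] (hTA : T ≤ A) (hT : ¬ ⁅A, normalizer (A : Set G)⁆ ≤ T) :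
    IsSoft p (A.map (QuotientGroup.mk' T)) := by
  have := h.comm
  have hk : (QuotientGroup.mk' T).ker ≤ A := by rwa [QuotientGroup.ker_mk']
  refine ⟨inferInstance, fun g hg => ?_, ?_⟩
  · obtain ⟨g, rfl⟩ := QuotientGroup.mk_surjective g
    rw [mem_centralizer_map_mk_iff] at hg
    exact mem_map_of_mem _ (not_not.1 fun hgA => hT
      (h.comm_normalizer_le (mem_normalizer_of_comm_mem fun a ha => hTA (hg a ha)) hgA hg))
  · rw [normalizer_map_of_ker_le (QuotientGroup.mk'_surjective T) hk, relIndex_map_of_ker_le hk, h.idx]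

omit hp h in
/-- the image of `N(A)` in a quotient -/
theorem map_mk_normalizer {T : Subgroup G} [T.Normal] (hTA : T ≤ A)
    (hT : ⁅normalizer (A : Set G), normalizer (A : Set G)⁆ ≤ T)
    (hN : (normalizer (A : Set G)).relIndex (normalizer (normalizer (A : Set G) : Set G)) = p) :
    IsSoft p ((normalizer (A : Set G)).map (QuotientGroup.mk' T)) := by
  have hk : (QuotientGroup.mk' T).ker ≤ normalizer (A : Set G) := by
    rw [QuotientGroup.ker_mk']
    exact hTA.trans le_normalizer
  refine ⟨?_, fun g hg => ?_, ?_⟩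
  · rwa [← le_centralizer_iff_isMulCommutative, ← commutator_eq_bot_iff_le_centralizer,
      ← CL.Grp.commutator_le_iff_map_eq_bot]
  · obtain ⟨g, rfl⟩ := QuotientGroup.mk_surjective g
    rw [mem_centralizer_map_mk_iff] at hg
    exact mem_map_of_mem _ (mem_normalizer_of_comm_mem fun a ha => hTA (hg a (le_normalizer ha)))
  · rw [normalizer_map_of_ker_le (QuotientGroup.mk'_surjective T) hk, relIndex_map_of_ker_le hk, hN]

theorem index_normalizer_le (hG : IsPGroup p G) [(normalizer (A : Set G)).Normal] {T : Subgroup G}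
    (hc : Nat.card T ≤ p) (hT : ⁅A, normalizer (A : Set G)⁆ ≤ T) : (normalizer (A : Set G)).index ≤ p := by
  set N := normalizer (A : Set G) with hN
  let Z := N ⊓ centralizer (N : Set G)
  obtain ⟨g, hg, hgA⟩ := h.exists_notMem
  have hZA : Z ≤ A := inf_le_right.trans ((centralizer_le le_normalizer).trans h.cent)
  have h1 : A ⊓ centralizer {g} ≤ Z := le_inf (inf_le_left.trans le_normalizer) (by
    rw [hN, ← h.sup_zpowers hg hgA, CL.Grp.centralizer_sup_zpowers]
    exact inf_le_inf_right _ (le_centralizer_iff_isMulCommutative.2 h.comm))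
  have h2 : Z.relIndex A ≤ p := by
    refine le_trans (b := (A ⊓ centralizer {g}).relIndex A)
      (Nat.le_of_dvd (Nat.pos_of_ne_zero index_ne_zero_of_finite) (relIndex_dvd_of_le_left A h1)) ?_
    rw [inf_relIndex_left]
    refine (CL.Grp.relIndex_centralizer_singleton_le_card fun a ha => ?_).trans hc
    exact hT (commutator_mem_commutator ha hg)
  have h3 : Nat.card (N.map (QuotientGroup.mk' Z)) ≤ p ^ 2 := by
    rw [← relIndex_ker, QuotientGroup.ker_mk', ← relIndex_mul_relIndex Z A N hZA le_normalizer, h.idx, sq]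
    exact Nat.mul_le_mul_right _ h2
  have : (N.map (QuotientGroup.mk' Z)).Normal := Normal.map inferInstance _ (QuotientGroup.mk'_surjective Z)
  refine le_trans ?_ (CL.Odd.index_centralizer_le_prime (hG.to_quotient Z) _ h3)
  rw [← index_comap_of_surjective _ (QuotientGroup.mk'_surjective Z)]
  exact index_antitone fun x hx => mem_normalizer_of_comm_mem fun a ha =>
    hZA (mem_centralizer_map_mk_iff.1 hx a (le_normalizer ha))

end IsSoft

theorem exists_le_center_card_eq (hG : IsPGroup p G) [Nontrivial G] :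
    ∃ T : Subgroup G, T.Normal ∧ T ≤ center G ∧ Nat.card T = p := by
  obtain ⟨T, h1, h2, h3⟩ := CL.Grp.exists_normal_card_eq_pow_le hG (center G) (b := 1)
    (by rw [pow_one]; exact Nat.le_of_dvd Nat.card_pos (CL.Grp.dvd_card_center hG))
  exact ⟨T, h1, h2, by rw [h3, pow_one]⟩

theorem card_quotient_lt_of_card_eq {T : Subgroup G} [T.Normal] (hT : Nat.card T = p) : Nat.card (G ⧸ T) < Nat.card G := by
  rw [card_eq_card_quotient_mul_card_subgroup T, hT]
  exact lt_mul_of_one_lt_right Nat.card_pos hp.out.one_lt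

/-- The overgroups of a soft subgroup form a chain, and the proper ones have index `p` in their normalizers. -/
theorem IsSoft.chain.{u} (G : Type u) [Group G] [Finite G] : IsPGroup p G → ∀ A : Subgroup G, IsSoft p A →
    (∀ K L : Subgroup G, A ≤ K → A ≤ L → K ≤ L ∨ L ≤ K) ∧
      ∀ K : Subgroup G, A ≤ K → K ≠ ⊤ → K.relIndex (normalizer (K : Set G)) = p := by
  refine CL.Grp.induction_on_card (P := fun G _ _ => IsPGroup p G → ∀ A : Subgroup G, IsSoft p A →
    (∀ K L : Subgroup G, A ≤ K → A ≤ L → K ≤ L ∨ L ≤ K) ∧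
      ∀ K : Subgroup G, A ≤ K → K ≠ ⊤ → K.relIndex (normalizer (K : Set G)) = p) ?_ G
  intro G _ _ ih hG A h
  obtain ⟨g, -, hgA⟩ := h.exists_notMem
  have : Nontrivial G := ⟨g, 1, fun e => hgA (e ▸ one_mem _)⟩
  obtain ⟨T, hTn, hTZ, hT⟩ := exists_le_center_card_eq hG
  have hTA : T ≤ A := hTZ.trans ((center_le_centralizer _).trans h.cent)
  have key : ∀ B : Subgroup G, T ≤ B → IsSoft p (B.map (QuotientGroup.mk' T)) →
      (∀ K L : Subgroup G, B ≤ K → B ≤ L → K ≤ L ∨ L ≤ K) ∧
        ∀ K : Subgroup G, B ≤ K → K ≠ ⊤ → K.relIndex (normalizer (K : Set G)) = p := fun B hB hs => by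
    obtain ⟨h1, h2⟩ := ih _ (card_quotient_lt_of_card_eq hT) (hG.to_quotient T) _ hs
    have hk : ∀ K, B ≤ K → (QuotientGroup.mk' T).ker ≤ K := fun K hK => by
      rw [QuotientGroup.ker_mk']
      exact hB.trans hK
    refine ⟨fun K L hK hL => (h1 _ _ (map_mono hK) (map_mono hL)).imp (fun e => ?_) fun e => ?_, fun K hK hne => ?_⟩
    · exact (map_le_iff_le_comap.1 e).trans (comap_map_eq_self (hk L hL)).le
    · exact (map_le_iff_le_comap.1 e).trans (comap_map_eq_self (hk K hK)).le
    · rw [← relIndex_map_of_ker_le (hk K hK), ← normalizer_map_of_ker_le (QuotientGroup.mk'_surjective T) (hk K hK)]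
      exact h2 _ (map_mono hK) fun e => hne (by rw [← comap_map_eq_self (hk K hK), e, comap_top])
  by_cases hc : ⁅A, normalizer (A : Set G)⁆ ≤ T
  swap
  · exact key A hTA (h.map_mk hTA hc)
  have h1 : (∀ K L : Subgroup G, normalizer (A : Set G) ≤ K → normalizer (A : Set G) ≤ L → K ≤ L ∨ L ≤ K) ∧
      ∀ K : Subgroup G, normalizer (A : Set G) ≤ K → K ≠ ⊤ → K.relIndex (normalizer (K : Set G)) = p := by
    by_cases hN : normalizer (A : Set G) = ⊤
    · exact ⟨fun K L _ hL => Or.inl (le_top.trans (hN.ge.trans hL)), fun K hK hne => absurd (top_le_iff.1 (hN ▸ hK)) hne⟩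
    refine key _ (hTA.trans le_normalizer) (IsSoft.map_mk_normalizer hTA (h.comm_normalizer_self_le hc) ?_)
    set N := normalizer (A : Set G) with hN'
    have hle : N ≤ normalizer (N : Set G) := le_normalizer
    have e : normalizer (A.subgroupOf (normalizer (N : Set G)) : Set (normalizer (N : Set G)))
        = N.subgroupOf (normalizer (N : Set G)) := (subgroupOf_normalizer_eq (le_normalizer.trans hle)).symm
    have : (normalizer (A.subgroupOf (normalizer (N : Set G)) : Set (normalizer (N : Set G)))).Normal := by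
      rw [e]; infer_instance
    have h2 := (h.subgroupOf hle).index_normalizer_le (hG.to_subgroup _) (T := T.subgroupOf _)
      (hT ▸ (Nat.card_congr (subgroupOfEquivOfLe (hTA.trans (le_normalizer.trans hle))).toEquiv).le)
      (commutator_le.2 fun a ha b hb => hc (commutator_mem_commutator ha (e.le hb)))
    rw [e] at h2
    refine le_antisymm h2 (Nat.le_of_dvd (Nat.pos_of_ne_zero index_ne_zero_of_finite)
      (CL.Grp.dvd_relIndex_of_not_le hG fun e => ?_))
    exact (CL.Grp.lt_inf_normalizer_pGroup (hG.to_subgroup ⊤) (lt_top_iff_ne_top.2 hN)).not_ge (inf_le_right.trans e)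
  refine ⟨fun K L hK hL => ?_, fun K hK hne => ?_⟩
  · rcases hK.eq_or_lt with rfl | hK
    · exact Or.inl hL
    rcases hL.eq_or_lt with rfl | hL
    · exact Or.inr hK.le
    exact h1.1 K L (h.normalizer_le hG hK) (h.normalizer_le hG hL)
  · rcases hK.eq_or_lt with rfl | hK
    exacts [h.idx, h1.2 K (h.normalizer_le hG hK) hne]

/-- `N(A)'` centralizes every proper normal overgroup of `N(A)`. -/
theorem IsSoft.comm_le_centralizer.{u} (G : Type u) [Group G] [Finite G] : IsPGroup p G → ∀ A X : Subgroup G,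
    IsSoft p A → X.Normal → X ≠ ⊤ → normalizer (A : Set G) ≤ X →
      ⁅normalizer (A : Set G), normalizer (A : Set G)⁆ ≤ centralizer (X : Set G) := by
  refine CL.Grp.induction_on_card (P := fun G _ _ => IsPGroup p G → ∀ A X : Subgroup G,
    IsSoft p A → X.Normal → X ≠ ⊤ → normalizer (A : Set G) ≤ X →
      ⁅normalizer (A : Set G), normalizer (A : Set G)⁆ ≤ centralizer (X : Set G)) ?_ G
  intro G _ _ ih hG A X h hXn hX hNX
  obtain ⟨g, -, hg⟩ := SetLike.exists_of_lt (lt_top_iff_ne_top.2 hX)
  have : Nontrivial G := ⟨g, 1, fun e => hg (e ▸ one_mem _)⟩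
  obtain ⟨T, hTn, hTZ, hT⟩ := exists_le_center_card_eq hG
  have hTA : T ≤ A := hTZ.trans ((center_le_centralizer _).trans h.cent)
  by_cases hc : ⁅A, normalizer (A : Set G)⁆ ≤ T
  · exact (h.comm_normalizer_self_le hc).trans (hTZ.trans (center_le_centralizer _))
  have hAX : A ≤ X := le_normalizer.trans hNX
  have hk : (QuotientGroup.mk' T).ker ≤ A := by rwa [QuotientGroup.ker_mk']
  have h1 := ih _ (card_quotient_lt_of_card_eq hT) (hG.to_quotient T) _ (X.map (QuotientGroup.mk' T)) (h.map_mk hTA hc)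
    (hXn.map _ (QuotientGroup.mk'_surjective T))
    (fun e => hX (by rw [← comap_map_eq_self (hk.trans hAX), e, comap_top]))
    (by rw [normalizer_map_of_ker_le (QuotientGroup.mk'_surjective T) hk]; exact map_mono hNX)
  rw [normalizer_map_of_ker_le (QuotientGroup.mk'_surjective T) hk, ← Subgroup.map_commutator] at h1
  intro z hz
  by_contra hzX
  have h2 : ∀ x ∈ X, ⁅x, z⁆ ∈ T := mem_centralizer_map_mk_iff.1 (h1 (mem_map_of_mem _ hz))
  have hcent : ∀ w : G, (∀ x ∈ X, ⁅x, w⁆ ∈ T) → A ≤ X ⊓ centralizer {w} := fun w hw => by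
    have h3 : w ∈ A := not_not.1 fun hwA => hc (h.comm_normalizer_le
      (mem_normalizer_of_comm_mem fun a ha => hTA (hw a (hAX ha))) hwA fun a ha => hw a (hAX ha))
    exact le_inf hAX fun a ha => mem_centralizer_singleton_iff.2 (congrArg Subtype.val (h.comm.1.1 ⟨a, ha⟩ ⟨w, h3⟩))
  have h4 := hcent z h2
  have h5 := hcent (g * z * g⁻¹) fun x hx => by
    have := hTn.conj_mem _ (h2 _ (hXn.conj_mem' x hx g)) g
    rwa [conjugate_commutatorElement, show g * (g⁻¹ * x * g) * g⁻¹ = x by group] at this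
  have h3 : (X ⊓ centralizer {z}).map (MulAut.conj g : G →* G) = X ⊓ centralizer {g * z * g⁻¹} := by
    ext y
    refine mem_map_equiv.trans ?_
    rw [mem_inf, mem_inf, mem_cent_conj, MulAut.conj_symm_apply, hXn.mem_comm_iff, mul_inv_cancel_left]
  rw [← h3] at h5
  obtain ⟨h6, h7⟩ := IsSoft.chain G hG A h
  have hW : X ⊓ centralizer {z} ≠ X := fun e => hzX fun x hx => mem_centralizer_singleton_iff.1 (e.ge hx).2
  have hWX : X ⊓ centralizer {z} ≤ X := inf_le_left
  generalize X ⊓ centralizer {z} = W at h4 h5 hW hWX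
  have h8 : Nat.card (W.map (MulAut.conj g : G →* G)) = Nat.card W :=
    card_map_of_injective (f := (MulAut.conj g : G →* G)) (MulAut.conj g).injective
  have h9 : g ∈ normalizer (W : Set G) := by
    rw [mem_normalizer_iff_map_conj_eq]
    rcases h6 _ _ h4 h5 with e | e
    exacts [(eq_of_le_of_card_ge e h8.le).symm, eq_of_le_of_card_ge e h8.ge]
  have h10 := (h6 X _ hAX (h4.trans le_normalizer)).resolve_right fun e => hg (e h9)
  rcases CL.Grp.eq_or_eq_of_relIndex_prime hWX h10
    (by rw [h7 _ h4 (ne_top_of_le_ne_top hX hWX)]; exact hp.out) with e | e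
  exacts [hW e.symm, hg (e.ge h9)]

theorem IsSoft.lcs_of_normal.{u} (i : ℕ) : ∀ (G : Type u) [Group G] [Finite G], IsPGroup p G → ∀ A X : Subgroup G,
    IsSoft p A → X.Normal → X ≠ ⊤ → A ≤ X → A.relIndex X = p ^ i →
      X.lowerCentralSeries (i + 1) = ⊥ ∧ X.lowerCentralSeries i ≠ ⊥ := by
  induction i with
  | zero =>
    intro G _ _ hG A X h _ hX hAX hi
    obtain rfl := le_antisymm hAX (relIndex_eq_one.1 hi)
    refine ⟨le_bot_iff.1 (h.comm_self_le _), fun e : A = ⊥ => hX ?_⟩
    rw [eq_top_iff, ← centralizer_eq_top_iff_subset.2 (show (A : Set G) ⊆ center G from e.le.trans bot_le)]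
    exact h.cent
  | succ i ih =>
    intro G _ _ hG A X h hXn hX hAX hi
    have hN : normalizer (A : Set G) ≤ X := h.normalizer_le hG (lt_of_le_of_ne hAX fun e => by
      rw [e, relIndex_self] at hi
      exact (Nat.one_lt_pow i.succ_ne_zero hp.out.one_lt).ne hi)
    let Z := X ⊓ centralizer (X : Set G)
    have hZA : Z ≤ A := inf_le_right.trans ((centralizer_le hAX).trans h.cent)
    have hk : (QuotientGroup.mk' Z).ker ≤ normalizer (A : Set G) := by
      rw [QuotientGroup.ker_mk']
      exact hZA.trans le_normalizer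
    have h1 := ih _ (hG.to_quotient Z) _ (X.map (QuotientGroup.mk' Z)) (IsSoft.map_mk_normalizer hZA
      (le_inf ((commutator_le_self _).trans hN) (IsSoft.comm_le_centralizer G hG A X h hXn hX hN))
      ((IsSoft.chain G hG A h).2 _ le_normalizer (ne_top_of_le_ne_top hX hN)))
      (hXn.map _ (QuotientGroup.mk'_surjective Z))
      (fun e => hX (by rw [← comap_map_eq_self (hk.trans hN), e, comap_top])) (map_mono hN) (by
        rw [← relIndex_mul_relIndex A _ X le_normalizer hN, h.idx, pow_succ'] at hi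
        rw [relIndex_map_of_ker_le hk, Nat.eq_of_mul_eq_mul_left hp.out.pos hi])
    have h2 : ∀ j, (X.map (QuotientGroup.mk' Z)).lowerCentralSeries j = ⊥ ↔ X.lowerCentralSeries (j + 1) = ⊥ := fun j => by
      rw [← Subgroup.map_lowerCentralSeries, Subgroup.map_eq_bot_iff, QuotientGroup.ker_mk',
        Subgroup.lowerCentralSeries_succ, commutator_eq_bot_iff_le_centralizer, le_inf_iff]
      exact and_iff_right (X.lowerCentralSeries_antitone (Nat.zero_le j))
    rwa [Ne, h2, h2] at h1

/-- The `i`-th member of the normalizer tower of a soft subgroup has class `i + 1` if it is proper. -/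
theorem IsSoft.nilpotencyClass_eq (hG : IsPGroup p G) {A K : Subgroup G} (h : IsSoft p A) (hAK : A ≤ K) (hK : K ≠ ⊤)
    {i : ℕ} (hi : A.relIndex K = p ^ i) : Group.nilpotencyClass K = i + 1 := by
  have := (hG.to_subgroup K).isNilpotent
  have hN : normalizer (A : Set G) ≤ normalizer (K : Set G) := by
    rcases hAK.eq_or_lt with rfl | hlt
    exacts [le_rfl, (h.normalizer_le hG hlt).trans le_normalizer]
  have h1 := IsSoft.lcs_of_normal i _ (hG.to_subgroup _) _ (K.subgroupOf (normalizer (K : Set G))) (h.subgroupOf hN)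
    inferInstance (fun e => (CL.Grp.lt_inf_normalizer_pGroup (hG.to_subgroup ⊤) (lt_top_iff_ne_top.2 hK)).not_ge
      (inf_le_right.trans (subgroupOf_eq_top.1 e))) (comap_mono hAK) (by rw [relIndex_subgroupOf le_normalizer, hi])
  have h2 : ∀ j, (K.subgroupOf (normalizer (K : Set G))).lowerCentralSeries j = ⊥ ↔ Group.nilpotencyClass K ≤ j := fun j => by
    rw [← Subgroup.lowerCentralSeries_eq_bot_iff_nilpotencyClass_le, ← map_subtype_inj, ← map_subtype_inj (H := K),
      Subgroup.map_bot, Subgroup.map_bot, top_subtype_lowerCentralSeries, Subgroup.map_lowerCentralSeries,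
      map_subgroupOf_eq_of_le le_normalizer]
  rw [Ne, h2, h2] at h1
  omega

end CL.Fgs
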