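/-
A framework for the bounds of the `2`-length: a special `2`-subgroup `Y` in the second layer of the upper series.
-/
import Cfsg.Agent.Fgs.TowerF

set_option autoImplicit false

open Module Polynomial Subgroup Cfsg CL.Odd CL.Grp
open scoped commutatorElement Pointwise

namespace CL.Fgs.HH

universe u

variable {F : Type*} [Field F] {V : Type*} [AddCommGroup V] [Module F V] {G : Type u} [Group G]
  {ρ : G →* End F V} {A B P S Y : Subgroup G} {μ : G → F} {p q n : ℕ}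

theorem inf_comap_upperPSeries_le {G₁ G₂ : Type*} [Group G₁] [Group G₂] [Finite G₁] [Finite G₂] {f₁ : G →* G₁}
    {f₂ : G →* G₂} (h : f₁.ker ⊓ f₂.ker = ⊥) (n : ℕ) :
    (upperPSeries p G₁ n).1.comap f₁ ⊓ (upperPSeries p G₂ n).1.comap f₂ ≤ (upperPSeries p G n).1 := by
  induction n with
  | zero => simp only [Loc.upperPSeries_zero, MonoidHom.comap_bot, h, le_refl]
  | succ n ih =>
    set A := (upperPSeries p G₁ n).1.comap f₁ ⊓ (upperPSeries p G₂ n).1.comap f₂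
    obtain ⟨g, hi, hg⟩ : ∃ g : G ⧸ A →* (G₁ ⧸ (upperPSeries p G₁ n).1) × (G₂ ⧸ (upperPSeries p G₂ n).1),
        Function.Injective g ∧ ∀ x : G, g x = (↑(f₁ x), ↑(f₂ x)) := by
      refine ⟨(QuotientGroup.map A _ f₁ inf_le_left).prod (QuotientGroup.map A _ f₂ inf_le_right),
        (injective_iff_map_eq_one _).2 fun y hy => ?_, fun _ => rfl⟩
      obtain ⟨y, rfl⟩ := QuotientGroup.mk_surjective y
      exact (QuotientGroup.eq_one_iff y).2 ⟨(QuotientGroup.eq_one_iff (f₁ y)).1 (congrArg Prod.fst hy),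
        (QuotientGroup.eq_one_iff (f₂ y)).1 (congrArg Prod.snd hy)⟩
    have hs : Function.Surjective (QuotientGroup.map A (upperPSeries p G n).1 (MonoidHom.id G) ih) := by
      intro y
      obtain ⟨y, rfl⟩ := QuotientGroup.mk_surjective y
      exact ⟨y, rfl⟩
    rintro x ⟨h1, h2⟩
    by_cases he : Even n
    · rw [Loc.upperPSeries_succ_of_even he] at h1 h2 ⊢
      refine map_pPrimeCore_le_of_surjective hs ⟨x, comap_pPrimeCore_le (f := g)
        (by rw [(MonoidHom.ker_eq_bot_iff _).mpr hi]; simp) (mem_comap.2 (hg x ▸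
          le_pPrimeCore (N := (pPrimeCore p _).prod (pPrimeCore p _)) ?_ (mem_prod.2 ⟨h1, h2⟩))), rfl⟩
      rw [Nat.card_congr (Subgroup.prodEquiv _ _).toEquiv, Nat.card_prod]
      exact (pPrimeCore_coprime p _).mul_left (pPrimeCore_coprime p _)
    · rw [Loc.upperPSeries_succ_of_odd he] at h1 h2 ⊢
      refine map_pCore_le_of_surjective hs ⟨x, comap_pCore_le_of_injective hi (mem_comap.2 (hg x ▸
        le_pCore (N := (pCore p _).prod (pCore p _)) (fun a => ?_) (mem_prod.2 ⟨h1, h2⟩))), rfl⟩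
      obtain ⟨i, hi⟩ := pCore_isPGroup p _ ⟨_, a.2.1⟩
      obtain ⟨j, hj⟩ := pCore_isPGroup p _ ⟨_, a.2.2⟩
      refine ⟨i + j, Subtype.ext (Prod.ext ?_ ?_)⟩
      · simpa [pow_add, pow_mul] using congrArg (fun a => (Subtype.val a) ^ p ^ j) hi
      · simpa [add_comm i, pow_add, pow_mul] using congrArg (fun a => (Subtype.val a) ^ p ^ i) hj

/-- The residual for the class of groups of `p`-length at most `n`. -/
theorem exists_resid [Finite G] (h : ¬ PLengthLE p n G) : ∃ M : Subgroup G, M.Normal ∧ M ≠ ⊥ ∧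
    ∀ (Z : Type u) [Group Z] (φ : G →* Z), Function.Surjective φ → PLengthLE p n Z → M ≤ φ.ker := by
  obtain ⟨M, ⟨h1, h2⟩, hm⟩ := (wellFounded_lt (α := Subgroup G)).has_min
    {N | ∃ _ : N.Normal, PLengthLE p n (G ⧸ N)} ⟨⊤, inferInstance,
      have := QuotientGroup.subsingleton_quotient_top (G := G); Subsingleton.elim _ _⟩
  refine ⟨M, h1, fun e => h ?_, fun Z _ φ hφ hZ => ?_⟩
  · subst e; exact Loc.pLengthLE_of_equiv QuotientGroup.quotientBot h2
  have := Finite.of_surjective φ hφ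
  by_contra hne
  refine hm (M ⊓ φ.ker) ⟨inferInstance, eq_top_iff.2 (le_trans ?_ (inf_comap_upperPSeries_le
    (f₁ := QuotientGroup.map _ M (MonoidHom.id G) inf_le_left)
    (f₂ := QuotientGroup.lift _ φ inf_le_right) (eq_bot_iff.2 fun y hy => ?_) _))⟩ (inf_lt_left.2 hne)
  · rw [show (upperPSeries p (G ⧸ M) (2 * n + 1)).1 = ⊤ from h2, show (upperPSeries p Z (2 * n + 1)).1 = ⊤ from hZ]
    exact le_inf le_top le_top
  · obtain ⟨y, rfl⟩ := QuotientGroup.mk_surjective y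
    exact (QuotientGroup.eq_one_iff y).2 ⟨(QuotientGroup.eq_one_iff _).1 hy.1, hy.2⟩

/-- The configuration in the second layer of a group of large `p`-length. -/
structure Su (p n : ℕ) (Y B S : Subgroup G) : Prop where
  pY : IsPGroup p Y
  pS : IsPGroup p S
  nY : B ≤ N[Y]
  le : S ≤ B
  min : ∀ U < Y, B ≤ N[U] → U ≤ ⁅Y, Y⁆
  phi : Odd.frattiniOf Y = ⁅Y, Y⁆
  cent : ⁅Y, Y⁆ ≤ C[Y]
  ne : Y ≠ ⊥
  inf : Y ⊓ B = ⁅Y, Y⁆
  core : ∀ x ∈ B, x ∈ pPrimePCore p G → ∀ j, x ^ p ^ j = 1 → x ∈ C[Y]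
  syl : IsSylowIn p (Y ⊔ S) (Y ⊔ B)
  len : ¬ PLengthLE p (n + 1) (quo (B ⊓ Loc.commStab Y ⁅Y, Y⁆) (Y ⊔ B))

theorem norm_stab_aux (nY : B ≤ N[Y]) (h : ⁅Y, Y⁆ ≤ B) : Y ⊔ B ≤ N[B ⊓ Loc.commStab Y ⁅Y, Y⁆] :=
  sup_le (le_norm_of_comm_le ((commutator_mono inf_le_right le_rfl).trans ((Loc.le_commStab.1 le_rfl).2.trans
    (le_inf h (Loc.le_commStab.2 ⟨le_normalizer, commutator_mono (Odd.der_le Y) le_rfl⟩)))))
    (le_norm_inf le_normalizer (Loc.le_normalizer_commStab nY (le_norm_comm nY nY)))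

theorem exists_su [Finite G] [hp : Fact p.Prime] (hs : Group.IsSolvable G) (h : ¬ PLengthLE p (n + 1) G) :
    ∃ Y B S : Subgroup G, Su p n Y B S := by
  set P := pPrimePCore p G
  have hπ := QuotientGroup.mk'_surjective P
  obtain ⟨M₀, _, h0, hM₀⟩ := exists_resid (mt Loc.pLengthLE_succ_iff.2 h)
  obtain ⟨M, r, hr, hM, hle, hea⟩ := exists_isMinNormal_isElementaryAbelian_le M₀ h0 inferInstance
  have := hM.normal
  have := Fact.mk hr
  have pM := isPGroup_of_isElementaryAbelian hea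
  have hrp : r ≠ p := by
    rintro rfl
    exact hM.ne_bot (eq_bot_iff.2 ((le_pCore pM).trans Loc.pCore_quotient_pPrimePCore.le))
  obtain ⟨T, hT⟩ := exists_isSylowIn p P
  obtain ⟨R, hR⟩ := exists_isSylowIn r (M.comap (QuotientGroup.mk' P) ⊓ N[T])
  have hPM : P ≤ M.comap (QuotientGroup.mk' P) := (QuotientGroup.ker_mk' P).ge.trans (ker_le_comap _ _)
  have hPb : P.map (QuotientGroup.mk' P) = ⊥ := (Subgroup.map_eq_bot_iff _).2 (QuotientGroup.ker_mk' P).ge
  have f1 := sylow_frattini_sup hT hPM le_normalizer_of_normal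
  have f2 := sylow_frattini_sup hR inf_le_right (le_norm_inf le_normalizer_of_normal le_normalizer)
  have f3 := sylow_frattini_sup hT le_top le_normalizer_of_normal
  have hRM : R.map (QuotientGroup.mk' P) = M := by
    have e := congrArg (Subgroup.map (QuotientGroup.mk' P)) f1
    rw [Subgroup.map_sup, hPb, bot_sup_eq, map_comap_eq_self_of_surjective hπ] at e
    exact ((e ▸ sylow_map hR _).eq_of_le pM (e ▸ Subgroup.map_mono hR.le) le_rfl).symm
  have hRB : R ≤ N[T] ⊓ N[R] := le_inf (hR.le.trans inf_le_right) le_normalizer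
  have hPB : P ⊔ (N[T] ⊓ N[R]) = ⊤ := by
    rw [eq_top_iff, ← f3, top_inf_eq, sup_le_iff, and_iff_right le_sup_left]
    conv_lhs => rw [← f2]
    refine sup_le (inf_le_left.trans ?_) le_sup_right
    rw [← hRM, comap_map_eq, QuotientGroup.ker_mk', sup_comm]
    exact sup_le_sup_left hRB _
  have cop : ∀ U ≤ T, (Nat.card R).Coprime (Nat.card U) := fun U hU =>
    IsPGroup.coprime_card_of_ne r p hrp _ _ hR.isPGroup (hT.isPGroup.to_le hU)
  obtain ⟨Y, hYT, nY, a1, a2, a3, a4, a5, a6⟩ := exists_min_sub hp.out hT.isPGroup (B := N[T] ⊓ N[R]) inf_le_left hRB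
    inf_le_right (cop T le_rfl) fun e => hM.ne_bot (by
      rw [← hRM, eq_bot_iff, ← hPb]
      exact Subgroup.map_mono (e.trans ((Loc.isPConstrained_iff_of_isSylowIn hT).1
        (Loc.isPConstrained_of_isPSolvable (Loc.isPSolvable_of_isSolvable hs)))))
  have pY := hT.isPGroup.to_le hYT
  have hne : Y ≠ ⊥ := by rintro rfl; exact a1 (cent_symm bot_le)
  have hmin : ∀ U < Y, N[T] ⊓ N[R] ≤ N[U] → U ≤ ⁅Y, Y⁆ := fun U h1 h2 => a4 ▸ le_inf h1.le (a2 U h1 h2)
  have hinf : Y ⊓ (N[T] ⊓ N[R]) = ⁅Y, Y⁆ := by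
    rw [← inf_assoc, inf_eq_left.2 (hYT.trans le_normalizer), coprime_norm_cent (hRB.trans nY) (cop Y hYT), a4]
  have hBP : (N[T] ⊓ N[R]) ⊓ P ≤ Loc.commStab Y ⁅Y, Y⁆ := by
    refine Loc.le_commStab.2 ⟨inf_le_left.trans (le_norm_comm nY nY), ?_⟩
    rw [commutator_comm]
    refine hmin _ (lt_of_le_of_lt ?_ (comm_lt_of_nil (K := N[Y] ⊓ T) (hT.isPGroup.to_le inf_le_right).isNilpotent
      (le_inf le_normalizer hYT) inf_le_left hne)) (le_norm_comm nY (le_norm_inf le_normalizer le_normalizer_of_normal))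
    rw [← comm_sup_cent_right (K := C[T]) (cent_anti hYT) ((cent_anti (comm_le_of_le hYT inf_le_right)).trans
      (cent_le_norm _)), ← inf_sup_dedekind' (Or.inl (cent_le_norm T)) ((cent_anti hYT).trans (cent_le_norm _))]
    refine commutator_mono le_rfl (le_inf (inf_le_left.trans nY) ?_)
    refine (inf_le_inf inf_le_left (Loc.pPrimeCore_sup_eq_of_isSylowIn hT).ge).trans ?_
    rw [inf_sup_dedekind (Or.inr le_normalizer_of_normal) le_normalizer]
    refine sup_le_sup_left (cent_symm (le_cent_of_coprime inf_le_left (le_norm_inf (le_normalizer.trans le_normalizer)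
      le_normalizer_of_normal) ?_)) _
    obtain ⟨i, hi⟩ := IsPGroup.iff_card.1 hT.isPGroup
    rw [hi]
    exact ((pPrimeCore_coprime p G).symm.coprime_dvd_right (card_dvd_of_le inf_le_right)).pow_left i
  have hYB : ⁅Y, Y⁆ ≤ N[T] ⊓ N[R] := hinf.ge.trans inf_le_right
  have hn := norm_stab_aux nY hYB
  obtain ⟨U, hU, hYU⟩ := exists_isSylowIn_ge pY (le_sup_left (b := N[T] ⊓ N[R]))
  refine ⟨Y, N[T] ⊓ N[R], U ⊓ (N[T] ⊓ N[R]), pY, hU.isPGroup.to_le inf_le_left, nY, inf_le_right, hmin, a5, a6, hne,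
    hinf, fun x hx hxP j hj => ?_, by rwa [← inf_sup_dedekind (Or.inl nY) hYU, inf_eq_left.2 hU.le], fun hl => ?_⟩
  · have h1 : zpowers x ≤ T := le_sup_right.trans (hT.eq_of_le (hT.isPGroup.to_sup_of_normal_left'
      (isPGroup_zpowers_of_pow hj) (zpowers_le.2 hx.1)) le_sup_left (sup_le hT.le (zpowers_le.2 hxP))).le
    have h2 : zpowers x ≤ C[R] := (le_inf h1 (zpowers_le.2 hx.2)).trans
      ((coprime_norm_cent (hRB.trans inf_le_left) (cop T le_rfl)).le.trans inf_le_right)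
    refine zpowers_le.1 (comm_eq_bot_iff'.1 ?_)
    rw [← a3]
    exact commutator_commutator_eq_bot_of_rotate (by rw [comm_eq_bot_iff'.2 h2, commutator_bot_left])
      (comm_eq_bot_iff.2 ((Loc.le_commStab.1 (zpowers_le.2 (hBP ⟨hx, hxP⟩))).2.trans (a4.ge.trans inf_le_right)))
  have hY : ∀ y : (Y ⊔ (N[T] ⊓ N[R]) : Subgroup G), (y : G) ∈ Y → quoHom hn y ∈ pCore p _ := fun y hy =>
    have := (normal_subgroupOf_of_le_normalizer' (sup_le le_normalizer nY)).map _ (quoHom_surjective hn)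
    le_pCore (hN := this) (pY.comap_subtype.map (quoHom hn)) ⟨y, hy, rfl⟩
  have hφ : Function.Surjective (((QuotientGroup.mk' (pPrimePCore p _)).comp (quoHom hn)).comp
      (inclusion le_sup_right)) := fun z => by
    obtain ⟨⟨_, hg⟩, rfl⟩ := ((QuotientGroup.mk'_surjective _).comp (quoHom_surjective hn)) z
    obtain ⟨y, hy, b, hb, rfl⟩ := (mem_sup_norm nY).1 hg
    refine ⟨⟨b, hb⟩, (one_mul _).symm.trans ?_⟩
    rw [← (QuotientGroup.eq_one_iff _).2 (pCore_le_pPrimePCore (hY ⟨y, mem_sup_left hy⟩ hy))]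
    exact (map_mul ((QuotientGroup.mk' (pPrimePCore p _)).comp (quoHom hn)) ⟨y, _⟩ ⟨b, _⟩).symm
  have hπ' : Function.Surjective ((QuotientGroup.mk' P).comp (N[T] ⊓ N[R]).subtype) := fun z => by
    obtain ⟨g, rfl⟩ := hπ z
    obtain ⟨a, ha, b, hb, rfl⟩ := (mem_sup_norm le_normalizer_of_normal).1 (hPB.ge (mem_top g))
    exact ⟨⟨b, hb⟩, by rw [map_mul, show QuotientGroup.mk' P a = 1 from (QuotientGroup.eq_one_iff a).2 ha, one_mul]; rfl⟩
  have hψ := MonoidHom.liftOfRightInverse_comp_apply _ _ (Function.rightInverse_surjInv hπ')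
    ⟨((QuotientGroup.mk' (pPrimePCore p _)).comp (quoHom hn)).comp (inclusion le_sup_right), fun b hb => by
      have e : quoHom hn (inclusion le_sup_right b) = 1 :=
        Subtype.ext ((coe_quoHom hn _).trans <| coset_eq_one (mem_inf.2 ⟨b.2, hBP ⟨b.2, (QuotientGroup.eq_one_iff (b : G)).1 hb⟩⟩))
      rw [MonoidHom.mem_ker, MonoidHom.comp_apply, MonoidHom.comp_apply, e, map_one]⟩
  have key := hM₀ _ _ (fun z => (hφ z).elim fun b hb => ⟨_, (hψ b).trans hb⟩) (Loc.pLengthLE_succ_iff.1 hl)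
  have hR' : (R.subgroupOf _).map (quoHom hn) ≤ pPrimeCore p _ := by
    rw [← QuotientGroup.ker_mk' (pPrimeCore p _), ← Subgroup.map_eq_bot_iff]
    refine (IsPGroup.disjoint_of_ne r p hrp _ _ ((hR.isPGroup.comap_subtype.map _).map _)
      (pCore_isPGroup p _)).eq_bot_of_le (map_le_iff_le_comap.2 ?_)
    rintro _ ⟨a, ha, rfl⟩
    exact (QuotientGroup.eq_one_iff _).1 ((hψ ⟨a, hRB ha⟩).symm.trans (key (hle (hRM.le ⟨a, ha, rfl⟩))))
  refine a1 (cent_symm ((le_inf le_rfl ?_).trans (hinf.le.trans (a4.ge.trans inf_le_right))))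
  conv_lhs => rw [← a3]
  refine commutator_le.2 fun y hy a ha => ?_
  have e := commutator_mem_commutator (hY ⟨y, mem_sup_left hy⟩ hy) (hR' ⟨⟨a, mem_sup_right (hRB ha)⟩, ha, rfl⟩)
  have e' := (comm_eq_bot_iff.2 (le_cent_of_coprime le_normalizer_of_normal le_normalizer_of_normal (by
    obtain ⟨i, hi⟩ := IsPGroup.iff_card.1 (pCore_isPGroup p
      (quo ((N[T] ⊓ N[R]) ⊓ Loc.commStab Y ⁅Y, Y⁆) (Y ⊔ (N[T] ⊓ N[R]))))
    rw [hi]; exact (pPrimeCore_coprime p _).symm.pow_left i))).le e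
  rw [← map_commutatorElement, mem_bot, ← MonoidHom.mem_ker, ker_quoHom] at e'
  exact e'.1

namespace Su

variable (h : Su p n Y B S)
include h

theorem der_le : ⁅Y, Y⁆ ≤ B ⊓ Loc.commStab Y ⁅Y, Y⁆ := le_inf (h.inf.ge.trans inf_le_right)
  (Loc.le_commStab.2 ⟨le_normalizer, commutator_mono (Odd.der_le Y) le_rfl⟩)

theorem norm : Y ⊔ B ≤ N[B ⊓ Loc.commStab Y ⁅Y, Y⁆] := norm_stab_aux h.nY (h.inf.ge.trans inf_le_right)

theorem closure_eq [Finite G] {s : Set G} (h1 : s ⊆ Y) (h2 : ∀ b ∈ B, ∀ c ∈ s, b * c * b⁻¹ ∈ s) {c : G} (hc : c ∈ s)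
    (hc' : c ∉ ⁅Y, Y⁆) : closure s = Y := by
  by_contra hne
  refine hc' (h.min _ (lt_of_le_of_ne ((closure_le _).2 h1) hne) (fun b hb => mem_norm_of_cj_le ?_) (subset_closure hc))
  rw [cj_eq_map, MonoidHom.map_closure]
  refine closure_mono ?_
  rintro _ ⟨a, ha, rfl⟩
  exact h2 b hb a ha

theorem finish [FiniteDimensional F V] [Finite G] [hp : Fact p.Prime] (ρ : G →* End F V) (hs : Group.IsSolvable G)
    (hO : pCore p G = ⊥) (hρ : ∀ g, ρ g = 1 → g = 1) (hchar : ∀ q : ℕ, q.Prime → p ≠ q → (q : F) ≠ 0) {s : Set G}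
    (hcl : closure s = Y) (H : ∀ (q : ℕ) (P A : Subgroup G) (μ : G → AlgebraicClosure F), q.Prime → p ≠ q →
      IsPGroup q P → Y ⊔ B ≤ N[P] → CW (bc ρ) P A μ → (∀ t ∈ P, t ^ q ∈ A) → ∀ c ∈ s, c ∈ wstab A μ ∧
        (Y ≤ wstab A μ → (∀ y ∈ Y, ⁅c, y⁆ ∈ Loc.commStab P A) ∧ (⁅Y, Y⁆ = ⊥ → c ∈ Loc.commStab P A))) : False := by
  have key : ∀ T ≤ Y, B ≤ N[T] → Y ≤ N[T] → (∀ (P A : Subgroup G), Y ≤ N[P] → Y ≤ N[A] →
      (∀ c ∈ s, (∀ y ∈ Y, ⁅c, y⁆ ∈ Loc.commStab P A) ∧ (⁅Y, Y⁆ = ⊥ → c ∈ Loc.commStab P A)) →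
      T ≤ Loc.commStab P A) → T = ⊥ := fun T hT h1 h2 h3 => by
    have h4 := le_cent_fitting_of_pCore (K := ⊤) (D := T) fun q hq hne => by
      have hpq : p ≠ q := by rintro rfl; exact hne (by rwa [pCoreOf_top])
      have := Fact.mk hq
      by_contra hc
      obtain ⟨P, hPQ, a1, A, μ, hw, a2, a3⟩ := exists_min_cw ρ hq (pCoreOf_isPGroup q ⊤) (fun g _ => hρ g)
        (hchar q hq hpq) (B := Y ⊔ B) le_normalizer_of_normal (hT.trans le_sup_left) (sup_le h2 h1)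
        (IsPGroup.coprime_card_of_ne p q hpq _ _ (h.pY.to_le hT) (pCoreOf_isPGroup q ⊤)) hc
      have a4 := H q P A μ hq hpq ((pCoreOf_isPGroup q ⊤).to_le hPQ) a1 hw a2
      have a5 : Y ≤ wstab A μ := hcl ▸ (closure_le _).2 fun c hc => (a4 c hc).1
      exact a3 (hT.trans a5) (Loc.le_commStab.1 (h3 P A (le_sup_left.trans a1) (fun a ha => (a5 ha).1)
        fun c hc => (a4 c hc).2 a5)).2
    rw [eq_bot_iff, ← hO, ← pCoreOf_top]
    exact le_pCoreOf_of_le_fittingOf (h.pY.to_le hT) ((le_inf le_top h4).trans (cent_sub_Fitting inferInstance))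
  have h1 := key _ (Odd.der_le Y) (le_norm_comm h.nY h.nY) (left_le_norm_comm Y Y) fun P A a1 a2 a3 =>
    hcl ▸ der_closure_le (hcl ▸ Loc.le_normalizer_commStab a1 a2) fun a ha b hb =>
      (a3 a ha).1 b (hcl ▸ subset_closure hb)
  exact h.ne (key Y le_rfl h.nY le_normalizer fun P A _ _ a3 => hcl ▸ (closure_le _).2 fun c hc => (a3 c hc).2 h1)

end Su

end CL.Fgs.HH
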