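/-
The `2`-length of a solvable group is at most the derived length of its Sylow `2`-subgroups.
-/
import Cfsg.Agent.Fgs.TowerG

set_option autoImplicit false

open Module Polynomial Subgroup Cfsg CL.Odd CL.Grp
open scoped commutatorElement Pointwise

namespace CL.Fgs.HH

universe u

variable {F : Type*} [Field F] {V : Type*} [AddCommGroup V] [Module F V] {G : Type u} [Group G]
  {ρ : G →* End F V} {A B D E K M P S Y : Subgroup G} {μ : G → F} {p q m n : ℕ} {y : G}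

/-- The derived subgroup as an operator on subgroups. -/
abbrev dr (K : Subgroup G) : Subgroup G := ⁅K, K⁆

theorem dr_le (n : ℕ) (K : Subgroup G) : dr^[n] K ≤ K := by
  induction n generalizing K with
  | zero => rfl
  | succ n ih => exact (ih _).trans (Odd.der_le K)

theorem dr_mono (n : ℕ) (h : D ≤ K) : dr^[n] D ≤ dr^[n] K := by
  induction n generalizing D K with
  | zero => exact h
  | succ n ih => exact ih (der_mono h)

theorem map_dr {G' : Type u} [Group G'] (f : G →* G') (n : ℕ) (K : Subgroup G) :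
    (dr^[n] K).map f = dr^[n] (K.map f) := by
  induction n generalizing K with
  | zero => rfl
  | succ n ih => rw [Function.iterate_succ_apply, ih, Subgroup.map_commutator]; rfl

theorem norm_dr (n : ℕ) (h : B ≤ N[K]) : B ≤ N[dr^[n] K] := by
  induction n generalizing K with
  | zero => exact h
  | succ n ih => exact ih (le_norm_comm h h)

theorem dr_sup_le (n : ℕ) (h : S ≤ N[Y]) (hE : E ≤ Y ⊔ S) : dr^[n] E ≤ Y ⊔ dr^[n] S := by
  induction n generalizing E S with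
  | zero => exact hE
  | succ n ih => exact ih ((Odd.der_le S).trans h) ((der_mono hE).trans (der_sup_le_sup_der h))

theorem quo_dr (n : ℕ) (h : K ≤ N[M]) : quo M (dr^[n] K) = dr^[n] (quo M K) := by
  induction n generalizing K with
  | zero => rfl
  | succ n ih => rw [Function.iterate_succ_apply, ih ((Odd.der_le K).trans h), quo_der h]; rfl

theorem map_derivedSeries_eq_dr (n : ℕ) (K : Subgroup G) : (derivedSeries K n).map K.subtype = dr^[n] K := by
  induction n with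
  | zero => rw [derivedSeries_zero, ← MonoidHom.range_eq_map, range_subtype]; rfl
  | succ n ih => rw [derivedSeries_succ, Subgroup.map_commutator, ih, Function.iterate_succ_apply']

/-- The vectors killed by the products `(s_{m-1} - 1) ⋯ (s_0 - 1)` with `s_i` in the `i`-th derived subgroup. -/
def kill (ρ : G →* End F V) : ℕ → Subgroup G → Submodule F V
  | 0, _ => ⊥
  | m + 1, D => ⨅ s ∈ D, (kill ρ m ⁅D, D⁆).comap (ρ s - 1)

theorem mem_kill_succ {w : V} : w ∈ kill ρ (m + 1) D ↔ ∀ s ∈ D, (ρ s - 1) w ∈ kill ρ m ⁅D, D⁆ := by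
  simp only [kill, Submodule.mem_iInf, Submodule.mem_comap]

open TensorProduct in
theorem kill_bc (h : kill ρ m D = ⊤) : kill (bc ρ) m D = ⊤ := by
  have key : ∀ (m : ℕ) (D : Subgroup G), ∀ v ∈ kill ρ m D, (1 : AlgebraicClosure F) ⊗ₜ[F] v ∈ kill (bc ρ) m D := by
    intro m
    induction m with
    | zero => exact fun D v hv => by rw [(Submodule.mem_bot F).1 hv, tmul_zero]; exact zero_mem _
    | succ m ih =>
      refine fun D v hv => mem_kill_succ.2 fun s hs => ?_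
      have := ih _ _ (mem_kill_succ.1 hv s hs)
      rwa [LinearMap.sub_apply, tmul_sub] at this
  refine eq_top_iff.2 fun x hx => ?_
  clear hx
  induction x using TensorProduct.induction_on with
  | zero => exact zero_mem _
  | tmul a v => simpa [smul_tmul'] using Submodule.smul_mem _ a (key m D v (h.ge trivial))
  | add a b ha hb => exact add_mem ha hb

/-- The span of the translates of a subspace. -/
def orb (ρ : G →* End F V) (W : Submodule F V) (T : Set G) : Submodule F V := ⨆ g ∈ T, W.map (ρ g)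

theorem mem_orb {W : Submodule F V} {T : Set G} {g : G} {w : V} (hg : g ∈ T) (hw : w ∈ W) : ρ g w ∈ orb ρ W T :=
  Submodule.mem_iSup_of_mem g (Submodule.mem_iSup_of_mem hg ⟨w, hw, rfl⟩)

theorem orb_le {W U : Submodule F V} {T : Set G} (h : ∀ g ∈ T, ∀ w ∈ W, ρ g w ∈ U) : orb ρ W T ≤ U :=
  iSup₂_le fun g hg => by rintro _ ⟨w, hw, rfl⟩; exact h g hg w hw

theorem orb_map {W U : Submodule F V} {T : Set G} (f : End F V) (h : ∀ g ∈ T, ∀ w ∈ W, f (ρ g w) ∈ U) {v : V}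
    (hv : v ∈ orb ρ W T) : f v ∈ U := orb_le (U := U.comap f) h hv

namespace CW

variable [Finite G] (h : CW ρ P A μ) (hchar : (Nat.card P : F) ≠ 0)
include h hchar

theorem exists_proj : ∃ e : End F V, (∀ w ∈ wt ρ A μ, e w = w) ∧
    ∀ g ∈ N[P], g ∉ wstab A μ → ∀ w ∈ wt ρ A μ, e (ρ g w) = 0 := by
  have := Fintype.ofFinite A
  have hA : (Nat.card A : F) ≠ 0 := fun e => hchar (by
    obtain ⟨c, hc⟩ := card_dvd_of_le h.le
    rw [hc, Nat.cast_mul, e, zero_mul])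
  let e : End F V := ∑ a : A, μ (a : G)⁻¹ • ρ a
  have he : ∀ w, e w = ∑ a : A, μ (a : G)⁻¹ • ρ a w := fun w => by simp [e, LinearMap.sum_apply]
  refine ⟨(Nat.card A : F)⁻¹ • e, fun w hw => ?_, fun g hg hn w hw => ?_⟩
  · rw [LinearMap.smul_apply, he, Finset.sum_congr rfl fun a _ => by
      rw [hw a a.2, smul_smul, mul_comm, wt_mul_inv h.ne_bot a.2, one_smul], Finset.sum_const, Finset.card_univ,
      ← Nat.card_eq_fintype_card, ← Nat.cast_smul_eq_nsmul F, smul_smul, inv_mul_cancel₀ hA, one_smul]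
  obtain ⟨a, ha, h1, h2⟩ := h.exists_ne_of_not_mem_wstab hg hn
  have e2 : e (ρ a (ρ g w)) = μ a • e (ρ g w) := by
    rw [he, he, Finset.smul_sum]
    refine Fintype.sum_equiv (Equiv.mulRight ⟨a, ha⟩) _ _ fun b => ?_
    simp only [Equiv.coe_mulRight, Subgroup.coe_mul, mul_inv_rev]
    rw [rho_mul_apply, smul_smul, wt_mul h.ne_bot (inv_mem ha) (inv_mem b.2), ← mul_assoc, wt_mul_inv h.ne_bot ha,
      one_mul]
  rw [rho_conj_wt h1 hw, map_smul, ← sub_eq_zero, ← sub_smul] at e2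
  rw [LinearMap.smul_apply, (smul_eq_zero.1 e2).resolve_left (sub_ne_zero.2 h2), smul_zero]

theorem orb_inf {T₁ T₂ : Set G} (h1 : T₁ ⊆ N[P]) (h2 : T₂ ⊆ N[P]) (hd : ∀ a ∈ T₁, ∀ b ∈ T₂, a⁻¹ * b ∉ wstab A μ)
    {v : V} (hv1 : v ∈ orb ρ (wt ρ A μ) T₁) (hv2 : v ∈ orb ρ (wt ρ A μ) T₂) : v = 0 := by
  obtain ⟨e, e1, e2⟩ := h.exists_proj hchar
  have k1 : ∀ g ∈ T₁, (ρ g * e * ρ g⁻¹) v = 0 := fun g hg => (orb_le fun b hb w hw => by
    rw [LinearMap.mem_ker, End.mul_apply, End.mul_apply, ← rho_mul_apply,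
      e2 _ (mul_mem (inv_mem (h1 hg)) (h2 hb)) (hd g hg b hb) w hw, map_zero] : _ ≤ LinearMap.ker _) hv2
  clear hv2 hd
  induction T₁, Set.toFinite T₁ using Set.Finite.induction_on with
  | empty => simpa [orb] using hv1
  | @insert g T _ _ ih =>
    refine ih ((Set.subset_insert _ _).trans h1) ?_ fun a ha => k1 a (Set.mem_insert_of_mem _ ha)
    rw [orb, iSup_insert] at hv1
    obtain ⟨_, ⟨w, hw, rfl⟩, u, hu, rfl⟩ := Submodule.mem_sup.1 hv1
    have k2 := k1 g (Set.mem_insert _ _)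
    rw [map_add, End.mul_apply, End.mul_apply, ← rho_mul_apply, inv_mul_cancel, map_one, End.one_apply, e1 w hw] at k2
    rw [eq_neg_of_add_eq_zero_left k2]
    refine add_mem (neg_mem (orb_map _ (fun b hb w hw => ?_) hu)) hu
    rw [End.mul_apply, End.mul_apply, ← rho_mul_apply]
    by_cases c : g⁻¹ * b ∈ wstab A μ
    · rw [e1 _ (wt_inv c hw), ← rho_mul_apply, mul_inv_cancel_left]; exact mem_orb hb hw
    · rw [e2 _ (mul_mem (inv_mem (h1 (Set.mem_insert _ _))) (h1 (Set.mem_insert_of_mem _ hb))) c w hw, map_zero]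
      exact zero_mem _

theorem peel (hp : p.Prime) (hD : IsPGroup p D) (hDP : D ≤ N[P]) (hn : ¬ D ≤ wstab A μ)
    (hk : wt ρ A μ ≤ kill ρ (m + 1) D) : wt ρ A μ ≤ kill ρ m ⁅D, D⁆ := by
  obtain ⟨s, hs, hsM⟩ := SetLike.not_le_iff_exists.1 (show ¬ D ≤ (D ⊓ wstab A μ) ⊔ ⁅D, D⁆ from fun e => hn
    ((Phi_nongen (e.trans (sup_le_sup_left (der_le_Phi hp hD) _)) inf_le_left).ge.trans inf_le_right))
  have hM : (D ⊓ wstab A μ) ⊔ ⁅D, D⁆ ≤ D := sup_le inf_le_left (Odd.der_le D)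
  have h1 : D ⊓ wstab A μ ≤ (D ⊓ wstab A μ) ⊔ ⁅D, D⁆ := le_sup_left
  have h2 : ⁅D, D⁆ ≤ (D ⊓ wstab A μ) ⊔ ⁅D, D⁆ := le_sup_right
  generalize (D ⊓ wstab A μ) ⊔ ⁅D, D⁆ = M at hsM hM h1 h2
  have key : ∀ m, ∀ E ≤ M, ∀ a ∈ orb ρ (wt ρ A μ) M, ∀ b ∈ orb ρ (wt ρ A μ) ((D : Set G) \ M), b - a ∈ kill ρ m E →
      a ∈ kill ρ m E := fun m => by
    induction m with
    | zero =>
      exact fun E _ a ha b hb e => h.orb_inf hchar (hM.trans hDP) (Set.sdiff_subset.trans hDP) (fun x hx y hy e =>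
        hy.2 (by simpa using M.mul_mem hx (h1 ⟨D.mul_mem (inv_mem (hM hx)) hy.1, e⟩))) ha (sub_eq_zero.1 e ▸ hb)
    | succ m ih =>
      refine fun E hE a ha b hb e => mem_kill_succ.2 fun t ht => ih _ ((Odd.der_le E).trans hE) _ (sub_mem
        (orb_map (ρ t) (fun g hg w hw => ?_) ha) ha) ((ρ t - 1) b) (sub_mem (orb_map (ρ t) (fun g hg w hw => ?_) hb) hb)
        (map_sub (ρ t - 1) b a ▸ mem_kill_succ.1 e t ht)
      · exact rho_mul_apply ρ t g w ▸ mem_orb (M.mul_mem (hE ht) hg) hw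
      · exact rho_mul_apply ρ t g w ▸ mem_orb
          ⟨D.mul_mem (hM (hE ht)) hg.1, fun e => hg.2 ((mul_mem_cancel_left (hE ht)).1 e)⟩ hw
  exact fun w hw => key m _ h2 w (by simpa using mem_orb (ρ := ρ) (T := M) (one_mem M) hw) _ (mem_orb ⟨hs, hsM⟩ hw)
    (mem_kill_succ.1 (hk hw) s hs)

theorem exists_dr (hp : p.Prime) (m : ℕ) : ∀ D : Subgroup G, IsPGroup p D → D ≤ N[P] → wt ρ A μ ≤ kill ρ m D →
    ∃ k j, k + j + 1 = m ∧ dr^[k] D ≤ wstab A μ ∧ wt ρ A μ ≤ kill ρ (j + 1) (dr^[k] D) := by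
  induction m with
  | zero => exact fun D _ _ e => absurd (le_bot_iff.1 e) h.ne_bot
  | succ m ih =>
    intro D hD hDP hk
    by_cases c : D ≤ wstab A μ
    · exact ⟨0, m, by omega, c, hk⟩
    obtain ⟨k, j, e, a1, a2⟩ := ih _ (hD.to_le (Odd.der_le D)) ((Odd.der_le D).trans hDP) (h.peel hchar hp hD hDP c hk)
    exact ⟨k + 1, j, by omega, a1, a2⟩

end CW

/-- The norm operator of a subgroup. -/
noncomputable def nrm [Finite G] (ρ : G →* End F V) (K : Subgroup G) : End F V :=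
  ∑ k ∈ (Set.toFinite (K : Set G)).toFinset, ρ k

theorem nrm_bot [Finite G] : nrm ρ ⊥ = 1 := by
  rw [nrm, show (Set.toFinite ((⊥ : Subgroup G) : Set G)).toFinset = {1} by ext; simp, Finset.sum_singleton, map_one]

theorem nrm_comm [Finite G] (h : y ∈ C[K]) : ρ y * nrm ρ K = nrm ρ K * ρ y := by
  rw [nrm, Finset.mul_sum, Finset.sum_mul]
  exact Finset.sum_congr rfl fun k hk => by
    rw [← map_mul, ← map_mul, mem_cent.1 h k ((Set.Finite.mem_toFinset _).1 hk)]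

theorem nrm_mem [Finite G] (h : K ≤ wstab A μ) {w : V} (hw : w ∈ wt ρ A μ) : nrm ρ K w ∈ wt ρ A μ := by
  rw [nrm, LinearMap.sum_apply]
  exact sum_mem fun k hk => wt_inv (h ((Set.Finite.mem_toFinset _).1 hk)) hw

theorem mem_sup_inv (hc : y ∈ N[K]) (h2 : y ^ 2 = 1) {x : G} : x ∈ K ⊔ zpowers y ↔ x ∈ K ∨ x * y ∈ K := by
  have e : y * y = 1 := (sq y).symm.trans h2
  refine ⟨fun hx => ?_, fun hx => hx.elim mem_sup_left fun hx =>
    (mul_mem_cancel_right (mem_sup_right (mem_zpowers y))).1 (mem_sup_left hx)⟩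
  obtain ⟨k, hk, _, ⟨i, rfl⟩, rfl⟩ := (mem_sup_norm (zpowers_le.2 hc)).1 hx
  have e2 : ∀ j : ℤ, y ^ (2 * j) = 1 := fun j => by rw [zpow_mul, zpow_two, e, one_zpow]
  obtain ⟨j, rfl | rfl⟩ := Int.even_or_odd' i
  · exact Or.inl (by simpa [e2] using hk)
  · exact Or.inr (by simpa [zpow_add, e2, mul_assoc, e] using hk)

theorem nrm_sup [Finite G] (h : (2 : F) = 0) (hc : y ∈ N[K]) (h2 : y ^ 2 = 1) (hy : y ∉ K) :
    nrm ρ (K ⊔ zpowers y) = nrm ρ K * (ρ y - 1) := by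
  classical
  have e : y * y = 1 := (sq y).symm.trans h2
  have e1 : (ρ y - 1 : End F V) = 1 + ρ y := by
    rw [sub_eq_iff_eq_add, add_right_comm, ← two_smul F, h, zero_smul, zero_add]
  rw [e1, mul_add, mul_one, nrm, nrm, Finset.sum_mul, show (Set.toFinite ((K ⊔ zpowers y : Subgroup G) : Set G)).toFinset =
    (Set.toFinite (K : Set G)).toFinset ∪ (Set.toFinite (K : Set G)).toFinset.map (Equiv.mulRight y).toEmbedding by
      ext x
      simp [mem_sup_inv hc h2, Finset.mem_map_equiv, inv_eq_of_mul_eq_one_right e], Finset.sum_union, Finset.sum_map]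
  · simp
  · refine Finset.disjoint_left.2 fun x h1 h2 => hy ?_
    obtain ⟨k, hk, rfl⟩ := Finset.mem_map.1 h2
    exact (mul_mem_cancel_left ((Set.Finite.mem_toFinset _).1 hk)).1 ((Set.Finite.mem_toFinset _).1 h1)

theorem sup_inf_eq_bot (hc : y ∈ N[K]) (h2 : y ^ 2 = 1) (hK : K ⊓ M = ⊥) (hy : y ∉ K ⊔ M) : (K ⊔ zpowers y) ⊓ M = ⊥ :=
  eq_bot_iff.2 fun x hx => ((mem_sup_inv hc h2).1 hx.1).elim (fun e => hK.le ⟨e, hx.2⟩) fun e =>
    (hy ((mul_mem_cancel_left (mem_sup_right hx.2)).1 (mem_sup_left e))).elim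

/-- An elementary abelian `2`-group acting faithfully on the symplectic section has a regular submodule. -/
theorem CW.free [Finite G] (h : CW ρ P A μ) (h2 : (2 : F) = 0) (hq : q.Prime) (hq2 : 2 ≠ q) (pP : IsPGroup q P)
    (K : Subgroup G) : IsElementaryAbelian 2 K → K ≤ N[P] → K ≤ wstab A μ → K ⊓ Loc.commStab P A = ⊥ →
      ∃ w ∈ wt ρ A μ, nrm ρ K w ≠ 0 := by
  have := Fact.mk hq
  induction K using WellFoundedLT.induction with
  | ind K ih =>
  intro hK hKP hKw hf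
  have hKA : K ≤ N[A] := fun a ha => (hKw ha).1
  have hPA : P ≤ N[A] := fun a ha => (h.le_wstab ha).1
  have cop : ∀ B ≤ K, (Nat.card B).Coprime (Nat.card P) := fun B hB =>
    IsPGroup.coprime_card_of_ne 2 q hq2 _ _ ((isPGroup_of_isElementaryAbelian hK).to_le hB) pP
  by_cases h0 : K = ⊥
  · obtain ⟨v, hv, h1⟩ := Submodule.exists_mem_ne_zero_of_ne_bot h.ne_bot
    exact ⟨v, hv, by rwa [h0, nrm_bot]⟩
  obtain ⟨B, hB, ⟨y, hy, rfl⟩, hne⟩ : ∃ B ≤ K, (∃ a ∈ K, B ⊔ zpowers a = K) ∧ ¬ P ⊓ C[B] ≤ Loc.commStab K A := by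
    by_contra hc
    push Not at hc
    exact h0 (eq_bot_iff.2 (hf ▸ le_inf le_rfl (Loc.le_commStab.2 ⟨hKA, (commutator_comm _ _).le.trans
      (Loc.le_commStab.1 (coprime_abelian_gen_cent hK.1 hKP (cop K le_rfl) hc)).2⟩)))
  have hne' : ¬ ⁅P ⊓ C[B], zpowers y⁆ ≤ A := fun e => hne (Loc.le_commStab.2 ⟨inf_le_left.trans hPA,
    comm_sup_right_le hKA ((comm_eq_bot_iff.2 inf_le_right).le.trans bot_le) e⟩)
  have hyB : y ∉ B := fun e => hne' ((comm_eq_bot_iff.2 (inf_le_right.trans (cent_anti (zpowers_le.2 e)))).le.trans bot_le)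
  have hyc : y ∈ C[B] := le_cent_of_abelian hK.1 le_rfl hB hy
  obtain ⟨w, hw, hw0⟩ := ih B (lt_of_le_of_ne hB fun e => hyB (e.ge hy)) ⟨abelian_of_le hK.1 hB, fun a ha => hK.2 a (hB ha)⟩
    (hB.trans hKP) (hB.trans hKw) (eq_bot_iff.2 (hf ▸ inf_le_inf_right _ hB))
  by_contra hc
  push Not at hc
  have hinv : ∀ t ∈ P ⊓ C[B], ∀ v ∈ (wt ρ A μ).map (nrm ρ B), ρ t v ∈ (wt ρ A μ).map (nrm ρ B) := by
    rintro t ht _ ⟨v, hv, rfl⟩
    exact ⟨_, wt_inv (h.le_wstab ht.1) hv, (LinearMap.congr_fun (nrm_comm ht.2) v).symm⟩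
  have h3 := comm_le_wfix hinv (T := zpowers y) (zpowers_le.2 (by
    rintro _ ⟨v, hv, rfl⟩
    have e := hc v hv
    rw [nrm_sup h2 (cent_le_norm _ hyc) (hK.2 y hy) hyB, mul_sub, ← nrm_comm hyc, mul_one] at e
    exact sub_eq_zero.1 e))
  obtain ⟨t, ht, htA⟩ := SetLike.not_le_iff_exists.1 hne'
  have htR := comm_le_left (le_norm_inf (zpowers_le.2 (hKP hy)) (zpowers_le.2 (norm_le_norm_cent _ (cent_le_norm _ hyc)))) ht
  have h4 : P ≤ h.perp htR.1 := (coprime_cent_prod (hB.trans hKP) (cop B hB) (Or.inr (sol_of_isPGroup hq pP))).ge.trans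
    (sup_le (h.comm_le_perp (hB.trans hKP) (fun b hb z hz => (mem_wstab.1 (hKw (hB hb))).2 z (h.der_le hz)) htR.1 htR.2)
      fun a ha => ⟨ha.1, eq_of_wt hw0 (by
        rw [← mem_wt.1 (nrm_mem (hB.trans hKw) hw) _ (h.comm_mem ha.1 htR.1), one_smul]
        exact comm_le_wfix hinv h3 (commutator_mem_commutator ha ht) _ ⟨w, hw, rfl⟩)⟩)
  exact htA ((h.rad t htR.1).2 fun a ha => (h4 ha).2)

theorem exists_ea_kill [Finite G] (h2 : (2 : F) = 0) (hY : IsElementaryAbelian 2 Y) (m : ℕ) : ∀ E S : Subgroup G,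
    IsPGroup 2 E → E ≤ N[Y] → E ≤ N[M] → S ≤ E → E ≤ Y ⊔ S → Y ⊓ S = ⊥ → (∀ i < m, ¬ Y ⊓ dr^[i] E ≤ M) →
      ∃ K ≤ Y ⊓ E, K ⊓ M = ⊥ ∧ ∀ w ∈ kill ρ m E, nrm ρ K w = 0 := by
  induction m with
  | zero => exact fun E S _ _ _ _ _ _ _ => ⟨⊥, bot_le, bot_inf_eq _, fun w hw => by rw [(Submodule.mem_bot F).1 hw, map_zero]⟩
  | succ m ih =>
    intro E S pE hEY hEM hS hE hYS H
    have hd := Odd.der_le E
    obtain ⟨K, hK, a1, a2⟩ := ih ⁅E, E⁆ ⁅S, S⁆ (pE.to_le hd) (hd.trans hEY) (hd.trans hEM) (der_mono hS)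
      (dr_sup_le 1 (hS.trans hEY) hE) (eq_bot_iff.2 (hYS ▸ inf_le_inf_left _ (Odd.der_le S)))
      fun i hi => H (i + 1) (by omega)
    have n1 := le_norm_inf hEY (le_normalizer (H := E))
    have l1 := comm_le_left n1
    have a3 : Y ⊓ ⁅E, E⁆ ≤ ⁅Y ⊓ E, E⁆ := by
      have e : E = (Y ⊓ E) ⊔ S := by rw [inf_comm, ← inf_sup_dedekind' (Or.inl (hS.trans hEY)) hS, inf_eq_left.2 hE]
      have e1 : ⁅(Y ⊓ E) ⊔ S, (Y ⊓ E) ⊔ S⁆ ≤ ⁅Y ⊓ E, E⁆ ⊔ ⁅S, S⁆ := der_sup_le (sup_le (le_norm_of_comm_le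
        ((commutator_mono (sup_le (l1.trans inf_le_right) ((Odd.der_le S).trans hS)) le_rfl).trans
          ((commutator_comm _ _).le.trans le_sup_left))) (le_norm_sup (hS.trans (right_le_norm_comm _ _))
          (left_le_norm_comm S S))) ((commutator_mono le_rfl inf_le_right).trans le_sup_left)
        ((commutator_mono le_rfl hS).trans le_sup_left) le_sup_right
      rw [← e] at e1
      refine (inf_le_inf_left _ e1).trans ?_
      rw [inf_sup_dedekind (Or.inl (((Odd.der_le S).trans hS).trans (right_le_norm_comm _ _))) (l1.trans inf_le_left)]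
      exact sup_le le_rfl ((inf_le_inf_left _ (Odd.der_le S)).trans (hYS.le.trans bot_le))
    obtain ⟨y, hy, hyK⟩ := SetLike.not_le_iff_exists.1 (show ¬ Y ⊓ E ≤ K ⊔ M from fun e => H 0 (by omega) (by
      have e1 := quo_mono M (e.trans (sup_le_sup_right (hK.trans a3) M))
      rw [quo_sup_right ((l1.trans inf_le_right).trans hEM), quo_comm (inf_le_right.trans hEM) hEM] at e1
      exact (quo_eq_bot_iff (inf_le_right.trans hEM)).1 (eq_bot_of_le_commutator (nil_quo pE.isNilpotent M)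
        (quo_mono M inf_le_right) e1)))
    have hc : y ∈ N[K] := le_norm_of_abelian hY.1 le_rfl (hK.trans inf_le_left) hy.1
    refine ⟨K ⊔ zpowers y, sup_le (hK.trans (inf_le_inf_left _ hd)) (zpowers_le.2 hy),
      sup_inf_eq_bot hc (hY.2 y hy.1) a1 hyK, fun w hw => ?_⟩
    rw [nrm_sup h2 hc (hY.2 y hy.1) fun e => hyK (mem_sup_left e)]
    exact a2 _ (mem_kill_succ.1 hw y hy.2)

theorem pLengthLE_of_der_rep [FiniteDimensional F V] [Finite G] (ρ : G →* End F V) (hs : Group.IsSolvable G)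
    (hO : pCore 2 G = ⊥) (hρ : ∀ g, ρ g = 1 → g = 1) (h2 : (2 : F) = 0) (hchar : ∀ q : ℕ, q.Prime → 2 ≠ q → (q : F) ≠ 0)
    (hk : ∀ D : Subgroup G, IsPGroup 2 D → kill ρ (n + 1 + 1) D = ⊤)
    (hQ : ∀ D : Subgroup G, IsPGroup 2 D → ∀ a ∈ dr^[n + 1] D, ∀ b ∈ dr^[n + 1] D, (ρ a - 1) * (ρ b - 1) = 0)
    (ih : ∀ (X : Type u) [Group X] [Finite X], Group.IsSolvable X → ∀ S : Sylow 2 X,
      dr^[n + 1] (S : Subgroup X) = ⊥ → PLengthLE 2 (n + 1) X) : PLengthLE 2 (n + 1) G := by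
  by_contra hne
  obtain ⟨Y, B, S, h⟩ := exists_su hs hne
  obtain ⟨c, hc, hc'⟩ := SetLike.not_le_iff_exists.1 (show ¬ Y ⊓ dr^[n + 1] (Y ⊔ S) ≤ ⁅Y, Y⁆ from fun e => by
    refine h.len (ih _ (sol_quo inferInstance _) (sylow_quo Nat.prime_two h.syl h.norm).toSylow
      ((Subgroup.map_eq_bot_iff_of_injective _ (Subgroup.subtype_injective _)).1 ?_))
    have hn := h.le.trans h.nY
    have n1 := (dr_le (n + 1) _).trans (sup_le le_normalizer hn)
    rw [map_dr, IsSylowIn.map_toSylow, ← quo_dr _ (h.syl.le.trans h.norm)]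
    refine quo_eq_bot (le_inf ?_ (Loc.le_commStab.2 ⟨le_norm_comm n1 n1, (le_inf (comm_le_right n1)
      (comm_le_left (norm_dr _ (le_sup_left.trans le_normalizer)))).trans e⟩))
    rw [← inf_eq_left.2 (dr_sup_le (n + 1) hn le_rfl), inf_sup_dedekind' (Or.inl ((dr_le _ S).trans hn))
      (dr_mono _ le_sup_right), inf_comm]
    exact sup_le (e.trans (h.der_le.trans inf_le_left)) ((dr_le _ S).trans h.le))
  refine h.finish ρ hs hO hρ hchar (s := {c | c ∈ Y ∧ ∃ T ≤ B, IsPGroup 2 T ∧ c ∈ dr^[n + 1] (Y ⊔ T)})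
    (h.closure_eq (fun c hc => hc.1) ?_ ⟨hc.1, S, h.le, h.pS, hc.2⟩ hc') ?_
  · rintro b hb c ⟨h1, T, hT, pT, h3⟩
    refine ⟨conj_mem_of_norm (h.nY hb) h1, cj b • T, cj_le_of_mem hT hb, isPGroup_cj.2 pT, ?_⟩
    rw [← cj_eq_self (h.nY hb), ← cj_sup, cj_eq_map, ← map_dr]
    exact ⟨c, h3, rfl⟩
  rintro q P A μ hq hq2 pP hn hw - c ⟨h1, T, hT, pT, h3⟩
  have pD := h.pY.to_sup_of_normal_left' pT (hT.trans h.nY)
  have hDP := (sup_le_sup_left hT Y).trans hn
  have hDY : Y ⊔ T ≤ N[Y] := sup_le le_normalizer (hT.trans h.nY)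
  have h2' : (2 : AlgebraicClosure F) = 0 := by
    rw [← map_ofNat (algebraMap F (AlgebraicClosure F)) 2, h2, map_zero]
  obtain ⟨k, j, e, a1, a2⟩ := hw.exists_dr (natCast_card_ne_zero hq pP (bc_char (hchar q hq hq2))) Nat.prime_two _ _ pD
    hDP ((kill_bc (hk _ pD)).ge.trans' le_top)
  have e' : ∀ i, dr^[i] (dr^[k] (Y ⊔ T)) = dr^[i + k] (Y ⊔ T) := fun i => (Function.iterate_add_apply _ _ _ _).symm
  have a3 : ∀ i ≤ j, dr^[n + 1] (Y ⊔ T) ≤ dr^[i] (dr^[k] (Y ⊔ T)) := fun i hi => by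
    rw [e', show n + 1 = (j - i) + (i + k) by omega, Function.iterate_add_apply]
    exact dr_le _ _
  have a4 := (a3 0 j.zero_le).trans a1
  refine ⟨a4 h3, fun hYw => ⟨fun y hy => ?_, fun hab => ?_⟩⟩
  · have hsq : ∀ a ∈ dr^[n + 1] (Y ⊔ T), a ^ 2 = 1 := fun a ha => hρ _ (by
      have e1 := hQ _ pD a ha a ha
      rw [sub_mul, mul_sub, mul_sub, mul_one, one_mul, mul_one, sub_sub, add_sub, ← two_smul F, h2, zero_smul, zero_sub,
        sub_neg_eq_add, add_eq_zero_iff_eq_neg] at e1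
      rw [sq, map_mul, e1, neg_eq_iff_add_eq_zero, ← two_smul F, h2, zero_smul])
    have hi : ∀ a ∈ dr^[n + 1] (Y ⊔ T), a⁻¹ = a := fun a ha => inv_eq_of_mul_eq_one_right ((sq a).symm.trans (hsq a ha))
    have hea : IsElementaryAbelian 2 (dr^[n + 1] (Y ⊔ T)) := ⟨abelian_iff_comm.2 fun a ha b hb => by
      rw [← hi _ (mul_mem ha hb), mul_inv_rev, hi a ha, hi b hb], hsq⟩
    have nC := Loc.le_normalizer_commStab (le_sup_left.trans hn) fun a ha => (hYw ha).1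
    have h4 := conj_mem_of_norm (norm_dr (n + 1) (le_sup_left.trans le_normalizer) hy) h3
    by_cases c1 : c ∈ Loc.commStab P A
    · exact comm_le_left nC (commutator_mem_commutator c1 hy)
    by_contra c2
    have b1 : c ∉ ⊥ ⊔ Loc.commStab P A := by rwa [bot_sup_eq]
    have b2 : c ∈ N[(⊥ : Subgroup G)] := le_normalizer_of_normal (mem_top c)
    have b3 : ⊥ ⊔ zpowers c ≤ dr^[n + 1] (Y ⊔ T) := sup_le bot_le (zpowers_le.2 h3)
    have b4 := le_norm_of_abelian hea.1 le_rfl b3 h4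
    have b5 : y * c * y⁻¹ ∉ (⊥ ⊔ zpowers c) ⊔ Loc.commStab P A := fun e1 => by
      rw [bot_sup_eq, sup_comm, mem_sup_inv (nC h1) (hsq c h3)] at e1
      refine e1.elim (fun e1 => c1 ((conj_mem_iff_of_norm (nC hy)).1 e1)) fun e1 => c2 ?_
      rwa [abelian_iff_comm.1 hea.1 _ h4 _ h3, ← mul_assoc, ← mul_assoc, ← show c * y * c⁻¹ = c * y * c by
        rw [hi c h3]] at e1
    have b6 := sup_le b3 (zpowers_le.2 h4)
    obtain ⟨w, -, hw0⟩ := hw.free h2' hq hq2 pP _ ⟨abelian_of_le hea.1 b6, fun a ha => hsq a (b6 ha)⟩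
      (b6.trans ((dr_le _ _).trans hDP)) (b6.trans a4)
      (sup_inf_eq_bot b4 (hsq _ h4) (sup_inf_eq_bot b2 (hsq c h3) (bot_inf_eq _) b1) b5)
    refine hw0 ?_
    rw [nrm_sup h2' b4 (hsq _ h4) fun e1 => b5 (mem_sup_left e1), nrm_sup h2' b2 (hsq c h3) fun e1 => b1 (mem_sup_left e1),
      nrm_bot, one_mul, bc_apply, bc_apply]
    have e1 := congrArg (End.baseChangeHom F (AlgebraicClosure F) V) (hQ _ pD c h3 _ h4)
    rw [map_mul, map_sub, map_sub, map_one, map_zero] at e1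
    exact LinearMap.congr_fun e1 w
  by_contra c1
  have hY : IsElementaryAbelian 2 Y := ⟨abelian_iff_der.2 hab, fun a ha =>
    mem_bot.1 ((h.phi.trans hab).le (pow_mem_Phi Nat.prime_two h.pY ha))⟩
  have l1 := dr_le k (Y ⊔ T)
  obtain ⟨K, hK, b1, b2⟩ := exists_ea_kill (ρ := bc ρ) (M := Loc.commStab P A) h2' hY (j + 1) _ (dr^[k] T) (pD.to_le l1)
    (l1.trans hDY) (Loc.le_normalizer_commStab (l1.trans hDP) fun a ha => (a1 ha).1) (dr_mono k le_sup_right)
    (dr_sup_le k (hT.trans h.nY) le_rfl)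
    (eq_bot_iff.2 ((inf_le_inf_left _ ((dr_le k T).trans hT)).trans (h.inf.trans hab).le))
    fun i hi e1 => c1 (e1 ⟨h1, a3 i (by omega) h3⟩)
  have hKY := hK.trans inf_le_left
  obtain ⟨w, hw1, hw0⟩ := hw.free h2' hq hq2 pP K ⟨abelian_of_le hY.1 hKY, fun a ha => hY.2 a (hKY ha)⟩
    (hKY.trans (le_sup_left.trans hn)) (hKY.trans hYw) b1
  exact hw0 (b2 w (a2 hw1))

/-- The `2`-length is bounded by the derived length of the Sylow `2`-subgroups. -/
theorem pLengthLE_two_der (d : ℕ) : ∀ (G : Type u) [Group G] [Finite G], Group.IsSolvable G → ∀ P : Sylow 2 G,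
    dr^[d + 1] (P : Subgroup G) = ⊥ → PLengthLE 2 (d + 1) G := by
  induction d with
  | zero => exact fun G _ _ hG P h => pLengthLE_of_lcs_one (Loc.isPSolvable_of_isSolvable hG) P (abelian_iff_der.2 h)
  | succ d ih =>
    intro G _ _ hG P hP
    obtain ⟨Γ, _, _, f, V, _, hf, hV, h⟩ := exists_red (p := 2) (Loc.isPSolvable_of_isSolvable hG)
    have hs := (QuotientGroup.mk'_surjective V).comp hf
    obtain ⟨φ, -⟩ := Loc.exists_equiv_of_ker_eq (f := (QuotientGroup.mk' V).comp f) hs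
      (QuotientGroup.mk'_surjective (pPrimePCore 2 G))
      (by rw [← MonoidHom.comap_ker, QuotientGroup.ker_mk', QuotientGroup.ker_mk', hV])
    have hΓ : Group.IsSolvable (Γ ⧸ V) := Group.isSolvable_of_surjective (f := (QuotientGroup.mk' V).comp f) hs
    have key : ∀ D : Subgroup (Γ ⧸ V), IsPGroup 2 D → ∃ E : Subgroup Γ, V ≤ E ∧ E.map (QuotientGroup.mk' V) = D ∧
        dr^[d + 1 + 1] E = ⊥ := fun D hD => by
      obtain ⟨g, hg⟩ := exists_conj_le_sylow (P.mapSurjective hf) (hD.comap_of_ker_isPGroup (QuotientGroup.mk' V)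
        (by rw [QuotientGroup.ker_mk']; exact h.isPGroup))
      refine ⟨_, (QuotientGroup.ker_mk' V).ge.trans (ker_le_comap _ D),
        map_comap_eq_self_of_surjective (QuotientGroup.mk'_surjective V) D, (cj_eq_bot (g := g)).1 (eq_bot_iff.2 ?_)⟩
      have e := dr_mono (d + 1 + 1) hg
      rwa [cj_eq_map, ← map_dr, Sylow.coe_mapSurjective, ← map_dr, hP, Subgroup.map_bot] at e
    have hk : ∀ (m : ℕ) (E : Subgroup Γ), dr^[m] E = ⊥ → ∀ v : Loc.EAMod h.ea, v.val ∈ E →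
        v ∈ kill h.rep m (E.map (QuotientGroup.mk' V)) := fun m => by
      induction m with
      | zero => exact fun E e v hv => (Loc.EAMod.val_eq_one h.ea).1 (mem_bot.1 (e.le hv))
      | succ m ih =>
        refine fun E e v hv => mem_kill_succ.2 ?_
        rintro _ ⟨s, hs, rfl⟩
        rw [← Subgroup.map_commutator, h.rep_mk]
        exact ih _ e _ (val_sub_one h.ea s v ▸ commutator_mem_commutator hs hv)
    refine Loc.pLengthLE_succ_iff.2 (Loc.pLengthLE_of_equiv φ (pLengthLE_of_der_rep h.rep hΓ h.core_eq h.rep_inj rfl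
      (fun q hq h2 => zmod_char_ne hq h2.symm) (fun D hD => ?_) (fun D hD => ?_) ih)) <;>
      obtain ⟨E, h1, rfl, h2⟩ := key D hD
    · exact eq_top_iff.2 fun v _ => hk _ E h2 v (h1 v.val_mem)
    · rw [← map_dr]
      rintro _ ⟨a, ha, rfl⟩ _ ⟨b, hb, rfl⟩
      refine LinearMap.ext fun v => (Loc.EAMod.val_eq_one h.ea).1 ?_
      rw [h.rep_mk, h.rep_mk, End.mul_apply, val_sub_one, val_sub_one, ← mem_bot, ← h2, Function.iterate_succ_apply']
      exact commutator_mem_commutator ha (comm_le_left (norm_dr _ (h1.trans le_normalizer))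
        (commutator_mem_commutator hb v.val_mem))

end CL.Fgs.HH
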